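import Mathlib.LinearAlgebra.Trace
import Mathlib.LinearAlgebra.Charpoly.Basic
import Mathlib.LinearAlgebra.Matrix.ToLin
import Mathlib.LinearAlgebra.Charpoly.ToMatrix
import Mathlib.LinearAlgebra.Dimension.OrzechProperty
import Mathlib.LinearAlgebra.Matrix.NonsingularInverse
import Mathlib.LinearAlgebra.Matrix.Charpoly.Basic
import Mathlib.RingTheory.LocalRing.Module
import Mathlib.RingTheory.Flat.TorsionFree
import Mathlib.RingTheory.LocalRing.ResidueField.Basic
import Mathlib.Algebra.CharP.Basic
import Mathlib.Algebra.CharP.Two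
import Mathlib.FieldTheory.Finiteness
import Mathlib.LinearAlgebra.FiniteDimensional.Lemmas
import Mathlib.RingTheory.Polynomial.Basic

/-!
# The trace of a relatively projective operator vanishes

If `z` is an automorphism of a finite free module over a suitable local ring of residue
characteristic `p` and the identity is a sum of the `z`-conjugates of an endomorphism `a` over
`i < p`, then the trace of `z y` vanishes for every `y` of finite order commuting with `z`, `a`.
-/

set_option autoImplicit false

open Finset

namespace Cfsg.Agent.Block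

section field

variable {k : Type*} [Field k] {p : ℕ} {V : Type*} [AddCommGroup V] [Module k V]
  [FiniteDimensional k V]

theorem sub_one_pow_pred_eq_sum [CharP k p] (hp : p.Prime) (z : Module.End k V) :
    (z - 1) ^ (p - 1) = ∑ i ∈ range p, z ^ i := by
  haveI : Fact p.Prime := ⟨hp⟩
  have h : ((Polynomial.X : Polynomial k) - 1) ^ (p - 1) = ∑ i ∈ range p, Polynomial.X ^ i := by
    apply mul_left_cancel₀ (Polynomial.X_sub_C_ne_zero (1 : k))
    rw [Polynomial.C_1, ← pow_succ', Nat.sub_one_add_one hp.ne_zero, mul_comm _ (∑ i ∈ range p, _),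
      geom_sum_mul, sub_pow_char, one_pow]
  have := congrArg (Polynomial.aeval z) h
  simpa using this

/-- Over a field of characteristic `p`, relative projectivity gives a permutation basis. -/
theorem exists_perm_basis [CharP k p] (hp : p.Prime) (z a : Module.End k V) (hz : z ^ p = 1)
    (ha : ∑ i ∈ range p, z ^ i * a * z ^ (p - i) = 1) :
    ∃ (r : ℕ) (w : Fin r → V), p * r = Module.finrank k V ∧
      LinearIndependent k (fun q : Fin p × Fin r => (z ^ (q.1 : ℕ)) (w q.2)) := by
  classical
  haveI : Fact p.Prime := ⟨hp⟩
  set u : Module.End k V := z - 1 with hu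
  have hzu : z = u + 1 := by simp [hu]
  have hN : u ^ (p - 1) = ∑ i ∈ range p, z ^ i := sub_one_pow_pred_eq_sum hp z
  have hup : u ^ p = 0 := by
    have : (Polynomial.aeval z) (((Polynomial.X : Polynomial k) - 1) ^ p) = 0 := by
      rw [sub_pow_char, one_pow]; simp [hz]
    simpa [hu] using this
  have hfix : ∀ x, u x = 0 → ∀ j : ℕ, (z ^ j) x = x := by
    intro x hx j
    have hx' : z x = x := by simpa [hzu] using hx
    induction j with
    | zero => simp
    | succ j ih => rw [pow_succ, Module.End.mul_apply, hx', ih]
  have hker : ∀ x, u x = 0 → ∃ v, (u ^ (p - 1)) v = x := by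
    intro x hx
    refine ⟨a x, ?_⟩
    have h1 := LinearMap.congr_fun ha x
    simp only [LinearMap.coe_sum, Finset.sum_apply, Module.End.one_apply,
      Module.End.mul_apply, hfix x hx] at h1
    rw [hN, LinearMap.coe_sum, Finset.sum_apply]
    exact h1
  set K := LinearMap.ker u
  let r := Module.finrank k K
  let bK : Module.Basis (Fin r) k K := Module.finBasis k K
  choose w hw using fun j => hker (bK j : V) (bK j).2
  -- every kernel of a power of `u` is spanned
  let S : Submodule k V := Submodule.span k (Set.range fun q : Fin p × Fin r => (z ^ (q.1 : ℕ)) (w q.2))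
  have hpoly : ∀ i, i < p → ∀ j, (u ^ i) (w j) ∈ S := by
    intro i hi j
    have hle : ∀ l, l ≤ i → (z ^ l) (w j) ∈ S := fun l hl =>
      Submodule.subset_span ⟨(⟨l, by omega⟩, j), rfl⟩
    rw [hu, sub_eq_add_neg, (Commute.one_right z).neg_right.add_pow]
    rw [LinearMap.coe_sum, Finset.sum_apply]
    refine Submodule.sum_mem _ fun l hl => ?_
    have hl' := Nat.lt_succ_iff.1 (mem_range.1 hl)
    rcases neg_one_pow_eq_or (Module.End k V) (i - l) with h | h <;>
      simp only [h, mul_one, mul_neg, neg_mul, LinearMap.neg_apply, Module.End.mul_apply,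
        Module.End.natCast_apply, map_nsmul]
    · exact nsmul_mem (hle l hl') _
    · exact neg_mem (nsmul_mem (hle l hl') _)
  have hspan : ∀ m, m ≤ p → ∀ x, (u ^ m) x = 0 → x ∈ S := by
    intro m
    induction m with
    | zero => intro _ x hx; simp at hx; simp [hx]
    | succ m ih =>
      intro hm x hx
      have hxk : (u ^ m) x ∈ K := by
        rw [LinearMap.mem_ker, ← Module.End.mul_apply, ← pow_succ', hx]
      let c := bK.repr ⟨_, hxk⟩
      let x' := ∑ j, c j • (u ^ (p - 1 - m)) (w j)
      have hx' : x' ∈ S := Submodule.sum_mem _ fun j _ =>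
        S.smul_mem _ (hpoly _ (by omega) j)
      have : (u ^ m) (x - x') = 0 := by
        rw [map_sub, sub_eq_zero, map_sum]
        have h2 : ∀ j, (u ^ m) (c j • (u ^ (p - 1 - m)) (w j)) = c j • (bK j : V) := by
          intro j
          rw [map_smul, ← Module.End.mul_apply, ← pow_add,
            show m + (p - 1 - m) = p - 1 by omega, hw]
        simp only [h2]
        have h3 := congrArg Subtype.val (bK.sum_repr ⟨_, hxk⟩)
        simp only [Submodule.coe_sum, Submodule.coe_smul] at h3
        exact h3.symm
      have := S.add_mem (ih (by omega) _ this) hx'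
      simpa using this
  have htop : S = ⊤ := eq_top_iff.2 fun x _ => hspan p le_rfl x (by simp [hup])
  -- independence
  have hind : LinearIndependent k (fun q : Fin p × Fin r => (u ^ (q.1 : ℕ)) (w q.2)) := by
    rw [Fintype.linearIndependent_iff]
    intro g hg
    suffices ∀ i, ∀ hi : i < p, ∀ j, g (⟨i, hi⟩, j) = 0 from fun q => this q.1 q.1.2 q.2
    intro i
    induction i using Nat.strong_induction_on with
    | _ i ih =>
      intro hi
      have h1 := congrArg (u ^ (p - 1 - i)) hg
      rw [map_zero, map_sum] at h1
      rw [Fintype.sum_prod_type, Finset.sum_eq_single (⟨i, hi⟩ : Fin p)] at h1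
      · simp only [map_smul, ← Module.End.mul_apply, ← pow_add,
          show p - 1 - i + i = p - 1 by omega, hw] at h1
        have h2 : ∑ j, g (⟨i, hi⟩, j) • bK j = 0 := Subtype.ext (by simpa using h1)
        exact Fintype.linearIndependent_iff.1 bK.linearIndependent _ h2
      · intro l _ hl
        refine Finset.sum_eq_zero fun j _ => ?_
        rcases lt_or_gt_of_ne (fun h => hl (Fin.ext h) : (l : ℕ) ≠ i) with h | h
        · rw [show g (l, j) = 0 from ih l h l.2 j, zero_smul, map_zero]
        · rw [map_smul, ← Module.End.mul_apply, ← pow_add]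
          obtain ⟨d, hd⟩ := Nat.exists_eq_add_of_le (show p ≤ p - 1 - i + l by omega)
          rw [hd, pow_add, hup, zero_mul, LinearMap.zero_apply, smul_zero]
      · simp
  have hcard : p * r = Module.finrank k V := by
    apply le_antisymm
    · simpa using hind.fintype_card_le_finrank
    · have h := finrank_range_le_card (R := k) (fun q : Fin p × Fin r => (z ^ (q.1 : ℕ)) (w q.2))
      rw [Set.finrank, show Submodule.span k _ = ⊤ from htop, finrank_top] at h
      simpa using h
  exact ⟨r, w, hcard, linearIndependent_of_top_le_span_of_card_eq_finrank htop.ge (by simpa using hcard)⟩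

end field

variable {R : Type*} [CommRing R] [IsDomain R] [IsLocalRing R] {p : ℕ}

open IsLocalRing in
theorem trace_eq_zero_of_relProj_matrix [CharP (ResidueField R) p] (hp : p.Prime) {n : ℕ}
    (Z A : Matrix (Fin n) (Fin n) R) (hz : Z ^ p = 1)
    (ha : ∑ i ∈ range p, Z ^ i * A * Z ^ (p - i) = 1) : Z.trace = 0 := by
  classical
  haveI : Fact p.Prime := ⟨hp⟩
  let φ := (residue R).mapMatrix (m := Fin n)
  let ψ := Matrix.toLinAlgEquiv' (R := ResidueField R) (n := Fin n)
  obtain ⟨r, w, hr, hind⟩ := exists_perm_basis hp (ψ (φ Z)) (ψ (φ A))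
    (by rw [← map_pow, ← map_pow, hz, map_one, map_one])
    (by simpa [map_sum] using congrArg (fun x => ψ (φ x)) ha)
  simp only [Module.finrank_fintype_fun_eq_card, Fintype.card_fin] at hr
  let e : Fin n ≃ Fin p × Fin r := Fintype.equivOfCardEq (by simp [hr])
  choose w' hw' using fun j m => residue_surjective (w j m)
  let W : Matrix (Fin n) (Fin n) R := Matrix.of fun m l => ((Z ^ ((e l).1 : ℕ)).mulVec (w' (e l).2)) m
  have hWu : IsUnit W.det := by
    have h1 : IsUnit (φ W) := by
      rw [← Matrix.linearIndependent_cols_iff_isUnit]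
      have : (φ W).col = (fun q : Fin p × Fin r => ((ψ (φ Z)) ^ (q.1 : ℕ)) (w q.2)) ∘ e := by
        funext l m
        simp only [Function.comp_apply, ← map_pow, ψ, Matrix.toLinAlgEquiv'_apply, φ, W]
        rw [show w (e l).2 = residue R ∘ w' (e l).2 from funext fun m => (hw' _ m).symm]
        exact RingHom.map_mulVec (residue R) (Z ^ ((e l).1 : ℕ)) _ m
      rw [this]
      exact hind.comp _ e.injective
    rw [Matrix.isUnit_iff_isUnit_det] at h1
    have h2 : IsUnit (residue R W.det) := by rw [RingHom.map_det]; exact h1
    exact (isUnit_map_iff _ _).1 h2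
  haveI : NeZero p := ⟨hp.ne_zero⟩
  let σ : Fin n → Fin n := fun l => e.symm ((e l).1 + 1, (e l).2)
  let P : Matrix (Fin n) (Fin n) R := Matrix.of fun m l => if m = σ l then 1 else 0
  have hZW : Z * W = W * P := by
    ext m l
    have h1 : (W * P) m l = W m (σ l) := by simp [Matrix.mul_apply, P]
    rw [h1]
    have h2 : (Z * W) m l = (Z.mulVec ((Z ^ ((e l).1 : ℕ)).mulVec (w' (e l).2))) m := rfl
    rw [h2, Matrix.mulVec_mulVec, ← pow_succ']
    have h3 : Z ^ (((e l).1 : ℕ) + 1) = Z ^ ((((e l).1 + 1 : Fin p)) : ℕ) := by
      rw [Fin.val_add, Fin.val_one', Nat.add_mod_mod]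
      rcases Nat.lt_or_ge ((e l).1 + 1) p with h | h
      · rw [Nat.mod_eq_of_lt h]
      · have : ((e l).1 : ℕ) + 1 = p := by omega
        rw [this, Nat.mod_self, hz, pow_zero]
    rw [h3]
    simp [W, σ]
  have hP : P.trace = 0 := by
    refine Finset.sum_eq_zero fun l _ => ?_
    simp only [Matrix.diag_apply, P, Matrix.of_apply]
    rw [if_neg]
    intro h
    have h1 := congrArg (fun x => (e x).1) h
    simp only [σ, Equiv.apply_symm_apply] at h1
    have h2 : ((1 : Fin p) : ℕ) = 1 := by rw [Fin.val_one', Nat.mod_eq_of_lt hp.one_lt]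
    rw [left_eq_add.1 h1] at h2
    simp at h2
  calc Z.trace = (W * P * W⁻¹).trace := by rw [← hZW, Matrix.mul_assoc, Matrix.mul_nonsing_inv _ hWu, mul_one]
    _ = 0 := by rw [Matrix.trace_mul_cycle, Matrix.nonsing_inv_mul _ hWu, one_mul, hP]

variable {U : Type*} [AddCommGroup U] [Module R U]

theorem trace_eq_zero_of_relProj_order [CharP (IsLocalRing.ResidueField R) p] (hp : p.Prime)
    [Module.Free R U] [Module.Finite R U] (z a : Module.End R U) (hz : z ^ p = 1)
    (ha : ∑ i ∈ range p, z ^ i * a * z ^ (p - i) = 1) : LinearMap.trace R U z = 0 := by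
  let b := Module.finBasis R U
  let φ := LinearMap.toMatrixAlgEquiv b
  rw [LinearMap.trace_eq_matrix_trace R b]
  refine trace_eq_zero_of_relProj_matrix hp (φ z) (φ a) ?_ ?_
  · rw [← map_pow, hz, map_one]
  · simpa [map_sum] using congrArg φ ha

theorem free_of_isBezout_of_torsionFree [IsBezout R] {P : Type*} [AddCommGroup P] [Module R P]
    [Module.Finite R P] [Module.IsTorsionFree R P] : Module.Free R P := by
  haveI : Module.Flat R P := by
    rw [Module.Flat.flat_iff_torsion_eq_bot_of_isBezout, ← Submodule.isTorsionFree_iff_torsion_eq_bot]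
    infer_instance
  exact Module.free_of_flat_of_isLocalRing

/-- The main trace lemma. -/
theorem trace_mul_eq_zero_of_relProj [IsBezout R] [CharP (IsLocalRing.ResidueField R) p]
    (hroot : ∀ f : Polynomial R, f.Monic → 0 < f.natDegree → ∃ r, f.IsRoot r)
    (hp : p.Prime) [Module.Free R U] [Module.Finite R U] (z z' y a : Module.End R U)
    (hz : z * z' = 1) (hz' : z' * z = 1) (hyz : Commute y z) (hya : Commute y a)
    (hza : Commute (z ^ p) a) {N : ℕ} (hN : 0 < N) (hzN : z ^ N = 1)
    (ha : ∑ i ∈ range p, z ^ i * a * z' ^ i = 1) :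
    LinearMap.trace R U (z * y) = 0 := by
  suffices H : ∀ (d : ℕ) {U : Type _} [AddCommGroup U] [Module R U] [Module.Free R U]
      [Module.Finite R U] (z z' y a : Module.End R U),
      Module.finrank R U = d →
      z * z' = 1 → z' * z = 1 → Commute y z → Commute y a → Commute (z ^ p) a → z ^ N = 1 →
      ∑ i ∈ range p, z ^ i * a * z' ^ i = 1 → LinearMap.trace R U (z * y) = 0 from
    H _ z z' y a rfl hz hz' hyz hya hza hzN ha
  intro d
  induction d using Nat.strong_induction_on with
  | _ d ih =>
    intro U _ _ _ _ z z' y a hd hz hz' hyz hya hza hzN ha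
    rcases Nat.eq_zero_or_pos d with rfl | hdpos
    · haveI := Module.finrank_zero_iff.1 hd
      rw [show z * y = 0 from LinearMap.ext fun x => Subsingleton.elim _ _, map_zero]
    -- a common eigenvalue
    have hev : ∀ (W : Submodule R U) [Module.Free R W] [Module.Finite R W], W ≠ ⊥ →
        ∀ f : Module.End R W, ∃ (ν : R) (x : W), x ≠ 0 ∧ f x = ν • x := by
      intro W _ _ hW f
      haveI : Nontrivial W := Submodule.nontrivial_iff_ne_bot.2 hW
      obtain ⟨ν, hν⟩ := hroot f.charpoly f.charpoly_monic
        (by rw [LinearMap.charpoly_natDegree]; exact Module.finrank_pos)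
      let b := Module.finBasis R W
      rw [← LinearMap.charpoly_toMatrix f b, Polynomial.IsRoot, Matrix.eval_charpoly,
        ← Matrix.exists_mulVec_eq_zero_iff] at hν
      obtain ⟨v, hv0, hv⟩ := hν
      refine ⟨ν, b.equivFun.symm v, fun h => hv0 (b.equivFun.symm.map_eq_zero_iff.1 h), ?_⟩
      apply b.equivFun.injective
      rw [Matrix.sub_mulVec, sub_eq_zero] at hv
      rw [map_smul, LinearEquiv.apply_symm_apply]
      calc b.equivFun (f (b.equivFun.symm v))
          = (LinearMap.toMatrix b b f).mulVec (b.equivFun (b.equivFun.symm v)) := by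
            simp only [Module.Basis.equivFun_apply]; rw [LinearMap.toMatrix_mulVec_repr]
        _ = (Matrix.scalar (Fin (Module.finrank R W)) ν).mulVec v := by
            rw [LinearEquiv.apply_symm_apply, hv]
        _ = ν • v := by
            funext m; simp [Matrix.mulVec_diagonal]
    obtain ⟨ν, x, hx0, hx⟩ : ∃ (ν : R) (x : U), x ≠ 0 ∧ y x = ν • x := by
      let b := Module.finBasis R U
      haveI : Nontrivial U := Module.nontrivial_of_finrank_pos (R := R) (hd ▸ hdpos)
      haveI : Module.Free R (⊤ : Submodule R U) := Module.Free.of_equiv Submodule.topEquiv.symm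
      haveI : Module.Finite R (⊤ : Submodule R U) := Module.Finite.equiv Submodule.topEquiv.symm
      obtain ⟨ν, x, hx0, hx⟩ := hev ⊤ top_ne_bot
        (y.restrict (p := ⊤) (q := ⊤) (fun _ _ => Submodule.mem_top))
      exact ⟨ν, x, fun h => hx0 (Subtype.ext h), congrArg Subtype.val hx⟩
    -- torsion-free kernels
    have hpure : ∀ f : Module.End R U, Module.Free R (LinearMap.ker f) ∧
        Module.Finite R (LinearMap.ker f) ∧ Module.Free R (U ⧸ LinearMap.ker f) := by
      intro f
      haveI : Module.IsTorsionFree R (LinearMap.range f) := inferInstance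
      haveI hf1 : Module.Free R (LinearMap.range f) := free_of_isBezout_of_torsionFree
      haveI hf2 : Module.Free R (U ⧸ LinearMap.ker f) := Module.Free.of_equiv f.quotKerEquivRange.symm
      obtain ⟨s, hs⟩ := Module.projective_lifting_property (LinearMap.ker f).mkQ LinearMap.id
        (LinearMap.ker f).mkQ_surjective
      let π : U →ₗ[R] LinearMap.ker f := (LinearMap.id - s ∘ₗ (LinearMap.ker f).mkQ).codRestrict _
        (fun x => by
          rw [← Submodule.Quotient.mk_eq_zero]
          have := LinearMap.congr_fun hs ((LinearMap.ker f).mkQ x)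
          simp only [LinearMap.comp_apply, LinearMap.id_apply] at this
          rw [← Submodule.mkQ_apply, LinearMap.sub_apply, map_sub, LinearMap.comp_apply,
            LinearMap.id_apply, this, sub_self])
      haveI hfin : Module.Finite R (LinearMap.ker f) := Module.Finite.of_surjective π fun x => ⟨x, by
        apply Subtype.ext
        simp [π, (Submodule.Quotient.mk_eq_zero _).2 x.2]⟩
      exact ⟨free_of_isBezout_of_torsionFree, hfin, hf2⟩
    -- the step along a pure invariant submodule
    have hstep : ∀ f : Module.End R U, Commute f z → Commute f z' → Commute f y → Commute f a →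
        LinearMap.ker f ≠ ⊥ → LinearMap.ker f ≠ ⊤ → LinearMap.trace R U (z * y) = 0 := by
      intro f fz fz' fy fa hbot htop
      obtain ⟨h1, h2, h3⟩ := hpure f
      set W := LinearMap.ker f
      have inv : ∀ g : Module.End R U, Commute f g → ∀ x ∈ W, g x ∈ W := fun g hg x hx => by
        rw [LinearMap.mem_ker, ← Module.End.mul_apply, hg.eq, Module.End.mul_apply,
          LinearMap.mem_ker.1 hx, map_zero]
      obtain ⟨s, hs⟩ := Module.projective_lifting_property W.mkQ LinearMap.id W.mkQ_surjective
      have hs' : ∀ q, W.mkQ (s q) = q := fun q => LinearMap.congr_fun hs q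
      have hs'' : ∀ q, Submodule.Quotient.mk (p := W) (s q) = q := hs'
      let π : U →ₗ[R] W := (LinearMap.id - s ∘ₗ W.mkQ).codRestrict _
        (fun x => by
          rw [← Submodule.Quotient.mk_eq_zero]
          rw [← Submodule.mkQ_apply, LinearMap.sub_apply, map_sub, LinearMap.comp_apply,
            LinearMap.id_apply, hs', sub_self])
      have hπ : ∀ x : W, π x = x := fun x => Subtype.ext (by
        simp [π, (Submodule.Quotient.mk_eq_zero _).2 x.2])
      -- trace is additive
      have hadd : ∀ g (hg : ∀ x ∈ W, g x ∈ W), LinearMap.trace R U g =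
          LinearMap.trace R W (g.restrict hg) +
          LinearMap.trace R (U ⧸ W) (W.mapQ W g fun x hx => hg x hx) := by
        intro g hg
        have hsplit : g = (g ∘ₗ W.subtype) ∘ₗ π + (g ∘ₗ s) ∘ₗ W.mkQ := by
          ext x
          simp [π, ← map_add]
        conv_lhs => rw [hsplit]
        rw [map_add, LinearMap.trace_comp_comm', LinearMap.trace_comp_comm' W.mkQ (g ∘ₗ s)]
        congr 2
        · ext x
          exact congrArg Subtype.val (hπ (g.restrict hg x))
        · refine Submodule.linearMap_qext _ (LinearMap.ext fun x => ?_)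
          simp only [LinearMap.comp_apply, Submodule.mapQ_apply, Submodule.mkQ_apply]
          rw [← sub_eq_zero, ← Submodule.Quotient.mk_sub, ← map_sub, Submodule.Quotient.mk_eq_zero]
          refine hg _ ?_
          rw [← Submodule.Quotient.mk_eq_zero, Submodule.Quotient.mk_sub, hs'', sub_self]
      rw [hadd _ (inv _ (fz.mul_right fy))]
      have hlt1 : Module.finrank R (U ⧸ W) < d ∧ Module.finrank R W < d := by
        let eW : U ≃ₗ[R] W × (U ⧸ W) := LinearEquiv.ofLinearMap (π.prod W.mkQ)
          (W.subtype.coprod s)
          (by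
            refine LinearMap.ext fun q => Prod.ext (Subtype.ext ?_) ?_
            · have h0 : W.mkQ (q.1 : U) = 0 := by simp
              simp [π, map_add, hs'', h0]
            · simp [hs'', (Submodule.Quotient.mk_eq_zero _).2 q.1.2])
          (by ext x; simp [π])
        have hsum := eW.finrank_eq
        rw [Module.finrank_prod, hd] at hsum
        have hW : 0 < Module.finrank R W := by
          haveI := Submodule.nontrivial_iff_ne_bot.2 hbot
          exact Module.finrank_pos
        have hQ : 0 < Module.finrank R (U ⧸ W) := by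
          haveI : Nontrivial (U ⧸ W) := Submodule.Quotient.nontrivial_iff.2 htop
          exact Module.finrank_pos
        omega
      have e1 : (z * y).restrict (inv _ (fz.mul_right fy)) = z.restrict (inv _ fz) * y.restrict (inv _ fy) := rfl
      have e2 : W.mapQ W (z * y) (fun x hx => inv _ (fz.mul_right fy) x hx) =
          W.mapQ W z (inv _ fz) * W.mapQ W y (inv _ fy) := Submodule.linearMap_qext _ rfl
      rw [e1, e2]
      have resPow : ∀ (g : Module.End R U) (hg : ∀ x ∈ W, g x ∈ W) (m : ℕ) (x : W),
          (((g.restrict hg) ^ m) x : U) = (g ^ m) x := by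
        intro g hg m x
        induction m generalizing x with
        | zero => simp
        | succ m ihm => rw [pow_succ, pow_succ, Module.End.mul_apply, Module.End.mul_apply, ihm]; rfl
      have quoPow : ∀ (g : Module.End R U) (hg : ∀ x ∈ W, g x ∈ W) (m : ℕ) (x : U),
          ((W.mapQ W g hg) ^ m) (Submodule.Quotient.mk x) = Submodule.Quotient.mk ((g ^ m) x) := by
        intro g hg m x
        induction m generalizing x with
        | zero => simp
        | succ m ihm => rw [pow_succ, pow_succ, Module.End.mul_apply, Module.End.mul_apply,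
            Submodule.mapQ_apply, ihm]
      have cS : ∀ x, ∑ i ∈ range p, (z ^ i) (a ((z' ^ i) x)) = x := fun x => by
        simpa using LinearMap.congr_fun ha x
      have az : ∀ x, (z ^ p) (a x) = a ((z ^ p) x) := fun x => LinearMap.congr_fun hza.eq x
      have ya : ∀ x, y (a x) = a (y x) := fun x => LinearMap.congr_fun hya.eq x
      have yz : ∀ x, y (z x) = z (y x) := fun x => LinearMap.congr_fun hyz.eq x
      have zz : ∀ x, z (z' x) = x := fun x => LinearMap.congr_fun hz x
      have zz' : ∀ x, z' (z x) = x := fun x => LinearMap.congr_fun hz' x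
      have zN : ∀ x, (z ^ N) x = x := fun x => LinearMap.congr_fun hzN x
      rw [ih _ hlt1.2 (z.restrict (inv _ fz)) (z'.restrict (inv _ fz')) (y.restrict (inv _ fy))
        (a.restrict (inv _ fa)) rfl, ih _ hlt1.1 (W.mapQ W z (inv _ fz)) (W.mapQ W z' (inv _ fz'))
        (W.mapQ W y (inv _ fy)) (W.mapQ W a (inv _ fa)) rfl, add_zero]
      · refine Submodule.linearMap_qext _ (LinearMap.ext fun x => ?_); simp [zz]
      · refine Submodule.linearMap_qext _ (LinearMap.ext fun x => ?_); simp [zz']
      · refine Submodule.linearMap_qext _ (LinearMap.ext fun x => ?_); simp [yz]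
      · refine Submodule.linearMap_qext _ (LinearMap.ext fun x => ?_); simp [ya]
      · refine Submodule.linearMap_qext _ (LinearMap.ext fun x => ?_); simp [quoPow, az]
      · refine Submodule.linearMap_qext _ (LinearMap.ext fun x => ?_); simp [quoPow, zN]
      · refine Submodule.linearMap_qext _ (LinearMap.ext fun x => ?_)
        simp only [LinearMap.comp_apply, LinearMap.coe_sum, Finset.sum_apply, Module.End.mul_apply,
          Submodule.mkQ_apply, quoPow, Submodule.mapQ_apply, Module.End.one_apply]
        simp only [← Submodule.mkQ_apply, ← map_sum, cS]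
      · exact LinearMap.ext fun x => Subtype.ext (zz x)
      · exact LinearMap.ext fun x => Subtype.ext (zz' x)
      · exact LinearMap.ext fun x => Subtype.ext (yz x)
      · exact LinearMap.ext fun x => Subtype.ext (ya x)
      · refine LinearMap.ext fun x => Subtype.ext ?_
        simp [Module.End.mul_apply, resPow, az]
      · refine LinearMap.ext fun x => Subtype.ext ?_
        simp [resPow, zN]
      · refine LinearMap.ext fun x => Subtype.ext ?_
        simp [resPow, cS]
    -- the eigenspace of `y`
    set f : Module.End R U := y - ν • 1 with hf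
    have hfz : Commute f z := (hyz.sub_left ((Commute.one_left _).smul_left ν))
    have hyz' : Commute y z' := by
      show y * z' = z' * y
      calc y * z' = z' * (z * y) * z' := by rw [← mul_assoc, hz', one_mul]
        _ = z' * (y * z) * z' := by rw [hyz.eq]
        _ = z' * y := by rw [mul_assoc, mul_assoc, hz, mul_one]
    have hfz' : Commute f z' := (hyz'.sub_left ((Commute.one_left _).smul_left ν))
    have hfy : Commute f y := ((Commute.refl y).sub_left ((Commute.one_left _).smul_left ν))
    have hfa : Commute f a := (hya.sub_left ((Commute.one_left _).smul_left ν))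
    have hxker : x ∈ LinearMap.ker f := by simp [hf, hx]
    by_cases htop : LinearMap.ker f ≠ ⊤
    · exact hstep f hfz hfz' hfy hfa (fun h => hx0 (by rw [h] at hxker; simpa using hxker)) htop
    rw [not_not, LinearMap.ker_eq_top, sub_eq_zero] at htop
    subst htop
    rw [mul_smul_comm, mul_one, map_smul]
    -- the eigenspace of `z ^ p`
    obtain ⟨μ, v, hv0, hv⟩ : ∃ (μ : R) (v : U), v ≠ 0 ∧ (z ^ p) v = μ • v := by
      haveI : Nontrivial U := Module.nontrivial_of_finrank_pos (R := R) (hd ▸ hdpos)
      haveI : Module.Free R (⊤ : Submodule R U) := Module.Free.of_equiv Submodule.topEquiv.symm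
      haveI : Module.Finite R (⊤ : Submodule R U) := Module.Finite.equiv Submodule.topEquiv.symm
      obtain ⟨μ, x, hx0, hx⟩ := hev ⊤ top_ne_bot
        ((z ^ p).restrict (p := ⊤) (q := ⊤) (fun _ _ => Submodule.mem_top))
      exact ⟨μ, x, fun h => hx0 (Subtype.ext h), congrArg Subtype.val hx⟩
    set g : Module.End R U := z ^ p - μ • 1 with hg
    have hzz' : Commute (z ^ p) z' := (show Commute z z' from by show z * z' = z' * z; rw [hz, hz']).pow_left p
    have hvker : v ∈ LinearMap.ker g := by simp [hg, hv]
    by_cases htop : LinearMap.ker g ≠ ⊤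
    · have := hstep g ((Commute.refl z).pow_left p |>.sub_left ((Commute.one_left _).smul_left μ))
        (hzz'.sub_left ((Commute.one_left _).smul_left μ))
        (((Commute.one_right _).smul_right ν).sub_left ((Commute.one_left _).smul_left μ))
        (hza.sub_left ((Commute.one_left _).smul_left μ))
        (fun h => hv0 (by rw [h] at hvker; simpa using hvker)) htop
      rwa [mul_smul_comm, mul_one, map_smul] at this
    rw [not_not, LinearMap.ker_eq_top, sub_eq_zero] at htop
    obtain ⟨ν₀, hν₀⟩ := hroot (Polynomial.X ^ p - Polynomial.C μ)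
      (Polynomial.monic_X_pow_sub_C μ hp.ne_zero) (by rw [Polynomial.natDegree_X_pow_sub_C]; exact hp.pos)
    simp [Polynomial.IsRoot, sub_eq_zero] at hν₀
    have hpz : ∀ m, (z ^ p) ^ m = μ ^ m • (1 : Module.End R U) := fun m => by
      rw [htop, smul_pow, one_pow]
    have hμ : μ ^ N = 1 := by
      haveI : Nontrivial U := Module.nontrivial_of_finrank_pos (R := R) (hd ▸ hdpos)
      obtain ⟨x, hx⟩ := exists_ne (0 : U)
      have h1 : (z ^ p) ^ N = 1 := by rw [← pow_mul, mul_comm, pow_mul, hzN, one_pow]
      rw [hpz] at h1
      have h2 := LinearMap.congr_fun h1 x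
      simp only [LinearMap.smul_apply, Module.End.one_apply] at h2
      exact smul_left_injective R hx (show μ ^ N • x = (1 : R) • x by rw [h2, one_smul])
    set τ := ν₀ ^ (p * N - 1) with hτ
    have hτν : τ * ν₀ = 1 := by
      rw [hτ, ← pow_succ, Nat.sub_add_cancel (Nat.mul_pos hp.pos hN), pow_mul, hν₀, hμ]
    set z₁ : Module.End R U := τ • z with hz₁
    have hz₁p : z₁ ^ p = 1 := by
      rw [hz₁, smul_pow, htop, smul_smul, ← hν₀, ← mul_pow, hτν, one_pow, one_smul]
    have hz₁i : ∀ i ∈ range p, z₁ ^ i * a * z₁ ^ (p - i) = z ^ i * a * z' ^ i := by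
      intro i hi
      have hip := (mem_range.1 hi).le
      have hzpi : z ^ (p - i) = μ • z' ^ i := by
        calc z ^ (p - i) = z ^ (p - i) * (z ^ i * z' ^ i) := by
              rw [← (show Commute z z' from by show z * z' = z' * z; rw [hz, hz']).mul_pow, hz, one_pow, mul_one]
          _ = μ • z' ^ i := by rw [← mul_assoc, ← pow_add, Nat.sub_add_cancel hip, htop, smul_mul_assoc, one_mul]
      rw [hz₁, smul_pow, smul_pow, hzpi, smul_smul]
      simp only [smul_mul_assoc, mul_smul_comm, smul_smul]
      rw [show τ ^ (p - i) * μ * τ ^ i = 1 by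
        rw [mul_right_comm, ← pow_add, Nat.sub_add_cancel hip, ← hν₀, ← mul_pow, hτν, one_pow], one_smul]
    have h0 : LinearMap.trace R U z₁ = 0 :=
      trace_eq_zero_of_relProj_order hp z₁ a hz₁p (by rw [Finset.sum_congr rfl hz₁i, ha])
    have hzz₁ : z = ν₀ • z₁ := by rw [hz₁, smul_smul, mul_comm, hτν, one_smul]
    rw [hzz₁, map_smul, h0, smul_zero, smul_zero]

end Cfsg.Agent.Block
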