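import Cfsg.Agent.Lib.Block.Basic
import Cfsg.Agent.Lib.Block.TraceLemma
import Mathlib.LinearAlgebra.Determinant
import Mathlib.Algebra.MonoidAlgebra.MapDomain
import Mathlib.Data.ZMod.Basic
import Mathlib.RingTheory.Ideal.Quotient.Basic
import Mathlib.GroupTheory.GroupAction.ConjAct

/-!
# Idempotents whose Brauer image at a `p`-element vanishes

If `e` is an idempotent with local integral coefficients commuting with a `p`-element `z`, and
all coefficients of `e` on the centraliser of `z` are in the local ideal, then every class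
function is orthogonal to `e * z`.
-/

set_option autoImplicit false

open Finset Cfsg.Agent.Char

namespace Cfsg.Agent.Block

universe u

variable {G : Type u} [Group G]

/-! ## The abstract statement in a group algebra -/

section abstract

variable {R : Type*} [CommRing R] [IsDomain R] [IsLocalRing R] {p : ℕ}

/-- The standard basis of the group algebra. -/
noncomputable def groupBasis [Finite G] : Module.Basis G R (MonoidAlgebra R G) :=
  .ofRepr (MonoidAlgebra.coeffLinearEquiv R)

/-- Averaging a relative-trace witness over an operator of invertible finite order. -/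
theorem exists_avg {A : Type*} [Ring A] [Algebra R A] {p n : ℕ} (hn : IsUnit (n : R))
    (z z' y a : A) (hy : y ^ n = 1) (hyz : Commute y z) (hyz' : Commute y z')
    (haz : Commute (z ^ p) a) (ha : ∑ i ∈ range p, z ^ i * a * z' ^ i = 1) :
    ∃ b : A, Commute y b ∧ Commute (z ^ p) b ∧ (∑ i ∈ range p, z ^ i * b * z' ^ i = 1) ∧
      ∀ t, Commute t y → Commute t a → Commute t b := by
  classical
  obtain ⟨c, hc⟩ := hn.exists_left_inv
  set S := ∑ j ∈ range n, y ^ j * a * y ^ (n - j) with hS
  have hyS : y * S = S * y := by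
    have h2 := Finset.sum_range_succ' (fun j => y ^ j * a * y ^ (n + 1 - j)) n
    rw [Finset.sum_range_succ] at h2
    have e0 : y ^ 0 * a * y ^ (n + 1 - 0) = y ^ n * a * y ^ (n + 1 - n) := by
      simp only [pow_zero, one_mul, Nat.sub_zero, hy, pow_succ, Nat.add_sub_cancel_left, pow_one]
    rw [e0] at h2
    have h3 := add_right_cancel h2
    calc y * S = ∑ j ∈ range n, y ^ (j + 1) * a * y ^ (n + 1 - (j + 1)) := by
          rw [hS, Finset.mul_sum]
          refine Finset.sum_congr rfl fun j _ => ?_
          rw [pow_succ' y j, Nat.succ_sub_succ_eq_sub]; simp only [mul_assoc]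
      _ = ∑ j ∈ range n, y ^ j * a * y ^ (n + 1 - j) := h3.symm
      _ = S * y := by
          rw [hS, Finset.sum_mul]
          refine Finset.sum_congr rfl fun j hj => ?_
          rw [Nat.succ_sub (Finset.mem_range.1 hj).le, pow_succ]; simp only [mul_assoc]
  have hcom : ∀ t, Commute t y → Commute t a → Commute t (c • S) := fun t hty hta =>
    Commute.smul_right (Commute.sum_right _ _ _ fun j _ =>
      ((hty.pow_right j).mul_right hta).mul_right (hty.pow_right _)) c
  refine ⟨c • S, Commute.smul_right hyS c, hcom _ (hyz.symm.pow_left p) haz, ?_, hcom⟩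
  have e1 : ∀ i j, z ^ i * (y ^ j * a * y ^ (n - j)) * z' ^ i =
      y ^ j * (z ^ i * a * z' ^ i) * y ^ (n - j) := fun i j => by
    calc z ^ i * (y ^ j * a * y ^ (n - j)) * z' ^ i
        = (z ^ i * y ^ j) * a * (y ^ (n - j) * z' ^ i) := by noncomm_ring
      _ = (y ^ j * z ^ i) * a * (z' ^ i * y ^ (n - j)) := by
          rw [(hyz.symm.pow_pow i j).eq, (hyz'.pow_pow (n - j) i).eq]
      _ = _ := by noncomm_ring
  calc ∑ i ∈ range p, z ^ i * (c • S) * z' ^ i
      = c • ∑ i ∈ range p, ∑ j ∈ range n, z ^ i * (y ^ j * a * y ^ (n - j)) * z' ^ i := by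
        conv_rhs => rw [Finset.smul_sum]
        refine Finset.sum_congr rfl fun i _ => ?_
        rw [mul_smul_comm, smul_mul_assoc, hS, Finset.mul_sum, Finset.sum_mul]
    _ = c • ∑ j ∈ range n, (1 : A) := by
        rw [Finset.sum_comm]
        congr 1
        refine Finset.sum_congr rfl fun j hj => ?_
        simp only [e1, ← Finset.sum_mul, ← Finset.mul_sum, ha, mul_one]
        rw [← pow_add, Nat.add_sub_cancel' (Finset.mem_range.1 hj).le, hy]
    _ = 1 := by
        rw [Finset.sum_const, Finset.card_range, ← Nat.cast_smul_eq_nsmul R n (1 : A), smul_smul, hc,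
          one_smul]

theorem isUnit_of_sub_one_small [Finite G] (x : MonoidAlgebra R G)
    (hx : ∀ g, (x - 1).coeff g ∈ IsLocalRing.maximalIdeal R) : IsUnit x := by
  classical
  haveI := Fintype.ofFinite G
  set f := LinearMap.mulLeft R x with hf
  have hdet : IsUnit (LinearMap.det f) := by
    rw [← LinearMap.det_toMatrix (groupBasis (R := R) (G := G))]
    apply (isUnit_map_iff (IsLocalRing.residue R) _).1
    rw [RingHom.map_det]
    have : (IsLocalRing.residue R).mapMatrix (LinearMap.toMatrix groupBasis groupBasis f) = 1 := by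
      ext g h
      have h1 : LinearMap.toMatrix groupBasis groupBasis f g h = (x * MonoidAlgebra.single h 1).coeff g := by
        rw [LinearMap.toMatrix_apply]; rfl
      have h2 := hx (g * h⁻¹)
      rw [RingHom.mapMatrix_apply, Matrix.map_apply, h1, MonoidAlgebra.coeff_mul_single_apply, mul_one,
        Matrix.one_apply]
      rw [← Ideal.Quotient.eq_zero_iff_mem] at h2
      rw [MonoidAlgebra.coeff_sub, MonoidAlgebra.one_def, MonoidAlgebra.coeff_single,
        Finsupp.sub_apply, map_sub, sub_eq_zero, Finsupp.single_apply] at h2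
      refine h2.trans ?_
      by_cases hgh : g = h
      · simp [hgh]; rfl
      · simp [hgh, eq_comm (a := (1 : G)), mul_inv_eq_one]; rfl
    rw [this, Matrix.det_one]
    exact isUnit_one
  have hbij : Function.Bijective f := by
    have := LinearMap.isUnit_iff_isUnit_det f |>.2 hdet
    exact (Module.End.isUnit_iff f).1 this
  obtain ⟨y, hy⟩ := hbij.2 1
  simp only [hf, LinearMap.mulLeft_apply] at hy
  refine ⟨⟨x, y, hy, hbij.1 ?_⟩, rfl⟩
  simp only [hf, LinearMap.mulLeft_apply]
  rw [← mul_assoc, hy, one_mul, mul_one]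

/-- If `e` is idempotent and congruent to a relative trace, then `e * z` is orthogonal to
all class functions. -/
theorem sum_conj_eq_zero_of_relTrace [Finite G] [Fintype G] [IsBezout R]
    [CharP (IsLocalRing.ResidueField R) p]
    (hroot : ∀ f : Polynomial R, f.Monic → 0 < f.natDegree → ∃ r, f.IsRoot r)
    (hp : p.Prime) (z : G) (e a : MonoidAlgebra R G) (he : e * e = e)
    (hez : Commute e (MonoidAlgebra.single z 1)) (haz : Commute a (MonoidAlgebra.single (z ^ p) 1))
    (hT : ∀ g, (e - ∑ i ∈ range p,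
      MonoidAlgebra.single (z ^ i) 1 * a * MonoidAlgebra.single (z⁻¹ ^ i) 1).coeff g
        ∈ IsLocalRing.maximalIdeal R)
    (u : G) (huz : Commute u z) (heu : Commute e (MonoidAlgebra.single u 1))
    {n : ℕ} (hn : IsUnit (n : R)) (hun : u ^ n = 1)
    (w : G) : ∑ h : G, (e * MonoidAlgebra.single (z * u) (1 : R)).coeff (h * w * h⁻¹) = 0 := by
  classical
  have hzu : (MonoidAlgebra.single (z * u) (1 : R)) =
      MonoidAlgebra.single z 1 * MonoidAlgebra.single u 1 := by simp
  rw [hzu, ← mul_assoc]
  set V : MonoidAlgebra R G := MonoidAlgebra.single u 1 with hV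
  have hVn : V ^ n = 1 := by simp [hV, hun, MonoidAlgebra.one_def]
  have hVz : ∀ g, Commute u g → Commute V (MonoidAlgebra.single g 1) := fun g hg => by
    show V * _ = _ * V
    simp [hV, hg.eq]
  have hVZ := hVz z huz
  have hVZ' := hVz z⁻¹ huz.inv_right
  set Z : MonoidAlgebra R G := MonoidAlgebra.single z 1 with hZ
  set Z' : MonoidAlgebra R G := MonoidAlgebra.single z⁻¹ 1 with hZ'
  have hZi : ∀ i, MonoidAlgebra.single (z ^ i) (1 : R) = Z ^ i := fun i => by simp [hZ]
  have hZ'i : ∀ i, MonoidAlgebra.single (z⁻¹ ^ i) (1 : R) = Z' ^ i := fun i => by simp [hZ']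
  simp only [hZi, hZ'i] at hT
  rw [hZi] at haz
  have hzz' : Z * Z' = 1 := by simp [hZ, hZ', MonoidAlgebra.one_def]
  have hz'z : Z' * Z = 1 := by simp [hZ, hZ', MonoidAlgebra.one_def]
  have hez' : Commute e Z' := by
    show e * Z' = Z' * e
    calc e * Z' = Z' * (Z * e) * Z' := by rw [← mul_assoc, hz'z, one_mul]
      _ = Z' * (e * Z) * Z' := by rw [hez.eq]
      _ = Z' * e := by rw [mul_assoc, mul_assoc, hzz', mul_one]
  set T := ∑ i ∈ range p, Z ^ i * a * Z' ^ i with hTdef
  have hTZ : Commute T Z := by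
    have hs : Z * T = T * Z := by
      have hp0 : Z ^ p * a * Z' ^ p = a := by
        rw [← haz.eq, mul_assoc, ← (show Commute Z Z' from hzz'.trans hz'z.symm).mul_pow, hzz', one_pow, mul_one]
      have h1 : Z * T * Z' = T := by
        rw [hTdef, Finset.mul_sum, Finset.sum_mul]
        have e1 : ∀ i, Z * (Z ^ i * a * Z' ^ i) * Z' = Z ^ (i + 1) * a * Z' ^ (i + 1) := fun i => by
          rw [pow_succ' Z, pow_succ Z']; noncomm_ring
        simp only [e1]
        have h2 := Finset.sum_range_succ' (fun i => Z ^ i * a * Z' ^ i) p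
        rw [Finset.sum_range_succ] at h2
        simp only [pow_zero, one_mul, mul_one, hp0] at h2
        exact (add_right_cancel h2).symm
      conv_rhs => rw [← h1, mul_assoc, hz'z, mul_one]
    exact hs.symm
  -- invert
  set x := e * T * e + (1 - e) with hx
  have hxu : IsUnit x := by
    refine isUnit_of_sub_one_small x ?_
    have : x - 1 = e * (T - e) * e := by
      rw [hx, mul_sub, sub_mul, he, he]; abel
    rw [this]
    intro g
    have hsmall : ∀ g, (T - e).coeff g ∈ IsLocalRing.maximalIdeal R := fun g => by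
      rw [← neg_sub, MonoidAlgebra.coeff_neg, Finsupp.neg_apply]
      exact neg_mem (hT g)
    rw [MonoidAlgebra.coeff_mul_apply_left]
    refine Ideal.sum_mem _ fun m _ => ?_
    rw [MonoidAlgebra.coeff_mul_apply_left]
    exact Ideal.mul_mem_right _ _ (Ideal.sum_mem _ fun k _ => Ideal.mul_mem_left _ _ (hsmall _))
  obtain ⟨ux, hu⟩ := hxu
  set xi : MonoidAlgebra R G := ↑ux⁻¹
  have hxxi : x * xi = 1 := by rw [← hu]; exact ux.mul_inv
  have hcomm_inv : ∀ {b : MonoidAlgebra R G}, Commute b x → Commute b xi := fun {b} hb => by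
    rw [← hu] at hb; exact hb.units_inv_right
  have hex : Commute e x := by
    show e * x = x * e
    rw [hx, mul_add, add_mul, ← mul_assoc, ← mul_assoc, he, mul_assoc _ e e, he, mul_sub, sub_mul, he,
      mul_one, one_mul]
  have hexi := hcomm_inv hex
  have hZx : Commute Z x := ((hez.symm.mul_right hTZ.symm).mul_right hez.symm).add_right
    ((Commute.one_right Z).sub_right hez.symm)
  have hZxi := hcomm_inv hZx
  have hZ'xi : Commute Z' xi := by
    show Z' * xi = xi * Z'
    calc Z' * xi = Z' * (xi * Z) * Z' := by rw [mul_assoc, mul_assoc, hzz', mul_one]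
      _ = Z' * (Z * xi) * Z' := by rw [hZxi.eq]
      _ = xi * Z' := by rw [← mul_assoc Z' Z, hz'z, one_mul]
  set a' := e * a * e * xi with ha'
  have hsum : ∑ i ∈ range p, Z ^ i * a' * Z' ^ i = e := by
    have e1 : ∀ i, Z ^ i * a' * Z' ^ i = e * (Z ^ i * a * Z' ^ i) * e * xi := fun i => by
      rw [ha']
      calc Z ^ i * (e * a * e * xi) * Z' ^ i = (Z ^ i * e) * a * e * (xi * Z' ^ i) := by noncomm_ring
        _ = (e * Z ^ i) * a * e * (Z' ^ i * xi) := by rw [(hez.pow_right i).eq, (hZ'xi.pow_left i).eq]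
        _ = e * Z ^ i * a * (e * Z' ^ i) * xi := by noncomm_ring
        _ = e * Z ^ i * a * (Z' ^ i * e) * xi := by rw [(hez'.pow_right i).eq]
        _ = _ := by noncomm_ring
    rw [Finset.sum_congr rfl fun i _ => e1 i, ← Finset.sum_mul, ← Finset.sum_mul, ← Finset.mul_sum, ← hTdef]
    have : e * T * e = e * x := by
      rw [hx, mul_add, mul_sub, he, mul_one, sub_self, add_zero, ← mul_assoc, ← mul_assoc, he]
    rw [this, mul_assoc, hxxi, mul_one]
  -- the operators on the image of `e`
  set E := LinearMap.mulLeft R e with hE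
  set U := LinearMap.range E with hU
  haveI : Module.Finite R (MonoidAlgebra R G) := Module.Finite.of_basis groupBasis
  haveI : Module.Free R (MonoidAlgebra R G) := Module.Free.of_basis groupBasis
  haveI : Module.Free R U := free_of_isBezout_of_torsionFree
  have hmemU : ∀ {v}, v ∈ U ↔ e * v = v := fun {v} => by
    constructor
    · rintro ⟨t, rfl⟩; simp [hE, ← mul_assoc, he]
    · intro h; exact ⟨v, h⟩
  let op : (b : MonoidAlgebra R G) → Commute e b → Module.End R U := fun b hb =>
    (LinearMap.mulLeft R b).restrict (fun v hv => hmemU.2 (by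
      rw [LinearMap.mulLeft_apply, ← mul_assoc, hb.eq, mul_assoc, hmemU.1 hv]))
  let y : Module.End R U := (LinearMap.mulRight R (MonoidAlgebra.single w⁻¹ (1 : R))).restrict
    (fun v hv => hmemU.2 (by rw [LinearMap.mulRight_apply, ← mul_assoc, hmemU.1 hv]))
  have op_apply : ∀ b hb (v : U), ((op b hb v : U) : MonoidAlgebra R G) = b * v := fun _ _ _ => rfl
  have y_apply : ∀ v : U, ((y v : U) : MonoidAlgebra R G) =
      (v : MonoidAlgebra R G) * MonoidAlgebra.single w⁻¹ (1 : R) := fun _ => rfl
  have opPow : ∀ b hb (m : ℕ) (v : U), (((op b hb) ^ m) v : MonoidAlgebra R G) = b ^ m * v := by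
    intro b hb m
    induction m with
    | zero => simp
    | succ m ih => intro v; simp only [pow_succ, Module.End.mul_apply, ih, op_apply, mul_assoc]
  have haz' : Commute e a' := by
    show e * a' = a' * e
    rw [ha']
    calc e * (e * a * e * xi) = (e * e) * a * e * xi := by noncomm_ring
      _ = e * a * (e * e) * xi := by rw [he]
      _ = e * a * e * (e * xi) := by noncomm_ring
      _ = e * a * e * (xi * e) := by rw [hexi.eq]
      _ = _ := by noncomm_ring
  have hpa' : Commute (Z ^ p) a' :=
    (((hez.pow_right p).symm.mul_right haz.symm).mul_right (hez.pow_right p).symm).mul_right (hZxi.pow_left p)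
  have opExt : ∀ {b c : Module.End R U}, (∀ v : U, ((b v : U) : MonoidAlgebra R G) = c v) → b = c :=
    fun h => LinearMap.ext fun v => Subtype.ext (h v)
  have hsumU : ∑ i ∈ range p, op Z hez ^ i * op a' haz' * op Z' hez' ^ i = 1 := opExt fun v => by
    simp only [LinearMap.coe_sum, Finset.sum_apply, Module.End.mul_apply, Submodule.coe_sum,
      opPow, op_apply, ← mul_assoc, ← Finset.sum_mul, hsum, Module.End.one_apply]
    exact hmemU.1 v.2
  obtain ⟨b, hyb, hzb, hbsum, hcom⟩ := exists_avg (p := p) hn (op Z hez) (op Z' hez') (op V heu)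
    (op a' haz') (opExt fun v => by simp [opPow, hVn])
    (opExt fun v => by simp [op_apply, ← mul_assoc, hVZ.eq])
    (opExt fun v => by simp [op_apply, ← mul_assoc, hVZ'.eq])
    (opExt fun v => by
      simp only [Module.End.mul_apply, opPow, op_apply]
      rw [← mul_assoc, hpa'.eq, mul_assoc]) hsumU
  have hyV : Commute y (op V heu) := opExt fun v => by simp [op_apply, y_apply, mul_assoc]
  have key := trace_mul_eq_zero_of_relProj (R := R) (U := U) (p := p) hroot hp
    (op Z hez) (op Z' hez') (op V heu * y) b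
    (opExt fun v => by simp [op_apply, ← mul_assoc, hzz'])
    (opExt fun v => by simp [op_apply, ← mul_assoc, hz'z])
    (opExt fun v => by
      simp only [Module.End.mul_apply, op_apply, y_apply]
      rw [← mul_assoc Z, ← mul_assoc, ← mul_assoc, ← mul_assoc, hVZ.eq])
    (hyb.mul_left (hcom y hyV (opExt fun v => by simp [op_apply, y_apply, mul_assoc])))
    hzb (orderOf_pos z)
    (opExt fun v => by simp [opPow, hZ, MonoidAlgebra.one_def.symm]) hbsum
  -- compare the trace with the class sums of the coefficients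
  set F : Module.End R (MonoidAlgebra R G) :=
    (LinearMap.mulRight R (MonoidAlgebra.single w⁻¹ (1 : R))) ∘ₗ LinearMap.mulLeft R (e * Z * V) with hF
  have hFU : LinearMap.trace R U (op Z hez * (op V heu * y)) = LinearMap.trace R _ F := by
    have : F = (U.subtype ∘ₗ (op Z hez * (op V heu * y))) ∘ₗ E.rangeRestrict := by
      refine LinearMap.ext fun v => ?_
      simp only [hF, LinearMap.comp_apply, LinearMap.mulLeft_apply, LinearMap.mulRight_apply,
        Submodule.subtype_apply, Module.End.mul_apply, op_apply, y_apply]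
      show _ = Z * (V * ((e * v) * _))
      rw [hez.eq, mul_assoc Z e V, heu.eq]; noncomm_ring
    rw [this, LinearMap.trace_comp_comm', ← LinearMap.comp_assoc]
    congr 1
    refine LinearMap.ext fun v => Subtype.ext ?_
    show _ = e * _
    exact (hmemU.1 (Subtype.coe_prop _)).symm
  rw [hFU, LinearMap.trace_eq_matrix_trace R (groupBasis (R := R) (G := G))] at key
  rw [← key, Matrix.trace]
  refine Finset.sum_congr rfl fun h _ => ?_
  have hF1 : F (MonoidAlgebra.single h 1) = e * Z * V * MonoidAlgebra.single (h * w⁻¹) 1 := by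
    simp [hF, mul_assoc]
  rw [Matrix.diag_apply, LinearMap.toMatrix_apply]
  show _ = (F (MonoidAlgebra.single h 1)).coeff h
  rw [hF1, MonoidAlgebra.coeff_mul_single_apply (e * Z * V), mul_one]
  congr 1
  group

end abstract

/-! ## The statement for the localisation -/

variable {M : Ideal AlgInt} [hMp : M.IsPrime]

theorem locRing_charP {p : ℕ} (hp : p.Prime) (hpM : (p : AlgInt) ∈ M) :
    CharP (IsLocalRing.ResidueField (locRing M)) p := by
  refine (CharP.charP_iff_prime_eq_zero hp).2 ?_
  rw [← map_natCast (IsLocalRing.residue (locRing M)), IsLocalRing.residue_eq_zero_iff,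
    mem_maximalIdeal_locRing]
  simpa using (memLocalIdeal_natCast_iff hp hpM p).2 dvd_rfl

/-- A labelling of the non-fixed points of conjugation by a `p`-element. -/
theorem exists_conj_label [Finite G] {p : ℕ} (hp : p.Prime) (z : G) (hz : ∃ k : ℕ, orderOf z = p ^ k) :
    ∃ c : G → ZMod p, ∀ g, ¬ Commute z g → c (z * g * z⁻¹) = c g + 1 := by
  classical
  let s : Setoid G := MulAction.orbitRel (Subgroup.zpowers (ConjAct.toConjAct z)) G
  let r : G → G := fun g => (Quotient.mk s g).out
  have hmem : ∀ g, ∃ m : ℤ, g = z ^ m * r g * (z ^ m)⁻¹ := by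
    intro g
    have h1 : s g (r g) := Quotient.exact (Quotient.out_eq (Quotient.mk s g)).symm
    obtain ⟨⟨_, m, rfl⟩, hm⟩ := h1
    refine ⟨m, hm.symm.trans ?_⟩
    show (ConjAct.toConjAct z ^ m) • r g = _
    rw [← map_zpow, ConjAct.toConjAct_smul]
  choose m hm using hmem
  refine ⟨fun g => (m g : ZMod p), fun g hg => ?_⟩
  have hr : r (z * g * z⁻¹) = r g := by
    refine congrArg Quotient.out (Quotient.sound ⟨⟨ConjAct.toConjAct z, Subgroup.mem_zpowers _⟩, ?_⟩)
    show ConjAct.toConjAct z • g = _
    rw [ConjAct.toConjAct_smul]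
  set g' := z * g * z⁻¹ with hg'
  have h3 : z ^ m g' * r g * (z ^ m g')⁻¹ = z ^ (m g + 1) * r g * (z ^ (m g + 1))⁻¹ := by
    have e1 := hm g'
    rw [hr] at e1
    rw [← e1, hg', add_comm, zpow_add, zpow_one]
    conv_lhs => rw [hm g]
    group
  set d := m g' - (m g + 1)
  have hd : Commute (z ^ d) (r g) := by
    show z ^ d * r g = r g * z ^ d
    have := congrArg (fun t => (z ^ (m g + 1))⁻¹ * t * z ^ (m g')) h3
    simp only [d] at this ⊢
    calc z ^ (m g' - (m g + 1)) * r g = (z ^ (m g + 1))⁻¹ * (z ^ m g' * r g * (z ^ m g')⁻¹) * z ^ m g' := by group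
      _ = _ := this
      _ = r g * z ^ (m g' - (m g + 1)) := by group
  have hpd : (p : ℤ) ∣ d := by
    by_contra hpd
    obtain ⟨k, hk⟩ := hz
    have hcop : IsCoprime ((p : ℤ) ^ k) d :=
      ((Nat.prime_iff_prime_int.1 hp).coprime_iff_not_dvd.2 hpd).pow_left
    obtain ⟨a, b, hab⟩ := hcop
    have hz1 : (z ^ d) ^ b = z := by
      have h1 : d * b = 1 - ((p ^ k : ℕ) : ℤ) * a := by push_cast; linarith
      rw [← zpow_mul, h1, zpow_sub, zpow_one, zpow_mul, zpow_natCast, ← hk, pow_orderOf_eq_one,
        one_zpow, inv_one, mul_one]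
    apply hg
    have h2 : Commute z (r g) := hz1 ▸ hd.zpow_left b
    rw [hm g]
    have h3 : Commute z (z ^ m g) := (Commute.refl z).zpow_right _
    exact (h3.mul_right h2).mul_right h3.inv_right
  rw [← sub_eq_zero]
  have := (ZMod.intCast_zmod_eq_zero_iff_dvd d p).2 hpd
  simpa [d] using this

/-- An element with local coefficients in the localised group algebra. -/
noncomputable def toLoc [Finite G] {e : MonoidAlgebra ℂ G} (hl : IsLocElt M e) :
    MonoidAlgebra (locRing M) G :=
  .ofCoeff (Finsupp.equivFunOnFinite.symm fun g => ⟨e.coeff g, hl g⟩)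

theorem coe_toLoc [Finite G] {e : MonoidAlgebra ℂ G} (hl : IsLocElt M e) (g : G) :
    (((toLoc hl).coeff g : locRing M) : ℂ) = e.coeff g := by simp [toLoc]

/-- The main vanishing statement. -/
theorem sum_mul_classFunction_eq_zero [Finite G] [Fintype G] {p : ℕ} (hM : IsPModular p M) {z : G}
    (hz : ∃ k : ℕ, orderOf z = p ^ k) {e : MonoidAlgebra ℂ G} (hl : IsLocElt M e) (he : e * e = e)
    (hez : Commute e (MonoidAlgebra.single z 1))
    (hbr : ∀ g, Commute z g → MemLocalIdeal M (e.coeff g))
    {u : G} (huz : Commute u z) (hu : ¬ p ∣ orderOf u)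
    (heu : Commute e (MonoidAlgebra.single u 1))
    {f : G → ℂ} (hf : IsClassFunction G f) : ∑ g : G, e.coeff g * f (g * (z * u)) = 0 := by
  classical
  obtain ⟨hp, hmax, hpM⟩ := hM
  haveI := locRing_isBezout hp hpM
  haveI := locRing_charP hp hpM
  haveI : NeZero p := ⟨hp.ne_zero⟩
  obtain ⟨c, hc⟩ := exists_conj_label hp z hz
  set e' := toLoc hl with he'
  let a : MonoidAlgebra (locRing M) G := .ofCoeff (Finsupp.equivFunOnFinite.symm fun g =>
    if ¬ Commute z g ∧ c g = 0 then e'.coeff g else 0)
  have ha : ∀ g, a.coeff g = if ¬ Commute z g ∧ c g = 0 then e'.coeff g else 0 := fun g => by simp [a]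
  have hez' : Commute e' (MonoidAlgebra.single z 1) := by
    refine MonoidAlgebra.ext (Finsupp.ext fun g => Subtype.ext ?_)
    rw [MonoidAlgebra.coeff_single_mul_apply, MonoidAlgebra.coeff_mul_single_apply]
    have := congrArg (fun b => b.coeff g) hez.eq
    simp only [MonoidAlgebra.coeff_single_mul_apply, MonoidAlgebra.coeff_mul_single_apply] at this
    simpa [he', coe_toLoc] using this
  have hshift : ∀ g, e'.coeff (z * g * z⁻¹) = e'.coeff g := fun g => by
    have := congrArg (fun b => b.coeff (z * g)) hez'.eq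
    simp only [MonoidAlgebra.coeff_single_mul_apply, MonoidAlgebra.coeff_mul_single_apply, one_mul,
      mul_one, inv_mul_cancel_left] at this
    exact this
  have hcom : ∀ (i : ℕ) g, (¬ Commute z (z ^ i * g * (z ^ i)⁻¹)) ↔ ¬ Commute z g := fun i g => by
    rw [not_iff_not]
    have h3 : Commute z (z ^ i) := (Commute.refl z).pow_right _
    constructor
    · intro h
      have := (h3.inv_right.mul_right h).mul_right h3
      simpa [mul_assoc] using this
    · intro h; exact (h3.mul_right h).mul_right h3.inv_right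
  have hpow : ∀ (i : ℕ) g, ¬ Commute z g → c (z ^ i * g * (z ^ i)⁻¹) = c g + (i : ZMod p) ∧
      e'.coeff (z ^ i * g * (z ^ i)⁻¹) = e'.coeff g := by
    intro i g hg
    induction i with
    | zero => simp
    | succ i ih =>
      have e1 : z ^ (i + 1) * g * (z ^ (i + 1))⁻¹ = z * (z ^ i * g * (z ^ i)⁻¹) * z⁻¹ := by
        rw [pow_succ' z]; group
      rw [e1, hc _ ((hcom i g).2 hg), ih.1, hshift, ih.2]
      exact ⟨by push_cast; ring, rfl⟩
  have haz : Commute a (MonoidAlgebra.single (z ^ p) 1) := by
    refine MonoidAlgebra.ext (Finsupp.ext fun g => ?_)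
    rw [MonoidAlgebra.coeff_single_mul_apply, MonoidAlgebra.coeff_mul_single_apply, one_mul, mul_one,
      ha, ha]
    set t := (z ^ p)⁻¹ * g with ht
    have hg : g * (z ^ p)⁻¹ = z ^ p * t * (z ^ p)⁻¹ := by rw [ht, mul_inv_cancel_left]
    rw [hg]
    by_cases hh : Commute z t
    · rw [if_neg (fun h => (hcom p t).1 h.1 hh), if_neg (fun h => h.1 hh)]
    · obtain ⟨h1, h2⟩ := hpow p t hh
      rw [h1, h2, ZMod.natCast_self, add_zero]
      simp only [hcom]
  have hT : ∀ g, (e' - ∑ i ∈ range p,
      MonoidAlgebra.single (z ^ i) 1 * a * MonoidAlgebra.single (z⁻¹ ^ i) 1).coeff g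
        ∈ IsLocalRing.maximalIdeal (locRing M) := by
    intro g
    rw [MonoidAlgebra.coeff_sub, Finsupp.sub_apply, MonoidAlgebra.coeff_sum, Finsupp.finsetSum_apply]
    have hterm : ∀ i : ℕ, (MonoidAlgebra.single (z ^ i) (1 : locRing M) * a *
        MonoidAlgebra.single (z⁻¹ ^ i) 1).coeff g = a.coeff ((z ^ i)⁻¹ * g * z ^ i) := fun i => by
      rw [MonoidAlgebra.coeff_mul_single_apply, MonoidAlgebra.coeff_single_mul_apply, one_mul, mul_one,
        inv_pow, inv_inv, mul_assoc]
    simp only [hterm, ha]
    by_cases hg : Commute z g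
    · rw [Finset.sum_eq_zero fun i _ => if_neg ?_, sub_zero, mem_maximalIdeal_locRing, he', coe_toLoc]
      · exact hbr g hg
      · rintro ⟨h, -⟩
        refine (hcom i ((z ^ i)⁻¹ * g * z ^ i)).2 h ?_
        rwa [show z ^ i * ((z ^ i)⁻¹ * g * z ^ i) * (z ^ i)⁻¹ = g by group]
    · have key : ∀ i : ℕ, ¬ Commute z ((z ^ i)⁻¹ * g * z ^ i) ∧
          c ((z ^ i)⁻¹ * g * z ^ i) = c g - (i : ZMod p) ∧
          e'.coeff ((z ^ i)⁻¹ * g * z ^ i) = e'.coeff g := fun i => by
        have hg' : ¬ Commute z ((z ^ i)⁻¹ * g * z ^ i) := fun h => by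
          refine (not_not.2 h) ((hcom i _).1 ?_)
          rwa [show z ^ i * ((z ^ i)⁻¹ * g * z ^ i) * (z ^ i)⁻¹ = g by group]
        have := hpow i _ hg'
        rw [show z ^ i * ((z ^ i)⁻¹ * g * z ^ i) * (z ^ i)⁻¹ = g by group] at this
        exact ⟨hg', by rw [this.1]; ring, this.2.symm⟩
      simp only [(key _).1, not_false_eq_true, true_and, (key _).2.1, (key _).2.2, sub_eq_zero]
      rw [Finset.sum_eq_single (c g).val]
      · simp
      · intro i hi hne
        rw [if_neg]
        intro h
        exact hne (by rw [h, ZMod.val_natCast, Nat.mod_eq_of_lt (Finset.mem_range.1 hi)])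
      · intro h; exact absurd (Finset.mem_range.2 (ZMod.val_lt _)) h
  have heR : e' * e' = e' := by
    refine MonoidAlgebra.ext (Finsupp.ext fun g => Subtype.ext ?_)
    have := congrArg (fun b => b.coeff g) he
    simp only [MonoidAlgebra.coeff_mul_apply_left] at this ⊢
    rw [Finsupp.sum_fintype _ _ (by simp)] at this ⊢
    simpa [he', coe_toLoc] using this
  have heu' : Commute e' (MonoidAlgebra.single u 1) := by
    refine MonoidAlgebra.ext (Finsupp.ext fun g => Subtype.ext ?_)
    rw [MonoidAlgebra.coeff_single_mul_apply, MonoidAlgebra.coeff_mul_single_apply]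
    have := congrArg (fun b => b.coeff g) heu.eq
    simp only [MonoidAlgebra.coeff_single_mul_apply, MonoidAlgebra.coeff_mul_single_apply] at this
    simpa [he', coe_toLoc] using this
  have hnu : IsUnit ((orderOf u : ℕ) : locRing M) := by
    by_contra h
    have := (mem_maximalIdeal_locRing _).1 ((IsLocalRing.mem_maximalIdeal _).2 h)
    exact hu ((memLocalIdeal_natCast_iff hp hpM _).1 (by simpa using this))
  have key := sum_conj_eq_zero_of_relTrace (p := p)
    (fun f hf hd => exists_root_locRing f hf hd) hp z e' a heR hez' haz hT u huz heu' hnu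
    (pow_orderOf_eq_one u)
  -- group the sum by classes
  have hcls : ∀ w, ∑ h : G, e.coeff (h * w * h⁻¹ * (z * u)⁻¹) = 0 := fun w => by
    have := congrArg (fun t : locRing M => (t : ℂ)) (key w)
    simpa [MonoidAlgebra.coeff_mul_single_apply, he', coe_toLoc] using this
  have hshift' : ∑ g : G, e.coeff g * f (g * (z * u)) = ∑ g : G, e.coeff (g * (z * u)⁻¹) * f g :=
    Fintype.sum_equiv (Equiv.mulRight (z * u)) _ _ fun g => by
      simp only [Equiv.coe_mulRight, mul_inv_cancel_right]
  have hmul : (Nat.card G : ℂ) * ∑ g : G, e.coeff (g * (z * u)⁻¹) * f g = 0 := by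
    calc (Nat.card G : ℂ) * ∑ g : G, e.coeff (g * (z * u)⁻¹) * f g
        = ∑ _h : G, ∑ g : G, e.coeff (g * (z * u)⁻¹) * f g := by
          rw [Finset.sum_const, Finset.card_univ, Nat.card_eq_fintype_card, nsmul_eq_mul]
      _ = ∑ h : G, ∑ g : G, e.coeff (h * g * h⁻¹ * (z * u)⁻¹) * f g := by
          refine Finset.sum_congr rfl fun h _ => Fintype.sum_equiv (MulAut.conj h⁻¹).toEquiv _ _ fun g => ?_
          have := hf g h⁻¹
          rw [inv_inv] at this
          simp [mul_assoc] at this ⊢
          rw [this]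
          simp [mul_assoc]
      _ = ∑ g : G, (∑ h : G, e.coeff (h * g * h⁻¹ * (z * u)⁻¹)) * f g := by
          rw [Finset.sum_comm]; simp_rw [Finset.sum_mul]
      _ = 0 := Finset.sum_eq_zero fun g _ => by rw [hcls g, zero_mul]
  rw [hshift']
  exact (mul_eq_zero.1 hmul).resolve_left (by simp [Nat.card_eq_fintype_card])

/-- Version for characters: `χ (e * z) = 0`. -/
theorem omega_mul_single_eq_zero [Finite G] {p : ℕ} (hM : IsPModular p M) {z : G}
    (hz : ∃ k : ℕ, orderOf z = p ^ k) {e : MonoidAlgebra ℂ G} (hl : IsLocElt M e) (he : e * e = e)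
    (hez : Commute e (MonoidAlgebra.single z 1))
    (hbr : ∀ g, Commute z g → MemLocalIdeal M (e.coeff g))
    (χ : IrrCharacter G) : omega (χ : G → ℂ) (e * MonoidAlgebra.single z 1) = 0 := by
  haveI := Fintype.ofFinite G
  have hp1 : ¬ p ∣ orderOf (1 : G) := by
    rw [orderOf_one]; exact hM.1.not_dvd_one
  have h := sum_mul_classFunction_eq_zero hM hz hl he hez hbr (Commute.one_left z) hp1
    (by simp [← MonoidAlgebra.one_def]) (IsCharacter.isClassFunction (IsIrrCharacter.isCharacter χ.2))
  simp only [mul_one] at h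
  rw [omega_eq_sum, div_eq_zero_iff]
  left
  rw [← h]
  exact (Fintype.sum_equiv (Equiv.mulRight z) _ _ fun g => by
    simp [MonoidAlgebra.coeff_mul_single_apply]).symm

end Cfsg.Agent.Block
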