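import Cfsg.Agent.Lib.Block.BlockNilpotent

/-!
# Stabilisers of pairs in abelian defect groups
-/

set_option autoImplicit false

open Cfsg.Agent.Char
open scoped ComplexConjugate Pointwise

namespace Cfsg.Agent.Block

universe u

local notation "CG(" P ")" => Subgroup.centralizer (SetLike.coe P)

variable {G : Type u} [Group G] [Finite G] {M : Ideal AlgInt} [hMp : M.IsPrime] {p : ℕ}
  [Fact p.Prime] {B : Set (IrrCharacter G)} {P Q : Subgroup G}
  {e : Set (IrrCharacter (Subgroup.centralizer (P : Set G)))}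
  {f : Set (IrrCharacter (Subgroup.centralizer (Q : Set G)))}

omit [Fact p.Prime] hMp in
theorem idx_of_fixed {x : G} (hx : x ∈ Subgroup.normalizer (Q : Set G))
    (h : ∃ hq : x ∈ Subgroup.normalizer (Subgroup.centralizer (Q : Set G) : Set G), conjBlk hq f = f) :
    (⟨Q.map (MulAut.conj x).toMonoidHom, conjBlock Q x f⟩ : BrauerPairIdx G) = ⟨Q, f⟩ := by
  obtain ⟨hn, hfix⟩ := h
  have hQ : Q.map (MulAut.conj x).toMonoidHom = Q := by
    ext y
    rw [mem_map_conj_iff]
    exact (Subgroup.mem_normalizer_iff''.1 hx y).symm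
  refine pairIdx_ext hQ fun ξ ξ' hξ => ?_
  rw [mem_conjBlock_iff]
  conv_rhs => rw [← hfix]
  have : ξ' = conjIrr hn (compIrr (centConj Q x).symm ξ) := Subtype.ext (funext fun c => by
    rw [conjIrr_apply, compIrr_apply]
    exact ((irr_congr ξ (show x * (x⁻¹ * (c : G) * x) * x⁻¹ = (c : G) by group)).trans
      (hξ (c : G) (by rw [hQ]; exact c.2) c.2)).symm)
  rw [this, mem_conjBlk_iff]

/-- Stabilisers of the large pair that normalise the small one stabilise its block. -/
theorem stab_of_le (hM : IsPModular p M) (hPe : IsBrauerPair p M P e) (hle : SubpairLE p M Q f P e)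
    {x : G} (hxP : x ∈ Subgroup.normalizer (P : Set G)) (hst : StabilizesBlock CG(P) e x)
    (hxQ : x ∈ Subgroup.normalizer (Q : Set G)) : StabilizesBlock CG(Q) f x := by
  have h' := SubpairLE.conj hle x
  rw [idx_of_fixed hxP ((stabilizesBlock_iff hPe.2).1 hst)] at h'
  have hQ : Q.map (MulAut.conj x).toMonoidHom = Q := by
    ext y
    rw [mem_map_conj_iff]
    exact (Subgroup.mem_normalizer_iff''.1 hxQ y).symm
  obtain ⟨k, hk⟩ := exists_idx_eq f hQ
  have hk' : SubpairLE p M (Q.map (MulAut.conj x).toMonoidHom) k P e := by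
    unfold SubpairLE
    rw [hk]
    exact hle
  have hQP : Q.map (MulAut.conj x).toMonoidHom ≤ P := hQ.le.trans (SubpairLE.le hle)
  have := (existsUnique_subpair hM P e hPe _ hQP).unique h' hk'
  change conjBlock Q x f = k at this
  subst this
  exact (stabilizesBlock_iff (isBrauerPair_of_le hle hPe).2).2 (fixed_of_conjBlock_eq hxQ hk)

/-- In an abelian defect group stabilisers factor through the large pair. -/
theorem exists_factor_abelian (hM : IsPModular p M) (hmax : IsMaximalBrauerPair p M B P e)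
    (hab : ∀ x ∈ P, ∀ y ∈ P, x * y = y * x) (hle : SubpairLE p M Q f P e) {TQ TP : Subgroup G}
    (hTQ : IsStab Q TQ f) (hTP : IsStab P TP e) {x : G} (hx : x ∈ TQ) :
    ∃ y ∈ TP, y ∈ Subgroup.normalizer (Q : Set G) ∧ y⁻¹ * x ∈ Subgroup.centralizer (Q : Set G) := by
  have hS := hmax.1.1.1
  have hQ : Q ≤ P := SubpairLE.le hle
  have hF := isBlockFusionSystemOn_blockSystem hM hmax
  have hsat := blockSystem_isSaturated hM hmax hF
  have hC : P ≤ FusionSystem.centralizerIn P Q := fun a ha =>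
    ⟨ha, Subgroup.mem_centralizer_iff.2 fun b hb => hab b (hQ hb) a ha⟩
  have hfc : (blockSystem hM hmax).IsFullyCentralized Q := ⟨hQ, fun R hR => Subgroup.card_le_of_le
    (Cfsg.Agent.Fusion.centralizerIn_le.trans hC)⟩
  have hα : stabAct Q TQ hTQ.le_normalizer ⟨x, hx⟩ ∈ (blockSystem hM hmax).autGroup Q := by
    rw [autGroup_blockSystem hM hmax hF hle hTQ]; exact ⟨_, rfl⟩
  obtain ⟨f', hf', he⟩ := Cfsg.Agent.Fusion.exists_extension_centralizer
    (Cfsg.Agent.Fusion.fullyCentralized_receptive hS hsat hfc) (Cfsg.Agent.Fusion.isIso_autFun hQ hα)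
  have hf'' := hf'.restrict (hC.trans le_sup_right)
  have hi := hf''.isIso_self fun a ha => hf''.mem ha
  obtain ⟨y, hy⟩ : Cfsg.Agent.Fusion.autOf hi ∈ (stabAct P TP hTP.le_normalizer).range := by
    rw [← autGroup_blockSystem hM hmax hF (show SubpairLE p M P e P e from Relation.ReflTransGen.refl) hTP]
    exact Cfsg.Agent.Fusion.autOf_mem hi
  have key : ∀ q ∈ Q, (y : G) * q * (y : G)⁻¹ = x * q * x⁻¹ := fun q hq => by
    have h3 := congrArg (fun a : MulAut P => ((a ⟨q, hQ hq⟩ : P) : G)) hy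
    rw [Cfsg.Agent.Fusion.autOf_apply] at h3
    change (y : G) * q * (y : G)⁻¹ = f' q at h3
    rw [h3, he q hq, Cfsg.Agent.Fusion.autFun_apply _ hq]
    rfl
  have hc : (y : G)⁻¹ * x ∈ CG(Q) := by
    rw [Subgroup.mem_centralizer_iff]
    intro q hq
    calc q * ((y : G)⁻¹ * x) = (y : G)⁻¹ * ((y : G) * q * (y : G)⁻¹) * x := by group
      _ = (y : G)⁻¹ * x * q := by rw [key q hq]; group
  refine ⟨y, y.2, ?_, hc⟩
  have hc' : (y : G)⁻¹ * x ∈ Subgroup.normalizer (Q : Set G) := centralizer_le_normalizer' Q hc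
  rw [show (y : G) = x * ((y : G)⁻¹ * x)⁻¹ by group]
  exact mul_mem (hTQ.le_normalizer hx) (inv_mem hc')

end Cfsg.Agent.Block
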