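import Cfsg.Agent.Lib.Block.BlockNilpotent

/-!
# Local blocks of nilpotent blocks
-/

set_option autoImplicit false

open Cfsg.Agent.Char
open scoped ComplexConjugate Pointwise

namespace Cfsg.Agent.Block

universe u

local notation "CG(" P ")" => Subgroup.centralizer (SetLike.coe P)

variable {G : Type u} [Group G] [Finite G] {M : Ideal AlgInt} [hMp : M.IsPrime] {p : ℕ}
  [Fact p.Prime] {B : Set (IrrCharacter G)} {Q : Subgroup G}
  {f : Set (IrrCharacter (Subgroup.centralizer (Q : Set G)))}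

omit [Finite G] hMp [Fact p.Prime] in
/-- Centralisers inside a centraliser. -/
def centSupIso (R : Subgroup (Subgroup.centralizer (Q : Set G))) :
    Subgroup.centralizer ((Q ⊔ R.map (Subgroup.centralizer (Q : Set G)).subtype : Subgroup G) : Set G) ≃*
      Subgroup.centralizer (R : Set (Subgroup.centralizer (Q : Set G))) where
  toFun c := ⟨⟨c, Subgroup.centralizer_le (SetLike.coe_subset_coe.2 le_sup_left) c.2⟩,
    Subgroup.mem_centralizer_iff.2 fun r hr => Subtype.ext
      (Subgroup.mem_centralizer_iff.1 c.2 (r : G) (Subgroup.mem_sup_right ⟨r, hr, rfl⟩))⟩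
  invFun c := ⟨((c : CG(Q)) : G), mem_centralizer_subgroup.2 (sup_le
    (mem_centralizer_subgroup.1 (c : CG(Q)).2) (by
      rintro _ ⟨r, hr, rfl⟩
      rw [mem_centralizer_singleton]
      exact ((show Commute r (c : CG(Q)) from Subgroup.mem_centralizer_iff.1 c.2 r hr).map
        CG(Q).subtype).symm))⟩
  left_inv _ := rfl
  right_inv _ := rfl
  map_mul' _ _ := rfl

theorem isNilpotentBlock_local (hM : IsPModular p M) (hnil : IsNilpotentBlock p M B)
    (hQf : IsBrauerPairOf p M B Q f) : IsNilpotentBlock p M f := by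
  refine ⟨hQf.1.2, fun R r hR c hcN hcst hreg => ?_⟩
  set R' : Subgroup G := Q ⊔ R.map CG(Q).subtype with hR'
  set r' := compIrr (centSupIso R) '' r with hr'
  obtain ⟨ξ, hξ⟩ := isPBlock_nonempty hR.1.2
  have hlam := ((isBrauerPairOf_iff hξ).1 hR).2.2
  have hle : R.map CG(Q).subtype ≤ CG(Q) := Subgroup.map_subtype_le R
  have hR'N : R' ≤ Subgroup.normalizer (Q : Set G) :=
    sup_le Subgroup.le_normalizer (hle.trans (centralizer_le_normalizer' Q))
  have hR'p : IsPGroup p R' :=
    hQf.1.1.to_sup_of_normal_left' (hR.1.1.map _) (hle.trans (centralizer_le_normalizer' Q))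
  have hsub : IsNormalSubpair p M Q f R' r' := by
    refine isNormalSubpair_of_lam hQf.1 ⟨hR'p, isPBlock_comp _ hR.1.2⟩ le_sup_left hR'N
      (fun q hq => conjBlk_of_mem_sup (sup_le_sup_left hle Q hq))
      (⟨ξ, hξ, rfl⟩ : compIrr (centSupIso R) ξ ∈ r') ?_
    rw [← hlam, lam, lam, ro, ro]
    congr 1
    rw [show resH (Subgroup.centralizer (R' : Set G)) (embH CG(Q) (blockIdem f)) =
      mkA (fun d => (fun k : Subgroup.centralizer (R : Set CG(Q)) => (blockIdem f).coeff (k : CG(Q)))
        (centSupIso R d)) from MonoidAlgebra.ext (Finsupp.ext fun d => by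
          rw [coeff_resH, coeff_mkA]
          exact coeff_embH CG(Q) (blockIdem f) ((centSupIso R d : Subgroup.centralizer (R : Set CG(Q))) : CG(Q)))]
    exact omega_mkA_comp (centSupIso R) (ξ : _ → ℂ) (fun k => (blockIdem f).coeff (k : CG(Q)))
  have hpair : IsBrauerPairOf p M B R' r' := (IsNormalSubpair.pairOf_iff hM hsub B).2 hQf
  have hcN' : (c : G) ∈ Subgroup.normalizer (R' : Set G) := by
    have h : ∀ d : CG(Q), d ∈ Subgroup.normalizer (R : Set CG(Q)) →
        R'.map (MulAut.conj (d : G)).toMonoidHom ≤ R' := by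
      intro d hd
      rw [hR', Subgroup.map_sup]
      refine sup_le_sup ?_ ?_
      · rintro _ ⟨q, hq, rfl⟩
        exact (Subgroup.mem_normalizer_iff.1 (centralizer_le_normalizer' Q d.2) q).1 hq
      · rintro _ ⟨_, ⟨q, hq, rfl⟩, rfl⟩
        exact ⟨d * q * d⁻¹, (Subgroup.mem_normalizer_iff.1 hd q).1 hq, rfl⟩
    rw [Subgroup.mem_normalizer_iff]
    refine fun y => ⟨fun hy => h c hcN ⟨y, hy, rfl⟩, fun hy => ?_⟩
    have := h c⁻¹ (inv_mem hcN) ⟨_, hy, rfl⟩
    simpa [mul_assoc] using this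
  obtain ⟨hn, hfix⟩ := (stabilizesBlock_iff hR.1.2).1 hcst
  have hn' := le_normalizer_centralizer (le_refl (Subgroup.normalizer (R' : Set G))) hcN'
  have hst' : StabilizesBlock (Subgroup.centralizer (R' : Set G)) r' (c : G) := by
    refine (stabilizesBlock_iff hpair.1.2).2 ⟨hn', ?_⟩
    conv_rhs => rw [hr', ← hfix]
    rw [hr', conjBlk, conjBlk, Set.image_image, Set.image_image]
    refine Set.image_congr fun θ _ => Subtype.ext (funext fun d => ?_)
    simp only [compIrr_apply, conjIrr_apply]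
    exact congrArg (θ : Subgroup.centralizer (R : Set CG(Q)) → ℂ) (Subtype.ext (Subtype.ext rfl))
  have hc := hnil.2 R' r' hpair (c : G) hcN' hst' (by rwa [IsPRegular, Subgroup.orderOf_coe])
  rw [Subgroup.mem_centralizer_iff]
  exact fun q hq => Subtype.ext (Subgroup.mem_centralizer_iff.1 hc _ (Subgroup.mem_sup_right ⟨q, hq, rfl⟩))

theorem isDefectGroup_centralizerIn_of_nilpotent (hM : IsPModular p M) {P : Subgroup G}
    {e : Set (IrrCharacter (Subgroup.centralizer (P : Set G)))}
    (hmax : IsMaximalBrauerPair p M B P e) (hnil : IsNilpotentBlock p M B) (hf : IsPBlock M f)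
    (hle : SubpairLE p M Q f P e) :
    IsDefectGroup p M f
      ((P ⊓ Subgroup.centralizer (Q : Set G)).subgroupOf (Subgroup.centralizer (Q : Set G))) := by
  have hF := isBlockFusionSystemOn_blockSystem hM hmax
  have hinner := Cfsg.Agent.Fusion.eq_innerFusionSystem_of_autGroup_pGroup hmax.1.1.1
    (blockSystem_isSaturated hM hmax hF) fun R hR => isPGroup_autGroup_of_nilpotent hM hmax hF hnil hR
  obtain ⟨D, hD⟩ := exists_isDefectGroup (p := p) hf
  rw [isDefectGroup_centralizerIn_iff hM hmax hf hD hle]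
  obtain ⟨x, hx, hc⟩ := exists_card_centralizerIn_eq hM hmax hf hD hle
  obtain ⟨φ, hφ, hrange⟩ := (isConj_iff_subpair hM hmax hF hle _).2 ⟨x, rfl, hx⟩
  rw [hinner] at hφ
  obtain ⟨-, a, ha, hax⟩ := hφ
  rw [← hc, ← hrange, range_eq_map hax]
  rw [← card_map_conj (P ⊓ Subgroup.centralizer (Q : Set G)) a]
  refine congrArg (fun S : Subgroup G => Nat.card S) ?_
  refine Subgroup.ext fun y => ?_
  rw [mem_map_conj_iff, Subgroup.mem_inf, Subgroup.mem_inf]
  refine and_congr ?_ ?_
  · exact ⟨fun h => by simpa [mul_assoc] using mul_mem (mul_mem ha h) (inv_mem ha),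
      fun h => mul_mem (mul_mem (inv_mem ha) h) ha⟩
  · refine ⟨fun h => ?_, fun h => (centConj Q a ⟨y, h⟩).2⟩
    have := ((centConj Q a).symm ⟨_, h⟩).2
    change a * (a⁻¹ * y * a) * a⁻¹ ∈ Subgroup.centralizer
      ((Q.map (MulAut.conj a).toMonoidHom : Subgroup G) : Set G) at this
    rwa [show a * (a⁻¹ * y * a) * a⁻¹ = y by group] at this

end Cfsg.Agent.Block
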