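import Cfsg.Agent.Lib.Block.PairMax

/-!
# Brauer pairs of a subgroup containing the centralisers
-/

set_option autoImplicit false

open Cfsg.Agent.Char
open scoped ComplexConjugate

namespace Cfsg.Agent.Block

universe u

local notation "CG(" P ")" => Subgroup.centralizer (SetLike.coe P)

variable {G : Type u} [Group G] [Finite G] {M : Ideal AlgInt} {p : ℕ} {K : Subgroup G}

/-- The centraliser of a subgroup of `K` inside `K`, when it is the centraliser in `G`. -/
def centIso (R : Subgroup K) (h : Subgroup.centralizer ((R.map K.subtype : Subgroup G) : Set G) ≤ K) :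
    Subgroup.centralizer ((R.map K.subtype : Subgroup G) : Set G) ≃*
      Subgroup.centralizer (R : Set K) where
  toFun c := ⟨⟨c, h c.2⟩, Subgroup.mem_centralizer_iff.2 fun r hr => Subtype.ext
    (Subgroup.mem_centralizer_iff.1 c.2 (r : G) ⟨r, hr, rfl⟩)⟩
  invFun c := ⟨((c : K) : G), Subgroup.mem_centralizer_iff.2 fun y hy => by
    obtain ⟨r, hr, rfl⟩ := hy
    exact congrArg Subtype.val (Subgroup.mem_centralizer_iff.1 c.2 r hr)⟩
  left_inv _ := rfl
  right_inv _ := rfl
  map_mul' _ _ := rfl

/-- A pair of `K` read as a pair of `G`. -/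
noncomputable def liftBlk (R : Subgroup K)
    (h : Subgroup.centralizer ((R.map K.subtype : Subgroup G) : Set G) ≤ K)
    (r : Set (IrrCharacter (Subgroup.centralizer (R : Set K)))) :
    Set (IrrCharacter (Subgroup.centralizer ((R.map K.subtype : Subgroup G) : Set G))) :=
  compIrr (centIso R h) '' r

/-- A pair of `G` inside `K` read as a pair of `K`. -/
noncomputable def restrBlk (R : Subgroup G) (hRK : R ≤ K)
    (h : Subgroup.centralizer (R : Set G) ≤ K)
    (r : Set (IrrCharacter (Subgroup.centralizer (R : Set G)))) :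
    Set (IrrCharacter (Subgroup.centralizer ((R.subgroupOf K : Subgroup K) : Set K))) :=
  compIrr ((centIso (R.subgroupOf K) (by rwa [Subgroup.map_subgroupOf_eq_of_le hRK])).symm.trans
    (MulEquiv.subgroupCongr (by rw [Subgroup.map_subgroupOf_eq_of_le hRK]))) '' r

theorem isPBlock_liftBlk (R : Subgroup K)
    (h : Subgroup.centralizer ((R.map K.subtype : Subgroup G) : Set G) ≤ K)
    {r : Set (IrrCharacter (Subgroup.centralizer (R : Set K)))} (hr : IsPBlock M r) :
    IsPBlock M (liftBlk R h r) := isPBlock_comp _ hr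

theorem liftBlk_restrBlk (R : Subgroup G) (hRK : R ≤ K) (h : Subgroup.centralizer (R : Set G) ≤ K)
    (h' : Subgroup.centralizer (((R.subgroupOf K).map K.subtype : Subgroup G) : Set G) ≤ K)
    (r : Set (IrrCharacter (Subgroup.centralizer (R : Set G)))) :
    (⟨(R.subgroupOf K).map K.subtype, liftBlk _ h' (restrBlk R hRK h r)⟩ : BrauerPairIdx G) = ⟨R, r⟩ := by
  refine pairIdx_ext (Subgroup.map_subgroupOf_eq_of_le hRK) fun ξ ξ' hξ => ?_
  rw [liftBlk, restrBlk, Set.image_image]
  constructor
  · rintro ⟨θ, hθ, rfl⟩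
    convert hθ
    refine Subtype.ext (funext fun c => ?_)
    exact (hξ (c : G) (by rw [Subgroup.map_subgroupOf_eq_of_le hRK]; exact c.2) c.2).symm
  · intro hξ'
    refine ⟨ξ', hξ', Subtype.ext (funext fun c => ?_)⟩
    exact (hξ (c : G) c.2 ((congrArg (fun S : Subgroup G => Subgroup.centralizer (S : Set G))
      (Subgroup.map_subgroupOf_eq_of_le hRK)).le c.2)).symm

theorem coeff_embH_liftBlk (R : Subgroup K)
    (h : Subgroup.centralizer ((R.map K.subtype : Subgroup G) : Set G) ≤ K)
    (r : Set (IrrCharacter (Subgroup.centralizer (R : Set K)))) (g : G) :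
    (embH (Subgroup.centralizer ((R.map K.subtype : Subgroup G) : Set G))
      (blockIdem (liftBlk R h r))).coeff g =
      (embH K (embH (Subgroup.centralizer (R : Set K)) (blockIdem r))).coeff g := by
  by_cases hg : g ∈ Subgroup.centralizer ((R.map K.subtype : Subgroup G) : Set G)
  · rw [show g = ((⟨g, hg⟩ : Subgroup.centralizer ((R.map K.subtype : Subgroup G) : Set G)) : G) from rfl,
      coeff_embH]
    conv_rhs =>
      rw [show ((⟨g, hg⟩ : Subgroup.centralizer ((R.map K.subtype : Subgroup G) : Set G)) : G) =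
        (((centIso R h ⟨g, hg⟩ : Subgroup.centralizer (R : Set K)) : K) : G) from rfl, coeff_embH,
        coeff_embH]
    simp only [blockIdem, coeff_mkA, liftBlk, blockCoeff_comp]
  · rw [coeff_embH_of_notMem _ _ hg]
    by_cases hK : g ∈ K
    · rw [show g = ((⟨g, hK⟩ : K) : G) from rfl, coeff_embH, coeff_embH_of_notMem _ _ fun hc => hg
        ((centIso R h).symm ⟨⟨g, hK⟩, hc⟩).2]
    · rw [coeff_embH_of_notMem _ _ hK]

variable [hMp : M.IsPrime]

theorem lam_liftBlk (R : Subgroup K)
    (h : Subgroup.centralizer ((R.map K.subtype : Subgroup G) : Set G) ≤ K)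
    (ξ : IrrCharacter (Subgroup.centralizer (R : Set K))) {z : MonoidAlgebra ℂ K}
    {z' : MonoidAlgebra ℂ G} (hz : ∀ k : K, z'.coeff (k : G) = z.coeff k) :
    lam M (Subgroup.centralizer ((R.map K.subtype : Subgroup G) : Set G))
      (compIrr (centIso R h) ξ) z' = lam M (Subgroup.centralizer (R : Set K)) ξ z := by
  rw [lam, lam, ro, ro]
  congr 1
  rw [show resH (Subgroup.centralizer ((R.map K.subtype : Subgroup G) : Set G)) z' =
    mkA (fun c => (fun d : Subgroup.centralizer (R : Set K) => z.coeff (d : K)) (centIso R h c)) from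
      MonoidAlgebra.ext (Finsupp.ext fun c => by
        rw [coeff_resH, coeff_mkA]; exact hz ((centIso R h c : Subgroup.centralizer (R : Set K)) : K))]
  exact omega_mkA_comp (centIso R h) (ξ : _ → ℂ) (fun d => z.coeff (d : K))

theorem IsNormalSubpair.lift {Q R : Subgroup K}
    {f : Set (IrrCharacter (Subgroup.centralizer (Q : Set K)))}
    {r : Set (IrrCharacter (Subgroup.centralizer (R : Set K)))}
    (h : IsNormalSubpair p M Q f R r)
    (hQ : Subgroup.centralizer ((Q.map K.subtype : Subgroup G) : Set G) ≤ K)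
    (hR : Subgroup.centralizer ((R.map K.subtype : Subgroup G) : Set G) ≤ K) :
    IsNormalSubpair p M (Q.map K.subtype) (liftBlk Q hQ f) (R.map K.subtype) (liftBlk R hR r) := by
  obtain ⟨ξ, hξ⟩ := isPBlock_nonempty h.2.1.2
  have hN : R.map K.subtype ≤ Subgroup.normalizer ((Q.map K.subtype : Subgroup G) : Set G) :=
    (Subgroup.map_mono h.2.2.2.1).trans (Subgroup.le_normalizer_map K.subtype)
  refine isNormalSubpair_of_lam ⟨h.1.1.map _, isPBlock_liftBlk Q hQ h.1.2⟩
    ⟨h.2.1.1.map _, isPBlock_liftBlk R hR h.2.1.2⟩ (Subgroup.map_mono h.2.2.1) hN ?_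
    (⟨ξ, hξ, rfl⟩ : compIrr (centIso R hR) ξ ∈ liftBlk R hR r) ?_
  · intro y hy
    have hy' := le_normalizer_centralizer hN hy
    obtain ⟨q, hq, rfl⟩ := hy
    obtain ⟨hqN, he⟩ := IsNormalSubpair.fixed h q hq
    refine ⟨hy', ?_⟩
    conv_rhs => rw [← he]
    rw [liftBlk, liftBlk, conjBlk, conjBlk, Set.image_image, Set.image_image]
    refine Set.image_congr fun θ _ => Subtype.ext (funext fun c => ?_)
    simp only [compIrr_apply, conjIrr_apply]
    exact congrArg (θ : Subgroup.centralizer (Q : Set K) → ℂ) (Subtype.ext (Subtype.ext rfl))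
  · rw [lam_liftBlk R hR ξ (z := embH (Subgroup.centralizer (Q : Set K)) (blockIdem f)) fun k => ?_]
    · exact IsNormalSubpair.lam_eq_one h hξ
    · rw [coeff_embH_liftBlk, coeff_embH]

theorem subpairLE_lift {a b : BrauerPairIdx K}
    (h : Relation.ReflTransGen (NormalSubpairRel p M) a b)
    (hb : Subgroup.centralizer ((b.1.map K.subtype : Subgroup G) : Set G) ≤ K) :
    ∀ ha : Subgroup.centralizer ((a.1.map K.subtype : Subgroup G) : Set G) ≤ K,
      Relation.ReflTransGen (NormalSubpairRel p M)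
        (⟨a.1.map K.subtype, liftBlk a.1 ha a.2⟩ : BrauerPairIdx G)
        ⟨b.1.map K.subtype, liftBlk b.1 hb b.2⟩ := by
  induction h using Relation.ReflTransGen.head_induction_on with
  | refl => exact fun _ => Relation.ReflTransGen.refl
  | @head a c hac _ ih =>
    intro ha
    have hc : Subgroup.centralizer ((c.1.map K.subtype : Subgroup G) : Set G) ≤ K :=
      (centralizer_le_of_le (Subgroup.map_mono hac.2.2.1)).trans ha
    exact Relation.ReflTransGen.head
      (show NormalSubpairRel p M ⟨a.1.map K.subtype, liftBlk a.1 ha a.2⟩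
        ⟨c.1.map K.subtype, liftBlk c.1 hc c.2⟩ from IsNormalSubpair.lift hac ha hc) (ih hc)

theorem liftBlk_conjBlock (R : Subgroup K) (k : K)
    (hR : Subgroup.centralizer ((R.map K.subtype : Subgroup G) : Set G) ≤ K)
    (hR' : Subgroup.centralizer (((R.map (MulAut.conj k).toMonoidHom).map K.subtype : Subgroup G) : Set G) ≤ K)
    (r : Set (IrrCharacter (Subgroup.centralizer (R : Set K)))) :
    (⟨(R.map (MulAut.conj k).toMonoidHom).map K.subtype,
        liftBlk _ hR' (conjBlock R k r)⟩ : BrauerPairIdx G) =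
      ⟨(R.map K.subtype).map (MulAut.conj (k : G)).toMonoidHom,
        conjBlock _ (k : G) (liftBlk R hR r)⟩ := by
  have heq : (R.map (MulAut.conj k).toMonoidHom).map K.subtype =
      (R.map K.subtype).map (MulAut.conj (k : G)).toMonoidHom := by
    rw [Subgroup.map_map, Subgroup.map_map]; rfl
  refine pairIdx_ext heq fun ξ ξ' hξ => ?_
  rw [mem_conjBlock_iff]
  show ξ ∈ compIrr (centIso (R.map (MulAut.conj k).toMonoidHom) hR') '' (conjBlock R k r) ↔
    _ ∈ compIrr (centIso R hR) '' r
  rw [conjBlock_eq, Set.image_image]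
  refine exists_congr fun θ => and_congr_right fun _ => ?_
  constructor
  · rintro rfl
    refine Subtype.ext (funext fun c => ?_)
    have hc := ((centConj (R.map K.subtype) (k : G)).symm c).2
    refine Eq.trans ?_ (hξ ((k : G) * (c : G) * (k : G)⁻¹) (by rw [heq]; exact hc) hc)
    exact congrArg (θ : Subgroup.centralizer (R : Set K) → ℂ) (Subtype.ext (Subtype.ext
      (show (c : G) = (k : G)⁻¹ * ((k : G) * (c : G) * (k : G)⁻¹) * (k : G) by group)))
  · intro h
    refine Subtype.ext (funext fun c => ?_)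
    have hc2 : (c : G) ∈ Subgroup.centralizer
        (((R.map K.subtype).map (MulAut.conj (k : G)).toMonoidHom : Subgroup G) : Set G) :=
      (congrArg (fun S : Subgroup G => Subgroup.centralizer (S : Set G)) heq) ▸ c.2
    refine Eq.trans ?_ (hξ (c : G) c.2 hc2).symm
    let d := centConj (R.map K.subtype) (k : G) ⟨(c : G), hc2⟩
    refine Eq.trans (congrArg (θ : Subgroup.centralizer (R : Set K) → ℂ)
      (Subtype.ext (Subtype.ext rfl)) : _ = (compIrr (centIso R hR) θ : _ → ℂ) d) ?_
    show (compIrr (centIso R hR) θ : _ → ℂ) d = _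
    rw [h, compIrr_apply]
    exact congrArg _ ((centConj (R.map K.subtype) (k : G)).symm_apply_apply _)

theorem IsNormalSubpair.restr_pairOf {Q R : Subgroup G}
    {f : Set (IrrCharacter (Subgroup.centralizer (Q : Set G)))}
    {r : Set (IrrCharacter (Subgroup.centralizer (R : Set G)))} (h : IsNormalSubpair p M Q f R r)
    (hRK : R ≤ K) (hC : Subgroup.centralizer (Q : Set G) ≤ K) {F : Set (IrrCharacter K)}
    (hF : IsPBlock M F)
    (hco : ∀ k : K, blockCoeff F k = subgroupBlockCoeff (Subgroup.centralizer (Q : Set G)) f (k : G)) :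
    IsBrauerPairOf p M F (R.subgroupOf K)
      (restrBlk R hRK ((centralizer_le_of_le h.2.2.1).trans hC) r) := by
  set hRC := (centralizer_le_of_le h.2.2.1).trans hC
  obtain ⟨ξ, hξ⟩ := isPBlock_nonempty h.2.1.2
  have h' : Subgroup.centralizer (((R.subgroupOf K).map K.subtype : Subgroup G) : Set G) ≤ K := by
    rwa [Subgroup.map_subgroupOf_eq_of_le hRK]
  have hblk : IsPBlock M (restrBlk R hRK hRC r) := isPBlock_comp _ h.2.1.2
  obtain ⟨θ, hθ⟩ := isPBlock_nonempty hblk
  rw [isBrauerPairOf_iff hθ]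
  refine ⟨⟨h.2.1.1.comap_subtype, hblk⟩, hF, ?_⟩
  rw [← lam_liftBlk (R.subgroupOf K) h' θ (z := blockIdem F)
    (z' := embH (Subgroup.centralizer (Q : Set G)) (blockIdem f))
    fun k => by rw [← coe_subgroupBlockCoeff, ← hco, coeff_blockIdem]]
  have hidx := liftBlk_restrBlk R hRK hRC h' r
  have h2 : IsNormalSubpair p M Q f ((R.subgroupOf K).map K.subtype)
      (liftBlk _ h' (restrBlk R hRK hRC r)) := by
    have h3 : NormalSubpairRel p M ⟨Q, f⟩ ⟨R, r⟩ := h
    rw [← hidx] at h3
    exact h3
  exact IsNormalSubpair.lam_eq_one h2 ⟨θ, hθ, rfl⟩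

end Cfsg.Agent.Block
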