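import Cfsg.Agent.Lib.Block.CyclicInertial
import Cfsg.Agent.Lib.Block.LocalNilpotent
import Cfsg.Agent.Lib.Block.AbelianPair
import Cfsg.Agent.Lib.Block.SubgroupPair

/-!
# Nilpotent local blocks for an abelian defect group
-/

set_option autoImplicit false
set_option linter.style.haveILetI false

open Cfsg Cfsg.Agent.Char
open scoped ComplexConjugate Pointwise

namespace Cfsg.Agent.Block

universe u

local notation "CG(" P ")" => Subgroup.centralizer (SetLike.coe P)

variable {G : Type u} [Group G] [Finite G] {M : Ideal AlgInt} [hMp : M.IsPrime] {p : ℕ}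
  [Fact p.Prime] {B : Set (IrrCharacter G)} {Q : Subgroup G}
  {f : Set (IrrCharacter (Subgroup.centralizer (Q : Set G)))}

/-- A pair of a local block gives a pair of the block, with its stabilisers. -/
theorem exists_lift_pair (hM : IsPModular p M) (hQf : IsBrauerPairOf p M B Q f)
    {R : Subgroup CG(Q)} {r : Set (IrrCharacter (Subgroup.centralizer (R : Set CG(Q))))}
    (hR : IsBrauerPairOf p M f R r) {c : CG(Q)} (hcN : c ∈ Subgroup.normalizer (R : Set CG(Q)))
    (hcst : StabilizesBlock (Subgroup.centralizer (R : Set CG(Q))) r c) :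
    ∃ (R' : Subgroup G) (r' : Set (IrrCharacter (Subgroup.centralizer (R' : Set G)))),
      R' = Q ⊔ R.map CG(Q).subtype ∧ IsBrauerPairOf p M B R' r' ∧
      (c : G) ∈ Subgroup.normalizer (R' : Set G) ∧
      StabilizesBlock (Subgroup.centralizer (R' : Set G)) r' (c : G) := by
  set R' : Subgroup G := Q ⊔ R.map CG(Q).subtype with hR'
  set r' := compIrr (centSupIso R) '' r with hr'
  obtain ⟨ξ, hξ⟩ := isPBlock_nonempty hR.1.2
  have hlam := ((isBrauerPairOf_iff hξ).1 hR).2.2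
  have hle : R.map CG(Q).subtype ≤ CG(Q) := Subgroup.map_subtype_le R
  have hR'N : R' ≤ Subgroup.normalizer (Q : Set G) :=
    sup_le Subgroup.le_normalizer (hle.trans (centralizer_le_normalizer' Q))
  have hR'p : IsPGroup p R' :=
    hQf.1.1.to_sup_of_normal_left' (hR.1.1.map _) (hle.trans (centralizer_le_normalizer' Q))
  have hsub : IsNormalSubpair p M Q f R' r' := by
    refine isNormalSubpair_of_lam hQf.1 ⟨hR'p, isPBlock_comp _ hR.1.2⟩ le_sup_left hR'N
      (fun q hq => conjBlk_of_mem_sup (sup_le_sup_left hle Q hq))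
      (⟨ξ, hξ, rfl⟩ : compIrr (centSupIso R) ξ ∈ r') ?_
    rw [← hlam, lam, lam, ro, ro]
    congr 1
    rw [show resH (Subgroup.centralizer (R' : Set G)) (embH CG(Q) (blockIdem f)) =
      mkA (fun d => (fun k : Subgroup.centralizer (R : Set CG(Q)) => (blockIdem f).coeff (k : CG(Q)))
        (centSupIso R d)) from MonoidAlgebra.ext (Finsupp.ext fun d => by
          rw [coeff_resH, coeff_mkA]
          exact coeff_embH CG(Q) (blockIdem f) ((centSupIso R d : Subgroup.centralizer (R : Set CG(Q))) : CG(Q)))]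
    exact omega_mkA_comp (centSupIso R) (ξ : _ → ℂ) (fun k => (blockIdem f).coeff (k : CG(Q)))
  have hpair : IsBrauerPairOf p M B R' r' := (IsNormalSubpair.pairOf_iff hM hsub B).2 hQf
  have hcN' : (c : G) ∈ Subgroup.normalizer (R' : Set G) := by
    have h : ∀ d : CG(Q), d ∈ Subgroup.normalizer (R : Set CG(Q)) →
        R'.map (MulAut.conj (d : G)).toMonoidHom ≤ R' := by
      intro d hd
      rw [hR', Subgroup.map_sup]
      refine sup_le_sup ?_ ?_
      · rintro _ ⟨q, hq, rfl⟩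
        exact (Subgroup.mem_normalizer_iff.1 (centralizer_le_normalizer' Q d.2) q).1 hq
      · rintro _ ⟨_, ⟨q, hq, rfl⟩, rfl⟩
        exact ⟨d * q * d⁻¹, (Subgroup.mem_normalizer_iff.1 hd q).1 hq, rfl⟩
    rw [Subgroup.mem_normalizer_iff]
    refine fun y => ⟨fun hy => h c hcN ⟨y, hy, rfl⟩, fun hy => ?_⟩
    have := h c⁻¹ (inv_mem hcN) ⟨_, hy, rfl⟩
    simpa [mul_assoc] using this
  obtain ⟨hn, hfix⟩ := (stabilizesBlock_iff hR.1.2).1 hcst
  have hn' := le_normalizer_centralizer (le_refl (Subgroup.normalizer (R' : Set G))) hcN'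
  have hst' : StabilizesBlock (Subgroup.centralizer (R' : Set G)) r' (c : G) := by
    refine (stabilizesBlock_iff hpair.1.2).2 ⟨hn', ?_⟩
    conv_rhs => rw [hr', ← hfix]
    rw [hr', conjBlk, conjBlk, Set.image_image, Set.image_image]
    refine Set.image_congr fun θ _ => Subtype.ext (funext fun d => ?_)
    simp only [compIrr_apply, conjIrr_apply]
    exact congrArg (θ : Subgroup.centralizer (R : Set CG(Q)) → ℂ) (Subtype.ext (Subtype.ext rfl))
  exact ⟨R', r', hR', hpair, hcN', hst'⟩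

/-- Class sums inside the centraliser. -/
theorem inducedBlockIn_of_normalSubpair (hM : IsPModular p M) {P : Subgroup G}
    {c : Set (IrrCharacter (Subgroup.centralizer (P : Set G)))} (h : IsNormalSubpair p M Q f P c)
    (hPC : P ≤ CG(Q)) : IsInducedBlockIn M CG(Q) CG(P) c f := by
  classical
  refine ⟨h.2.1.2, h.1.2, fun ξ hξ η hη y => ?_⟩
  haveI := Fintype.ofFinite (Subgroup.centralizer (P : Set G))
  have hCD : CG(P) ≤ CG(Q) := centralizer_le_of_le h.2.2.1
  have hQ : PS M CG(Q) (embH CG(Q) (classSum y)) := ps_embH (CL.classSum y) le_rfl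
  have hP : PS M P (embH CG(Q) (classSum y)) := ps_embH (CL.classSum y) hPC
  have hl := IsNormalSubpair.lam_eq hM h hξ hη hP hQ
  rw [lam, lam, resH_embH, ro, ro] at hl
  have hl' := (resC_eq_iff (omega_mem_locRing ξ (cl_resH (hQ.mono hCD)).1 (cl_resH (hQ.mono hCD)).2)
    (omega_mem_locRing η (CL.classSum (M := M) y).1 (CL.classSum (M := M) y).2)).1 hl
  rw [omega_classSum] at hl'
  convert hl' using 2
  rw [inducedCentralCharIn, finsum_mem_eq_finite_toFinset_sum _ (Set.toFinite _), omega_eq_sum,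
    Finset.sum_div, Set.Finite.toFinset_setOf, Finset.sum_filter]
  refine Finset.sum_congr rfl fun k _ => ?_
  rw [coeff_resH, show ((k : G)) = ((⟨(k : G), hCD k.2⟩ : CG(Q)) : G) from rfl, coeff_embH, classSum,
    coeff_mkA]
  have hiff : IsConj y (⟨(k : G), hCD k.2⟩ : CG(Q)) ↔
      ∃ x : CG(Q), (x : G) * (k : G) * (x : G)⁻¹ = (y : G) := by
    constructor
    · intro hc
      obtain ⟨x, hx⟩ := isConj_iff.1 hc.symm
      exact ⟨x, congrArg Subtype.val hx⟩
    · rintro ⟨x, hx⟩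
      exact (isConj_iff.2 ⟨x, Subtype.ext hx⟩).symm
  by_cases hk : ∃ x : CG(Q), (x : G) * (k : G) * (x : G)⁻¹ = (y : G)
  · rw [if_pos hk, if_pos (hiff.2 hk), one_mul]
  · rw [if_neg hk, if_neg fun h' => hk (hiff.1 h'), zero_mul, zero_div]

theorem inducedBlockIn_unique {H K : Subgroup G} {e : Set (IrrCharacter K)}
    {f₁ f₂ : Set (IrrCharacter H)} (h₁ : IsInducedBlockIn M H K e f₁) (h₂ : IsInducedBlockIn M H K e f₂) :
    f₁ = f₂ := by
  obtain ⟨ξ, hξ⟩ := isPBlock_nonempty h₁.1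
  obtain ⟨χ, hχ⟩ := isPBlock_nonempty h₁.2.1
  obtain ⟨φ, hφ⟩ := isPBlock_nonempty h₂.2.1
  refine isPBlock_eq_of_mem h₁.2.1 h₂.2.1 hχ ((isPBlock_mem_iff h₂.2.1 hφ).2 fun y => ?_)
  simpa using memLocalIdeal_sub (h₁.2.2 ξ hξ χ hχ y) (h₂.2.2 ξ hξ φ hφ y)

theorem stabilizesBlock_restrBlk {K R : Subgroup G} (hRK : R ≤ K) (hC : CG(R) ≤ K)
    {r : Set (IrrCharacter (Subgroup.centralizer (R : Set G)))} (hr : IsPBlock M r) {x : K}
    (hst : StabilizesBlock CG(R) r (x : G)) (hxN : (x : G) ∈ Subgroup.normalizer (R : Set G)) :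
    x ∈ Subgroup.normalizer ((R.subgroupOf K : Subgroup K) : Set K) ∧
      StabilizesBlock (Subgroup.centralizer ((R.subgroupOf K : Subgroup K) : Set K))
        (restrBlk R hRK hC r) x := by
  have hN : x ∈ Subgroup.normalizer ((R.subgroupOf K : Subgroup K) : Set K) := by
    rw [Subgroup.mem_normalizer_iff]
    intro y
    simp only [Subgroup.mem_subgroupOf, Subgroup.coe_mul, Subgroup.coe_inv]
    exact Subgroup.mem_normalizer_iff.1 hxN y
  refine ⟨hN, (stabilizesBlock_iff (isPBlock_comp _ hr)).2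
    ⟨le_normalizer_centralizer (le_refl _) hN, ?_⟩⟩
  obtain ⟨hn, hfix⟩ := (stabilizesBlock_iff hr).1 hst
  conv_rhs => rw [← hfix]
  rw [conjBlk, conjBlk, Set.image_image, Set.image_image]
  refine Set.image_congr fun θ _ => Subtype.ext (funext fun d => ?_)
  simp only [compIrr_apply, conjIrr_apply]
  exact congrArg (θ : Subgroup.centralizer (R : Set G) → ℂ) (Subtype.ext rfl)

/-- The inertial quotient acts freely exactly when the proper local blocks are nilpotent. -/
theorem free_iff_local_nilpotent (hM : IsPModular p M) {P T : Subgroup G}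
    {c : Set (IrrCharacter (Subgroup.centralizer (P : Set G)))} (hmax : IsMaximalBrauerPair p M B P c)
    (hab : ∀ x ∈ P, ∀ y ∈ P, x * y = y * x) (hT : IsStab P T c) :
    (∀ g ∈ T, ∀ x ∈ P, x ≠ 1 → g * x * g⁻¹ = x → g ∈ CG(P)) ↔
      ∀ Q : Subgroup G, Q ≤ P → Q ≠ ⊥ → ∀ f : Set (IrrCharacter (Subgroup.centralizer (Q : Set G))),
        IsInducedBlockIn M CG(Q) CG(P) c f → IsNilpotentBlock p M f := by
  have hp : p.Prime := Fact.out
  have hPC : ∀ Q : Subgroup G, Q ≤ P → P ≤ CG(Q) := fun Q hQ a ha =>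
    Subgroup.mem_centralizer_iff.2 fun b hb => hab b (hQ hb) a ha
  have hsub : ∀ Q : Subgroup G, Q ≤ P → ∀ f : Set (IrrCharacter (Subgroup.centralizer (Q : Set G))),
      IsInducedBlockIn M CG(Q) CG(P) c f → IsNormalSubpair p M Q f P c := by
    intro Q hQ f hf
    obtain ⟨f₀, hf₀, -⟩ := existsUnique_normalSubpair hM hmax.1.1 hQ
      ((hPC Q hQ).trans (centralizer_le_normalizer' Q))
    rwa [inducedBlockIn_unique hf (inducedBlockIn_of_normalSubpair hM hf₀ (hPC Q hQ))]
  constructor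
  · intro hfree Q hQ hQ1 f hf
    have hns := hsub Q hQ f hf
    have hQf : IsBrauerPairOf p M B Q f := (IsNormalSubpair.pairOf_iff hM hns B).1 hmax.1
    refine ⟨hf.2.1, fun R r hR d hdN hdst _ => ?_⟩
    obtain ⟨R', r', hR', hpair, hdN', hst'⟩ := exists_lift_pair hM hQf hR hdN hdst
    obtain ⟨y, hy⟩ := exists_conj_le_maximal hM hmax hpair
    obtain ⟨TR, hTR⟩ := stab_exists (Q := R') hpair.1.2
    have hTR' := hTR.map hpair.1.2 y
    have hx : y * d * y⁻¹ ∈ TR.map (MulAut.conj y).toMonoidHom := ⟨d, (hTR _).2 ⟨hdN', hst'⟩, rfl⟩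
    obtain ⟨t, htT, -, htC⟩ := exists_factor_abelian hM hmax hab hy hTR' hT hx
    obtain ⟨q, hq, hq1⟩ : ∃ q ∈ Q, q ≠ 1 := by
      by_contra hcon
      push Not at hcon
      exact hQ1 ((Subgroup.eq_bot_iff_forall _).2 hcon)
    have hqR : y * q * y⁻¹ ∈ R'.map (MulAut.conj y).toMonoidHom :=
      ⟨q, hR' ▸ Subgroup.mem_sup_left hq, rfl⟩
    have htq : t * (y * q * y⁻¹) * t⁻¹ = y * q * y⁻¹ := by
      have h1 := Subgroup.mem_centralizer_iff.1 htC _ hqR
      have h2 : (d : G) * q * (d : G)⁻¹ = q := by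
        rw [← Subgroup.mem_centralizer_iff.1 d.2 q hq, mul_inv_cancel_right]
      calc t * (y * q * y⁻¹) * t⁻¹
          = t * ((y * q * y⁻¹) * (t⁻¹ * (y * d * y⁻¹))) * (y * d * y⁻¹)⁻¹ := by group
        _ = (y * d * y⁻¹) * (y * q * y⁻¹) * (y * d * y⁻¹)⁻¹ := by rw [h1]; group
        _ = y * ((d : G) * q * (d : G)⁻¹) * y⁻¹ := by group
        _ = y * q * y⁻¹ := by rw [h2]
    have htP : t ∈ CG(P) := hfree t htT _ (SubpairLE.le hy hqR)
      (fun h => hq1 (conj_eq_one_iff.1 h)) htq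
    have hxC : y * d * y⁻¹ ∈ Subgroup.centralizer
        ((R'.map (MulAut.conj y).toMonoidHom : Subgroup G) : Set G) := by
      have := mul_mem (centralizer_le_of_le (SubpairLE.le hy) htP) htC
      rwa [mul_inv_cancel_left] at this
    rw [Subgroup.mem_centralizer_iff]
    intro a ha
    have h1 := Subgroup.mem_centralizer_iff.1 hxC (y * (a : G) * y⁻¹)
      ⟨a, hR' ▸ Subgroup.mem_sup_right ⟨a, ha, rfl⟩, rfl⟩
    refine Subtype.ext (show (a : G) * d = d * a from ?_)
    calc (a : G) * d = y⁻¹ * ((y * (a : G) * y⁻¹) * (y * d * y⁻¹)) * y := by group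
      _ = y⁻¹ * ((y * d * y⁻¹) * (y * (a : G) * y⁻¹)) * y := by rw [h1]
      _ = d * a := by group
  · intro hnil g hg x hx hx1 hfix
    set Q := Subgroup.zpowers x with hQdef
    have hQ : Q ≤ P := Subgroup.zpowers_le.2 hx
    obtain ⟨f₀, hns, -⟩ := existsUnique_normalSubpair hM hmax.1.1 hQ
      ((hPC Q hQ).trans (centralizer_le_normalizer' Q))
    have hf₀ := hnil Q hQ (by rw [hQdef, Ne, Subgroup.zpowers_eq_bot]; exact hx1) f₀
      (inducedBlockIn_of_normalSubpair hM hns (hPC Q hQ))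
    have hpair := IsNormalSubpair.restr_pairOf (K := CG(Q)) hns (hPC Q hQ) le_rfl hns.1.2
      fun k => by rw [coe_subgroupBlockCoeff, coeff_embH]; rfl
    have hgQ : g ∈ CG(Q) := by
      rw [hQdef, Subgroup.mem_centralizer_iff]
      intro v hv
      obtain ⟨i, rfl⟩ := Subgroup.mem_zpowers_iff.1 hv
      exact (Commute.zpow_left (show Commute x g from (mul_inv_eq_iff_eq_mul.1 hfix).symm) i).eq
    set π := stabAct P T hT.le_normalizer
    have hnd := not_dvd_card_range_of_abelian hM hmax hab hT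
    obtain ⟨a, ha⟩ : ∃ a, a = (orderOf g).factorization p := ⟨_, rfl⟩
    have hreg : ¬ p ∣ orderOf (g ^ p ^ a) := by
      rw [ha, orderOf_pow_of_dvd (pow_ne_zero _ hp.ne_zero) (Nat.ordProj_dvd _ _)]
      exact Nat.not_dvd_ordCompl hp (orderOf_pos g).ne'
    have hgT : g ^ p ^ a ∈ T := pow_mem hg _
    obtain ⟨hN', hst'⟩ := stabilizesBlock_restrBlk (hPC Q hQ)
      (centralizer_le_of_le hQ) hmax.1.1.2
      (x := (⟨g ^ p ^ a, pow_mem hgQ _⟩ : CG(Q))) ((hT _).1 hgT).2 ((hT _).1 hgT).1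
    have hcen := hf₀.2 _ _ hpair _ hN' hst' (by rw [IsPRegular, Subgroup.orderOf_mk]; exact hreg)
    have hw : g ^ p ^ a ∈ CG(P) := Subgroup.mem_centralizer_iff.2 fun v hv =>
      congrArg Subtype.val (Subgroup.mem_centralizer_iff.1 hcen (⟨v, hPC Q hQ hv⟩ : CG(Q)) hv)
    have h1 : π (⟨g, hg⟩ : T) ^ p ^ a = 1 := by
      rw [← map_pow]; exact (stabAct_eq_one_iff _).2 hw
    have h2 : orderOf (π (⟨g, hg⟩ : T)) ∣ Nat.card π.range := by
      rw [← Subgroup.orderOf_mk _ (show π (⟨g, hg⟩ : T) ∈ π.range from ⟨_, rfl⟩)]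
      exact orderOf_dvd_natCard _
    exact (stabAct_eq_one_iff _).1 (orderOf_eq_one_iff.1 (Nat.eq_one_of_dvd_coprimes
      ((hp.coprime_iff_not_dvd.2 hnd).pow_left a) (orderOf_dvd_of_pow_eq_one h1) h2))

end Cfsg.Agent.Block
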