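import Cfsg.Prelude.Def_Blocks
import Mathlib.GroupTheory.PGroup
import Mathlib.Algebra.CharP.Basic
import Mathlib.Algebra.CharP.CharAndCard
import Mathlib.Algebra.MonoidAlgebra.Module
import Mathlib.Data.ZMod.Basic
import Mathlib.LinearAlgebra.FiniteDimensional.Defs
import Mathlib.RingTheory.Nilpotent.Defs

/-!
# Class sums avoiding the centraliser of a normal `p`-subgroup are nilpotent
-/

set_option autoImplicit false

namespace Cfsg.Agent.Block

universe u

variable {G : Type u} [Group G] {k : Type*} [Field k] {p : ℕ}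

/-- The socle series of the left regular module restricted to `Q`. -/
noncomputable def qFiltr (Q : Subgroup G) : ℕ → Submodule k (MonoidAlgebra k G)
  | 0 => ⊥
  | i + 1 => ⨅ q : Q, (qFiltr Q i).comap
      (LinearMap.mulLeft k (MonoidAlgebra.single (q : G) (1 : k) - 1))

theorem mem_qFiltr_succ {Q : Subgroup G} {i : ℕ} {v : MonoidAlgebra k G} :
    v ∈ qFiltr Q (i + 1) ↔
      ∀ q : Q, MonoidAlgebra.single (q : G) (1 : k) * v - v ∈ qFiltr Q i := by
  simp [qFiltr, sub_mul]

theorem single_mul_mem_qFiltr {Q : Subgroup G} [hQ : Q.Normal] (i : ℕ) :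
    ∀ (x : G) {v : MonoidAlgebra k G}, v ∈ qFiltr Q i →
      MonoidAlgebra.single x (1 : k) * v ∈ qFiltr Q i := by
  induction i with
  | zero => intro x v hv; simp_all [qFiltr]
  | succ i ih =>
    intro x v hv
    rw [mem_qFiltr_succ] at hv ⊢
    intro q
    have hmem : x⁻¹ * (q : G) * x ∈ Q := by
      have := hQ.conj_mem q q.2 x⁻¹
      simpa using this
    have := ih x (hv ⟨_, hmem⟩)
    simpa [mul_sub, ← mul_assoc] using this

/-- A `p`-group acting linearly in characteristic `p` fixes a non-zero vector. -/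
theorem exists_fixed_vector [CharP k p] [Fact p.Prime] {Q : Type*} [Group Q] [Finite Q]
    (hQ : IsPGroup p Q) {V : Type*} [AddCommGroup V] [Module k V] (ρ : Q →* Module.End k V)
    {w : V} (hw : w ≠ 0) : ∃ v : V, v ≠ 0 ∧ ∀ q, ρ q v = v := by
  classical
  haveI := Fintype.ofFinite Q
  let f : (Q → ZMod p) →+ V :=
    { toFun := fun c => ∑ q, (ZMod.castHom (dvd_refl p) k (c q)) • ρ q w
      map_zero' := by simp
      map_add' := fun c d => by simp [add_smul, Finset.sum_add_distrib] }
  let W : AddSubgroup V := f.range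
  have hWw : w ∈ W := ⟨Pi.single 1 1, by
    show ∑ q, _ • ρ q w = w
    rw [Finset.sum_eq_single (1 : Q)]
    · simp
    · intro q _ hq; simp [hq]
    · simp⟩
  have hmem : ∀ (q : Q) (v : W), ρ q v ∈ W := fun q ⟨v, c, hc⟩ => ⟨fun r => c (q⁻¹ * r), by
    subst hc
    show ∑ r, _ • ρ r w = ρ q (∑ r, _ • ρ r w)
    rw [map_sum]
    refine (Fintype.sum_equiv (Equiv.mulLeft q) _ _ fun r => ?_).symm
    simp [← Module.End.mul_apply, ← map_mul]⟩
  letI : MulAction Q W :=
    { smul := fun q v => ⟨ρ q v, hmem q v⟩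
      one_smul := fun v => Subtype.ext (show ρ 1 (v : V) = v by simp)
      mul_smul := fun q r v => Subtype.ext (show ρ (q * r) (v : V) = ρ q (ρ r v) by simp) }
  haveI : Finite W := Finite.of_surjective f.rangeRestrict f.rangeRestrict_surjective
  have hdvd : p ∣ Nat.card W := by
    have h1 : Nat.card W ∣ p ^ Fintype.card Q := by
      have := AddSubgroup.card_range_dvd f
      rwa [Nat.card_fun, Nat.card_zmod, Nat.card_eq_fintype_card (α := Q)] at this
    obtain ⟨j, _, hj⟩ := (Nat.dvd_prime_pow Fact.out).1 h1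
    rcases j with _ | j
    · have hsub : Subsingleton W := (Nat.card_eq_one_iff_unique.1 (by simpa using hj)).1
      exact absurd (congrArg Subtype.val (hsub.elim ⟨w, hWw⟩ 0)) hw
    · exact ⟨p ^ j, by rw [hj, pow_succ']⟩
  have h0 : (0 : W) ∈ MulAction.fixedPoints Q W := fun q => Subtype.ext (show ρ q (0 : V) = 0 by simp)
  obtain ⟨v, hv, hv0⟩ := hQ.exists_fixed_point_of_prime_dvd_card_of_fixed_point W hdvd h0
  exact ⟨v, fun h => hv0 (Subtype.ext h.symm), fun q => congrArg Subtype.val (hv q)⟩

variable [Finite G] [CharP k p] [Fact p.Prime]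

theorem exists_qFiltr_eq_top {Q : Subgroup G} [Q.Normal] (hQ : IsPGroup p Q) :
    ∃ n, qFiltr (k := k) Q n = ⊤ := by
  classical
  haveI : Module.Finite k (MonoidAlgebra k G) :=
    Module.Finite.equiv (MonoidAlgebra.coeffLinearEquiv k).symm
  have hmono : Monotone (qFiltr (k := k) Q) := monotone_nat_of_le_succ fun i v hv => by
    rw [mem_qFiltr_succ]
    exact fun q => sub_mem (single_mul_mem_qFiltr i _ hv) hv
  obtain ⟨n, hn⟩ := WellFoundedGT.monotone_chain_condition ⟨_, hmono⟩
  refine ⟨n, by_contra fun htop => ?_⟩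
  obtain ⟨v₀, -, hv₀⟩ := SetLike.exists_of_lt (lt_top_iff_ne_top.2 htop)
  set F := qFiltr (k := k) Q n
  let ρ : Q →* Module.End k (MonoidAlgebra k G ⧸ F) :=
    { toFun := fun q => F.mapQ F (LinearMap.mulLeft k (MonoidAlgebra.single (q : G) 1))
        fun v hv => single_mul_mem_qFiltr n _ hv
      map_one' := by
        refine Submodule.linearMap_qext _ (LinearMap.ext fun v => ?_)
        simp [← MonoidAlgebra.one_def]
      map_mul' := fun q r => by
        refine Submodule.linearMap_qext _ (LinearMap.ext fun v => ?_)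
        show Submodule.Quotient.mk (MonoidAlgebra.single ((q * r : Q) : G) (1 : k) * v) =
          Submodule.Quotient.mk (MonoidAlgebra.single (q : G) (1 : k) *
            (MonoidAlgebra.single (r : G) (1 : k) * v))
        simp [← mul_assoc] }
  obtain ⟨v, hv, hfix⟩ := exists_fixed_vector (k := k) hQ ρ
    (w := Submodule.Quotient.mk v₀) (by simpa [Submodule.Quotient.mk_eq_zero] using hv₀)
  obtain ⟨v, rfl⟩ := Submodule.Quotient.mk_surjective F v
  apply hv
  rw [Submodule.Quotient.mk_eq_zero]
  have h1 : v ∈ qFiltr Q (n + 1) := mem_qFiltr_succ.2 fun q => by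
    rw [← Submodule.Quotient.eq]
    exact hfix q
  have heq : F = qFiltr Q (n + 1) := hn (n + 1) (Nat.le_succ n)
  rw [heq]; exact h1

/-- An element supported on a `Q`-stable set without fixed points is nilpotent. -/
theorem isNilpotent_sum_of_no_fixed {Q : Subgroup G} [hQn : Q.Normal] (hQ : IsPGroup p Q)
    (X : Finset G) (hX : ∀ q ∈ Q, ∀ x ∈ X, q * x * q⁻¹ ∈ X)
    (hfix : ∀ x ∈ X, x ∉ Subgroup.centralizer (Q : Set G)) :
    IsNilpotent (∑ x ∈ X, MonoidAlgebra.single x (1 : k)) := by
  classical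
  obtain ⟨n, hn⟩ := exists_qFiltr_eq_top (k := k) hQ
  refine ⟨n, ?_⟩
  set K := ∑ x ∈ X, MonoidAlgebra.single x (1 : k) with hK
  suffices h : ∀ i v, v ∈ qFiltr Q i → K ^ i * v = 0 by
    have := h n 1 (hn ▸ Submodule.mem_top)
    simpa using this
  intro i
  induction i with
  | zero => intro v hv; simpa [qFiltr] using hv
  | succ i ih =>
    intro v hv
    rw [pow_succ, mul_assoc]
    apply ih
    -- `K * v` lies one step lower
    letI : MulAction Q X :=
      { smul := fun q x => ⟨(q : G) * x * (q : G)⁻¹, hX q q.2 x x.2⟩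
        one_smul := fun x => Subtype.ext (show ((1 : Q) : G) * (x : G) * ((1 : Q) : G)⁻¹ = (x : G) by simp)
        mul_smul := fun q r x => Subtype.ext (show ((q * r : Q) : G) * (x : G) * ((q * r : Q) : G)⁻¹ =
          (q : G) * ((r : G) * x * (r : G)⁻¹) * (q : G)⁻¹ by simp [mul_assoc]) }
    set F := qFiltr (k := k) Q i
    let φ : X → MonoidAlgebra k G ⧸ F := fun x =>
      Submodule.Quotient.mk (MonoidAlgebra.single (x : G) (1 : k) * v)
    have hφ : ∀ (q : Q) (x : X), φ (q • x) = φ x := fun q x => by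
      show Submodule.Quotient.mk (MonoidAlgebra.single ((q : G) * x * (q : G)⁻¹) (1 : k) * v) = _
      rw [Submodule.Quotient.eq]
      have e : MonoidAlgebra.single ((q : G) * x * (q : G)⁻¹) (1 : k) * v -
          MonoidAlgebra.single (x : G) 1 * v =
          MonoidAlgebra.single ((q : G) * x) 1 * (MonoidAlgebra.single (((q⁻¹ : Q)) : G) 1 * v - v) +
          (MonoidAlgebra.single (q : G) 1 * (MonoidAlgebra.single (x : G) 1 * v) -
            MonoidAlgebra.single (x : G) 1 * v) := by
        rw [mul_sub, ← mul_assoc, ← mul_assoc, MonoidAlgebra.single_mul_single, mul_one,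
          MonoidAlgebra.single_mul_single, mul_one, InvMemClass.coe_inv]
        abel
      rw [e]
      exact add_mem (single_mul_mem_qFiltr i _ (mem_qFiltr_succ.1 hv q⁻¹))
        (mem_qFiltr_succ.1 (single_mul_mem_qFiltr (i + 1) _ hv) q)
    have hsum : ∑ x : X, φ x = 0 := by
      haveI := Fintype.ofFinite (MulAction.orbitRel.Quotient Q X)
      rw [← (MulAction.selfEquivSigmaOrbits Q X).symm.sum_comp, Fintype.sum_sigma]
      refine Finset.sum_eq_zero fun ω _ => ?_
      have hconst : ∀ y : MulAction.orbit Q ω.out,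
          φ ((MulAction.selfEquivSigmaOrbits Q X).symm ⟨ω, y⟩) = φ ω.out := by
        rintro ⟨y, q, rfl⟩
        exact hφ q _
      rw [Finset.sum_congr rfl fun y _ => hconst y, Finset.sum_const, Finset.card_univ,
        ← Nat.card_eq_fintype_card, ← Nat.cast_smul_eq_nsmul k]
      obtain ⟨j, hj⟩ := hQ.card_orbit (ω.out : X)
      rcases j with _ | j
      · exfalso
        have hsub : Subsingleton (MulAction.orbit Q ω.out) :=
          (Nat.card_eq_one_iff_unique.1 (by simpa using hj)).1
        refine hfix _ ω.out.2 (Subgroup.mem_centralizer_iff.2 fun q hq => ?_)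
        have := congrArg (fun y : MulAction.orbit Q ω.out => ((y : X) : G))
          (hsub.elim ⟨_, MulAction.mem_orbit ω.out (⟨q, hq⟩ : Q)⟩ ⟨_, MulAction.mem_orbit_self ω.out⟩)
        exact mul_inv_eq_iff_eq_mul.1 this
      · rw [hj, pow_succ, Nat.cast_mul, CharP.cast_eq_zero k p, mul_zero, zero_smul]
    rw [← Submodule.Quotient.mk_eq_zero, hK, Finset.sum_mul]
    rw [← Submodule.mkQ_apply, map_sum, ← Finset.sum_coe_sort]
    exact hsum

end Cfsg.Agent.Block
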