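import Cfsg.Agent.Lib.Block.Defect
import Cfsg.Agent.Lib.Block.Nilpotent
import Cfsg.Agent.Lib.Block.Vanish

/-!
# Normal `p`-subgroups lie in every defect group
-/

set_option autoImplicit false

open Cfsg.Agent.Char

namespace Cfsg.Agent.Block

universe u

variable {G : Type u} [Group G] {M : Ideal AlgInt}

/-- An element congruent modulo `M` to a combination of classes avoiding the centraliser of a
normal `p`-subgroup and idempotent is congruent to zero. -/
theorem exists_coeff_unit_centralizer [Finite G] {p : ℕ} [Fact p.Prime] (hM : IsPModular p M)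
    [hMp : M.IsPrime] {B : Set (IrrCharacter G)} (hB : IsPBlock M B) (Q : Subgroup G) [hQn : Q.Normal]
    (hQ : IsPGroup p Q) :
    ∃ h : G, h ∈ Subgroup.centralizer (Q : Set G) ∧ ¬ MemLocalIdeal M (blockCoeff B h) := by
  classical
  haveI := Fintype.ofFinite G
  haveI := Fintype.ofFinite (ConjClasses G)
  haveI := locRing_charP hM.1 hM.2.2
  by_contra hcon
  push Not at hcon
  obtain ⟨g, hg⟩ := exists_isDefectClass hB
  set res := IsLocalRing.residue (locRing M)
  set φ := MonoidAlgebra.mapRingHom G res
  have hl := isLocElt_blockIdem hB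
  set e := φ (toLoc hl) with he
  have hcoe : ∀ x, (((toLoc hl).coeff x : locRing M) : ℂ) = blockCoeff B x := fun x => by
    rw [coe_toLoc, blockIdem, coeff_mkA]
  have hzero : ∀ x, e.coeff x = 0 ↔ MemLocalIdeal M (blockCoeff B x) := fun x => by
    rw [he, MonoidAlgebra.coeff_mapRingHom, IsLocalRing.residue_eq_zero_iff, mem_maximalIdeal_locRing,
      hcoe]
  have hcl : ∀ x y, IsConj x y → e.coeff x = e.coeff y := fun x y hxy => by
    rw [he, MonoidAlgebra.coeff_mapRingHom, MonoidAlgebra.coeff_mapRingHom]
    congr 1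
    apply Subtype.ext
    rw [hcoe, hcoe]
    have := IsClassFunction.apply_isConj (isCentralElt_blockIdem B) hxy
    simpa [blockIdem] using this
  have hidem : e * e = e := by
    rw [he, ← map_mul]
    congr 1
    refine MonoidAlgebra.ext (Finsupp.ext fun t => Subtype.ext ?_)
    have := congrArg (fun b => b.coeff t) (blockIdem_mul_self B)
    simp only [MonoidAlgebra.coeff_mul_apply_left] at this ⊢
    rw [Finsupp.sum_fintype _ _ (by simp)] at this ⊢
    simpa [coe_toLoc] using this
  -- write `e` as a combination of class sums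
  let X : ConjClasses G → Finset G := fun C => Finset.univ.filter fun x => ConjClasses.mk x = C
  let s : Finset (ConjClasses G) := Finset.univ.filter fun C => e.coeff (classRep C) ≠ 0
  have hdec : e = ∑ C ∈ s, e.coeff (classRep C) •
      ∑ x ∈ X C, MonoidAlgebra.single x (1 : IsLocalRing.ResidueField (locRing M)) := by
    refine MonoidAlgebra.ext (Finsupp.ext fun t => ?_)
    simp only [MonoidAlgebra.coeff_sum, Finsupp.finsetSum_apply, MonoidAlgebra.coeff_smul,
      Finsupp.smul_apply, MonoidAlgebra.coeff_single, Finsupp.single_apply, smul_eq_mul,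
      Finset.sum_ite_eq', X, Finset.mem_filter, Finset.mem_univ, true_and, mul_ite, mul_one, mul_zero,
      Finset.sum_ite_eq, s]
    have h1 := hcl t _ (isConj_classRep_mk t)
    split
    · exact h1
    next h => exact h1.trans (not_not.1 h)
  have hcomm : ∀ C C', Commute
      (e.coeff (classRep C) • ∑ x ∈ X C, MonoidAlgebra.single x (1 : IsLocalRing.ResidueField (locRing M)))
      (e.coeff (classRep C') • ∑ x ∈ X C', MonoidAlgebra.single x (1 : IsLocalRing.ResidueField (locRing M))) := by
    intro C C'
    refine (Commute.sum_right _ _ _ fun y _ => ?_).smul_right _ |>.smul_left _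
    show (∑ x ∈ X C, _) * _ = _
    rw [Finset.sum_mul, Finset.mul_sum]
    refine Finset.sum_equiv (MulAut.conj y⁻¹).toEquiv (fun x => ?_) fun x _ => ?_
    · simp only [X, Finset.mem_filter, Finset.mem_univ, true_and]
      rw [show ConjClasses.mk ((MulAut.conj y⁻¹).toEquiv x) = ConjClasses.mk x from
        (ConjClasses.mk_eq_mk_iff_isConj.2 (isConj_iff.2 ⟨y⁻¹, rfl⟩)).symm]
    · simp [mul_assoc]
  have hnil : IsNilpotent e := by
    rw [hdec]
    refine Commute.isNilpotent_sum (fun C hC => ?_) fun C C' _ _ => hcomm C C'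
    refine (isNilpotent_sum_of_no_fixed hQ (X C) (fun q _ x hx => ?_) fun x hx hxQ => ?_).smul _
    · simp only [X, Finset.mem_filter, Finset.mem_univ, true_and] at hx ⊢
      rw [← hx]
      exact (ConjClasses.mk_eq_mk_iff_isConj.2 (isConj_iff.2 ⟨q, rfl⟩)).symm
    · simp only [X, Finset.mem_filter, Finset.mem_univ, true_and] at hx
      refine (Finset.mem_filter.1 hC).2 ?_
      rw [hcl _ x (hx ▸ (isConj_classRep_mk x).symm)]
      exact (hzero x).2 (hcon x hxQ)
  obtain ⟨n, hn⟩ := hnil
  have he0 : e = 0 := by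
    rcases n with _ | n
    · rw [pow_zero] at hn
      rw [← mul_one e, hn, mul_zero]
    · have : IsIdempotentElem e := hidem
      rwa [this.pow_succ_eq] at hn
  exact hg.2.1 ((hzero g).1 (by rw [he0]; rfl))

theorem pCore_le_defectGroup [Finite G] {p : ℕ} [Fact p.Prime] (hM : IsPModular p M)
    {B : Set (IrrCharacter G)} (hB : IsPBlock M B) {D : Subgroup G} (hD : IsDefectGroup p M B D)
    (Q : Subgroup G) [hQn : Q.Normal] (hQ : IsPGroup p Q) : Q ≤ D := by
  haveI := prime_of_isPModular hM
  obtain ⟨h, hh, hu⟩ := exists_coeff_unit_centralizer hM hB Q hQ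
  obtain ⟨x, hx⟩ := defectLE_of_coeff_unit hM hB hD hu Q hQ (mem_centralizer_subgroup.1 hh)
  intro q hq
  refine hx ⟨x⁻¹ * q * x, ?_, ?_⟩
  · simpa using hQn.conj_mem q hq x⁻¹
  · simp [mul_assoc]

end Cfsg.Agent.Block
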