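import Cfsg.Agent.Lib.Block.Induced
import Cfsg.Agent.Lib.Block.DefectCore
import Cfsg.Prelude.Def_BlockLocal

/-!
# The Brauer map and induced blocks from local subgroups
-/

set_option autoImplicit false

open Cfsg.Agent.Char
open scoped ComplexConjugate

namespace Cfsg.Agent.Block

universe u

variable {G : Type u} [Group G] [Finite G] {M : Ideal AlgInt} {p : ℕ}

/-- Convolution on the centraliser of a `p`-group, modulo `M`. -/
theorem brauer_mul_congr [Fintype G] [hMp : M.IsPrime] (hp : p.Prime) (hpM : (p : AlgInt) ∈ M)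
    (P : Subgroup G) (hP : IsPGroup p P) {a b : MonoidAlgebra ℂ G}
    (hal : IsLocElt M a) (hbl : IsLocElt M b)
    (ha : ∀ q ∈ P, ∀ x, a.coeff (q * x * q⁻¹) = a.coeff x)
    (hb : ∀ q ∈ P, ∀ x, b.coeff (q * x * q⁻¹) = b.coeff x) {g : G}
    (hg : g ∈ Subgroup.centralizer (P : Set G)) [DecidablePred (· ∈ Subgroup.centralizer (P : Set G))] :
    MemLocalIdeal M ((a * b).coeff g - ∑ h : G,
      if h ∈ Subgroup.centralizer (P : Set G) then a.coeff h * b.coeff (h⁻¹ * g) else 0) := by
  classical
  haveI := Fact.mk hp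
  letI : MulAction P G :=
    { smul := fun q x => (q : G) * x * (q : G)⁻¹
      one_smul := fun x => show ((1 : P) : G) * x * ((1 : P) : G)⁻¹ = x by simp
      mul_smul := fun q r x => show ((q * r : P) : G) * x * ((q * r : P) : G)⁻¹ =
        (q : G) * ((r : G) * x * (r : G)⁻¹) * (q : G)⁻¹ by simp [mul_assoc] }
  have hact : ∀ (q : P) (x : G), q • x = (q : G) * x * (q : G)⁻¹ := fun _ _ => rfl
  set C := Subgroup.centralizer (P : Set G)
  have hmem : ∀ (q : P) (x : G), q • x ∈ C ↔ x ∈ C := fun q x => by
    rw [hact]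
    constructor <;> intro hx
    · have h1 := Subgroup.mem_centralizer_iff.1 hx q q.2
      have : (q : G) * x * (q : G)⁻¹ = x := mul_left_cancel (h1.trans (inv_mul_cancel_right _ _))
      rwa [this] at hx
    · rwa [Subgroup.mem_centralizer_iff.1 hx q q.2, mul_inv_cancel_right]
  let φ : G → ℂ := fun h => if h ∈ C then 0 else a.coeff h * b.coeff (h⁻¹ * g)
  have hgq : ∀ q : P, (q : G) * g = g * (q : G) := fun q => Subgroup.mem_centralizer_iff.1 hg q q.2
  have hφ : ∀ (q : P) (h : G), φ (q • h) = φ h := fun q h => by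
    simp only [φ, hmem]
    split
    · rfl
    · rw [hact, ha q q.2]
      congr 1
      rw [show ((q : G) * h * (q : G)⁻¹)⁻¹ * g = (q : G) * (h⁻¹ * g) * (q : G)⁻¹ by
        rw [mul_inv_rev, mul_inv_rev, inv_inv]
        calc (q : G) * (h⁻¹ * (q : G)⁻¹) * g = (q : G) * h⁻¹ * ((q : G)⁻¹ * g * (q : G)) * (q : G)⁻¹ := by group
          _ = (q : G) * (h⁻¹ * g) * (q : G)⁻¹ := by
            rw [mul_assoc (q : G)⁻¹, ← hgq q, inv_mul_cancel_left]
            group, hb q q.2]
  have hsum : MemLocalIdeal M (∑ h : G, φ h) := by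
    haveI := Fintype.ofFinite (MulAction.orbitRel.Quotient P G)
    rw [← (MulAction.selfEquivSigmaOrbits P G).symm.sum_comp, Fintype.sum_sigma]
    refine memLocalIdeal_sum _ _ fun ω _ => ?_
    have hconst : ∀ y : MulAction.orbit P ω.out,
        φ ((MulAction.selfEquivSigmaOrbits P G).symm ⟨ω, y⟩) = φ ω.out := by
      rintro ⟨y, q, rfl⟩; exact hφ q _
    rw [Finset.sum_congr rfl fun y _ => hconst y, Finset.sum_const, Finset.card_univ,
      ← Nat.card_eq_fintype_card, nsmul_eq_mul]
    by_cases hω : ω.out ∈ C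
    · simp only [φ, if_pos hω, mul_zero]; exact memLocalIdeal_zero
    obtain ⟨j, hj⟩ := hP.card_orbit (ω.out : G)
    refine memLocalIdeal_mul_right ?_ ((memLocalIdeal_natCast_iff hp hpM _).2 ?_)
    · simp only [φ, if_neg hω]; exact mul_mem (hal _) (hbl _)
    rcases j with _ | j
    · exfalso
      apply hω
      have hsub : Subsingleton (MulAction.orbit P ω.out) :=
        (Nat.card_eq_one_iff_unique.1 (by simpa using hj)).1
      refine Subgroup.mem_centralizer_iff.2 fun q hq => ?_
      have := congrArg (fun y : MulAction.orbit P ω.out => (y : G))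
        (hsub.elim ⟨_, MulAction.mem_orbit ω.out (⟨q, hq⟩ : P)⟩ ⟨_, MulAction.mem_orbit_self ω.out⟩)
      exact mul_inv_eq_iff_eq_mul.1 this
    · rw [hj]; exact dvd_pow_self p j.succ_ne_zero
  convert hsum using 1
  rw [MonoidAlgebra.coeff_mul_apply_left, Finsupp.sum_fintype _ _ (by simp), ← Finset.sum_sub_distrib]
  refine Finset.sum_congr rfl fun h _ => ?_
  simp only [φ]
  split <;> simp

/-- The restriction of a group algebra element to a subgroup. -/
noncomputable def resH (H : Subgroup G) (a : MonoidAlgebra ℂ G) : MonoidAlgebra ℂ H :=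
  mkA fun h : H => a.coeff (h : G)

@[simp] theorem coeff_resH (H : Subgroup G) (a : MonoidAlgebra ℂ G) (h : H) :
    (resH H a).coeff h = a.coeff (h : G) := by simp [resH]

theorem isCentralElt_resH (H : Subgroup G) {a : MonoidAlgebra ℂ G} (ha : IsCentralElt a) :
    IsCentralElt (resH H a) := fun x y => by simpa using ha (x : G) (y : G)

theorem isLocElt_resH [M.IsPrime] (H : Subgroup G) {a : MonoidAlgebra ℂ G} (ha : IsLocElt M a) :
    IsLocElt M (resH H a) := fun h => by simpa using ha (h : G)

/-- Coefficients in `M` on the centraliser of `P`. -/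
def BrauerNull (M : Ideal AlgInt) (P : Subgroup G) {H : Subgroup G} (a : MonoidAlgebra ℂ H) : Prop :=
  ∀ h : H, (h : G) ∈ Subgroup.centralizer (P : Set G) → MemLocalIdeal M (a.coeff h)

theorem mem_centralizer_subgroupOf {P H : Subgroup G} (hPH : P ≤ H) (h : H) :
    h ∈ Subgroup.centralizer ((P.subgroupOf H : Subgroup H) : Set H) ↔
      (h : G) ∈ Subgroup.centralizer (P : Set G) := by
  simp only [Subgroup.mem_centralizer_iff, SetLike.mem_coe, Subgroup.mem_subgroupOf]
  exact ⟨fun hh q hq => congrArg Subtype.val (hh ⟨q, hPH hq⟩ hq), fun hh q hq => Subtype.ext (hh _ hq)⟩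

theorem brauerNull_mul_left [hMp : M.IsPrime] (hM : IsPModular p M) {P H : Subgroup G}
    (hP : IsPGroup p P) (hPH : P ≤ H) {a b : MonoidAlgebra ℂ H} (ha : IsCentralElt a)
    (hal : IsLocElt M a) (hb : IsCentralElt b) (hbl : IsLocElt M b) (hn : BrauerNull M P a) :
    BrauerNull M P (b * a) := by
  classical
  intro g hg
  haveI := Fintype.ofFinite H
  have h := brauer_mul_congr hM.1 hM.2.2 (P.subgroupOf H)
    (hP.of_equiv (Subgroup.subgroupOfEquivOfLe hPH).symm) hbl hal
    (fun q _ x => hb x q) (fun q _ x => ha x q) (g := g) ((mem_centralizer_subgroupOf hPH g).2 hg)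
  have h2 : MemLocalIdeal M (∑ h : H,
      if h ∈ Subgroup.centralizer ((P.subgroupOf H : Subgroup H) : Set H) then
        b.coeff h * a.coeff (h⁻¹ * g) else 0) := by
    refine memLocalIdeal_sum _ _ fun x _ => ?_
    split
    next hx =>
      refine memLocalIdeal_mul_left (hbl x) (hn _ ?_)
      rw [Subgroup.coe_mul, InvMemClass.coe_inv]
      exact mul_mem (inv_mem ((mem_centralizer_subgroupOf hPH x).1 hx)) hg
    · exact memLocalIdeal_zero
  simpa using memLocalIdeal_add h h2

omit [Finite G] in
theorem brauerNull_add {P H : Subgroup G} [M.IsPrime] {a b : MonoidAlgebra ℂ H}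
    (ha : BrauerNull M P a) (hb : BrauerNull M P b) : BrauerNull M P (a + b) := fun h hh => by
  rw [MonoidAlgebra.coeff_add]; exact memLocalIdeal_add (ha h hh) (hb h hh)

/-- Restriction is multiplicative on the centraliser, modulo `M`. -/
theorem brauerNull_resH_mul [hMp : M.IsPrime] (hM : IsPModular p M) {P H : Subgroup G}
    (hP : IsPGroup p P) (hPH : P ≤ H) (hCH : Subgroup.centralizer (P : Set G) ≤ H)
    {a b : MonoidAlgebra ℂ G} (ha : IsCentralElt a) (hal : IsLocElt M a) (hb : IsCentralElt b)
    (hbl : IsLocElt M b) : BrauerNull M P (resH H (a * b) - resH H a * resH H b) := by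
  classical
  intro g hg
  haveI := Fintype.ofFinite G
  haveI := Fintype.ofFinite H
  have h1 := brauer_mul_congr hM.1 hM.2.2 P hP hal hbl (fun q _ x => ha x q) (fun q _ x => hb x q) hg
  have h2 := brauer_mul_congr hM.1 hM.2.2 (P.subgroupOf H)
    (hP.of_equiv (Subgroup.subgroupOfEquivOfLe hPH).symm) (isLocElt_resH H hal) (isLocElt_resH H hbl)
    (fun q _ x => isCentralElt_resH H ha x q) (fun q _ x => isCentralElt_resH H hb x q) (g := g)
    ((mem_centralizer_subgroupOf hPH g).2 hg)
  have e : (∑ h : H, if h ∈ Subgroup.centralizer ((P.subgroupOf H : Subgroup H) : Set H) then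
        (resH H a).coeff h * (resH H b).coeff (h⁻¹ * g) else 0) =
      ∑ h : G, if h ∈ Subgroup.centralizer (P : Set G) then
        a.coeff h * b.coeff (h⁻¹ * (g : G)) else 0 := by
    rw [← Finset.sum_filter, ← Finset.sum_filter]
    refine Finset.sum_bij (fun x _ => (x : G)) (fun x hx => ?_) (fun x _ y _ h => Subtype.ext h)
      (fun x hx => ?_) fun x _ => by simp
    · simp only [Finset.mem_filter, Finset.mem_univ, true_and] at hx ⊢
      exact (mem_centralizer_subgroupOf hPH x).1 hx
    · simp only [Finset.mem_filter, Finset.mem_univ, true_and] at hx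
      exact ⟨⟨x, hCH hx⟩, Finset.mem_filter.2 ⟨Finset.mem_univ _,
        (mem_centralizer_subgroupOf hPH ⟨x, hCH hx⟩).2 hx⟩, rfl⟩
  rw [e] at h2
  rw [MonoidAlgebra.coeff_sub, Finsupp.sub_apply, coeff_resH]
  simpa using memLocalIdeal_sub h1 h2

theorem memLocalIdeal_omega_of_coeff [hMp : M.IsPrime] (χ : IrrCharacter G) {a : MonoidAlgebra ℂ G}
    (ha : IsCentralElt a) (h : ∀ g, MemLocalIdeal M (a.coeff g)) :
    MemLocalIdeal M (omega (χ : G → ℂ) a) := by
  haveI := Fintype.ofFinite (ConjClasses G)
  rw [omega_eq_sum_classes χ ha]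
  exact memLocalIdeal_sum _ _ fun C _ => memLocalIdeal_mul_right (centralChar_mem_locRing χ _) (h _)

/-- Classes avoiding the centraliser of a normal `p`-subgroup have central character in `M`. -/
theorem centralChar_memLocalIdeal_of_avoid [Fact p.Prime] (hM : IsPModular p M) [hMp : M.IsPrime]
    (χ : IrrCharacter G) (Q : Subgroup G) [hQn : Q.Normal] (hQ : IsPGroup p Q) {g : G}
    (hg : g ∉ Subgroup.centralizer (Q : Set G)) :
    MemLocalIdeal M (centralChar (χ : G → ℂ) g) := by
  classical
  haveI := Fintype.ofFinite G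
  haveI := locRing_charP hM.1 hM.2.2
  set k := IsLocalRing.ResidueField (locRing M)
  set φ := MonoidAlgebra.mapRingHom G (IsLocalRing.residue (locRing M))
  have hl : IsLocElt M (classSum g) := isLocElt_classSum g
  have himg : φ (toLoc hl) = ∑ x ∈ Finset.univ.filter (IsConj g), MonoidAlgebra.single x (1 : k) := by
    refine MonoidAlgebra.ext (Finsupp.ext fun t => ?_)
    simp only [φ, MonoidAlgebra.coeff_mapRingHom, MonoidAlgebra.coeff_sum, Finsupp.finsetSum_apply,
      MonoidAlgebra.coeff_single, Finsupp.single_apply, Finset.sum_ite_eq', Finset.mem_filter,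
      Finset.mem_univ, true_and]
    by_cases ht : IsConj g t
    · rw [if_pos ht, show (toLoc hl).coeff t = 1 from Subtype.ext (by
        rw [coe_toLoc, classSum, coeff_mkA, if_pos ht]; rfl), map_one]
    · rw [if_neg ht, show (toLoc hl).coeff t = 0 from Subtype.ext (by
        rw [coe_toLoc, classSum, coeff_mkA, if_neg ht]; rfl), map_zero]
  have hnil : IsNilpotent (φ (toLoc hl)) := by
    rw [himg]
    refine isNilpotent_sum_of_no_fixed hQ _ (fun q _ x hx => ?_) fun x hx hxQ => hg ?_
    · simp only [Finset.mem_filter, Finset.mem_univ, true_and] at hx ⊢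
      exact hx.trans (isConj_iff.2 ⟨q, rfl⟩)
    · simp only [Finset.mem_filter, Finset.mem_univ, true_and] at hx
      obtain ⟨t, rfl⟩ := isConj_iff.1 hx
      rw [mem_centralizer_subgroup] at hxQ ⊢
      intro q hq
      have h2 := map_conj_centralizer hxQ t⁻¹ ⟨t * q * t⁻¹, hQn.conj_mem q hq t, rfl⟩
      simpa [mul_assoc] using h2
  obtain ⟨n, hn⟩ := hnil
  have hpow : ∀ t, MemLocalIdeal M ((classSum g ^ n).coeff t) := by
    have hco : ∀ (m : ℕ) t, (((toLoc hl) ^ m).coeff t : ℂ) = (classSum g ^ m).coeff t := by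
      intro m
      induction m with
      | zero =>
        intro t
        simp only [pow_zero, MonoidAlgebra.one_def, MonoidAlgebra.coeff_single, Finsupp.single_apply]
        split <;> simp
      | succ m ih =>
        intro t
        simp only [pow_succ, MonoidAlgebra.coeff_mul_apply_left]
        rw [Finsupp.sum_fintype _ _ (by simp), Finsupp.sum_fintype _ _ (by simp)]
        simp [ih, coe_toLoc]
    intro t
    rw [← hco, ← mem_maximalIdeal_locRing, ← IsLocalRing.residue_eq_zero_iff]
    have h3 := congrArg (fun b : MonoidAlgebra k G => b.coeff t) hn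
    rw [← map_pow] at h3
    simp only [φ, MonoidAlgebra.coeff_mapRingHom, MonoidAlgebra.coeff_zero, Finsupp.zero_apply] at h3
    exact h3
  have h1 := memLocalIdeal_omega_of_coeff χ ((isCentralElt_classSum g).pow n) hpow
  rw [omega_pow χ (isCentralElt_classSum g), omega_classSum] at h1
  clear hn hpow
  induction n with
  | zero => exact absurd h1 (by simpa using not_memLocalIdeal_one)
  | succ n ih =>
    rw [pow_succ] at h1
    exact (memLocalIdeal_of_mul (pow_mem (centralChar_mem_locRing χ g) n)
      (centralChar_mem_locRing χ g) h1).elim ih id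

/-- Elements null on the centraliser have central characters in `M`. -/
theorem omega_memLocalIdeal_of_brauerNull [hMp : M.IsPrime] (hM : IsPModular p M) {P H : Subgroup G}
    (hP : IsPGroup p P) (hPH : P ≤ H) (hHN : H ≤ Subgroup.normalizer (P : Set G))
    (ξ : IrrCharacter H) {a : MonoidAlgebra ℂ H} (ha : IsCentralElt a) (hal : IsLocElt M a)
    (hn : BrauerNull M P a) : MemLocalIdeal M (omega (ξ : H → ℂ) a) := by
  haveI := Fact.mk hM.1
  haveI := Fintype.ofFinite (ConjClasses H)
  haveI : (P.subgroupOf H).Normal := (Subgroup.normal_subgroupOf_iff_le_normalizer hPH).2 hHN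
  rw [omega_eq_sum_classes ξ ha]
  refine memLocalIdeal_sum _ _ fun C _ => ?_
  by_cases hC : ((classRep C : H) : G) ∈ Subgroup.centralizer (P : Set G)
  · exact memLocalIdeal_mul_right (centralChar_mem_locRing ξ _) (hn _ hC)
  · exact memLocalIdeal_mul_left (hal _) (centralChar_memLocalIdeal_of_avoid hM ξ (P.subgroupOf H)
      (hP.of_equiv (Subgroup.subgroupOfEquivOfLe hPH).symm)
      fun h => hC ((mem_centralizer_subgroupOf hPH _).1 h))

omit [Finite G] in
theorem inducedCentralChar_eq_omega [Finite G] (H : Subgroup G) (ξ : H → ℂ) (g : G) :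
    inducedCentralChar H ξ g = omega ξ (resH H (classSum g)) := by
  classical
  haveI := Fintype.ofFinite H
  rw [omega_eq_sum, inducedCentralChar, finsum_mem_eq_finite_toFinset_sum _ (Set.toFinite _), Finset.sum_div]
  simp only [coeff_resH, classSum, coeff_mkA, ite_mul, one_mul, zero_mul, ite_div, zero_div]
  rw [← Finset.sum_filter]
  refine Finset.sum_congr (Finset.ext fun h => by simp) fun _ _ => rfl

/-- Every block of a subgroup between `C(P)` and `N(P)` induces a block. -/
theorem inducedBlockDefined_local (hM : IsPModular p M) {P H : Subgroup G} (hP : IsPGroup p P)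
    (hPH : P ≤ H) (hCH : Subgroup.centralizer (P : Set G) ≤ H)
    (hHN : H ≤ Subgroup.normalizer (P : Set G)) {b : Set (IrrCharacter H)} (hb : IsPBlock M b) :
    InducedBlockDefined M H b := by
  classical
  haveI := prime_of_isPModular hM
  haveI := Fintype.ofFinite (IrrCharacter G)
  obtain ⟨ξ, hξ⟩ := isPBlock_nonempty hb
  set lam : MonoidAlgebra ℂ G → ℂ := fun a => omega (ξ : H → ℂ) (resH H a) with hlam
  have hlam_mem : ∀ {a}, IsCentralElt a → IsLocElt M a → lam a ∈ locRing M := fun ha hal =>
    omega_mem_locRing ξ (isCentralElt_resH H ha) (isLocElt_resH H hal)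
  have hmul : ∀ {a c}, IsCentralElt a → IsLocElt M a → IsCentralElt c → IsLocElt M c →
      MemLocalIdeal M (lam (a * c) - lam a * lam c) := by
    intro a c ha hal hc hcl
    have := omega_memLocalIdeal_of_brauerNull hM hP hPH hHN ξ
      ((isCentralElt_resH H (ha.mul hc)).sub ((isCentralElt_resH H ha).mul (isCentralElt_resH H hc)))
      ((isLocElt_resH H (hal.mul hcl)).sub ((isLocElt_resH H hal).mul (isLocElt_resH H hcl)))
      (brauerNull_resH_mul hM hP hPH hCH ha hal hc hcl)
    rw [omega_sub, omega_mul ξ (isCentralElt_resH H ha) (isCentralElt_resH H hc)] at this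
    exact this
  have hlin : ∀ a c, lam (a + c) = lam a + lam c := fun a c => by
    simp only [hlam]
    rw [← omega_add]
    congr 1
    exact MonoidAlgebra.ext (Finsupp.ext fun h => by simp)
  -- some block idempotent is not killed
  set blocks := (Finset.univ : Finset (IrrCharacter G)).image fun χ : IrrCharacter G => blockOf M (χ : G → ℂ)
  have hone : (1 : MonoidAlgebra ℂ G) = ∑ B ∈ blocks, blockIdem B := by
    refine eq_of_omega_eq IsCentralElt.one
      (IsCentralElt.sum _ _ fun B _ => isCentralElt_blockIdem B) fun χ => ?_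
    rw [omega_one (IsIrrCharacter.apply_one_ne_zero χ.2), omega_sum, Finset.sum_eq_single (blockOf M (χ : G → ℂ))]
    · rw [omega_blockIdem, if_pos (self_mem_blockOf χ)]
    · intro B hB hne
      obtain ⟨ψ, -, rfl⟩ := Finset.mem_image.1 hB
      rw [omega_blockIdem, if_neg fun h => hne (blockOf_eq_of_mem h).symm]
    · intro h; exact absurd (Finset.mem_image_of_mem _ (Finset.mem_univ χ)) h
  have hlone : lam 1 = 1 := by
    simp only [hlam]
    rw [show resH H (1 : MonoidAlgebra ℂ G) = 1 from MonoidAlgebra.ext (Finsupp.ext fun h => by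
      simp [MonoidAlgebra.one_def, Finsupp.single_apply, eq_comm (a := (1 : G)), eq_comm (a := (1 : H))]),
      omega_one (IsIrrCharacter.apply_one_ne_zero ξ.2)]
  have hlsum : lam 1 = ∑ B ∈ blocks, lam (blockIdem B) := by
    rw [hone]
    exact map_sum (⟨⟨lam, by simpa using (hlin 0 0)⟩, hlin⟩ : MonoidAlgebra ℂ G →+ ℂ) _ _
  obtain ⟨B, hBm, hBu⟩ : ∃ B ∈ blocks, ¬ MemLocalIdeal M (lam (blockIdem B)) := by
    by_contra! h
    exact not_memLocalIdeal_one (M := M) (hlone ▸ hlsum ▸ memLocalIdeal_sum _ _ h)
  obtain ⟨χ₀, -, rfl⟩ := Finset.mem_image.1 hBm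
  set B := blockOf M (χ₀ : G → ℂ)
  have hB : IsPBlock M B := isPBlock_blockOf χ₀
  refine ⟨B, hb, hB, fun ξ' hξ' χ hχ g => ?_⟩
  have hKl := isLocElt_classSum (M := M) g
  have hKc := isCentralElt_classSum g
  -- the product annihilating the block part
  have hprod : ∀ t : Finset (IrrCharacter G), ∃ a : MonoidAlgebra ℂ G, IsCentralElt a ∧ IsLocElt M a ∧
      (∀ φ ∈ t, omega (φ : G → ℂ) a = 0) ∧ MemLocalIdeal M (lam a -
        ∏ φ ∈ t, (lam (classSum g) - centralChar (φ : G → ℂ) g)) := by
    intro t
    induction t using Finset.induction_on with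
    | empty => exact ⟨1, IsCentralElt.one, IsLocElt.one, by simp, by
        rw [Finset.prod_empty, hlone, sub_self]; exact memLocalIdeal_zero⟩
    | insert φ t hφt ih =>
      obtain ⟨a, ha, hal, ha0, hcong⟩ := ih
      set c := classSum g + (-(centralChar (φ : G → ℂ) g)) • (1 : MonoidAlgebra ℂ G)
      have hc : IsCentralElt c := hKc.add (IsCentralElt.one.smul _)
      have hcl : IsLocElt M c := hKl.add (IsLocElt.one.smul (neg_mem (centralChar_mem_locRing φ g)))
      have hlc : lam c = lam (classSum g) - centralChar (φ : G → ℂ) g := by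
        rw [hlin, sub_eq_add_neg]
        congr 1
        simp only [hlam]
        rw [show resH H ((-(centralChar (φ : G → ℂ) g)) • (1 : MonoidAlgebra ℂ G)) =
          (-(centralChar (φ : G → ℂ) g)) • (1 : MonoidAlgebra ℂ H) from
            MonoidAlgebra.ext (Finsupp.ext fun h => by simp [MonoidAlgebra.one_def, Finsupp.single_apply, eq_comm (a := (1 : G)), eq_comm (a := (1 : H))]),
          omega_smul, omega_one (IsIrrCharacter.apply_one_ne_zero ξ.2), mul_one]
      refine ⟨c * a, hc.mul ha, hcl.mul hal, fun ψ hψ => ?_, ?_⟩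
      · rw [omega_mul ψ hc ha]
        rcases Finset.mem_insert.1 hψ with rfl | h
        · rw [omega_add, omega_smul, omega_classSum, omega_one (IsIrrCharacter.apply_one_ne_zero ψ.2),
            mul_one, add_neg_cancel, zero_mul]
        · rw [ha0 ψ h, mul_zero]
      · rw [Finset.prod_insert hφt, ← hlc]
        have h4 := memLocalIdeal_mul_left (hlam_mem hc hcl) hcong
        rw [mul_sub] at h4
        simpa using memLocalIdeal_add (hmul hc hcl ha hal) h4
  obtain ⟨a, ha, hal, ha0, hcong⟩ := hprod B.toFinite.toFinset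
  have hzero : a * blockIdem B = 0 := by
    refine eq_of_omega_eq (ha.mul (isCentralElt_blockIdem B)) IsCentralElt.zero fun ψ => ?_
    rw [omega_mul ψ ha (isCentralElt_blockIdem B), omega_blockIdem, omega_zero]
    split
    next h => rw [ha0 ψ (B.toFinite.mem_toFinset.2 h), zero_mul]
    · rw [mul_zero]
  have h5 := hmul ha hal (isCentralElt_blockIdem B) (isLocElt_blockIdem hB)
  rw [hzero, show lam 0 = 0 by simpa using hlin 0 0, zero_sub] at h5
  have h6 : MemLocalIdeal M (lam a) :=
    (memLocalIdeal_of_mul (hlam_mem ha hal)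
      (hlam_mem (isCentralElt_blockIdem B) (isLocElt_blockIdem hB))
      (by simpa using memLocalIdeal_neg h5)).resolve_right hBu
  have h7 : MemLocalIdeal M (∏ φ ∈ B.toFinite.toFinset, (lam (classSum g) - centralChar (φ : G → ℂ) g)) := by
    simpa using memLocalIdeal_sub h6 hcong
  obtain ⟨φ, hφ, h8⟩ : ∃ φ ∈ B.toFinite.toFinset,
      MemLocalIdeal M (lam (classSum g) - centralChar (φ : G → ℂ) g) := by
    clear hcong ha0
    generalize B.toFinite.toFinset = T at h7 ⊢
    induction T using Finset.induction_on with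
    | empty => exact absurd h7 (by simpa using not_memLocalIdeal_one (M := M))
    | insert φ t hφt ih =>
      rw [Finset.prod_insert hφt] at h7
      have hd : ∀ ψ : IrrCharacter G, lam (classSum g) - centralChar (ψ : G → ℂ) g ∈ locRing M :=
        fun ψ => sub_mem (hlam_mem hKc hKl) (centralChar_mem_locRing ψ g)
      rcases memLocalIdeal_of_mul (hd φ) (Subring.prod_mem _ fun ψ _ => hd ψ) h7 with h | h
      · exact ⟨φ, Finset.mem_insert_self _ _, h⟩
      · obtain ⟨ψ, hψ, hh⟩ := ih h
        exact ⟨ψ, Finset.mem_insert_of_mem hψ, hh⟩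
  have h9 : MemLocalIdeal M (inducedCentralChar H (ξ' : H → ℂ) g - lam (classSum g)) := by
    rw [inducedCentralChar_eq_omega]
    exact omega_congr (isPBlock_sameBlock hb hξ' hξ) (isCentralElt_resH H hKc) (isLocElt_resH H hKl)
  have h10 := isPBlock_sameBlock hB (B.toFinite.mem_toFinset.1 hφ) hχ g
  simpa using memLocalIdeal_add (memLocalIdeal_add h9 h8) h10

/-- The induced central character agrees with the Brauer central character modulo `M`. -/
theorem inducedCentralChar_congr_brauerCentralChar (hM : IsPModular p M) [hMp : M.IsPrime]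
    {P H : Subgroup G} (hP : IsPGroup p P) (hPH : P ≤ H) (hHN : H ≤ Subgroup.normalizer (P : Set G))
    (ξ : IrrCharacter H) (g : G) :
    MemLocalIdeal M (inducedCentralChar H (ξ : H → ℂ) g - brauerCentralChar P H (ξ : H → ℂ) g) := by
  classical
  haveI := Fintype.ofFinite H
  set a : MonoidAlgebra ℂ H := mkA fun h => if (h : G) ∈ Subgroup.centralizer (P : Set G) then 0
    else (classSum g).coeff (h : G)
  have hc : IsCentralElt a := fun x y => by
    have hy : (y : G) ∈ Subgroup.normalizer (P : Set G) := hHN y.2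
    have hiff : ((y * x * y⁻¹ : H) : G) ∈ Subgroup.centralizer (P : Set G) ↔
        (x : G) ∈ Subgroup.centralizer (P : Set G) := by
      haveI : (P.subgroupOf H).Normal := (Subgroup.normal_subgroupOf_iff_le_normalizer hPH).2 hHN
      rw [← mem_centralizer_subgroupOf hPH, ← mem_centralizer_subgroupOf hPH]
      constructor <;> intro h
      · simpa [mul_assoc] using
          (inferInstance : (Subgroup.centralizer ((P.subgroupOf H : Subgroup H) : Set H)).Normal).conj_mem _ h y⁻¹
      · exact (inferInstance : (Subgroup.centralizer ((P.subgroupOf H : Subgroup H) : Set H)).Normal).conj_mem _ h y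
    simp only [a, coeff_mkA]
    rw [if_congr hiff rfl rfl]
    split
    · rfl
    · simpa using isCentralElt_classSum g (x : G) (y : G)
  have hl : IsLocElt M a := fun h => by
    rw [← mem_locRing]
    simp only [a, coeff_mkA]
    split
    · exact zero_mem _
    · exact isLocElt_classSum g _
  have hn : BrauerNull M P a := fun h hh => by
    simp only [a, coeff_mkA, if_pos hh]; exact memLocalIdeal_zero
  have h1 := omega_memLocalIdeal_of_brauerNull hM hP hPH hHN ξ hc hl hn
  convert h1 using 1
  rw [inducedCentralChar, brauerCentralChar, finsum_mem_eq_finite_toFinset_sum _ (Set.toFinite _),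
    finsum_mem_eq_finite_toFinset_sum _ (Set.toFinite _), omega_eq_sum, Finset.sum_div]
  have e : ∀ h : H, a.coeff h * (ξ : H → ℂ) h / (ξ : H → ℂ) 1 =
      (if IsConj g (h : G) then (ξ : H → ℂ) h / (ξ : H → ℂ) 1 else 0) -
        (if IsConj g (h : G) ∧ (h : G) ∈ Subgroup.centralizer (P : Set G) then
          (ξ : H → ℂ) h / (ξ : H → ℂ) 1 else 0) := fun h => by
    simp only [a, coeff_mkA, classSum]
    by_cases h2 : (h : G) ∈ Subgroup.centralizer (P : Set G) <;>
      by_cases h1 : IsConj g (h : G) <;>
      simp only [h1, h2, and_true, and_false, if_true, if_false] <;> ring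
  simp only [e, Finset.sum_sub_distrib, ← Finset.sum_filter]
  congr 1 <;> exact Finset.sum_congr (Finset.ext fun h => by simp) fun _ _ => rfl

end Cfsg.Agent.Block
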