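import Cfsg.Agent.Lib.Char.Basic
import Mathlib.GroupTheory.OrderOfElement

/-!
# Sums of character values over sets of generators are rational integers
-/

set_option autoImplicit false

open Cfsg.Agent.Char
open scoped ComplexConjugate

namespace Cfsg.Agent.Block

universe u

variable {G : Type u} [Group G]

/-- The sum of a character over a set stable under changing generators is a rational integer. -/
theorem sum_mem_int_of_stable [Fintype G] {θ : G → ℂ} (hθ : IsCharacter G θ) (S : Finset G)
    (hS : ∀ x y, Subgroup.zpowers x = Subgroup.zpowers y → x ∈ S → y ∈ S) :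
    ∃ z : ℤ, ∑ x ∈ S, θ x = z := by
  classical
  let R : Subring ℂ := (Int.castRingHom ℂ).range
  suffices h : ∀ n (g : G), orderOf g = n →
      ∑ x ∈ Finset.univ.filter (fun x => Subgroup.zpowers x = Subgroup.zpowers g), θ x ∈ R by
    have key : ∑ x ∈ S, θ x ∈ R := by
      rw [← Finset.sum_fiberwise_of_maps_to (g := fun x : G => Subgroup.zpowers x)
        (t := S.image fun x : G => Subgroup.zpowers x) (fun x hx => Finset.mem_image_of_mem _ hx)]
      refine R.sum_mem fun K hK => ?_
      obtain ⟨x₀, hx₀, rfl⟩ := Finset.mem_image.1 hK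
      convert h _ x₀ rfl using 2
      ext y
      simp only [Finset.mem_filter, Finset.mem_univ, true_and]
      exact ⟨fun h => h.2, fun h => ⟨hS _ _ h.symm hx₀, h⟩⟩
    obtain ⟨z, hz⟩ := key
    exact ⟨z, hz.symm⟩
  intro n
  induction n using Nat.strong_induction_on with
  | _ n ih =>
    intro g hg
    set T := Finset.univ.filter (fun x => x ∈ Subgroup.zpowers g)
    have hT : ∑ x ∈ T, θ x ∈ R := by
      obtain ⟨m, hm⟩ := classInner_natCast_of_isCharacter
        (IsCharacter.restrict hθ (Subgroup.zpowers g)) (isCharacter_one (G := Subgroup.zpowers g))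
      refine ⟨(Nat.card (Subgroup.zpowers g) : ℤ) * m, ?_⟩
      rw [classInner, inv_mul_eq_iff_eq_mul₀ (by simp [Nat.card_eq_fintype_card])] at hm
      simp only [Pi.one_apply, map_one, mul_one] at hm
      simp only [eq_intCast, Int.cast_mul, Int.cast_natCast, ← hm, T]
      refine (Finset.sum_bij (fun x _ => (x : G)) (fun x _ => by simp) (fun a _ b _ h => Subtype.ext h)
        (fun b hb => ⟨⟨b, (Finset.mem_filter.1 hb).2⟩, Finset.mem_univ _, rfl⟩) fun x _ => rfl)
    rw [← Finset.sum_filter_add_sum_filter_not T (fun x => Subgroup.zpowers x = Subgroup.zpowers g)] at hT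
    have hlow : ∑ x ∈ T.filter (fun x => ¬ Subgroup.zpowers x = Subgroup.zpowers g), θ x ∈ R := by
      rw [← Finset.sum_fiberwise_of_maps_to (g := fun x : G => Subgroup.zpowers x)
        (t := (T.filter (fun x => ¬ Subgroup.zpowers x = Subgroup.zpowers g)).image
          fun x : G => Subgroup.zpowers x) (fun x hx => Finset.mem_image_of_mem _ hx)]
      refine R.sum_mem fun K hK => ?_
      obtain ⟨x₀, hx₀, rfl⟩ := Finset.mem_image.1 hK
      simp only [T, Finset.mem_filter, Finset.mem_univ, true_and] at hx₀
      have hle : Subgroup.zpowers x₀ ≤ Subgroup.zpowers g := Subgroup.zpowers_le.2 hx₀.1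
      have hlt : orderOf x₀ < n := by
        rw [← hg, ← Nat.card_zpowers, ← Nat.card_zpowers]
        exact lt_of_le_of_ne (Subgroup.card_le_of_le hle)
          fun h => hx₀.2 (Subgroup.eq_of_le_of_card_ge hle h.ge)
      convert ih _ hlt x₀ rfl using 2
      ext y
      simp only [T, Finset.mem_filter, Finset.mem_univ, true_and]
      refine ⟨fun h => h.2, fun h => ⟨⟨hle (h ▸ Subgroup.mem_zpowers y), ?_⟩, h⟩⟩
      rw [h]; exact hx₀.2
    have := R.sub_mem hT hlow
    rw [add_sub_cancel_right] at this
    convert this using 2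
    ext y
    simp only [T, Finset.mem_filter, Finset.mem_univ, true_and]
    exact ⟨fun h => ⟨h ▸ Subgroup.mem_zpowers y, h⟩, fun h => h.2⟩

end Cfsg.Agent.Block
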