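import Cfsg.Agent.Lib.Block.Section
import Cfsg.Agent.Lib.Block.Rational
import Cfsg.Agent.Lib.Char.Generalized

/-!
# The inner product of two characters on the regular elements
-/

set_option autoImplicit false

open Cfsg.Agent.Char
open scoped ComplexConjugate

namespace Cfsg.Agent.Block

universe u

variable {G : Type u} [Group G]

/-- `∑ χ x * conj (ψ x)` over the `p`-regular elements. -/
noncomputable def regInner [Fintype G] (p : ℕ) (χ ψ : G → ℂ) : ℂ :=
  ∑ x : G, if p ∣ orderOf x then 0 else χ x * conj (ψ x)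

/-- A character restricted to the regular elements, as an element of the group algebra. -/
noncomputable def regElt [Finite G] (p : ℕ) (χ : G → ℂ) : MonoidAlgebra ℂ G :=
  mkA fun x => if p ∣ orderOf x then 0 else χ x

theorem orderOf_conj_eq (g h : G) : orderOf (h * g * h⁻¹) = orderOf g :=
  orderOf_injective (MulAut.conj h).toMonoidHom (MulAut.conj h).injective g

theorem isClassFunction_regRestrict (p : ℕ) {χ : G → ℂ} (hχ : IsClassFunction G χ) :
    IsClassFunction G (fun x => if p ∣ orderOf x then 0 else χ x) := fun g h => by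
  simp only [orderOf_conj_eq, hχ g h]

theorem isCentralElt_regElt [Finite G] (p : ℕ) {χ : G → ℂ} (hχ : IsClassFunction G χ) :
    IsCentralElt (regElt p χ) := by
  intro g h
  simp only [regElt, coeff_mkA]
  exact isClassFunction_regRestrict p hχ g h

/-- The complex conjugate of an irreducible character. -/
noncomputable def conjChar [Finite G] (ψ : IrrCharacter G) : IrrCharacter G :=
  ⟨fun g => conj ((ψ : G → ℂ) g), IsIrrCharacter.conj ψ.2⟩

theorem conjChar_apply [Finite G] (ψ : IrrCharacter G) (g : G) :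
    (conjChar ψ : G → ℂ) g = conj ((ψ : G → ℂ) g) := rfl

theorem omega_conjChar_regElt [Fintype G] (p : ℕ) (χ : G → ℂ) (ψ : IrrCharacter G) :
    omega (conjChar ψ : G → ℂ) (regElt p χ) = regInner p χ (ψ : G → ℂ) / (ψ : G → ℂ) 1 := by
  rw [omega_eq_sum, regInner]
  simp [regElt, conjChar_apply, conj_irr_one, ite_mul]

theorem regInner_mem_int [Fintype G] (p : ℕ) {χ ψ : G → ℂ} (hχ : IsCharacter G χ)
    (hψ : IsCharacter G ψ) : ∃ z : ℤ, regInner p χ ψ = z := by
  classical
  obtain ⟨z, hz⟩ := sum_mem_int_of_stable (isCharacter_mul hχ (isCharacter_conj hψ))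
    (Finset.univ.filter fun x : G => ¬ p ∣ orderOf x) (fun x y h hx => by
      simp only [Finset.mem_filter, Finset.mem_univ, true_and] at hx ⊢
      rwa [← Nat.card_zpowers, ← h, Nat.card_zpowers])
  refine ⟨z, hz ▸ ?_⟩
  rw [regInner, Finset.sum_filter]
  exact Finset.sum_congr rfl fun x _ => by split <;> rfl

theorem regInner_comm [Fintype G] (p : ℕ) {χ ψ : G → ℂ} (hχ : IsCharacter G χ)
    (hψ : IsCharacter G ψ) : regInner p χ ψ = regInner p ψ χ := by
  obtain ⟨z, hz⟩ := regInner_mem_int p hχ hψ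
  have h : conj (regInner p χ ψ) = regInner p ψ χ := by
    simp only [regInner, map_sum, apply_ite conj, map_zero, map_mul, Complex.conj_conj]
    exact Finset.sum_congr rfl fun x _ => by split <;> [rfl; ring]
  rw [← h, hz, map_intCast]

theorem isIntegral_regInner_div [Fintype G] (p : ℕ) {χ : G → ℂ} (hχ : IsCharacter G χ)
    (ψ : IrrCharacter G) : IsIntegral ℤ (regInner p χ (ψ : G → ℂ) / (ψ : G → ℂ) 1) := by
  classical
  haveI := Fintype.ofFinite (ConjClasses G)
  rw [← omega_conjChar_regElt, omega_eq_sum_classes _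
    (isCentralElt_regElt p (IsCharacter.isClassFunction hχ))]
  refine IsIntegral.sum _ fun C _ => IsIntegral.mul ?_ (isIntegral_centralChar _ _)
  simp only [regElt, coeff_mkA]
  split
  · exact isIntegral_zero
  · exact Block.isIntegral_character hχ _

/-! ## Combinations with local integral coefficients -/

/-- A class function whose coefficients are local integers. -/
def IsSpanR [Fintype G] (M : Ideal AlgInt) [M.IsPrime] (θ : G → ℂ) : Prop :=
  IsClassFunction G θ ∧ ∀ χ : IrrCharacter G, classInner θ (χ : G → ℂ) ∈ locRing M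

variable {M : Ideal AlgInt} [hMp : M.IsPrime]

theorem isSpanR_of_isCharacter [Fintype G] {θ : G → ℂ} (hθ : IsCharacter G θ) : IsSpanR M θ := by
  refine ⟨IsCharacter.isClassFunction hθ, fun χ => ?_⟩
  obtain ⟨n, hn⟩ := classInner_natCast_of_isCharacter hθ (IsIrrCharacter.isCharacter χ.2)
  rw [hn]
  exact natCast_mem _ n

theorem IsSpanR.add [Fintype G] {θ η : G → ℂ} (h : IsSpanR M θ) (h' : IsSpanR M η) :
    IsSpanR M (θ + η) := by
  refine ⟨fun g t => by simp [h.1 g t, h'.1 g t], fun χ => ?_⟩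
  rw [classInner_add_left]
  exact add_mem (h.2 χ) (h'.2 χ)

theorem IsSpanR.smul [Fintype G] {θ : G → ℂ} (h : IsSpanR M θ) {c : ℂ} (hc : c ∈ locRing M) :
    IsSpanR M (c • θ) := by
  refine ⟨fun g t => by simp [h.1 g t], fun χ => ?_⟩
  rw [classInner_smul_left]
  exact mul_mem hc (h.2 χ)

theorem IsSpanR.sum [Fintype G] {ι : Type*} (s : Finset ι) (f : ι → G → ℂ)
    (h : ∀ i ∈ s, IsSpanR M (f i)) : IsSpanR M (∑ i ∈ s, f i) :=
  Finset.sum_induction f (IsSpanR M) (fun _ _ => IsSpanR.add)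
    (isSpanR_of_isCharacter isCharacter_zero) h

theorem IsSpanR.mul [Fintype G] {θ η : G → ℂ} (h : IsSpanR M θ) (h' : IsSpanR M η) :
    IsSpanR M (θ * η) := by
  classical
  haveI := Fintype.ofFinite (IrrCharacter G)
  rw [IsClassFunction.eq_sum h.1, IsClassFunction.eq_sum h'.1, Finset.sum_mul]
  refine IsSpanR.sum _ _ fun χ _ => ?_
  rw [Finset.mul_sum]
  refine IsSpanR.sum _ _ fun ψ _ => ?_
  rw [smul_mul_smul_comm]
  exact (isSpanR_of_isCharacter (isCharacter_mul (IsIrrCharacter.isCharacter χ.2)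
    (IsIrrCharacter.isCharacter ψ.2))).smul (mul_mem (h.2 χ) (h'.2 ψ))

theorem IsSpanR.apply_mem [Fintype G] {θ : G → ℂ} (h : IsSpanR M θ) (x : G) : θ x ∈ locRing M := by
  haveI := Fintype.ofFinite (IrrCharacter G)
  rw [IsClassFunction.eq_sum h.1, Finset.sum_apply]
  exact Subring.sum_mem _ fun χ _ => mul_mem (h.2 χ) (irr_mem_locRing χ x)

theorem isSpanR_sectionFun [Fintype G] (D : Subgroup G) {g : G}
    (hD : D ≤ Subgroup.centralizer ({g} : Set G)) : IsSpanR M (sectionFun D g) := by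
  classical
  refine ⟨isClassFunction_sectionFun D g, fun χ => ?_⟩
  rw [classInner_sectionFun D g (IsCharacter.isClassFunction (IsIrrCharacter.isCharacter χ.2))]
  refine isIntegral_mem_locRing ?_
  have := isIntegral_avg_coset (isCharacter_conj (IsIrrCharacter.isCharacter χ.2)) hD
  exact this

/-- `x` lies in the `q`-section of the `q`-regular element `g`. -/
def InSection (q : ℕ) (g x : G) : Prop := ∃ u : G, IsPPart q x u ∧ IsConj g (x * u⁻¹)

theorem sectionFun_eq_zero_of_not [Finite G] {q : ℕ} {D : Subgroup G} {g x : G}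
    (hg : ¬ q ∣ orderOf g) (hD : D ≤ Subgroup.centralizer ({g} : Set G)) (hDp : IsPGroup q D)
    (hq : q.Prime) (hx : ¬ InSection q g x) : sectionFun D g x = 0 := by
  haveI := Fact.mk hq
  by_contra h
  obtain ⟨t, u, hu, htu⟩ := sectionFun_ne_zero h
  obtain ⟨k, hk⟩ := IsPGroup.iff_orderOf.1 hDp ⟨u, hu⟩
  have hgu : Commute g u := mem_centralizer_singleton.1 (hD hu)
  have h1 : IsPPart q (g * u) u :=
    ⟨g, hgu.symm.eq, hgu.symm, ⟨k, by rw [← hk, ← Subgroup.orderOf_coe]⟩, hg⟩
  have h2 := isPPart_conj h1 t⁻¹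
  rw [inv_inv] at h2
  have hx' : x = t⁻¹ * (g * u) * t := by rw [← htu]; group
  refine hx ⟨t⁻¹ * u * t, hx' ▸ h2, isConj_iff.2 ⟨t⁻¹, ?_⟩⟩
  rw [hx']
  group

theorem not_memLocalIdeal_sectionFun [Finite G] {q : ℕ} (hM : IsPModular q M) {g x : G}
    (hg : ¬ q ∣ orderOf g) (S : Sylow q (Subgroup.centralizer ({g} : Set G)))
    (hx : InSection q g x) : ¬ MemLocalIdeal M (sectionFun (sylowImage S) g x) := by
  classical
  haveI := Fact.mk hM.1
  set D := sylowImage S
  obtain ⟨u₀, hu₀, hc⟩ := hx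
  obtain ⟨t, ht⟩ := isConj_iff.1 hc.symm
  set u := t * u₀ * t⁻¹
  have hgu : Commute g u := by
    have h1 := (IsPPart.commute hu₀)
    have h2 : Commute (x * u₀⁻¹) u₀ := h1.mul_left (Commute.refl u₀).inv_left
    exact ht ▸ h2.map (MulAut.conj t).toMonoidHom
  have hxu : t * x * t⁻¹ = g * u := by rw [← ht]; simp [u, mul_assoc]
  obtain ⟨y, hy1, hy2, ⟨k, hk⟩, hy3⟩ := hu₀
  have huk : orderOf u = q ^ k := by rw [orderOf_conj_eq, hk]
  rw [← IsClassFunction.apply_isConj (isClassFunction_sectionFun D g) (isConj_iff.2 ⟨t, hxu⟩).symm]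
  -- the conjugates of `g u` in the coset are given by the centraliser
  have hset : ∀ h : G, g⁻¹ * (h * (g * u) * h⁻¹) ∈ D ↔ h ∈ (Subgroup.centralizer ({g} : Set G)) ∧ h * u * h⁻¹ ∈ D := by
    intro h
    constructor
    · intro hh
      set w := g⁻¹ * (h * (g * u) * h⁻¹)
      obtain ⟨j, hj⟩ := IsPGroup.iff_orderOf.1 (isPGroup_sylowImage S) ⟨w, hh⟩
      have hgw : Commute g w := mem_centralizer_singleton.1 (sylowImage_le S hh)
      have h1 : IsPPart q (h * (g * u) * h⁻¹) w :=
        ⟨g, by rw [← hgw.eq, mul_inv_cancel_left], hgw.symm,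
          ⟨j, by rw [← hj, ← Subgroup.orderOf_coe]⟩, hg⟩
      have h2 : IsPPart q (h * (g * u) * h⁻¹) (h * u * h⁻¹) :=
        isPPart_conj ⟨g, hgu.symm.eq, hgu.symm, ⟨k, huk⟩, hg⟩ h
      have hw := isPPart_unique hM.1 h1 h2
      refine ⟨?_, hw ▸ hh⟩
      rw [mem_centralizer_singleton]
      have h3 : g⁻¹ * (h * g * h⁻¹) = 1 := by
        have : g⁻¹ * (h * g * h⁻¹) * (h * u * h⁻¹) = h * u * h⁻¹ := by
          refine Eq.trans ?_ hw
          simp [w, mul_assoc]
        simpa using this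
      rw [inv_mul_eq_one, eq_mul_inv_iff_mul_eq] at h3
      exact h3
    · rintro ⟨hhC, hh⟩
      have : h * (g * u) * h⁻¹ = g * (h * u * h⁻¹) := by
        rw [← mul_assoc h g, ← (mem_centralizer_singleton.1 hhC).eq]; group
      rwa [this, inv_mul_cancel_left]
  -- fixed cosets
  let U : Subgroup (Subgroup.centralizer ({g} : Set G)) := Subgroup.zpowers ⟨u, mem_centralizer_singleton.2 hgu⟩
  have hU : IsPGroup q U := IsPGroup.of_card (n := k) (by
    rw [Nat.card_zpowers, Subgroup.orderOf_mk, huk])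
  set S' := (S : Subgroup (Subgroup.centralizer ({g} : Set G)))
  have hfix : ∀ c : (Subgroup.centralizer ({g} : Set G)), ((c : (Subgroup.centralizer ({g} : Set G)) ⧸ S') ∈ MulAction.fixedPoints U ((Subgroup.centralizer ({g} : Set G)) ⧸ S')) ↔
      c⁻¹ * ⟨u, mem_centralizer_singleton.2 hgu⟩ * c ∈ S' := by
    intro c
    constructor
    · intro h
      have := h ⟨_, Subgroup.mem_zpowers _⟩
      change ((_ * c : (Subgroup.centralizer ({g} : Set G))) : (Subgroup.centralizer ({g} : Set G)) ⧸ S') = _ at this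
      rw [eq_comm, QuotientGroup.eq, ← mul_assoc] at this
      exact this
    · rintro h ⟨_, m, rfl⟩
      change ((_ * c : (Subgroup.centralizer ({g} : Set G))) : (Subgroup.centralizer ({g} : Set G)) ⧸ S') = _
      rw [eq_comm, QuotientGroup.eq]
      have h2 := S'.zpow_mem h m
      rw [show (c⁻¹ * ⟨u, mem_centralizer_singleton.2 hgu⟩ * c) ^ m =
        c⁻¹ * (⟨u, mem_centralizer_singleton.2 hgu⟩ : (Subgroup.centralizer ({g} : Set G))) ^ m * c from by
          have := conj_zpow (a := c⁻¹) (b := (⟨u, mem_centralizer_singleton.2 hgu⟩ : (Subgroup.centralizer ({g} : Set G)))) (i := m)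
          rwa [inv_inv] at this] at h2
      simpa [mul_assoc] using h2
  have hmod := hU.card_modEq_card_fixedPoints (α := (Subgroup.centralizer ({g} : Set G)) ⧸ S')
  have hnd : ¬ q ∣ Nat.card (MulAction.fixedPoints U ((Subgroup.centralizer ({g} : Set G)) ⧸ S')) := by
    intro hd
    refine S.not_dvd_index' ?_ (Nat.modEq_zero_iff_dvd.1 (hmod.trans (Nat.modEq_zero_iff_dvd.2 hd)))
    exact Subgroup.index_ne_zero_of_finite
  have hcard : Nat.card {h : G // g⁻¹ * (h * (g * u) * h⁻¹) ∈ D} =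
      Nat.card (MulAction.fixedPoints U ((Subgroup.centralizer ({g} : Set G)) ⧸ S')) * Nat.card D := by
    have hDcard : Nat.card D = Nat.card S' :=
      (Nat.card_congr (S'.equivMapOfInjective (Subgroup.centralizer ({g} : Set G)).subtype (Subgroup.centralizer ({g} : Set G)).subtype_injective).toEquiv).symm
    rw [hDcard, mul_comm, ← Nat.card_prod]
    refine (Nat.card_congr ?_).trans
      (Nat.card_congr (QuotientGroup.preimageMkEquivSubgroupProdSet S'
        (MulAction.fixedPoints U ((Subgroup.centralizer ({g} : Set G)) ⧸ S'))))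
    refine (Equiv.subtypeEquivRight hset).trans
      ((Equiv.subtypeSubtypeEquivSubtypeInter (· ∈ (Subgroup.centralizer ({g} : Set G))) (fun h => h * u * h⁻¹ ∈ D)).symm.trans
        ((Equiv.inv (Subgroup.centralizer ({g} : Set G))).subtypeEquiv fun c => ?_))
    show _ ↔ ((c⁻¹ : (Subgroup.centralizer ({g} : Set G))) : (Subgroup.centralizer ({g} : Set G)) ⧸ S') ∈
      MulAction.fixedPoints U ((Subgroup.centralizer ({g} : Set G)) ⧸ S')
    rw [hfix, inv_inv]
    constructor
    · rintro ⟨d, hd, hde⟩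
      have : d = c * ⟨u, mem_centralizer_singleton.2 hgu⟩ * c⁻¹ := Subtype.ext hde
      exact this ▸ hd
    · intro h; exact ⟨_, h, rfl⟩
  rw [sectionFun, hcard, Nat.cast_mul, mul_comm, mul_assoc,
    mul_inv_cancel₀ (Nat.cast_ne_zero.2 Nat.card_pos.ne'), mul_one]
  exact fun h => hnd ((memLocalIdeal_natCast_iff hM.1 hM.2.2 _).1 h)

/-- The indicator of a `q`-section is a locally integral combination of characters. -/
theorem isSpanR_indicator_section [Fintype G] {q : ℕ} (hM : IsPModular q M) {g : G}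
    (hg : ¬ q ∣ orderOf g) [DecidablePred (InSection q g)] :
    IsSpanR M (fun x : G => if InSection q g x then (1 : ℂ) else 0) := by
  classical
  haveI := Fact.mk hM.1
  obtain ⟨S⟩ : Nonempty (Sylow q (Subgroup.centralizer ({g} : Set G))) := inferInstance
  set φ := sectionFun (sylowImage S) g
  have hφ : IsSpanR M φ := isSpanR_sectionFun _ (sylowImage_le S)
  suffices h : ∀ t : Finset G, (∀ x ∈ t, InSection q g x) → ∃ e : G → ℂ, IsSpanR M e ∧
      (∀ x ∈ t, e x = 1) ∧ ∀ x, ¬ InSection q g x → e x = 0 by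
    obtain ⟨e, he, he1, he0⟩ := h (Finset.univ.filter (InSection q g))
      fun x hx => (Finset.mem_filter.1 hx).2
    convert he using 1
    funext x
    split
    next h => exact (he1 x (by simp [h])).symm
    next h => exact (he0 x h).symm
  intro t
  induction t using Finset.induction_on with
  | empty => exact fun _ => ⟨0, isSpanR_of_isCharacter isCharacter_zero, by simp, fun _ _ => rfl⟩
  | insert a t hat ih =>
    intro ht
    obtain ⟨e, he, he1, he0⟩ := ih fun x hx => ht x (Finset.mem_insert_of_mem hx)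
    have ha := ht a (Finset.mem_insert_self _ _)
    have hu := not_memLocalIdeal_sectionFun hM hg S ha
    have hu0 : φ a ≠ 0 := fun h => hu (by show MemLocalIdeal M (φ a); rw [h]; exact memLocalIdeal_zero)
    set f := (φ a)⁻¹ • φ
    have hf : IsSpanR M f := hφ.smul (inv_mem_locRing (hφ.apply_mem a) hu)
    refine ⟨e + f + (-1 : ℂ) • (e * f), (he.add hf).add ((he.mul hf).smul (neg_mem (one_mem _))),
      fun x hx => ?_, fun x hx => ?_⟩
    · rcases Finset.mem_insert.1 hx with rfl | h
      · simp only [f, Pi.add_apply, Pi.smul_apply, Pi.mul_apply, smul_eq_mul, inv_mul_cancel₀ hu0]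
        ring
      · simp [he1 x h]
    · have hx0 : φ x = 0 := sectionFun_eq_zero_of_not hg (sylowImage_le S) (isPGroup_sylowImage S) hM.1 hx
      simp [f, he0 x hx, hx0]

/-- The `q'`-part, up to conjugacy. -/
noncomputable def qRegClass [Finite G] {q : ℕ} (hq : q.Prime) (x : G) : ConjClasses G :=
  ConjClasses.mk (x * (isPPart_exists hq x).choose⁻¹)

theorem qRegClass_eq_iff [Finite G] {q : ℕ} (hq : q.Prime) {g x : G} :
    InSection q g x ↔ qRegClass hq x = ConjClasses.mk g := by
  rw [qRegClass, ConjClasses.mk_eq_mk_iff_isConj]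
  constructor
  · rintro ⟨u, hu, hc⟩
    rw [isPPart_unique hq (isPPart_exists hq x).choose_spec hu]
    exact hc.symm
  · exact fun h => ⟨_, (isPPart_exists hq x).choose_spec, h.symm⟩

theorem not_dvd_orderOf_mul_inv [Finite G] {q : ℕ} {x u : G} (h : IsPPart q x u) :
    ¬ q ∣ orderOf (x * u⁻¹) := by
  obtain ⟨y, h1, h2, -, h4⟩ := h
  rw [← h1, h2.eq, mul_inv_cancel_right]
  exact h4

/-- Indicators of unions of `q`-sections are locally integral combinations of characters. -/
theorem isSpanR_indicator_union [Fintype G] {q : ℕ} (hM : IsPModular q M) (A : Set G)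
    [DecidablePred (· ∈ A)]
    (hA : ∀ x y, qRegClass hM.1 x = qRegClass hM.1 y → x ∈ A → y ∈ A) :
    IsSpanR M (fun x : G => if x ∈ A then (1 : ℂ) else 0) := by
  classical
  have : (fun x : G => if x ∈ A then (1 : ℂ) else 0) =
      ∑ K ∈ (Finset.univ.filter (· ∈ A)).image (qRegClass hM.1),
        fun x => if InSection q (classRep K) x then (1 : ℂ) else 0 := by
    funext x
    simp only [Finset.sum_apply, qRegClass_eq_iff hM.1, mk_classRep, Finset.sum_ite_eq]
    refine if_congr ?_ rfl rfl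
    simp only [Finset.mem_image, Finset.mem_filter, Finset.mem_univ, true_and]
    exact ⟨fun h => ⟨x, h, rfl⟩, fun ⟨y, hy, h⟩ => hA y x h hy⟩
  rw [this]
  refine IsSpanR.sum _ _ fun K hK => isSpanR_indicator_section hM ?_
  obtain ⟨y, -, rfl⟩ := Finset.mem_image.1 hK
  obtain ⟨t, ht⟩ := isConj_iff.1 (isConj_classRep_mk (y * (isPPart_exists hM.1 y).choose⁻¹))
  show ¬ q ∣ orderOf (classRep (qRegClass hM.1 y))
  rw [qRegClass, ← ht, orderOf_conj_eq]
  exact not_dvd_orderOf_mul_inv (isPPart_exists hM.1 y).choose_spec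

theorem dvd_orderOf_iff_of_qRegClass [Finite G] {p q : ℕ} (hp : p.Prime) (hq : q.Prime) (hpq : p ≠ q)
    (x : G) : p ∣ orderOf x ↔ ∀ g, qRegClass hq x = ConjClasses.mk g → p ∣ orderOf g := by
  obtain ⟨hu, hspec⟩ : ∃ _h : True, IsPPart q x (isPPart_exists hq x).choose :=
    ⟨trivial, (isPPart_exists hq x).choose_spec⟩
  set u := (isPPart_exists hq x).choose
  obtain ⟨y, h1, h2, ⟨k, hk⟩, h4⟩ := hspec
  have hxy : x * u⁻¹ = y := by rw [← h1, h2.eq, mul_inv_cancel_right]
  have hord : p ∣ orderOf x ↔ p ∣ orderOf y := by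
    constructor
    · intro h
      have h' := h.trans ((h1 ▸ h2.orderOf_mul_dvd_lcm).trans (Nat.lcm_dvd_mul _ _))
      rw [hk] at h'
      exact (hp.dvd_mul.1 h').resolve_left
        fun h => hpq ((Nat.prime_dvd_prime_iff_eq hp hq).1 (hp.dvd_of_dvd_pow h))
    · intro h
      refine h.trans (orderOf_dvd_of_pow_eq_one ?_)
      have : Commute x u := h1 ▸ ((Commute.refl u).mul_left h2.symm)
      have hu1 : u ^ orderOf x = 1 := by
        apply orderOf_dvd_iff_pow_eq_one.1
        rw [← h1, h2.orderOf_mul_eq_mul_orderOf_of_coprime]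
        · exact Dvd.intro _ rfl
        · rw [hk]
          exact Nat.Coprime.pow_left _ ((hq.coprime_iff_not_dvd).2 h4)
      rw [← hxy, this.inv_right.mul_pow, pow_orderOf_eq_one, inv_pow, hu1, inv_one, one_mul]
  constructor
  · intro h g hg
    rw [qRegClass, ConjClasses.mk_eq_mk_iff_isConj, hxy] at hg
    obtain ⟨t, rfl⟩ := isConj_iff.1 hg
    rwa [orderOf_conj_eq, ← hord]
  · intro h
    exact hord.2 (hxy ▸ h _ rfl)

theorem regInner_div_card_mem_locRing [Fintype G] {p q : ℕ} (hp : p.Prime) (hM : IsPModular q M)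
    (hpq : p ≠ q) (χ ψ : IrrCharacter G) :
    regInner p (χ : G → ℂ) (ψ : G → ℂ) / (Nat.card G : ℂ) ∈ locRing M := by
  classical
  have h := (isSpanR_indicator_union hM {x : G | ¬ p ∣ orderOf x} (fun x y hxy hx hy => hx (by
    rw [dvd_orderOf_iff_of_qRegClass hp hM.1 hpq] at hy ⊢
    rwa [hxy]))).mul (isSpanR_of_isCharacter (IsIrrCharacter.isCharacter χ.2))
  have := h.2 ψ
  rw [classInner] at this
  rw [div_eq_inv_mul, regInner]
  convert this using 2
  refine Finset.sum_congr rfl fun x _ => ?_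
  simp only [Pi.mul_apply, Set.mem_setOf_eq, ite_not]
  split <;> simp

omit hMp

theorem exists_isPModular {q : ℕ} (hq : q.Prime) : ∃ M : Ideal AlgInt, IsPModular q M := by
  have hne : Ideal.span {(q : AlgInt)} ≠ ⊤ := by
    rw [Ne, Ideal.span_singleton_eq_top]
    rintro ⟨u, hu⟩
    have h1 : IsIntegral ℤ ((1 : ℂ) / (q : ℂ)) := by
      have h2 : (((u⁻¹ : AlgIntˣ) : AlgInt) : ℂ) = 1 / (q : ℂ) := by
        rw [eq_div_iff (Nat.cast_ne_zero.2 hq.ne_zero)]
        have := congrArg (fun a : AlgInt => (a : ℂ)) u.inv_mul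
        rw [hu] at this
        simpa using this
      exact h2 ▸ ((u⁻¹ : AlgIntˣ) : AlgInt).2
    exact hq.not_dvd_one (Cfsg.Agent.Char.nat_dvd_of_isIntegral_div hq.ne_zero (by simpa using h1))
  obtain ⟨M, hM, hle⟩ := Ideal.exists_le_maximal _ hne
  exact ⟨M, hq, hM, hle (Ideal.subset_span rfl)⟩

/-- The integrality of the regular inner product. -/
theorem exists_int_regInner [Fintype G] {p : ℕ} (hp : p.Prime) (χ ψ : IrrCharacter G) :
    ∃ z : ℤ, ((p ^ ((Nat.card G).factorization p - (charDegree (ψ : G → ℂ)).factorization p) : ℕ) : ℂ)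
      * regInner p (χ : G → ℂ) (ψ : G → ℂ) / (Nat.card G : ℂ) = z := by
  obtain ⟨S, hS⟩ := regInner_mem_int p (IsIrrCharacter.isCharacter χ.2) (IsIrrCharacter.isCharacter ψ.2)
  set n := Nat.card G with hn
  set v := (charDegree (ψ : G → ℂ)).factorization p
  have hn0 : n ≠ 0 := Nat.card_pos.ne'
  set m := n / p ^ n.factorization p with hm
  have hnm : p ^ n.factorization p * m = n := Nat.ordProj_mul_ordCompl_eq_self n p
  have hv : v ≤ n.factorization p :=
    (Nat.factorization_le_iff_dvd (charDegree_pos ψ.2).ne' hn0).2 (charDegree_dvd_card ψ.2) p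
  have hpv : p ^ v ∣ S.natAbs := by
    refine (Nat.ordProj_dvd _ _).trans ?_
    apply Cfsg.Agent.Char.nat_dvd_of_isIntegral_div (charDegree_pos ψ.2).ne'
    have h1 := isIntegral_regInner_div p (IsIrrCharacter.isCharacter χ.2) ψ
    rw [hS, ← charDegree_cast (IsIrrCharacter.isCharacter ψ.2)] at h1
    rcases Int.natAbs_eq S with e | e
    · rw [e] at h1; simpa using h1
    · rw [e] at h1; simpa [neg_div] using h1
  have hmS : m ∣ S.natAbs := by
    refine Nat.dvd_iff_prime_pow_dvd_dvd _ _ |>.2 fun q j hq hqj => ?_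
    rcases eq_or_ne j 0 with rfl | hj
    · simp
    have hpq : p ≠ q := fun e =>
      Nat.not_dvd_ordCompl hp hn0 (by
        have h := (dvd_pow_self q hj).trans hqj
        rwa [← e] at h)
    obtain ⟨M, hM⟩ := exists_isPModular hq
    haveI := prime_of_isPModular hM
    have h1 := regInner_div_card_mem_locRing hp hM hpq χ ψ
    rw [hS] at h1
    obtain ⟨r, hr⟩ : q ^ j ∣ n := hqj.trans (Dvd.intro_left _ hnm)
    by_contra hnd
    -- extract the exact power of `q` dividing `S`
    have hS0 : S.natAbs ≠ 0 := fun h => hnd (h ▸ dvd_zero _)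
    obtain ⟨i, s, hs, hsS⟩ := Nat.exists_eq_pow_mul_and_not_dvd hS0 q hq.ne_one
    have hij : i < j := not_le.1 fun h => hnd (hsS ▸ (pow_dvd_pow q h).mul_right s)
    have h2 : MemLocalIdeal M ((s : ℂ)) := by
      have e : (s : ℂ) = ((q ^ (j - i) : ℕ) : ℂ) * ((r : ℂ) * (((S.natAbs : ℕ) : ℂ) / (n : ℂ))) := by
        rw [hr, hsS]
        have : q ^ j = q ^ (j - i) * q ^ i := by rw [← pow_add, Nat.sub_add_cancel hij.le]
        rw [this]
        push_cast
        have hq0 : (q : ℂ) ≠ 0 := Nat.cast_ne_zero.2 hq.ne_zero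
        have hr0 : (r : ℂ) ≠ 0 := Nat.cast_ne_zero.2 (fun h => hn0 (by rw [hr, h, mul_zero]))
        field_simp
      rw [e]
      refine memLocalIdeal_mul_right (mul_mem (natCast_mem _ _) ?_)
        ((memLocalIdeal_natCast_iff hq hM.2.2 _).2 (dvd_pow_self q (Nat.sub_ne_zero_of_lt hij)))
      rcases Int.natAbs_eq S with e | e
      · rw [e] at h1; simpa [n, Nat.card_eq_fintype_card] using h1
      · rw [e] at h1; simpa [n, Nat.card_eq_fintype_card, neg_div] using h1
    exact hs ((memLocalIdeal_natCast_iff hq hM.2.2 _).1 h2)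
  obtain ⟨z, hz⟩ : ((p ^ v * m : ℕ) : ℤ) ∣ S := Int.natCast_dvd.2
    (Nat.Coprime.mul_dvd_of_dvd_of_dvd (Nat.Coprime.pow_left _ (Nat.coprime_ordCompl hp hn0)) hpv hmS)
  refine ⟨z, ?_⟩
  rw [div_eq_iff (Nat.cast_ne_zero.2 hn0), hS, hz]
  push_cast
  calc (p : ℂ) ^ (n.factorization p - v) * ((p : ℂ) ^ v * (m : ℂ) * (z : ℂ))
      = (z : ℂ) * (((p : ℂ) ^ (n.factorization p - v) * (p : ℂ) ^ v) * (m : ℂ)) := by ring
    _ = (z : ℂ) * (n : ℂ) := by
      rw [← pow_add, Nat.sub_add_cancel hv]
      congr 1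
      exact_mod_cast hnm

end Cfsg.Agent.Block
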