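import Cfsg.Agent.Lib.Block.SecondMain
import Cfsg.Agent.Lib.Block.RegInner
import Cfsg.Agent.Lib.Block.Brauer
import Cfsg.Prelude.Def_BrauerPairs

/-!
The idempotent of the principal block, counted by factorisations into a p-element and a regular
element, and its consequence: Brauer's third main theorem.
-/

namespace Cfsg.Agent.Block

open Cfsg Cfsg.Agent.Char
open scoped Classical ComplexConjugate

set_option linter.style.haveILetI false

universe u

variable {G : Type u} [Group G] [Finite G] {p : ℕ} {M : Ideal AlgInt}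

/-- The indicator of the p-elements. -/
noncomputable def pElemInd (p : ℕ) (G : Type u) [Group G] : G → ℂ :=
  fun x => if ∃ k : ℕ, orderOf x = p ^ k then 1 else 0

/-- The sum of the regular elements. -/
noncomputable def regSum (p : ℕ) (G : Type u) [Group G] [Finite G] : MonoidAlgebra ℂ G :=
  mkA fun x => if p ∣ orderOf x then 0 else 1

omit [Finite G] in
theorem isClassFunction_pElemInd : IsClassFunction G (pElemInd p G) := fun x y => by
  simp only [pElemInd, orderOf_conj_eq]

theorem isCentralElt_regSum : IsCentralElt (regSum p G) := fun x y => by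
  simp only [regSum, coeff_mkA, orderOf_conj_eq]

theorem isLocElt_regSum [M.IsPrime] : IsLocElt M (regSum p G) := fun x => by
  simp only [regSum, coeff_mkA]
  split
  · exact zero_mem (locRing M)
  · exact one_mem (locRing M)

theorem inSection_one_iff (hp : p.Prime) (x : G) : InSection p 1 x ↔ ∃ k : ℕ, orderOf x = p ^ k := by
  constructor
  · rintro ⟨u, ⟨y, h1, h2, h3, h4⟩, hc⟩
    have hx : x * u⁻¹ = 1 := isConj_one_right.1 hc
    rwa [mul_inv_eq_one.1 hx]
  · rintro ⟨k, hk⟩
    exact ⟨x, ⟨1, mul_one x, Commute.one_right x, ⟨k, hk⟩, by simpa using hp.one_lt.ne'⟩,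
      by rw [mul_inv_cancel]⟩

theorem isSpanR_pElemInd [Fintype G] [M.IsPrime] (hM : IsPModular p M) :
    IsSpanR M (pElemInd p G) := by
  have h := isSpanR_indicator_section (G := G) hM (g := 1) (by simpa using hM.1.one_lt.ne')
  convert h using 1
  funext x
  simp only [pElemInd, inSection_one_iff hM.1]

/-- Convolution of a central element with a class function, expanded in characters. -/
theorem sum_central_translate [Fintype G] [Fintype (IrrCharacter G)] {a : MonoidAlgebra ℂ G}
    (ha : IsCentralElt a) {θ : G → ℂ} (hθ : IsClassFunction G θ) (t : G) :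
    ∑ y, a.coeff y * θ (y * t) =
      ∑ χ : IrrCharacter G, classInner θ (χ : G → ℂ) * omega (χ : G → ℂ) a * (χ : G → ℂ) t := by
  have hχ : ∀ χ : IrrCharacter G, ∑ y, a.coeff y * (χ : G → ℂ) (y * t) =
      omega (χ : G → ℂ) a * (χ : G → ℂ) t := by
    intro χ
    have h := sum_mul_central_apply χ 1 ha t
    rw [one_mul] at h
    rw [h, Finset.sum_eq_single (1 : G)]
    · simp [MonoidAlgebra.one_def]
    · intro g _ hg; simp [MonoidAlgebra.one_def, Finsupp.single_apply, Ne.symm hg]
    · simp
  conv_lhs => rw [IsClassFunction.eq_sum hθ]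
  simp only [Finset.sum_apply, Pi.smul_apply, smul_eq_mul, Finset.mul_sum]
  rw [Finset.sum_comm]
  refine Finset.sum_congr rfl fun χ _ => ?_
  rw [mul_assoc, ← hχ, Finset.mul_sum]
  exact Finset.sum_congr rfl fun y _ => by ring

/-- A central element all of whose central characters vanish modulo M has, around every element,
a coefficient sum over p-element translates vanishing modulo M. -/
theorem sum_translate_memLocalIdeal [Fintype G] [M.IsPrime] (hM : IsPModular p M)
    {a : MonoidAlgebra ℂ G} (ha : IsCentralElt a)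
    (h : ∀ χ : IrrCharacter G, MemLocalIdeal M (omega (χ : G → ℂ) a)) (t : G) :
    MemLocalIdeal M (∑ y, a.coeff y * pElemInd p G (y * t)) := by
  haveI := Fintype.ofFinite (IrrCharacter G)
  rw [sum_central_translate ha isClassFunction_pElemInd]
  refine memLocalIdeal_sum _ _ fun χ _ => ?_
  exact memLocalIdeal_mul_right (irr_mem_locRing χ t)
    (memLocalIdeal_mul_left ((isSpanR_pElemInd hM).2 χ) (h χ))

theorem omega_regSum [Fintype G] (χ : IrrCharacter G) :
    omega (χ : G → ℂ) (regSum p G) =
      (∑ g : G, if p ∣ orderOf g then 0 else (χ : G → ℂ) g) / (χ : G → ℂ) 1 := by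
  rw [omega_eq_sum]
  congr 1
  refine Finset.sum_congr rfl fun g _ => ?_
  simp only [regSum, coeff_mkA]
  split <;> simp

theorem omega_regSum_congr [Fintype G] (hM : IsPModular p M) (χ : IrrCharacter G) :
    MemLocalIdeal M (omega (χ : G → ℂ) (regSum p G) -
      (Nat.card {y : G // ¬ p ∣ orderOf y} : ℂ) * (if χ ∈ principalBlock M G then 1 else 0)) := by
  haveI := prime_of_isPModular hM
  let one : IrrCharacter G := ⟨fun _ => 1, isIrrCharacter_one⟩
  split
  next hχ =>
    have h1 : omega (one : G → ℂ) (regSum p G) = (Nat.card {y : G // ¬ p ∣ orderOf y} : ℂ) := by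
      rw [omega_regSum, Nat.card_eq_fintype_card, Fintype.card_subtype, Finset.natCast_card_filter]
      simp [one, ite_not]
    rw [mul_one, ← h1]
    exact omega_congr (χ := χ) (ψ := one) (sameBlock_symm hχ) isCentralElt_regSum isLocElt_regSum
  next hχ =>
    rw [mul_zero, sub_zero, omega_regSum]
    have h0 : ∑ g : G, (if p ∣ orderOf g then (0 : ℂ) else (χ : G → ℂ) g) = 0 := by
      have := sum_regular_eq_zero hM (χ := χ) (ψ := one) fun hs => hχ (sameBlock_symm hs)
      simpa [one] using this
    rw [h0, zero_div]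
    exact memLocalIdeal_zero

theorem pElemInd_inv (x : G) : pElemInd p G x⁻¹ = pElemInd p G x := by
  simp only [pElemInd, orderOf_inv]

theorem sum_regSum_pElemInd [Fintype G] (hp : p.Prime) :
    ∑ y, (regSum p G).coeff y * pElemInd p G (y * 1) = 1 := by
  rw [Finset.sum_eq_single (1 : G)]
  · simp [regSum, pElemInd, hp.one_lt.ne']
    exact ⟨0, by simp⟩
  · intro y _ hy
    simp only [regSum, coeff_mkA, pElemInd, mul_one]
    split
    · simp
    next hr =>
      rw [one_mul, if_neg]
      rintro ⟨k, hk⟩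
      rcases Nat.eq_zero_or_pos k with rfl | hk0
      · exact hy (orderOf_eq_one_iff.1 (by simpa using hk))
      · exact hr (hk ▸ dvd_pow_self p hk0.ne')
  · simp

theorem not_dvd_card_regular (hM : IsPModular p M) :
    ¬ p ∣ Nat.card {y : G // ¬ p ∣ orderOf y} := by
  haveI := prime_of_isPModular hM
  haveI := Fintype.ofFinite G
  intro hd
  have hN := (memLocalIdeal_natCast_iff hM.1 hM.2.2 (Nat.card {y : G // ¬ p ∣ orderOf y})).2 hd
  have h := sum_translate_memLocalIdeal hM (isCentralElt_regSum (p := p) (G := G)) (fun χ => by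
    have := memLocalIdeal_add (omega_regSum_congr hM χ)
      (memLocalIdeal_mul_right (r := if χ ∈ principalBlock M G then (1 : ℂ) else 0)
        (by split <;> [exact one_mem _; exact zero_mem _]) hN)
    rwa [sub_add_cancel] at this) 1
  rw [sum_regSum_pElemInd hM.1] at h
  exact not_memLocalIdeal_one h

theorem blockPart_pElemInd [Fintype G] (hM : IsPModular p M) {B : Set (IrrCharacter G)}
    (hB : IsPBlock M B) {g : G} (hg : ¬ p ∣ orderOf g) :
    blockPart B (pElemInd p G) g⁻¹ = blockCoeff B g := by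
  have hr := blockPart_regular (p := p) hM hB (pElemInd p G) g⁻¹
  rw [orderOf_inv, if_neg hg] at hr
  rw [← hr, blockPart_eq_sum, Finset.sum_eq_single (1 : G)]
  · have h1 : pElemInd p G 1 = 1 := if_pos ⟨0, by simp⟩
    rw [if_neg (by simpa using hM.1.one_lt.ne'), h1, one_mul, blockCoeff]
    congr 1
    simp only [blockKernel]
    refine finsum_congr fun χ => finsum_congr fun _ => ?_
    rw [conj_irr_one, IsCharacter.map_inv (IsIrrCharacter.isCharacter χ.2), mul_comm]
  · intro y _ hy
    split
    · rw [zero_mul]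
    next hr =>
      rw [pElemInd, if_neg, zero_mul]
      rintro ⟨k, hk⟩
      rcases Nat.eq_zero_or_pos k with rfl | hk0
      · exact hy (orderOf_eq_one_iff.1 (by simpa using hk))
      · exact hr (hk ▸ dvd_pow_self p hk0.ne')
  · simp

theorem natCast_card_pairs [Fintype G] (g : G) :
    (Nat.card {xy : G × G // (∃ k : ℕ, orderOf xy.1 = p ^ k) ∧ ¬ p ∣ orderOf xy.2 ∧ xy.1 * xy.2 = g} : ℂ) =
      ∑ y, (regSum p G).coeff y * pElemInd p G (y * g⁻¹) := by
  have e : {xy : G × G // (∃ k : ℕ, orderOf xy.1 = p ^ k) ∧ ¬ p ∣ orderOf xy.2 ∧ xy.1 * xy.2 = g} ≃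
      {y : G // (∃ k : ℕ, orderOf (y * g⁻¹) = p ^ k) ∧ ¬ p ∣ orderOf y} :=
    { toFun := fun a => ⟨a.1.2, by
        obtain ⟨k, hk⟩ := a.2.1
        refine ⟨⟨k, ?_⟩, a.2.2.1⟩
        rw [← hk, ← orderOf_inv a.1.1]
        congr 1
        conv_lhs => arg 2; arg 1; rw [← a.2.2.2]
        group⟩
      invFun := fun y => ⟨(g * y.1⁻¹, y.1), by
        obtain ⟨k, hk⟩ := y.2.1
        exact ⟨⟨k, by rw [← hk, ← orderOf_inv (y.1 * g⁻¹), mul_inv_rev, inv_inv]⟩, y.2.2,
          inv_mul_cancel_right g y.1⟩⟩
      left_inv := fun a => Subtype.ext (Prod.ext (by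
        show g * a.1.2⁻¹ = a.1.1
        exact (eq_mul_inv_iff_mul_eq.2 a.2.2.2).symm) rfl)
      right_inv := fun y => rfl }
  rw [Nat.card_congr e, Nat.card_eq_fintype_card, Fintype.card_subtype, Finset.natCast_card_filter]
  refine Finset.sum_congr rfl fun y _ => ?_
  simp only [regSum, coeff_mkA, pElemInd]
  by_cases h1 : p ∣ orderOf y <;> by_cases h2 : ∃ k : ℕ, orderOf (y * g⁻¹) = p ^ k <;> simp [h1, h2]

/-- The count of factorisations is congruent to the principal idempotent coefficient times the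
number of regular elements. -/
theorem card_pairs_congr (hM : IsPModular p M) {g : G} (hg : ¬ p ∣ orderOf g) :
    MemLocalIdeal M ((Nat.card {xy : G × G //
        (∃ k : ℕ, orderOf xy.1 = p ^ k) ∧ ¬ p ∣ orderOf xy.2 ∧ xy.1 * xy.2 = g} : ℂ) -
      (Nat.card {y : G // ¬ p ∣ orderOf y} : ℂ) * blockCoeff (principalBlock M G) g) := by
  haveI := prime_of_isPModular hM
  haveI := Fintype.ofFinite G
  let one : IrrCharacter G := ⟨fun _ => 1, isIrrCharacter_one⟩
  have hB : IsPBlock M (principalBlock M G) := ⟨one, rfl⟩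
  set N : ℂ := (Nat.card {y : G // ¬ p ∣ orderOf y} : ℂ)
  set e := blockIdem (principalBlock M G) with he
  have hec := isCentralElt_blockIdem (principalBlock M G)
  have h := sum_translate_memLocalIdeal hM ((isCentralElt_regSum (p := p)).sub (hec.smul N))
    (fun χ => by
      rw [omega_sub, omega_smul, omega_blockIdem]
      exact omega_regSum_congr hM χ) g⁻¹
  simp only [MonoidAlgebra.coeff_sub, MonoidAlgebra.coeff_smul, Finsupp.sub_apply, Finsupp.smul_apply,
    Pi.sub_apply, Pi.smul_apply, smul_eq_mul, sub_mul, Finset.sum_sub_distrib, mul_assoc,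
    ← Finset.mul_sum] at h
  rw [← natCast_card_pairs] at h
  have he2 : ∑ y, e.coeff y * pElemInd p G (y * g⁻¹) = blockCoeff (principalBlock M G) g := by
    rw [← blockPart_pElemInd hM hB hg, blockPart_eq_convolution _ isClassFunction_pElemInd]
    simp [he, blockIdem]
  rwa [he2] at h

/-- Külshammer's formula. -/
theorem blockCoeff_principal_congr (hM : IsPModular p M) {g : G} (hg : ¬ p ∣ orderOf g) :
    MemLocalIdeal M (blockCoeff (principalBlock M G) g -
      (Nat.card {xy : G × G //
        (∃ k : ℕ, orderOf xy.1 = p ^ k) ∧ ¬ p ∣ orderOf xy.2 ∧ xy.1 * xy.2 = g} : ℂ) /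
        (Nat.card {y : G // ¬ p ∣ orderOf y} : ℂ)) := by
  haveI := prime_of_isPModular hM
  have hn := not_dvd_card_regular (G := G) hM
  have hne : (Nat.card {y : G // ¬ p ∣ orderOf y} : ℂ) ≠ 0 := by
    rw [Nat.cast_ne_zero]; exact fun h => hn (h ▸ dvd_zero p)
  have := memLocalIdeal_mul_left (inv_natCast_mem_locRing hM.1 hM.2.2 hn)
    (memLocalIdeal_neg (card_pairs_congr hM hg))
  convert this using 1
  field_simp
  ring

theorem card_modEq_of_commute (hp : p.Prime) {Q : Subgroup G} (hQ : IsPGroup p Q)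
    {α : Type u} [Finite α] (s : Q → α → α) (h1 : ∀ a, s 1 a = a)
    (hmul : ∀ q r a, s (q * r) a = s q (s r a)) {β : Type u}
    (e : {a : α // ∀ q, s q a = a} ≃ β) : Nat.card α ≡ Nat.card β [MOD p] := by
  haveI := Fact.mk hp
  letI : MulAction Q α := { smul := s, one_smul := h1, mul_smul := hmul }
  have h := IsPGroup.card_modEq_card_fixedPoints (G := Q) hQ α
  rwa [Nat.card_congr ((Equiv.refl _).trans e : (MulAction.fixedPoints Q α) ≃ β)] at h

theorem natCast_congr_of_modEq [M.IsPrime] (hM : IsPModular p M) {a b : ℕ} (h : a ≡ b [MOD p]) :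
    MemLocalIdeal M ((a : ℂ) - (b : ℂ)) := by
  obtain ⟨c, hc⟩ := (Nat.modEq_iff_dvd.1 h.symm : (p : ℤ) ∣ (a : ℤ) - b)
  have : (a : ℂ) - (b : ℂ) = ((p : AlgInt) : ℂ) * ((c : ℤ) : ℂ) := by
    have := congrArg (fun z : ℤ => (z : ℂ)) hc
    push_cast at this ⊢
    exact this
  rw [this]
  exact memLocalIdeal_mul_right (intCast_mem_locRing c) ((memLocalIdeal_algInt_iff _).2 hM.2.2)

theorem orderOf_centralizer_coe {Q : Subgroup G} (c : Subgroup.centralizer (Q : Set G)) :
    orderOf (c : G) = orderOf c := Subgroup.orderOf_coe c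

/-- Brauer's third main theorem: the principal idempotent truncates to the principal idempotent
of the centralizer. -/
theorem blockCoeff_principal_centralizer (hM : IsPModular p M) {Q : Subgroup G} (hQ : IsPGroup p Q)
    (c : Subgroup.centralizer (Q : Set G)) :
    MemLocalIdeal M (blockCoeff (principalBlock M G) (c : G) -
      blockCoeff (principalBlock M (Subgroup.centralizer (Q : Set G))) c) := by
  haveI := prime_of_isPModular hM
  by_cases hc : p ∣ orderOf c
  · rw [blockCoeff_eq_zero_of_dvd hM (B := principalBlock M G) ⟨⟨fun _ => 1, isIrrCharacter_one⟩, rfl⟩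
        (show p ∣ orderOf (c : G) by rwa [orderOf_centralizer_coe]),
      blockCoeff_eq_zero_of_dvd hM (B := principalBlock M (Subgroup.centralizer (Q : Set G)))
        ⟨⟨fun _ => 1, isIrrCharacter_one⟩, rfl⟩ hc, sub_zero]
    exact memLocalIdeal_zero
  have hcG : ¬ p ∣ orderOf (c : G) := by rwa [orderOf_centralizer_coe]
  have a1 := card_pairs_congr hM hcG
  have a2 := card_pairs_congr hM hc
  have hconj : ∀ (q : G) (x : G), orderOf (q * x * q⁻¹) = orderOf x := fun q x => orderOf_conj_eq x q
  have hcomm : ∀ q ∈ Q, q * (c : G) * q⁻¹ = (c : G) := fun q hq => by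
    rw [Subgroup.mem_centralizer_iff.1 c.2 q hq, mul_inv_cancel_right]
  have hmem : ∀ x : G, (∀ q : Q, (q : G) * x * (q : G)⁻¹ = x) →
      x ∈ Subgroup.centralizer (Q : Set G) := fun x h => Subgroup.mem_centralizer_iff.2 fun q hq => by
    have := h ⟨q, hq⟩
    calc q * x = q * x * q⁻¹ * q := by group
      _ = x * q := by rw [this]
  have b1 : MemLocalIdeal M ((Nat.card {xy : G × G //
        (∃ k : ℕ, orderOf xy.1 = p ^ k) ∧ ¬ p ∣ orderOf xy.2 ∧ xy.1 * xy.2 = (c : G)} : ℂ) -
      (Nat.card {xy : Subgroup.centralizer (Q : Set G) × Subgroup.centralizer (Q : Set G) //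
        (∃ k : ℕ, orderOf xy.1 = p ^ k) ∧ ¬ p ∣ orderOf xy.2 ∧ xy.1 * xy.2 = c} : ℂ)) := by
    refine natCast_congr_of_modEq hM (card_modEq_of_commute hM.1 hQ
      (fun q a => ⟨((q : G) * a.1.1 * (q : G)⁻¹, (q : G) * a.1.2 * (q : G)⁻¹), by
        simp only [hconj]
        refine ⟨a.2.1, a.2.2.1, ?_⟩
        calc (q : G) * a.1.1 * (q : G)⁻¹ * ((q : G) * a.1.2 * (q : G)⁻¹)
            = (q : G) * (a.1.1 * a.1.2) * (q : G)⁻¹ := by group
          _ = _ := by rw [a.2.2.2, hcomm q q.2]⟩)
      (fun a => Subtype.ext (Prod.ext (show ((1 : Q) : G) * a.1.1 * ((1 : Q) : G)⁻¹ = a.1.1 by simp)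
        (show ((1 : Q) : G) * a.1.2 * ((1 : Q) : G)⁻¹ = a.1.2 by simp)))
      (fun q r a => Subtype.ext (Prod.ext
        (show ((q * r : Q) : G) * a.1.1 * ((q * r : Q) : G)⁻¹ =
          (q : G) * ((r : G) * a.1.1 * (r : G)⁻¹) * (q : G)⁻¹ by simp [mul_assoc])
        (show ((q * r : Q) : G) * a.1.2 * ((q * r : Q) : G)⁻¹ =
          (q : G) * ((r : G) * a.1.2 * (r : G)⁻¹) * (q : G)⁻¹ by simp [mul_assoc]))) ?_)
    exact
      { toFun := fun a => ⟨(⟨a.1.1.1, hmem _ fun q => congrArg (fun z => z.1.1) (a.2 q)⟩,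
            ⟨a.1.1.2, hmem _ fun q => congrArg (fun z => z.1.2) (a.2 q)⟩),
          by simpa only [← orderOf_centralizer_coe] using a.1.2.1,
          by simpa only [← orderOf_centralizer_coe] using a.1.2.2.1, Subtype.ext a.1.2.2.2⟩
        invFun := fun a => ⟨⟨((a.1.1 : G), (a.1.2 : G)),
            by simpa only [orderOf_centralizer_coe] using a.2.1,
            by simpa only [orderOf_centralizer_coe] using a.2.2.1,
            congrArg Subtype.val a.2.2.2⟩, fun q => Subtype.ext (Prod.ext
              (by show (q : G) * (a.1.1 : G) * (q : G)⁻¹ = _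
                  rw [Subgroup.mem_centralizer_iff.1 a.1.1.2 q q.2, mul_inv_cancel_right])
              (by show (q : G) * (a.1.2 : G) * (q : G)⁻¹ = _
                  rw [Subgroup.mem_centralizer_iff.1 a.1.2.2 q q.2, mul_inv_cancel_right]))⟩
        left_inv := fun a => rfl
        right_inv := fun a => rfl }
  have b2 : MemLocalIdeal M ((Nat.card {y : G // ¬ p ∣ orderOf y} : ℂ) -
      (Nat.card {y : Subgroup.centralizer (Q : Set G) // ¬ p ∣ orderOf y} : ℂ)) := by
    refine natCast_congr_of_modEq hM (card_modEq_of_commute hM.1 hQ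
      (fun q a => ⟨(q : G) * a.1 * (q : G)⁻¹, by rw [hconj]; exact a.2⟩)
      (fun a => Subtype.ext (show ((1 : Q) : G) * a.1 * ((1 : Q) : G)⁻¹ = a.1 by simp))
      (fun q r a => Subtype.ext (show ((q * r : Q) : G) * a.1 * ((q * r : Q) : G)⁻¹ =
          (q : G) * ((r : G) * a.1 * (r : G)⁻¹) * (q : G)⁻¹ by simp [mul_assoc])) ?_)
    exact
      { toFun := fun a => ⟨⟨a.1.1, hmem _ fun q => congrArg Subtype.val (a.2 q)⟩,
          by simpa only [← orderOf_centralizer_coe] using a.1.2⟩
        invFun := fun a => ⟨⟨(a.1 : G), by simpa only [orderOf_centralizer_coe] using a.2⟩,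
          fun q => Subtype.ext (by
            show (q : G) * (a.1 : G) * (q : G)⁻¹ = _
            rw [Subgroup.mem_centralizer_iff.1 a.1.2 q q.2, mul_inv_cancel_right])⟩
        left_inv := fun a => rfl
        right_inv := fun a => rfl }
  have hB : IsPBlock M (principalBlock M G) := ⟨⟨fun _ => 1, isIrrCharacter_one⟩, rfl⟩
  have hn := not_dvd_card_regular (G := Subgroup.centralizer (Q : Set G)) hM
  have hne : (Nat.card {y : Subgroup.centralizer (Q : Set G) // ¬ p ∣ orderOf y} : ℂ) ≠ 0 := by
    rw [Nat.cast_ne_zero]; exact fun h => hn (h ▸ dvd_zero p)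
  have h3 := memLocalIdeal_sub (memLocalIdeal_add
    (memLocalIdeal_sub b1 a1) a2) (memLocalIdeal_mul_right (blockCoeff_mem_locRing hB (c : G)) b2)
  have := memLocalIdeal_mul_left (inv_natCast_mem_locRing hM.1 hM.2.2 hn) h3
  convert this using 1
  field_simp
  ring

/-- The Brauer pairs of the principal block are the principal ones. -/
theorem brauerOmega_principal (hM : IsPModular p M) {Q : Subgroup G} (hQ : IsPGroup p Q)
    (ξ : IrrCharacter (Subgroup.centralizer (Q : Set G))) :
    MemLocalIdeal M (brauerOmega Q (blockCoeff (principalBlock M G))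
        (ξ : Subgroup.centralizer (Q : Set G) → ℂ) -
      (if ξ ∈ principalBlock M (Subgroup.centralizer (Q : Set G)) then 1 else 0)) := by
  haveI := prime_of_isPModular hM
  haveI := Fintype.ofFinite (Subgroup.centralizer (Q : Set G))
  have h1 : brauerOmega Q (blockCoeff (principalBlock M G))
      (ξ : Subgroup.centralizer (Q : Set G) → ℂ) =
      omega (ξ : Subgroup.centralizer (Q : Set G) → ℂ)
        (resH (Subgroup.centralizer (Q : Set G)) (blockIdem (principalBlock M G))) := by
    rw [brauerOmega, finsum_eq_sum_of_fintype, omega_eq_sum, Finset.sum_div]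
    simp [resH, blockIdem]
  rw [h1, ← omega_blockIdem (principalBlock M (Subgroup.centralizer (Q : Set G))) ξ, ← omega_sub]
  refine memLocalIdeal_omega_of_coeff ξ
    ((isCentralElt_resH _ (isCentralElt_blockIdem _)).sub (isCentralElt_blockIdem _)) fun c => ?_
  simpa [resH, blockIdem] using blockCoeff_principal_centralizer hM hQ c

end Cfsg.Agent.Block
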