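import Cfsg.Prelude.Def_Blocks
import Mathlib.GroupTheory.OrderOfElement
import Mathlib.RingTheory.Coprime.Basic
import Mathlib.RingTheory.Int.Basic
import Mathlib.Algebra.GroupWithZero.NonZeroDivisors
import Mathlib.Tactic

/-!
# The `p`-part of a group element
-/

set_option autoImplicit false

namespace Cfsg.Agent.Block

universe u

variable {G : Type u} [Group G] {p : ℕ}

/-- Every element has a `p`-part, which is a power of it. -/
theorem exists_isPPart [Finite G] (hp : p.Prime) (g : G) :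
    ∃ x y : G, x * y = g ∧ Commute x y ∧ (∃ k : ℕ, orderOf x = p ^ k) ∧ ¬ p ∣ orderOf y ∧
      x ∈ Subgroup.zpowers g ∧ y ∈ Subgroup.zpowers g := by
  obtain ⟨k, m, hm, hord⟩ := Nat.exists_eq_pow_mul_and_not_dvd (orderOf_pos g).ne' p hp.ne_one
  have hcop : IsCoprime ((p : ℤ) ^ k) (m : ℤ) :=
    ((Nat.prime_iff_prime_int.1 hp).coprime_iff_not_dvd.2 (by exact_mod_cast hm)).pow_left
  obtain ⟨α, β, hab⟩ := hcop
  refine ⟨g ^ (β * m), g ^ (α * (p : ℤ) ^ k), ?_, (Commute.refl g).zpow_zpow _ _, ?_, ?_,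
    ⟨_, rfl⟩, ⟨_, rfl⟩⟩
  · rw [← zpow_add, add_comm, hab, zpow_one]
  · have h1 : orderOf (g ^ (β * m)) ∣ p ^ k := by
      refine orderOf_dvd_of_pow_eq_one ?_
      rw [← zpow_natCast, ← zpow_mul, mul_assoc, mul_comm, zpow_mul,
        show (m : ℤ) * ((p ^ k : ℕ) : ℤ) = ((orderOf g : ℕ) : ℤ) by rw [hord]; push_cast; ring,
        zpow_natCast, pow_orderOf_eq_one, one_zpow]
    obtain ⟨j, _, hj⟩ := (Nat.dvd_prime_pow hp).1 h1
    exact ⟨j, hj⟩
  · have h1 : orderOf (g ^ (α * (p : ℤ) ^ k)) ∣ m := by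
      refine orderOf_dvd_of_pow_eq_one ?_
      rw [← zpow_natCast, ← zpow_mul, mul_assoc, mul_comm, zpow_mul,
        show (p : ℤ) ^ k * (m : ℤ) = ((orderOf g : ℕ) : ℤ) by rw [hord]; push_cast; ring,
        zpow_natCast, pow_orderOf_eq_one, one_zpow]
    exact fun h => hm (h.trans h1)

theorem isPPart_exists [Finite G] (hp : p.Prime) (g : G) : ∃ x, IsPPart p g x := by
  obtain ⟨x, y, h1, h2, h3, h4, -, -⟩ := exists_isPPart hp g
  exact ⟨x, y, h1, h2, h3, h4⟩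

theorem isPPart_unique [Finite G] (hp : p.Prime) {g x x' : G} (h : IsPPart p g x) (h' : IsPPart p g x') :
    x = x' := by
  obtain ⟨X, Y, hXY, hXYc, hX, hY, hXg, hYg⟩ := exists_isPPart hp g
  suffices key : ∀ {a : G}, IsPPart p g a → a = X from (key h).trans (key h').symm
  intro a ha
  obtain ⟨b, hab, habc, ⟨i, hi⟩, hb⟩ := ha
  obtain ⟨j, hj⟩ := hX
  have hga : Commute g a := hab ▸ ((Commute.refl a).mul_left habc.symm)
  have hgb : Commute g b := hab ▸ (habc.mul_left (Commute.refl b))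
  obtain ⟨s, hs⟩ := hXg
  obtain ⟨t, ht⟩ := hYg
  have haX : Commute a X := hs ▸ hga.symm.zpow_right s
  have hbY : Commute b Y := ht ▸ hgb.symm.zpow_right t
  have heq : X⁻¹ * a = Y * b⁻¹ := by
    rw [inv_mul_eq_iff_eq_mul, ← mul_assoc, hXY, ← hab, mul_inv_cancel_right]
  have h1 : orderOf (X⁻¹ * a) ∣ p ^ (j + i) := by
    refine (haX.symm.inv_left.orderOf_mul_dvd_lcm).trans (Nat.lcm_dvd ?_ ?_)
    · rw [orderOf_inv, hj]; exact pow_dvd_pow p (Nat.le_add_right _ _)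
    · rw [hi]; exact pow_dvd_pow p (Nat.le_add_left _ _)
  have h2 : ¬ p ∣ orderOf (X⁻¹ * a) := by
    rw [heq]
    intro hd
    have := hd.trans ((hbY.symm.inv_right.orderOf_mul_dvd_lcm).trans (Nat.lcm_dvd_mul _ _))
    rw [orderOf_inv] at this
    exact (hp.dvd_mul.1 this).elim hY hb
  obtain ⟨l, _, hl⟩ := (Nat.dvd_prime_pow hp).1 h1
  rcases l with _ | l
  · rw [pow_zero, orderOf_eq_one_iff, inv_mul_eq_one] at hl
    exact hl.symm
  · exact absurd ⟨p ^ l, by rw [hl, pow_succ']⟩ h2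

theorem isPPart_one_iff [Finite G] (hp : p.Prime) {g : G} : IsPPart p g 1 ↔ ¬ p ∣ orderOf g := by
  refine ⟨fun ⟨y, h1, _, _, h4⟩ => by rwa [← h1, one_mul], fun h => ?_⟩
  exact ⟨g, one_mul g, Commute.one_left g, ⟨0, by simp⟩, h⟩

theorem IsPPart.commute {g x : G} (h : IsPPart p g x) : Commute g x := by
  obtain ⟨y, h1, h2, -, -⟩ := h
  exact h1 ▸ ((Commute.refl x).mul_left h2.symm)

theorem isPPart_conj {g x : G} (h : IsPPart p g x) (t : G) :
    IsPPart p (t * g * t⁻¹) (t * x * t⁻¹) := by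
  obtain ⟨y, h1, h2, ⟨k, hk⟩, h4⟩ := h
  have e : ∀ a : G, orderOf (t * a * t⁻¹) = orderOf a := fun a =>
    orderOf_injective (MulAut.conj t).toMonoidHom (MulAut.conj t).injective a
  refine ⟨t * y * t⁻¹, by rw [← h1]; group, ?_, ⟨k, by rw [e, hk]⟩, by rwa [e]⟩
  exact h2.map (MulAut.conj t).toMonoidHom

end Cfsg.Agent.Block
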