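import Cfsg.Agent.Lib.Block.RegInner

/-!
# Multiples of characters on the regular elements that are generalised characters
-/

set_option autoImplicit false

open Cfsg.Agent.Char
open scoped ComplexConjugate

namespace Cfsg.Agent.Block

universe u

variable {G : Type u} [Group G]

theorem classInner_regRestrict [Fintype G] (p : ℕ) (c : ℂ) (χ ψ : G → ℂ) :
    classInner (fun x : G => if p ∣ orderOf x then 0 else c * χ x) ψ =
      c * regInner p χ ψ / (Nat.card G : ℂ) := by
  rw [classInner, regInner, Finset.mul_sum, Finset.mul_sum, Finset.sum_div]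
  refine Finset.sum_congr rfl fun x _ => ?_
  split
  · simp
  · ring

/-- The multiple `p ^ (a - v)` of a character on the regular elements is generalised. -/
theorem isGeneralizedCharacter_regRestrict [Finite G] {p : ℕ} (hp : p.Prime) (χ : IrrCharacter G)
    {e : ℕ} (he : (Nat.card G).factorization p - (charDegree (χ : G → ℂ)).factorization p ≤ e) :
    IsGeneralizedCharacter G (fun x : G => if p ∣ orderOf x then (0 : ℂ) else
      ((p ^ e : ℕ) : ℂ) * (χ : G → ℂ) x) := by
  haveI := Fintype.ofFinite G
  refine isGeneralizedCharacter_of_classInner_int ?_ fun ψ hψ => ?_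
  · exact isClassFunction_regRestrict p (χ := fun x => ((p ^ e : ℕ) : ℂ) * (χ : G → ℂ) x)
      fun g h => by
        show _ * _ = _ * _
        rw [IsCharacter.isClassFunction (IsIrrCharacter.isCharacter χ.2) g h]
  · obtain ⟨z, hz⟩ := exists_int_regInner hp ⟨ψ, hψ⟩ χ
    refine ⟨(p ^ (e - ((Nat.card G).factorization p - (charDegree (χ : G → ℂ)).factorization p)) : ℕ) * z, ?_⟩
    rw [classInner_regRestrict, regInner_comm p (IsIrrCharacter.isCharacter χ.2)
      (IsIrrCharacter.isCharacter hψ)]
    rw [Int.cast_mul, Int.cast_natCast, ← hz, ← mul_div_assoc, ← mul_assoc, ← Nat.cast_mul, ← pow_add,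
      Nat.sub_add_cancel he]

/-- The multiple `p ^ a / p ^ (v + 1)` is not generalised. -/
theorem not_isGeneralizedCharacter_regRestrict [Finite G] {p : ℕ} (hp : p.Prime) (χ : IrrCharacter G) :
    ¬ IsGeneralizedCharacter G (fun x : G => if p ∣ orderOf x then (0 : ℂ) else
      ((p ^ (Nat.card G).factorization p : ℕ) : ℂ) /
        ((p ^ ((charDegree (χ : G → ℂ)).factorization p + 1) : ℕ) : ℂ) * (χ : G → ℂ) x) := by
  classical
  intro hf
  haveI := Fact.mk hp
  haveI := Fintype.ofFinite G
  obtain ⟨P⟩ : Nonempty (Sylow p G) := inferInstance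
  haveI := Fintype.ofFinite (P : Subgroup G)
  set v := (charDegree (χ : G → ℂ)).factorization p
  have h1 := IsGeneralizedCharacter.restrict hf (P : Subgroup G)
  obtain ⟨z, hz⟩ := classInner_int_of_isGeneralized h1
    (isGeneralizedCharacter_one (G := ↥(P : Subgroup G)))
  have hc := charDegree_cast (IsIrrCharacter.isCharacter χ.2)
  rw [classInner, Finset.sum_eq_single (1 : ↥(P : Subgroup G)), Sylow.card_eq_multiplicity] at hz
  · simp only [Subgroup.coe_one, orderOf_one, if_neg hp.not_dvd_one, Pi.one_apply, map_one, mul_one,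
      ← hc] at hz
    have hp0 : ((p ^ (Nat.card G).factorization p : ℕ) : ℂ) ≠ 0 :=
      Nat.cast_ne_zero.2 (pow_ne_zero _ hp.ne_zero)
    rw [← mul_assoc, ← mul_div_assoc, inv_mul_cancel₀ hp0, one_div, inv_mul_eq_iff_eq_mul₀
      (Nat.cast_ne_zero.2 (pow_ne_zero _ hp.ne_zero))] at hz
    have h2 : ((charDegree (χ : G → ℂ) : ℤ)) = ((p ^ (v + 1) : ℕ) : ℤ) * z := by exact_mod_cast hz
    have h3 : p ^ (v + 1) ∣ charDegree (χ : G → ℂ) := Int.natCast_dvd_natCast.1 (Dvd.intro _ h2.symm)
    exact Nat.pow_succ_factorization_not_dvd (charDegree_pos χ.2).ne' hp h3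
  · intro x _ hx
    obtain ⟨k, hk⟩ := IsPGroup.iff_orderOf.1 P.2 x
    have hd : p ∣ orderOf (x : G) := by
      rw [Subgroup.orderOf_coe, hk]
      rcases k with _ | k
      · exact absurd (orderOf_eq_one_iff.1 (by simpa using hk)) hx
      · exact dvd_pow_self p k.succ_ne_zero
    show (if p ∣ orderOf (x : G) then (0 : ℂ) else _) * _ = 0
    rw [if_pos hd, zero_mul]
  · simp

end Cfsg.Agent.Block
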