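import Cfsg.Agent.Lib.Block.Height
import Cfsg.Agent.Lib.Block.RegVirtual
import Cfsg.Agent.Lib.Block.PPart
import Cfsg.Agent.Lib.Block.Kulshammer
import Cfsg.Agent.Lib.Char.DegreeIndex
import Cfsg.Agent.Lib.Char.Generalized
import Mathlib.GroupTheory.NoncommCoprod

/-!
Blocks with defect group P when G = P C(P): the characters are indexed by those of P.
-/

namespace Cfsg.Agent.Block

open Cfsg Cfsg.Agent.Char
open scoped Classical ComplexConjugate

set_option linter.style.haveILetI false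
set_option linter.unusedSectionVars false

universe u

variable {G : Type u} [Group G] [Finite G] {p : ℕ} {M : Ideal AlgInt} {P : Subgroup G}

theorem normal_of_sup_centralizer (hG : P ⊔ Subgroup.centralizer (P : Set G) = ⊤) : P.Normal := by
  rw [← Subgroup.normalizer_eq_top_iff, eq_top_iff, ← hG]
  exact sup_le Subgroup.le_normalizer (Subgroup.centralizer_le_normalizer _)

theorem centralizer_normal_of_normal [P.Normal] : (Subgroup.centralizer (P : Set G)).Normal := by
  refine ⟨fun c hc g => Subgroup.mem_centralizer_iff.2 fun q hq => ?_⟩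
  have h := Subgroup.mem_centralizer_iff.1 hc (g⁻¹ * q * g) (by
    simpa using (inferInstance : P.Normal).conj_mem q hq g⁻¹)
  calc q * (g * c * g⁻¹) = g * ((g⁻¹ * q * g) * c) * g⁻¹ := by group
    _ = g * (c * (g⁻¹ * q * g)) * g⁻¹ := by rw [h]
    _ = g * c * g⁻¹ * q := by group

theorem exists_index_centralizer (hp : p.Prime) (hP : IsPGroup p P) (hG : P ⊔ Subgroup.centralizer (P : Set G) = ⊤) :
    ∃ j : ℕ, (Subgroup.centralizer (P : Set G)).index = p ^ j := by
  haveI := normal_of_sup_centralizer hG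
  haveI := centralizer_normal_of_normal (P := P)
  haveI := Fact.mk hp
  rw [Subgroup.index_eq_card]
  refine IsPGroup.iff_card.1 fun q => ?_
  obtain ⟨g, rfl⟩ := QuotientGroup.mk_surjective q
  have hg : g ∈ P ⊔ Subgroup.centralizer (P : Set G) := hG ▸ Subgroup.mem_top g
  obtain ⟨u, hu, c, hc, rfl⟩ := Subgroup.mem_sup_of_normal_right.1 hg
  obtain ⟨k, hk⟩ := hP ⟨u, hu⟩
  refine ⟨k, ?_⟩
  have h1 : (QuotientGroup.mk (u * c) : G ⧸ Subgroup.centralizer (P : Set G)) = QuotientGroup.mk u := by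
    rw [QuotientGroup.mk_mul, (QuotientGroup.eq_one_iff c).2 hc, mul_one]
  rw [h1, ← QuotientGroup.mk_pow, show u ^ p ^ k = 1 from congrArg Subtype.val hk, QuotientGroup.mk_one]

theorem mem_centralizer_of_regular (hp : p.Prime) (hP : IsPGroup p P)
    (hG : P ⊔ Subgroup.centralizer (P : Set G) = ⊤) {y : G} (hy : ¬ p ∣ orderOf y) :
    y ∈ Subgroup.centralizer (P : Set G) := by
  haveI := normal_of_sup_centralizer hG
  haveI := centralizer_normal_of_normal (P := P)
  obtain ⟨j, hj⟩ := exists_index_centralizer hp hP hG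
  rw [← QuotientGroup.eq_one_iff, ← orderOf_eq_one_iff]
  refine Nat.eq_one_of_dvd_coprimes (((hp.coprime_iff_not_dvd.2 hy).symm).pow_right j) ?_ ?_
  · exact orderOf_map_dvd (QuotientGroup.mk' _) y
  · rw [← hj, Subgroup.index_eq_card]
    exact orderOf_dvd_natCard _

theorem commute_of_regular (hp : p.Prime) (hP : IsPGroup p P)
    (hG : P ⊔ Subgroup.centralizer (P : Set G) = ⊤) {x y : G} (hx : x ∈ P) (hy : ¬ p ∣ orderOf y) :
    Commute x y :=
  Subgroup.mem_centralizer_iff.1 (mem_centralizer_of_regular hp hP hG hy) x hx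

theorem isPPart_mul (hp : p.Prime) (hP : IsPGroup p P)
    (hG : P ⊔ Subgroup.centralizer (P : Set G) = ⊤) {x y : G} (hx : x ∈ P) (hy : ¬ p ∣ orderOf y) :
    IsPPart p (x * y) x := by
  haveI := Fact.mk hp
  obtain ⟨k, hk⟩ := IsPGroup.iff_orderOf.1 hP ⟨x, hx⟩
  exact ⟨y, rfl, commute_of_regular hp hP hG hx hy, ⟨k, by rw [← hk, Subgroup.orderOf_mk]⟩, hy⟩

/-- Elements whose p-part lies in P are products of P and regular elements. -/
theorem sum_section_normal [Fintype G] [Fintype P] (hp : p.Prime) (hP : IsPGroup p P)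
    (hG : P ⊔ Subgroup.centralizer (P : Set G) = ⊤) (F : G → ℂ)
    (hF : ∀ g : G, (¬ ∃ x : P, IsPPart p g (x : G)) → F g = 0) :
    ∑ g, F g = ∑ x : P, ∑ y : G, if p ∣ orderOf y then 0 else F ((x : G) * y) := by
  rw [← Fintype.sum_prod_type (f := fun q : P × G => if p ∣ orderOf q.2 then 0 else F ((q.1 : G) * q.2))]
  symm
  rw [← Finset.sum_filter_of_ne (p := fun q : P × G => ¬ p ∣ orderOf q.2) (s := Finset.univ)
    (fun q _ hne hd => hne (if_pos hd))]
  rw [← Finset.sum_filter_of_ne (p := fun g : G => ∃ x : P, IsPPart p g x) (s := Finset.univ) (f := F)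
    (fun g _ hne => not_not.1 fun h => hne (hF g h))]
  refine Finset.sum_bij (fun q _ => (q.1 : G) * q.2) (fun q hq => ?_) (fun q hq q' hq' h => ?_)
    (fun g hg => ?_) (fun q hq => if_neg (Finset.mem_filter.1 hq).2)
  · exact Finset.mem_filter.2 ⟨Finset.mem_univ _, q.1, isPPart_mul hp hP hG q.1.2 (Finset.mem_filter.1 hq).2⟩
  · have h1 := isPPart_mul hp hP hG q.1.2 (Finset.mem_filter.1 hq).2
    have h2 := isPPart_mul hp hP hG q'.1.2 (Finset.mem_filter.1 hq').2
    rw [h] at h1
    have e := isPPart_unique hp h1 h2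
    rw [e] at h
    exact Prod.ext (Subtype.ext e) (mul_left_cancel h)
  · obtain ⟨x, y, h1, -, -, h4⟩ := (Finset.mem_filter.1 hg).2
    exact ⟨(x, y), Finset.mem_filter.2 ⟨Finset.mem_univ _, h4⟩, h1⟩

theorem apply_mul_of_mem_kernel {χ : G → ℂ} (hχ : IsCharacter G χ) {x : G} (hx : χ x = χ 1) (y : G) :
    χ (x * y) = χ y := by
  obtain ⟨n, ρ, rfl⟩ := hχ
  have h := (character_eq_finrank_iff ρ x).1 (hx.trans ρ.char_one)
  rw [Representation.character, Representation.character, map_mul, h]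
  rfl

theorem apply_eq_one_iff_sum_ne_zero [Fintype G] [P.Normal] [Fintype P] (χ : IrrCharacter G) :
    (∀ x ∈ P, (χ : G → ℂ) x = (χ : G → ℂ) 1) ↔ ∑ x : P, (χ : G → ℂ) x ≠ 0 := by
  constructor
  · intro h
    rw [Finset.sum_congr rfl fun (x : P) _ => h x x.2, Finset.sum_const, nsmul_eq_mul]
    exact mul_ne_zero (Nat.cast_ne_zero.2 Finset.univ_nonempty.card_pos.ne') (IsIrrCharacter.apply_one_ne_zero χ.2)
  · intro hne x hx
    let a : MonoidAlgebra ℂ G := mkA fun g => if g ∈ P then 1 else 0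
    have ha : IsCentralElt a := fun g h => by
      simp only [a, coeff_mkA]
      exact if_congr ⟨fun hm => by simpa [mul_assoc] using (inferInstance : P.Normal).conj_mem _ hm h⁻¹,
        fun hm => (inferInstance : P.Normal).conj_mem _ hm h⟩ rfl rfl
    have hs : ∀ t ∈ P, ∑ y, a.coeff y * (χ : G → ℂ) (y * t) = ∑ x : P, (χ : G → ℂ) x := by
      intro t ht
      simp only [a, coeff_mkA, ite_mul, one_mul, zero_mul, ← Finset.sum_filter]
      refine Finset.sum_bij (fun y hy => (⟨y * t, mul_mem (Finset.mem_filter.1 hy).2 ht⟩ : P))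
        (fun _ _ => Finset.mem_univ _) (fun y _ y' _ h => mul_right_cancel (congrArg Subtype.val h))
        (fun z _ => ⟨(z : G) * t⁻¹, Finset.mem_filter.2 ⟨Finset.mem_univ _, mul_mem z.2 (inv_mem ht)⟩,
          Subtype.ext (inv_mul_cancel_right _ _)⟩) (fun _ _ => rfl)
    have key : ∀ t ∈ P, omega (χ : G → ℂ) a * (χ : G → ℂ) t = ∑ x : P, (χ : G → ℂ) x := fun t ht => by
      rw [← hs t ht]
      have h := sum_mul_central_apply χ 1 ha t
      rw [one_mul] at h
      rw [h, Finset.sum_eq_single (1 : G)]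
      · simp [MonoidAlgebra.one_def]
      · intro g _ hg; simp [MonoidAlgebra.one_def, Finsupp.single_apply, Ne.symm hg]
      · simp
    have h1 := key 1 (one_mem P)
    exact mul_left_cancel₀ (left_ne_zero_of_mul (h1 ▸ hne)) ((key x hx).trans h1.symm)

/-- Data: a character of B trivial on P with degree of minimal p-part. -/
structure CoreChar (p : ℕ) (P : Subgroup G) (θ : IrrCharacter G) : Prop where
  ker : ∀ x ∈ P, (θ : G → ℂ) x = (θ : G → ℂ) 1
  deg : (charDegree (θ : G → ℂ)).factorization p = P.index.factorization p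

theorem isCharacter_translate_prod {χ : G → ℂ} (hχ : IsCharacter G χ) :
    ∃ μ : P × Subgroup.centralizer (P : Set G) →* G,
      (∀ q, μ q = (q.1 : G) * (q.2 : G)) ∧ IsCharacter (P × Subgroup.centralizer (P : Set G)) fun q => χ (μ q) :=
  ⟨MonoidHom.noncommCoprod P.subtype (Subgroup.centralizer (P : Set G)).subtype fun x y =>
      Subgroup.mem_centralizer_iff.1 y.2 x x.2,
    fun q => rfl, isCharacter_comp hχ _⟩

/-- The coefficient of φ in χ near a regular element. -/
noncomputable def secCoef [Fintype P] (χ : G → ℂ) (φ : P → ℂ) (y : G) : ℂ :=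
  (Nat.card P : ℂ)⁻¹ * ∑ x : P, χ ((x : G) * y) * conj (φ x)

theorem isGeneralized_secCoef [Fintype P] (χ : IrrCharacter G) (φ : IrrCharacter P) :
    IsGeneralizedCharacter (Subgroup.centralizer (P : Set G))
      (fun y : Subgroup.centralizer (P : Set G) => secCoef (χ : G → ℂ) (φ : P → ℂ) y) := by
  haveI := Fintype.ofFinite (Subgroup.centralizer (P : Set G))
  refine isGeneralizedCharacter_of_classInner_int ?_ fun ψ hψ => ?_
  · intro y c
    simp only [secCoef, Subgroup.coe_mul, Subgroup.coe_inv]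
    congr 1
    refine Finset.sum_congr rfl fun x _ => ?_
    congr 1
    have hxc : (x : G) * (c : G) = (c : G) * (x : G) := Subgroup.mem_centralizer_iff.1 c.2 x x.2
    rw [← IsCharacter.isClassFunction (IsIrrCharacter.isCharacter χ.2) ((x : G) * (y : G)) (c : G)]
    congr 1
    rw [show (x : G) * ((c : G) * (y : G) * (c : G)⁻¹) = ((x : G) * (c : G)) * (y : G) * (c : G)⁻¹ by group, hxc]
    group
  · obtain ⟨μ, hμ, hch⟩ := isCharacter_translate_prod (P := P) (IsIrrCharacter.isCharacter χ.2)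
    obtain ⟨n, hn⟩ := classInner_natCast_of_isCharacter hch
      (isCharacter_mul (isCharacter_comp (IsIrrCharacter.isCharacter φ.2) (MonoidHom.fst P (Subgroup.centralizer (P : Set G))))
        (isCharacter_comp (IsIrrCharacter.isCharacter hψ) (MonoidHom.snd P (Subgroup.centralizer (P : Set G)))))
    refine ⟨n, ?_⟩
    rw [Int.cast_natCast, ← hn, classInner, classInner, Nat.card_prod, Fintype.sum_prod_type, Finset.sum_comm,
      Nat.cast_mul, mul_inv, mul_comm ((Nat.card P : ℂ))⁻¹, mul_assoc]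
    congr 1
    rw [Finset.mul_sum]
    refine Finset.sum_congr rfl fun y _ => ?_
    simp only [secCoef, hμ, Pi.mul_apply, Function.comp_apply, MonoidHom.coe_fst, MonoidHom.coe_snd, map_mul, Finset.mul_sum,
      Finset.sum_mul]
    exact Finset.sum_congr rfl fun x _ => by ring

theorem secCoef_mem_locRing [Fintype P] [M.IsPrime] (χ : IrrCharacter G) (φ : IrrCharacter P) {y : G}
    (hy : y ∈ Subgroup.centralizer (P : Set G)) : conj (secCoef (χ : G → ℂ) (φ : P → ℂ) y) ∈ locRing M := by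
  have h := isGeneralized_secCoef χ φ
  rw [show conj (secCoef (χ : G → ℂ) (φ : P → ℂ) y) = secCoef (χ : G → ℂ) (φ : P → ℂ) y⁻¹ from
    (IsGeneralizedCharacter.map_inv h ⟨y, hy⟩).symm]
  exact isIntegral_mem_locRing (IsGeneralizedCharacter.isIntegral h ⟨y⁻¹, inv_mem hy⟩)

/-- The pairing of θ against a coefficient is a rational integer. -/
theorem exists_int_pairing [Fintype G] [Fintype P] (hM : IsPModular p M) (hP : IsPGroup p P)
    (hG : P ⊔ Subgroup.centralizer (P : Set G) = ⊤) {θ : IrrCharacter G} (hθ : CoreChar p P θ)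
    (χ : IrrCharacter G) (φ : IrrCharacter P) :
    ∃ k : ℤ, (Nat.card G : ℂ)⁻¹ * (Nat.card P : ℂ) * ∑ y : G, (if p ∣ orderOf y then 0 else
      (θ : G → ℂ) y * conj (secCoef (χ : G → ℂ) (φ : P → ℂ) y)) = (k : ℂ) := by
  haveI := prime_of_isPModular hM
  haveI := Fact.mk hM.1
  haveI := Fintype.ofFinite (Subgroup.centralizer (P : Set G))
  haveI := normal_of_sup_centralizer hG
  set S : ℂ := ∑ y : G, (if p ∣ orderOf y then 0 else
      (θ : G → ℂ) y * conj (secCoef (χ : G → ℂ) (φ : P → ℂ) y)) with hS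
  set v : ℂ := (Nat.card G : ℂ)⁻¹ * (Nat.card P : ℂ) * S with hv
  -- v times a power of p is an integer
  obtain ⟨e, he⟩ := IsPGroup.iff_card.1 hP
  have hle : (Nat.card G).factorization p - (charDegree (θ : G → ℂ)).factorization p ≤ e := by
    rw [hθ.deg, ← P.card_mul_index, he, Nat.factorization_mul (pow_ne_zero _ hM.1.ne_zero)
      Subgroup.index_ne_zero_of_finite, Finsupp.add_apply, hM.1.factorization_pow, Finsupp.single_eq_same]
    omega
  obtain ⟨k, hk⟩ := classInner_int_of_isGeneralized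
    (IsGeneralizedCharacter.restrict (isGeneralizedCharacter_regRestrict hM.1 θ hle) (Subgroup.centralizer (P : Set G)))
    (isGeneralized_secCoef χ φ)
  obtain ⟨j, hj⟩ := exists_index_centralizer hM.1 hP hG
  have hvk : v * (p ^ j : ℕ) = (k : ℂ) := by
    rw [← hk, classInner, ← hj, hv, hS]
    have hsum : ∑ y : Subgroup.centralizer (P : Set G), (if p ∣ orderOf (y : G) then (0 : ℂ) else
        ((p ^ e : ℕ) : ℂ) * (θ : G → ℂ) y) * conj (secCoef (χ : G → ℂ) (φ : P → ℂ) y) =
        (Nat.card P : ℂ) * ∑ y : G, (if p ∣ orderOf y then 0 else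
          (θ : G → ℂ) y * conj (secCoef (χ : G → ℂ) (φ : P → ℂ) y)) := by
      rw [Finset.mul_sum, ← Finset.sum_subset (Finset.subset_univ
        (Finset.univ.map (Function.Embedding.subtype (fun y => y ∈ Subgroup.centralizer (P : Set G)))))
        fun y _ hy => ?_, Finset.sum_map]
      · refine Finset.sum_congr rfl fun y _ => ?_
        have hh : ∀ g : G, (if p ∣ orderOf g then (0 : ℂ) else ((p ^ e : ℕ) : ℂ) * (θ : G → ℂ) g) *
            conj (secCoef (χ : G → ℂ) (φ : P → ℂ) g) = ((p ^ e : ℕ) : ℂ) * (if p ∣ orderOf g then 0 else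
              (θ : G → ℂ) g * conj (secCoef (χ : G → ℂ) (φ : P → ℂ) g)) := fun g => by
          by_cases hg : p ∣ orderOf g <;> simp [hg, mul_assoc]
        rw [he]
        exact hh (y : G)
      · rw [if_pos, mul_zero]
        by_contra hd
        exact hy (Finset.mem_map.2 ⟨⟨y, mem_centralizer_of_regular hM.1 hP hG hd⟩, Finset.mem_univ _, rfl⟩)
    rw [hsum]
    have hc : (Nat.card (Subgroup.centralizer (P : Set G)) : ℂ) ≠ 0 := Nat.cast_ne_zero.2 Nat.card_pos.ne'
    have hi : ((Subgroup.centralizer (P : Set G)).index : ℂ) ≠ 0 :=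
      Nat.cast_ne_zero.2 Subgroup.index_ne_zero_of_finite
    rw [← (Subgroup.centralizer (P : Set G)).card_mul_index, Nat.cast_mul]
    field_simp
  -- v lies in the local ring
  let A : MonoidAlgebra ℂ G := mkA fun y => if p ∣ orderOf y then 0 else conj (secCoef (χ : G → ℂ) (φ : P → ℂ) y)
  have hA : IsCentralElt A := fun y t => by
    simp only [A, coeff_mkA, orderOf_conj_eq]
    by_cases hy : p ∣ orderOf y
    · rw [if_pos hy, if_pos hy]
    rw [if_neg hy, if_neg hy]
    have ht : t ∈ P ⊔ Subgroup.centralizer (P : Set G) := hG ▸ Subgroup.mem_top t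
    obtain ⟨u, hu, c, hc, rfl⟩ := Subgroup.mem_sup_of_normal_left.1 ht
    have hy' := mem_centralizer_of_regular hM.1 hP hG hy
    have hcy : c * y * c⁻¹ ∈ Subgroup.centralizer (P : Set G) := mul_mem (mul_mem hc hy') (inv_mem hc)
    rw [show u * c * y * (u * c)⁻¹ = u * (c * y * c⁻¹) * u⁻¹ by group,
      Subgroup.mem_centralizer_iff.1 hcy u hu, mul_inv_cancel_right]
    exact congrArg (starRingEnd ℂ)
      (IsGeneralizedCharacter.isClassFunction (isGeneralized_secCoef χ φ) ⟨y, hy'⟩ ⟨c, hc⟩)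
  have hAl : IsLocElt M A := fun y => by
    simp only [A, coeff_mkA]
    split
    · exact zero_mem (locRing M)
    next hy => exact secCoef_mem_locRing χ φ (mem_centralizer_of_regular hM.1 hP hG hy)
  have hvR : v ∈ locRing M := by
    have hom : v = omega (θ : G → ℂ) A * ((charDegree (θ : G → ℂ) : ℂ) / (P.index : ℂ)) := by
      have hd : (charDegree (θ : G → ℂ) : ℂ) ≠ 0 := Nat.cast_ne_zero.2 (charDegree_pos θ.2).ne'
      have hi : (P.index : ℂ) ≠ 0 := Nat.cast_ne_zero.2 Subgroup.index_ne_zero_of_finite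
      have hP0 : (Nat.card P : ℂ) ≠ 0 := Nat.cast_ne_zero.2 Nat.card_pos.ne'
      rw [hv, omega_eq_sum, ← charDegree_cast (IsIrrCharacter.isCharacter θ.2), ← P.card_mul_index,
        Nat.cast_mul]
      have : ∑ g : G, A.coeff g * (θ : G → ℂ) g = S := by
        rw [hS]
        refine Finset.sum_congr rfl fun y _ => ?_
        simp only [A, coeff_mkA]
        split <;> ring
      rw [this]
      field_simp
    rw [hom]
    refine mul_mem (omega_mem_locRing θ hA hAl) ?_
    set r := P.index / p ^ P.index.factorization p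
    set s := charDegree (θ : G → ℂ) / p ^ P.index.factorization p
    have hr : p ^ P.index.factorization p * r = P.index := Nat.ordProj_mul_ordCompl_eq_self _ p
    have hs : p ^ P.index.factorization p * s = charDegree (θ : G → ℂ) := by
      simp only [s, ← hθ.deg]
      exact Nat.ordProj_mul_ordCompl_eq_self _ p
    have hpp : ((p ^ P.index.factorization p : ℕ) : ℂ) ≠ 0 := Nat.cast_ne_zero.2 (pow_ne_zero _ hM.1.ne_zero)
    rw [← hr, ← hs, Nat.cast_mul, Nat.cast_mul, mul_div_mul_left _ _ hpp, div_eq_mul_inv]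
    exact mul_mem (natCast_mem _ _) (inv_natCast_mem_locRing hM.1 hM.2.2
      (Nat.not_dvd_ordCompl hM.1 Subgroup.index_ne_zero_of_finite))
  clear_value v
  clear hv hk hj
  induction j generalizing k with
  | zero => exact ⟨k, by simpa using hvk⟩
  | succ j ih =>
    by_cases hj' : (p : ℤ) ∣ k
    · obtain ⟨k', rfl⟩ := hj'
      refine ih k' ?_
      refine mul_right_cancel₀ (Nat.cast_ne_zero.2 hM.1.ne_zero : (p : ℂ) ≠ 0) ?_
      rw [pow_succ, Nat.cast_mul, ← mul_assoc] at hvk
      rw [hvk]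
      push_cast
      ring
    · exfalso
      apply hj'
      have h1 : MemLocalIdeal M ((p : ℂ) * (v * ((p ^ j : ℕ) : ℂ))) :=
        memLocalIdeal_mul_right (mul_mem hvR (natCast_mem _ _)) ((memLocalIdeal_natCast_iff hM.1 hM.2.2 p).2 dvd_rfl)
      rw [show (p : ℂ) * (v * ((p ^ j : ℕ) : ℂ)) = (k : ℂ) by rw [← hvk]; push_cast; ring] at h1
      have h2 : MemLocalIdeal M ((k.natAbs : ℕ) : ℂ) := by
        rcases Int.natAbs_eq k with hk' | hk'
        · rwa [hk', Int.cast_natCast] at h1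
        · rw [hk', Int.cast_neg, Int.cast_natCast] at h1
          have h3 := memLocalIdeal_sub (memLocalIdeal_zero (M := M)) h1
          rwa [sub_neg_eq_add, zero_add] at h3
      exact Int.ofNat_dvd_left.2 ((memLocalIdeal_natCast_iff hM.1 hM.2.2 _).1 h2)

/-- The function φ(g_p) θ(g). -/
noncomputable def coreExt (p : ℕ) (φ : P → ℂ) (θ : G → ℂ) (g : G) : ℂ :=
  if h : ∃ x : P, IsPPart p g x then φ h.choose * θ g else 0

theorem coreExt_apply (hp : p.Prime) (hP : IsPGroup p P) (hG : P ⊔ Subgroup.centralizer (P : Set G) = ⊤)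
    (φ : P → ℂ) {θ : IrrCharacter G} (hθ : CoreChar p P θ) (x : P) {y : G} (hy : ¬ p ∣ orderOf y) :
    coreExt p φ (θ : G → ℂ) ((x : G) * y) = φ x * (θ : G → ℂ) y := by
  have hx := isPPart_mul hp hP hG x.2 hy
  have h : ∃ x' : P, IsPPart p ((x : G) * y) x' := ⟨x, hx⟩
  rw [coreExt, dif_pos h, show h.choose = x from Subtype.ext (isPPart_unique hp h.choose_spec hx),
    apply_mul_of_mem_kernel (IsIrrCharacter.isCharacter θ.2) (hθ.ker x x.2)]

theorem isClassFunction_coreExt (hp : p.Prime) (hP : IsPGroup p P)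
    (hG : P ⊔ Subgroup.centralizer (P : Set G) = ⊤) (φ : IrrCharacter P) (θ : IrrCharacter G) :
    IsClassFunction G (coreExt p (φ : P → ℂ) (θ : G → ℂ)) := by
  haveI := normal_of_sup_centralizer hG
  intro g t
  have hθc := IsCharacter.isClassFunction (IsIrrCharacter.isCharacter θ.2) g t
  by_cases h : ∃ x : P, IsPPart p g x
  · obtain ⟨x, hx⟩ := h
    have h1 : ∃ x : P, IsPPart p g x := ⟨x, hx⟩
    have hx' : IsPPart p (t * g * t⁻¹) (⟨t * x * t⁻¹, (inferInstance : P.Normal).conj_mem _ x.2 t⟩ : P) :=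
      isPPart_conj hx t
    have h2 : ∃ x' : P, IsPPart p (t * g * t⁻¹) x' := ⟨_, hx'⟩
    rw [coreExt, coreExt, dif_pos h1, dif_pos h2, hθc]
    congr 1
    rw [show h1.choose = x from Subtype.ext (isPPart_unique hp h1.choose_spec hx),
      show h2.choose = ⟨t * x * t⁻¹, (inferInstance : P.Normal).conj_mem _ x.2 t⟩ from
        Subtype.ext (isPPart_unique hp h2.choose_spec hx')]
    have ht : t ∈ P ⊔ Subgroup.centralizer (P : Set G) := hG ▸ Subgroup.mem_top t
    obtain ⟨u, hu, c, hc, rfl⟩ := Subgroup.mem_sup_of_normal_left.1 ht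
    rw [← IsCharacter.isClassFunction (IsIrrCharacter.isCharacter φ.2) x ⟨u, hu⟩]
    refine congrArg (φ : P → ℂ) (Subtype.ext ?_)
    simp only [Subgroup.coe_mul, Subgroup.coe_inv]
    rw [show u * c * (x : G) * (u * c)⁻¹ = u * (c * (x : G) * c⁻¹) * u⁻¹ by group,
      ← Subgroup.mem_centralizer_iff.1 hc x x.2, mul_inv_cancel_right]
  · have h2 : ¬ ∃ x' : P, IsPPart p (t * g * t⁻¹) x' := by
      rintro ⟨x', hx'⟩
      have := isPPart_conj hx' t⁻¹
      rw [show t⁻¹ * (t * g * t⁻¹) * t⁻¹⁻¹ = g by group] at this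
      exact h ⟨⟨_, (inferInstance : P.Normal).conj_mem _ x'.2 t⁻¹⟩, this⟩
    rw [coreExt, coreExt, dif_neg h, dif_neg h2]

theorem classInner_coreExt_left [Fintype G] [Fintype P] (hM : IsPModular p M) (hP : IsPGroup p P)
    (hG : P ⊔ Subgroup.centralizer (P : Set G) = ⊤) {θ : IrrCharacter G} (hθ : CoreChar p P θ)
    (φ : IrrCharacter P) (χ : IrrCharacter G) :
    classInner (coreExt p (φ : P → ℂ) (θ : G → ℂ)) (χ : G → ℂ) =
      (Nat.card G : ℂ)⁻¹ * (Nat.card P : ℂ) * ∑ y : G, (if p ∣ orderOf y then 0 else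
        (θ : G → ℂ) y * conj (secCoef (χ : G → ℂ) (φ : P → ℂ) y)) := by
  rw [classInner, sum_section_normal hM.1 hP hG, mul_assoc, Finset.mul_sum (a := (Nat.card P : ℂ)),
    Finset.sum_comm]
  · congr 1
    refine Finset.sum_congr rfl fun y _ => ?_
    by_cases hy : p ∣ orderOf y
    · simp [hy]
    simp only [if_neg hy, secCoef, coreExt_apply hM.1 hP hG _ hθ _ hy, map_mul, map_inv₀, map_sum,
      Complex.conj_natCast, Complex.conj_conj]
    have hP0 : (Nat.card P : ℂ) ≠ 0 := Nat.cast_ne_zero.2 Nat.card_pos.ne'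
    field_simp
    rw [Finset.mul_sum]
    exact Finset.sum_congr rfl fun x _ => by ring
  · intro g hg
    rw [coreExt, dif_neg hg, zero_mul]

/-- The regular norm of θ is |G| / |P|. -/
theorem sum_regular_norm_core [Fintype G] (hM : IsPModular p M) (hP : IsPGroup p P)
    (hG : P ⊔ Subgroup.centralizer (P : Set G) = ⊤) {θ : IrrCharacter G} (hθ : CoreChar p P θ) :
    (Nat.card P : ℂ) * ∑ y : G, (if p ∣ orderOf y then 0 else (θ : G → ℂ) y * conj ((θ : G → ℂ) y)) =
      (Nat.card G : ℂ) := by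
  haveI := Fintype.ofFinite P
  haveI := Fact.mk hM.1
  let one : IrrCharacter P := ⟨fun _ => 1, isIrrCharacter_one⟩
  obtain ⟨k, hk⟩ := exists_int_pairing hM hP hG hθ θ one
  have hsec : ∀ y : G, secCoef (θ : G → ℂ) (one : P → ℂ) y = (θ : G → ℂ) y := by
    intro y
    simp only [secCoef, one, map_one, mul_one]
    rw [Finset.sum_congr rfl fun (x : P) _ => apply_mul_of_mem_kernel (IsIrrCharacter.isCharacter θ.2) (hθ.ker x x.2) y,
      Finset.sum_const, nsmul_eq_mul, Finset.card_univ, ← Nat.card_eq_fintype_card, ← mul_assoc,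
      inv_mul_cancel₀ (Nat.cast_ne_zero.2 Nat.card_pos.ne'), one_mul]
  simp only [hsec] at hk
  set R : ℝ := ∑ y : G, if p ∣ orderOf y then 0 else ‖(θ : G → ℂ) y‖ ^ 2
  have hR : ((R : ℝ) : ℂ) = ∑ y : G, (if p ∣ orderOf y then 0 else (θ : G → ℂ) y * conj ((θ : G → ℂ) y)) := by
    simp only [R, Complex.ofReal_sum]
    refine Finset.sum_congr rfl fun y _ => ?_
    split
    · simp
    · rw [Complex.mul_conj']; push_cast; rfl
  rw [← hR] at hk ⊢
  have hkR : (k : ℝ) = (Nat.card G : ℝ)⁻¹ * (Nat.card P : ℝ) * R := by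
    apply Complex.ofReal_injective
    push_cast
    exact hk.symm
  have hG0 : (0 : ℝ) < (Nat.card G : ℝ) := Nat.cast_pos.2 Nat.card_pos
  have hP0 : (0 : ℝ) < (Nat.card P : ℝ) := Nat.cast_pos.2 Nat.card_pos
  have hpos : 0 < R := by
    refine Finset.sum_pos' (fun y _ => ?_) ⟨1, Finset.mem_univ _, ?_⟩
    · split
      · exact le_rfl
      · positivity
    · rw [orderOf_one, if_neg hM.1.not_dvd_one]
      exact pow_pos (norm_pos_iff.2 (IsIrrCharacter.apply_one_ne_zero θ.2)) 2
  have hle : (Nat.card P : ℝ) * R ≤ Nat.card G := by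
    have hn := IsIrrCharacter.classInner_self θ.2
    rw [classInner, inv_mul_eq_iff_eq_mul₀ (Nat.cast_ne_zero.2 Nat.card_pos.ne'), mul_one] at hn
    have hn' : ∑ g : G, ‖(θ : G → ℂ) g‖ ^ 2 = (Nat.card G : ℝ) := by
      apply Complex.ofReal_injective
      rw [Complex.ofReal_sum, Complex.ofReal_natCast, ← hn]
      exact Finset.sum_congr rfl fun g _ => by rw [Complex.mul_conj']; push_cast; rfl
    rw [← hn']
    have heq : (Nat.card P : ℝ) * R = ∑ q ∈ (Finset.univ : Finset (P × G)).filter (fun q => ¬ p ∣ orderOf q.2),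
        ‖(θ : G → ℂ) ((q.1 : G) * q.2)‖ ^ 2 := by
      rw [Finset.sum_filter, Fintype.sum_prod_type, Nat.card_eq_fintype_card, ← nsmul_eq_mul, ← Finset.card_univ,
        ← Finset.sum_const]
      refine Finset.sum_congr rfl fun x _ => Finset.sum_congr rfl fun y _ => ?_
      by_cases hy : p ∣ orderOf y
      · simp [hy]
      · simp [hy, apply_mul_of_mem_kernel (IsIrrCharacter.isCharacter θ.2) (hθ.ker x x.2) y]
    rw [heq]
    refine le_trans (le_of_eq ?_) (Finset.sum_le_univ_sum_of_nonneg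
      (s := ((Finset.univ : Finset (P × G)).filter (fun q => ¬ p ∣ orderOf q.2)).image
        (fun q => (q.1 : G) * q.2)) (fun g => by positivity))
    rw [Finset.sum_image]
    intro q hq q' hq' h
    have h1 := isPPart_mul hM.1 hP hG q.1.2 (Finset.mem_filter.1 hq).2
    have h2 := isPPart_mul hM.1 hP hG q'.1.2 (Finset.mem_filter.1 hq').2
    simp only at h
    rw [h] at h1
    have e := isPPart_unique hM.1 h1 h2
    rw [e] at h
    exact Prod.ext (Subtype.ext e) (mul_left_cancel h)
  have hk1 : k = 1 := by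
    have h0 : (0 : ℝ) < k := by rw [hkR]; positivity
    have h1 : (k : ℝ) ≤ 1 := by rw [hkR, mul_assoc, inv_mul_le_one₀ hG0]; exact hle
    have h0' : 0 < k := by exact_mod_cast h0
    have h1' : k ≤ 1 := by exact_mod_cast h1
    omega
  rw [hk1] at hkR
  apply_fun (fun r : ℝ => (r : ℂ)) at hkR
  push_cast at hkR
  field_simp at hkR
  linear_combination -hkR

theorem sum_regular_cross_core [Fintype G] (hM : IsPModular p M) (hP : IsPGroup p P)
    (hG : P ⊔ Subgroup.centralizer (P : Set G) = ⊤) {θ : IrrCharacter G} (hθ : CoreChar p P θ)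
    (φ φ' : IrrCharacter P) [Fintype P] :
    classInner (coreExt p (φ : P → ℂ) (θ : G → ℂ)) (coreExt p (φ' : P → ℂ) (θ : G → ℂ)) =
      if φ = φ' then 1 else 0 := by
  rw [classInner, sum_section_normal hM.1 hP hG]
  · have hstep : ∀ x : P, (∑ y : G, if p ∣ orderOf y then (0 : ℂ) else
        coreExt p (φ : P → ℂ) (θ : G → ℂ) ((x : G) * y) * conj (coreExt p (φ' : P → ℂ) (θ : G → ℂ) ((x : G) * y))) =
        (φ : P → ℂ) x * conj ((φ' : P → ℂ) x) *
          ∑ y : G, (if p ∣ orderOf y then 0 else (θ : G → ℂ) y * conj ((θ : G → ℂ) y)) := by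
      intro x
      rw [Finset.mul_sum]
      refine Finset.sum_congr rfl fun y _ => ?_
      split
      · simp
      next hy => rw [coreExt_apply hM.1 hP hG _ hθ _ hy, coreExt_apply hM.1 hP hG _ hθ _ hy, map_mul]; ring
    simp only [hstep, ← Finset.sum_mul]
    have h := classInner_irr φ φ'
    rw [classInner, inv_mul_eq_iff_eq_mul₀ (Nat.cast_ne_zero.2 Nat.card_pos.ne')] at h
    rw [h, mul_comm (Nat.card P : ℂ), mul_assoc, sum_regular_norm_core hM hP hG hθ]
    field_simp
  · intro g hg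
    rw [coreExt, dif_neg hg, zero_mul]

theorem isIrrCharacter_coreExt [Fintype G] [Fintype P] (hM : IsPModular p M) (hP : IsPGroup p P)
    (hG : P ⊔ Subgroup.centralizer (P : Set G) = ⊤) {θ : IrrCharacter G} (hθ : CoreChar p P θ)
    (φ : IrrCharacter P) : IsIrrCharacter G (coreExt p (φ : P → ℂ) (θ : G → ℂ)) := by
  have hgen : IsGeneralizedCharacter G (coreExt p (φ : P → ℂ) (θ : G → ℂ)) := by
    refine isGeneralizedCharacter_of_classInner_int (isClassFunction_coreExt hM.1 hP hG φ θ) fun χ hχ => ?_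
    obtain ⟨k, hk⟩ := exists_int_pairing hM hP hG hθ ⟨χ, hχ⟩ φ
    exact ⟨k, (classInner_coreExt_left hM hP hG hθ φ ⟨χ, hχ⟩).trans hk⟩
  have h1 : classInner (coreExt p (φ : P → ℂ) (θ : G → ℂ)) (coreExt p (φ : P → ℂ) (θ : G → ℂ)) = 1 := by
    rw [sum_regular_cross_core hM hP hG hθ, if_pos rfl]
  rcases IsGeneralizedCharacter.irr_or_neg hgen h1 with h | h
  · exact h
  · exfalso
    have hone := coreExt_apply hM.1 hP hG (φ : P → ℂ) hθ 1 (y := 1) (by simpa using hM.1.one_lt.ne')
    rw [Subgroup.coe_one, mul_one] at hone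
    have hd := charDegree_cast (IsIrrCharacter.isCharacter h)
    rw [Pi.neg_apply, hone, ← charDegree_cast (IsIrrCharacter.isCharacter φ.2),
      ← charDegree_cast (IsIrrCharacter.isCharacter θ.2), ← Nat.cast_mul, eq_neg_iff_add_eq_zero,
      ← Nat.cast_add, Nat.cast_eq_zero] at hd
    have := Nat.mul_pos (charDegree_pos φ.2) (charDegree_pos θ.2)
    omega

/-- A block with a normal p-subgroup has a character trivial on it. -/
theorem exists_mem_ker_normal [Fintype G] [P.Normal] [Fintype P] (hM : IsPModular p M) (hP : IsPGroup p P)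
    {B : Set (IrrCharacter G)} (hB : IsPBlock M B) :
    (∑ χ ∈ B.toFinite.toFinset, (χ : G → ℂ) 1 * conj (∑ x : P, (χ : G → ℂ) x) = blockKernel B 1 1) ∧
    ∃ θ ∈ B, ∀ x ∈ P, (θ : G → ℂ) x = (θ : G → ℂ) 1 := by
  haveI := prime_of_isPModular hM
  haveI := Fact.mk hM.1
  have h : ∑ χ ∈ B.toFinite.toFinset, (χ : G → ℂ) 1 * conj (∑ x : P, (χ : G → ℂ) x) = blockKernel B 1 1 := by
    simp only [map_sum, Finset.mul_sum]
    rw [Finset.sum_comm, Finset.sum_eq_single (1 : P)]
    · simp [blockKernel, finsum_mem_eq_finite_toFinset_sum _ B.toFinite]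
    · intro x _ hx
      have h0 := blockKernel_eq_zero hM hB (g := (1 : G)) (y := (x : G)) (fun e => by
        obtain ⟨k, hk⟩ := IsPGroup.iff_orderOf.1 hP x
        have hd : p ∣ orderOf (x : G) := by
          rw [Subgroup.orderOf_coe, hk]
          refine dvd_pow_self p fun hk0 => hx ?_
          rw [hk0, pow_zero, orderOf_eq_one_iff] at hk
          exact hk
        have := e.2 hd
        rw [orderOf_one] at this
        exact hM.1.one_lt.ne' (Nat.dvd_one.1 this))
      rwa [blockKernel, finsum_mem_eq_finite_toFinset_sum _ B.toFinite] at h0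
    · simp
  refine ⟨h, ?_⟩
  by_contra hno
  push Not at hno
  rw [Finset.sum_eq_zero fun χ hχ => ?_] at h
  · have hpos : blockKernel B (1 : G) 1 ≠ 0 := by
      obtain ⟨χ, hχ⟩ := isPBlock_nonempty hB
      rw [blockKernel, finsum_mem_eq_finite_toFinset_sum _ B.toFinite,
        Finset.sum_congr rfl (g := fun χ : IrrCharacter G => ((charDegree (χ : G → ℂ) ^ 2 : ℕ) : ℂ)) fun χ _ => by
          rw [← charDegree_cast (IsIrrCharacter.isCharacter χ.2), Complex.conj_natCast]; push_cast; ring,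
        ← Nat.cast_sum, Nat.cast_ne_zero]
      intro h0
      rw [Finset.sum_eq_zero_iff] at h0
      exact (charDegree_pos χ.2).ne' (pow_eq_zero_iff two_ne_zero |>.1 (h0 χ (B.toFinite.mem_toFinset.2 hχ)))
    exact hpos h.symm
  · obtain ⟨x, hx, hne⟩ := hno χ (B.toFinite.mem_toFinset.1 hχ)
    have h0 : ∑ x : P, (χ : G → ℂ) x = 0 := not_not.1 fun h0 => hne ((apply_eq_one_iff_sum_ne_zero χ).2 h0 x hx)
    rw [h0, map_zero, mul_zero]

theorem coreChar_of_defectGroup [Fintype G] (hM : IsPModular p M) (hP : IsPGroup p P)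
    (hG : P ⊔ Subgroup.centralizer (P : Set G) = ⊤) {B : Set (IrrCharacter G)} (hB : IsPBlock M B)
    (hD : IsDefectGroup p M B P) {θ : IrrCharacter G} (hθ : θ ∈ B)
    (hker : ∀ x ∈ P, (θ : G → ℂ) x = (θ : G → ℂ) 1) :
    CoreChar p P θ ∧ blockHeight p B (θ : G → ℂ) = 0 := by
  haveI := prime_of_isPModular hM
  haveI := Fact.mk hM.1
  haveI := normal_of_sup_centralizer hG
  haveI := Fintype.ofFinite P
  have hcd := charDegree_cast (IsIrrCharacter.isCharacter θ.2)
  have hcon : classInner (fun n : P => (θ : G → ℂ) n) (fun _ : P => (1 : ℂ)) ≠ 0 := by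
    rw [classInner]
    simp only [map_one, mul_one]
    exact mul_ne_zero (inv_ne_zero (Nat.cast_ne_zero.2 Nat.card_pos.ne'))
      ((apply_eq_one_iff_sum_ne_zero θ).1 hker)
  have hdvd := (degree_ratio_dvd_index (N := P) θ.2 (θ := fun _ : P => (1 : ℂ)) isIrrCharacter_one hcon
    hcd.symm (d := 1) (by simp)).2
  rw [Nat.div_one] at hdvd
  have hle := (Nat.factorization_le_iff_dvd (charDegree_pos θ.2).ne' Subgroup.index_ne_zero_of_finite).2 hdvd p
  obtain ⟨e, he⟩ := IsPGroup.iff_card.1 hP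
  have hd := card_defectGroup hM hB hD
  rw [he] at hd
  have hed := Nat.pow_right_injective hM.1.two_le hd
  rw [blockDefect_eq] at hed
  have hsum : (Nat.card G).factorization p = e + P.index.factorization p := by
    rw [← P.card_mul_index, he, Nat.factorization_mul (pow_ne_zero _ hM.1.ne_zero)
      Subgroup.index_ne_zero_of_finite, Finsupp.add_apply, hM.1.factorization_pow, Finsupp.single_eq_same]
  have hmin := minVal_le (p := p) hθ
  refine ⟨⟨hker, by omega⟩, (blockHeight_eq_zero_iff hθ).2 ?_⟩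
  omega

theorem coreChar_unique [Fintype G] (hM : IsPModular p M) (hP : IsPGroup p P)
    (hG : P ⊔ Subgroup.centralizer (P : Set G) = ⊤) {B : Set (IrrCharacter G)} (hB : IsPBlock M B)
    {θ θ' : IrrCharacter G} (hθ : θ ∈ B) (hθ' : θ' ∈ B) (hc : CoreChar p P θ) (hc' : CoreChar p P θ')
    (h0 : blockHeight p B (θ' : G → ℂ) = 0) : θ' = θ := by
  haveI := prime_of_isPModular hM
  haveI := Fintype.ofFinite P
  by_contra hne
  -- θ vanishes outside P times the regular elements
  have hvan : ∀ g : G, (¬ ∃ x : P, IsPPart p g (x : G)) → (θ : G → ℂ) g = 0 := by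
    have hn := IsIrrCharacter.classInner_self θ.2
    rw [classInner, inv_mul_eq_iff_eq_mul₀ (Nat.cast_ne_zero.2 Nat.card_pos.ne'), mul_one] at hn
    have hsec := sum_section_normal hM.1 hP hG
      (fun g => if (∃ x : P, IsPPart p g (x : G)) then (θ : G → ℂ) g * conj ((θ : G → ℂ) g) else 0)
      (fun g hg => if_neg hg)
    have hin : ∀ x : P, (∑ y : G, if p ∣ orderOf y then (0 : ℂ) else
        if (∃ x' : P, IsPPart p ((x : G) * y) (x' : G)) then (θ : G → ℂ) ((x : G) * y) * conj ((θ : G → ℂ) ((x : G) * y))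
          else 0) = ∑ y : G, if p ∣ orderOf y then 0 else (θ : G → ℂ) y * conj ((θ : G → ℂ) y) := by
      intro x
      refine Finset.sum_congr rfl fun y _ => ?_
      by_cases hy : p ∣ orderOf y
      · simp [hy]
      · rw [if_neg hy, if_neg hy, if_pos ⟨x, isPPart_mul hM.1 hP hG x.2 hy⟩,
          apply_mul_of_mem_kernel (IsIrrCharacter.isCharacter θ.2) (hc.ker x x.2)]
    rw [Finset.sum_congr rfl fun x _ => hin x, Finset.sum_const, Finset.card_univ, ← Nat.card_eq_fintype_card,
      nsmul_eq_mul, sum_regular_norm_core hM hP hG hc] at hsec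
    intro g hg
    have hzero : ∑ g : G, (if (∃ x : P, IsPPart p g (x : G)) then 0 else ‖(θ : G → ℂ) g‖ ^ 2) = 0 := by
      apply Complex.ofReal_injective
      rw [Complex.ofReal_sum, Complex.ofReal_zero]
      refine Eq.trans (b := ∑ g : G, (θ : G → ℂ) g * conj ((θ : G → ℂ) g) -
        ∑ g : G, if (∃ x : P, IsPPart p g (x : G)) then (θ : G → ℂ) g * conj ((θ : G → ℂ) g) else 0) ?_
        (by rw [hn, hsec, sub_self])
      rw [← Finset.sum_sub_distrib]
      refine Finset.sum_congr rfl fun g _ => ?_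
      split
      · simp
      · rw [sub_zero, Complex.mul_conj']; push_cast; rfl
    rw [Finset.sum_eq_zero_iff_of_nonneg (fun g _ => by split <;> positivity)] at hzero
    have := hzero g (Finset.mem_univ g)
    rw [if_neg hg, pow_eq_zero_iff two_ne_zero, norm_eq_zero] at this
    exact this
  have horth := IsIrrCharacter.classInner_eq_zero θ'.2 θ.2 (fun h => hne (Subtype.ext h))
  rw [classInner, mul_eq_zero, inv_eq_zero, Nat.cast_eq_zero, or_iff_right Nat.card_pos.ne',
    sum_section_normal hM.1 hP hG _ (fun g hg => by rw [hvan g hg, map_zero, mul_zero]),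
    Finset.sum_congr rfl (g := fun _ => regInner p (θ' : G → ℂ) (θ : G → ℂ)) fun x _ => ?_, Finset.sum_const,
    nsmul_eq_mul, mul_eq_zero, Nat.cast_eq_zero, or_iff_right Finset.univ_nonempty.card_pos.ne'] at horth
  · refine (regInner_div_memLocalIdeal_iff hM hB hθ).1 ?_ ⟨hθ', h0⟩
    rw [horth, zero_div]
    exact memLocalIdeal_zero
  · rw [regInner]
    refine Finset.sum_congr rfl fun y _ => ?_
    by_cases hy : p ∣ orderOf y
    · simp [hy]
    · rw [if_neg hy, if_neg hy, apply_mul_of_mem_kernel (IsIrrCharacter.isCharacter θ.2) (hc.ker x x.2),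
        apply_mul_of_mem_kernel (IsIrrCharacter.isCharacter θ'.2) (hc'.ker x x.2)]

/-- Blocks with defect group P, G = P C(P): the members are indexed by the characters of P. -/
theorem exists_equiv_block_core (hM : IsPModular p M) (hP : IsPGroup p P)
    (hG : P ⊔ Subgroup.centralizer (P : Set G) = ⊤) {B : Set (IrrCharacter G)} (hB : IsPBlock M B)
    (hD : IsDefectGroup p M B P) {θ : IrrCharacter G} (hθB : θ ∈ B)
    (hker : ∀ x ∈ P, (θ : G → ℂ) x = (θ : G → ℂ) 1) :
    ∃ F : IrrCharacter P → IrrCharacter G, (∀ φ, F φ ∈ B) ∧ Function.Injective F ∧ Set.range F = B ∧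
      ∀ φ, (F φ : G → ℂ) = coreExt p (φ : P → ℂ) (θ : G → ℂ) := by
  haveI := prime_of_isPModular hM
  haveI := Fact.mk hM.1
  haveI := Fintype.ofFinite G
  haveI := Fintype.ofFinite P
  haveI := Fintype.ofFinite (IrrCharacter P)
  haveI := normal_of_sup_centralizer hG
  obtain ⟨hc, h0⟩ := coreChar_of_defectGroup hM hP hG hB hD hθB hker
  let F : IrrCharacter P → IrrCharacter G := fun φ => ⟨_, isIrrCharacter_coreExt hM hP hG hc φ⟩
  have happ : ∀ (φ : IrrCharacter P) (y : G), ¬ p ∣ orderOf y →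
      (F φ : G → ℂ) y = (φ : P → ℂ) 1 * (θ : G → ℂ) y := by
    intro φ y hy
    have h := coreExt_apply hM.1 hP hG (φ : P → ℂ) hc 1 hy
    rwa [Subgroup.coe_one, one_mul] at h
  have hFB : ∀ φ, F φ ∈ B := by
    intro φ
    rw [isPBlock_mem_iff hB hθB]
    by_contra hns
    have h := sum_regular_eq_zero hM (χ := F φ) (ψ := θ) (fun h => hns (sameBlock_symm h))
    have hstep : ∀ y : G, (if p ∣ orderOf y then (0 : ℂ) else (F φ : G → ℂ) y * conj ((θ : G → ℂ) y)) =
        (φ : P → ℂ) 1 * (if p ∣ orderOf y then 0 else (θ : G → ℂ) y * conj ((θ : G → ℂ) y)) := fun y => by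
      by_cases hy : p ∣ orderOf y
      · simp [hy]
      · rw [if_neg hy, if_neg hy, happ φ y hy]; ring
    simp only [hstep, ← Finset.mul_sum, mul_eq_zero, IsIrrCharacter.apply_one_ne_zero φ.2, false_or] at h
    have hn := sum_regular_norm_core hM hP hG hc
    rw [h, mul_zero] at hn
    exact Nat.cast_ne_zero.2 (Nat.card_pos (α := G)).ne' hn.symm
  have hinj : Function.Injective F := by
    intro φ φ' h
    by_contra hne
    have h1 := sum_regular_cross_core hM hP hG hc φ φ'
    have h2 := sum_regular_cross_core hM hP hG hc φ φ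
    rw [if_neg hne] at h1
    rw [if_pos rfl] at h2
    have e : coreExt p (φ : P → ℂ) (θ : G → ℂ) = coreExt p (φ' : P → ℂ) (θ : G → ℂ) := congrArg Subtype.val h
    rw [← e, h2] at h1
    exact one_ne_zero h1
  refine ⟨F, hFB, hinj, ?_, fun φ => rfl⟩
  -- the sum of the squares of the degrees shows surjectivity
  obtain ⟨hsum, -⟩ := exists_mem_ker_normal hM hP hB
  rw [Finset.sum_eq_single θ] at hsum
  rotate_left
  · intro χ hχ hne
    have hχB := B.toFinite.mem_toFinset.1 hχ
    have h00 : ∑ x : P, (χ : G → ℂ) x = 0 := by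
      by_contra hnz
      have hk := (apply_eq_one_iff_sum_ne_zero χ).2 hnz
      obtain ⟨hcχ, hhχ⟩ := coreChar_of_defectGroup hM hP hG hB hD hχB hk
      exact hne (coreChar_unique hM hP hG hB hθB hχB hc hcχ hhχ)
    rw [h00, map_zero, mul_zero]
  · exact fun h => absurd (B.toFinite.mem_toFinset.2 hθB) h
  rw [Finset.sum_congr rfl fun (x : P) _ => hker x x.2, Finset.sum_const, Finset.card_univ,
    nsmul_eq_mul, map_mul, Complex.conj_natCast, blockKernel, finsum_mem_eq_finite_toFinset_sum _ B.toFinite,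
    conj_irr_one, ← Nat.card_eq_fintype_card] at hsum
  have hdeg : ∀ φ, ((F φ : G → ℂ) 1) = (φ : P → ℂ) 1 * (θ : G → ℂ) 1 := fun φ =>
    happ φ 1 (by rw [orderOf_one]; exact hM.1.not_dvd_one)
  have hsq := sum_sq_degree (G := P)
  refine Set.Subset.antisymm (Set.range_subset_iff.2 hFB) fun χ hχ => ?_
  by_contra hnr
  have hsub : Finset.univ.image F ⊆ B.toFinite.toFinset := by
    intro ψ hψ
    obtain ⟨φ, -, rfl⟩ := Finset.mem_image.1 hψ
    exact B.toFinite.mem_toFinset.2 (hFB φ)
  have hF : ∑ φ : IrrCharacter P, (F φ : G → ℂ) 1 * conj ((F φ : G → ℂ) 1) =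
      ∑ χ ∈ B.toFinite.toFinset, (χ : G → ℂ) 1 * conj ((χ : G → ℂ) 1) := by
    rw [← hsum]
    simp only [hdeg, map_mul, conj_irr_one]
    rw [Finset.sum_congr rfl (g := fun φ : IrrCharacter P => (φ : P → ℂ) 1 ^ 2 * (θ : G → ℂ) 1 ^ 2)
      fun φ _ => by ring, ← Finset.sum_mul, hsq]
    ring
  rw [← Finset.sum_image (f := fun χ : IrrCharacter G => (χ : G → ℂ) 1 * conj ((χ : G → ℂ) 1)) hinj.injOn,
    ← Finset.sum_sdiff hsub, right_eq_add] at hF
  rw [Finset.sum_congr rfl (g := fun χ : IrrCharacter G => ((charDegree (χ : G → ℂ) ^ 2 : ℕ) : ℂ)) fun χ _ => by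
    rw [← charDegree_cast (IsIrrCharacter.isCharacter χ.2), Complex.conj_natCast]; push_cast; ring,
    ← Nat.cast_sum, Nat.cast_eq_zero, Finset.sum_eq_zero_iff] at hF
  have := hF χ (Finset.mem_sdiff.2 ⟨B.toFinite.mem_toFinset.2 hχ, fun h => by
    obtain ⟨φ, -, hφ⟩ := Finset.mem_image.1 h
    exact hnr ⟨φ, hφ⟩⟩)
  exact (charDegree_pos χ.2).ne' (pow_eq_zero_iff two_ne_zero |>.1 this)

end Cfsg.Agent.Block
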