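import Cfsg.Prelude.Def_Blocks
import Mathlib.RingTheory.IntegralClosure.IsIntegral.Defs
import Mathlib.Analysis.Complex.Polynomial.Basic
import Mathlib.RingTheory.Valuation.ValuationRing
import Mathlib.RingTheory.LocalRing.Module
import Mathlib.RingTheory.Flat.TorsionFree
import Mathlib.RingTheory.LocalRing.ResidueField.Basic
import Mathlib.RingTheory.Algebraic.Integral
import Mathlib.FieldTheory.Finite.Basic
import Mathlib.Algebra.CharP.Basic

/-!
# The local ring of the algebraic integers at a maximal ideal, as a subring of `ℂ`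
-/

set_option autoImplicit false

open Polynomial

namespace Cfsg.Agent.Block

variable {p : ℕ} (M : Ideal AlgInt) [hMp : M.IsPrime]

/-- The complex numbers which are local integers at `M`. -/
def locRing : Subring ℂ where
  carrier := {z | MemLocalRing M z}
  one_mem' := ⟨1, 1, fun h => hMp.ne_top ((Ideal.eq_top_iff_one M).2 h), by simp⟩
  zero_mem' := ⟨0, 1, fun h => hMp.ne_top ((Ideal.eq_top_iff_one M).2 h), by simp⟩
  mul_mem' := by
    rintro _ _ ⟨a, b, hb, rfl⟩ ⟨c, d, hd, rfl⟩
    refine ⟨a * c, b * d, fun h => (hMp.mem_or_mem h).elim hb hd, ?_⟩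
    push_cast
    rw [div_mul_div_comm]
  add_mem' := by
    rintro _ _ ⟨a, b, hb, rfl⟩ ⟨c, d, hd, rfl⟩
    refine ⟨a * d + b * c, b * d, fun h => (hMp.mem_or_mem h).elim hb hd, ?_⟩
    have hb' : (b : ℂ) ≠ 0 := fun h => hb (by rw [show b = 0 from Subtype.ext h]; exact M.zero_mem)
    have hd' : (d : ℂ) ≠ 0 := fun h => hd (by rw [show d = 0 from Subtype.ext h]; exact M.zero_mem)
    push_cast
    rw [div_add_div _ _ hb' hd']
  neg_mem' := by
    rintro _ ⟨a, b, hb, rfl⟩
    exact ⟨-a, b, hb, by push_cast; ring⟩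

variable {M}

theorem mem_locRing {z : ℂ} : z ∈ locRing M ↔ MemLocalRing M z := Iff.rfl

theorem one_notMem : (1 : AlgInt) ∉ M := fun h => hMp.ne_top ((Ideal.eq_top_iff_one M).2 h)

theorem coe_ne_zero_of_notMem {b : AlgInt} (hb : b ∉ M) : (b : ℂ) ≠ 0 :=
  fun h => hb (by rw [show b = 0 from Subtype.ext h]; exact M.zero_mem)

theorem algInt_mem_locRing (a : AlgInt) : (a : ℂ) ∈ locRing M :=
  ⟨a, 1, one_notMem, by simp⟩

theorem isIntegral_mem_locRing {z : ℂ} (h : IsIntegral ℤ z) : z ∈ locRing M :=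
  algInt_mem_locRing (⟨z, h⟩ : AlgInt)

theorem natCast_mem_locRing (n : ℕ) : (n : ℂ) ∈ locRing M := natCast_mem _ n

theorem intCast_mem_locRing (n : ℤ) : (n : ℂ) ∈ locRing M := intCast_mem _ n

theorem inv_mem_locRing_of_notMem {b : AlgInt} (hb : b ∉ M) : ((b : ℂ))⁻¹ ∈ locRing M :=
  ⟨1, b, hb, by simp⟩

/-- The local ideal consists of nonunits. -/
theorem memLocalIdeal_iff {z : ℂ} :
    MemLocalIdeal M z ↔ ∃ h : z ∈ locRing M, ¬ IsUnit (⟨z, h⟩ : locRing M) := by
  constructor
  · rintro ⟨a, b, ha, hb, rfl⟩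
    refine ⟨⟨a, b, hb, rfl⟩, ?_⟩
    intro hu
    obtain ⟨⟨w, hw⟩, hmul⟩ := isUnit_iff_exists_inv.1 hu
    obtain ⟨c, d, hd, rfl⟩ := hw
    have h1 : (a : ℂ) / b * (c / d) = 1 := congrArg Subtype.val hmul
    have hb' := coe_ne_zero_of_notMem hb
    have hd' := coe_ne_zero_of_notMem hd
    have h2 : a * c = b * d := by
      apply Subtype.ext; push_cast
      field_simp at h1; linear_combination h1
    exact (hMp.mem_or_mem (h2 ▸ M.mul_mem_right c ha)).elim hb hd
  · rintro ⟨⟨a, b, hb, rfl⟩, hu⟩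
    refine ⟨a, b, ?_, hb, rfl⟩
    by_contra ha
    apply hu
    refine isUnit_iff_exists_inv.2 ⟨⟨(b : ℂ) / a, ⟨b, a, ha, rfl⟩⟩, Subtype.ext ?_⟩
    show (a : ℂ) / b * ((b : ℂ) / a) = 1
    field_simp [coe_ne_zero_of_notMem ha, coe_ne_zero_of_notMem hb]

theorem isUnit_locRing_iff (x : locRing M) : IsUnit x ↔ ¬ MemLocalIdeal M (x : ℂ) := by
  rw [memLocalIdeal_iff]
  exact ⟨fun h ⟨_, h'⟩ => h' h, fun h => by_contra fun h' => h ⟨x.2, h'⟩⟩

instance locRing_isLocalRing : IsLocalRing (locRing M) := by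
  refine IsLocalRing.of_nonunits_add fun x y hx hy => ?_
  rw [mem_nonunits_iff, isUnit_locRing_iff, not_not] at *
  obtain ⟨a, b, ha, hb, hab⟩ := hx
  obtain ⟨c, d, hc, hd, hcd⟩ := hy
  refine ⟨a * d + b * c, b * d, add_mem (M.mul_mem_right d ha) (M.mul_mem_left b hc),
    fun h => (hMp.mem_or_mem h).elim hb hd, ?_⟩
  push_cast
  rw [← hab, ← hcd, div_add_div _ _ (coe_ne_zero_of_notMem hb) (coe_ne_zero_of_notMem hd)]

theorem mem_maximalIdeal_locRing (x : locRing M) :
    x ∈ IsLocalRing.maximalIdeal (locRing M) ↔ MemLocalIdeal M (x : ℂ) := by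
  rw [IsLocalRing.mem_maximalIdeal, mem_nonunits_iff, isUnit_locRing_iff, not_not]

theorem memLocalIdeal_algInt_iff (a : AlgInt) : MemLocalIdeal M (a : ℂ) ↔ a ∈ M := by
  constructor
  · rintro ⟨c, d, hc, hd, h⟩
    have hd' := coe_ne_zero_of_notMem hd
    have h2 : c = a * d := by
      apply Subtype.ext; push_cast; rw [← h]; field_simp
    exact (hMp.mem_or_mem (h2 ▸ hc)).resolve_right hd
  · exact fun ha => ⟨a, 1, ha, one_notMem, by simp⟩

/-- The localisation is integrally closed in `ℂ`. -/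
theorem mem_locRing_of_isIntegral {z : ℂ} (hz : IsIntegral (locRing M) z) : z ∈ locRing M := by
  classical
  obtain ⟨f, hf, hfz⟩ := hz
  -- a common denominator for the coefficients
  have hden : ∀ s : Finset ℕ, ∃ d : AlgInt, d ∉ M ∧ ∀ i ∈ s, IsIntegral ℤ ((d : ℂ) * (f.coeff i : ℂ)) := by
    intro s
    induction s using Finset.induction_on with
    | empty => exact ⟨1, one_notMem, by simp⟩
    | @insert i s hi ih =>
      obtain ⟨d, hd, h⟩ := ih
      obtain ⟨a, b, hb, hab⟩ := (f.coeff i).2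
      refine ⟨d * b, fun h' => (hMp.mem_or_mem h').elim hd hb, fun j hj => ?_⟩
      rcases Finset.mem_insert.1 hj with rfl | hj
      · have : ((d * b : AlgInt) : ℂ) * (f.coeff j : ℂ) = ((d * a : AlgInt) : ℂ) := by
          push_cast; rw [← hab]; field_simp [coe_ne_zero_of_notMem hb]
        rw [this]; exact (d * a).2
      · have : ((d * b : AlgInt) : ℂ) * (f.coeff j : ℂ) = (b : ℂ) * ((d : ℂ) * (f.coeff j : ℂ)) := by
          push_cast; ring
        rw [this]; exact IsIntegral.mul b.2 (h j hj)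
  obtain ⟨d, hd, hdf⟩ := hden (Finset.range (f.natDegree + 1))
  -- `d * z` is integral over the algebraic integers
  let g : ℂ[X] := scaleRoots (f.map (locRing M).subtype) (d : ℂ)
  have hg : g.Monic := (monic_scaleRoots_iff _).2 (hf.map _)
  have hroot : g.eval ((d : ℂ) * z) = 0 := by
    have h0 : (f.map (locRing M).subtype).eval z = 0 := by rw [eval_map]; exact hfz
    have := scaleRoots_eval₂_eq_zero (RingHom.id ℂ) (s := (d : ℂ)) (r := z)
      (p := f.map (locRing M).subtype) (by simpa [eval₂_id] using h0)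
    simpa [eval₂_id] using this
  have hint : IsIntegral AlgInt ((d : ℂ) * z) := by
    have hlift : g ∈ lifts (algebraMap AlgInt ℂ) := by
      rw [lifts_iff_coeff_lifts]
      intro i
      simp only [g, coeff_scaleRoots, coeff_map, hf.natDegree_map (locRing M).subtype]
      rcases lt_trichotomy i f.natDegree with hi | hi | hi
      · refine ⟨⟨(f.coeff i : ℂ) * (d : ℂ) ^ (f.natDegree - i), ?_⟩, rfl⟩
        obtain ⟨k, hk⟩ := Nat.exists_eq_add_of_lt hi
        have : f.natDegree - i = k + 1 := by omega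
        rw [this, pow_succ']
        have h := (hdf i (by simp; omega)).mul (d.2.pow k)
        have e : (f.coeff i : ℂ) * ((d : ℂ) * (d : ℂ) ^ k) = (d : ℂ) * (f.coeff i : ℂ) * (d : ℂ) ^ k := by ring
        rw [e]
        exact h
      · subst hi
        exact ⟨1, by simp [hf.coeff_natDegree]⟩
      · exact ⟨0, by simp [coeff_eq_zero_of_natDegree_lt hi]⟩
    obtain ⟨g', hg', -, hg'm⟩ := lifts_and_degree_eq_and_monic hlift hg
    exact ⟨g', hg'm, by rw [eval₂_eq_eval_map, hg', hroot]⟩
  have hZ : IsIntegral ℤ ((d : ℂ) * z) := isIntegral_trans _ hint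
  exact ⟨⟨_, hZ⟩, d, hd, by field_simp [coe_ne_zero_of_notMem hd]⟩

theorem locRing_dichotomy_aux {z : ℂ} (hz : z ≠ 0) : ∀ (n : ℕ) (c : ℕ → locRing M),
    (∃ i ≤ n, IsUnit (c i)) → ∑ i ∈ Finset.range (n + 1), (c i : ℂ) * z ^ i = 0 →
    z ∈ locRing M ∨ z⁻¹ ∈ locRing M := by
  intro n
  induction n with
  | zero =>
    rintro c ⟨i, hi, hu⟩ h
    simp at h
    obtain rfl : i = 0 := by omega
    exact absurd (Subtype.ext (by simpa using h) : c 0 = 0) hu.ne_zero
  | succ n ih =>
    intro c hu h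
    -- `c (n+1) * z` is integral over the localisation
    have hint : IsIntegral (locRing M) ((c (n + 1) : ℂ) * z) := by
      let f : (locRing M)[X] := X ^ (n + 1) +
        ∑ i ∈ Finset.range (n + 1), C (c i * c (n + 1) ^ (n - i)) * X ^ i
      refine ⟨f, monic_X_pow_add ?_, ?_⟩
      · refine (degree_sum_le _ _).trans_lt ?_
        rw [Finset.sup_lt_iff (by exact WithBot.bot_lt_coe _)]
        intro i hi
        exact (degree_C_mul_X_pow_le _ _).trans_lt (by
          exact_mod_cast Finset.mem_range.1 hi)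
      · have hal : ∀ x : locRing M, algebraMap (locRing M) ℂ x = (x : ℂ) := fun x => rfl
        simp only [f, eval₂_add, eval₂_X_pow, eval₂_finsetSum, eval₂_mul, eval₂_C, hal]
        rw [Finset.sum_range_succ] at h
        have : ∀ i ∈ Finset.range (n + 1),
            ((c i * c (n + 1) ^ (n - i) : locRing M) : ℂ) * ((c (n + 1) : ℂ) * z) ^ i
              = (c (n + 1) : ℂ) ^ n * ((c i : ℂ) * z ^ i) := by
          intro i hi
          have hi' : i ≤ n := Nat.lt_succ_iff.1 (Finset.mem_range.1 hi)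
          have hp : (c (n + 1) : ℂ) ^ n = (c (n + 1) : ℂ) ^ (n - i) * (c (n + 1) : ℂ) ^ i := by
            rw [← pow_add]; congr 1; omega
          push_cast; rw [hp, mul_pow]; ring
        rw [Finset.sum_congr rfl this, ← Finset.mul_sum, mul_pow]
        linear_combination (c (n + 1) : ℂ) ^ n * h
    have hw := mem_locRing_of_isIntegral hint
    set w : locRing M := ⟨_, hw⟩ with hwdef
    by_cases hwu : IsUnit w
    · obtain ⟨v, hv⟩ := isUnit_iff_exists_inv.1 hwu
      have hv' : (c (n + 1) : ℂ) * z * (v : ℂ) = 1 := congrArg Subtype.val hv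
      right
      have : z⁻¹ = ((c (n + 1) * v : locRing M) : ℂ) := by
        push_cast
        field_simp
        linear_combination -hv'
      rw [this]; exact Subtype.coe_prop _
    · by_cases htop : IsUnit (c (n + 1))
      · obtain ⟨v, hv⟩ := isUnit_iff_exists_inv.1 htop
        have hv' : (c (n + 1) : ℂ) * (v : ℂ) = 1 := congrArg Subtype.val hv
        left
        have : z = ((w * v : locRing M) : ℂ) := by
          show z = (c (n + 1) : ℂ) * z * (v : ℂ)
          linear_combination -z * hv'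
        rw [this]; exact Subtype.coe_prop _
      · refine ih (Function.update c n (c n + w)) ?_ ?_
        · obtain ⟨i, hi, hu⟩ := hu
          have hin : i ≤ n := by
            rcases eq_or_lt_of_le hi with rfl | h
            · exact absurd hu htop
            · omega
          rcases eq_or_lt_of_le hin with rfl | hlt
          · refine ⟨i, le_rfl, ?_⟩
            rw [Function.update_self]
            by_contra hc
            exact IsLocalRing.nonunits_add hc (show -w ∈ nonunits _ from by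
              simpa [mem_nonunits_iff, IsUnit.neg_iff] using hwu) (by simpa using hu)
          · exact ⟨i, hin, by rwa [Function.update_of_ne (by omega)]⟩
        · rw [Finset.sum_range_succ, Finset.sum_congr rfl (fun i hi => by
            rw [Function.update_of_ne (by have := Finset.mem_range.1 hi; omega)])]
          rw [Function.update_self, ← h, Finset.sum_range_succ _ (n + 1),
            Finset.sum_range_succ _ n]
          push_cast [hwdef]
          ring

/-- An algebraic number or its inverse is a local integer. -/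
theorem locRing_dichotomy {p : ℕ} (hp : p.Prime) (hpM : (p : AlgInt) ∈ M)
    {z : ℂ} (hz : IsAlgebraic ℤ z) : z ∈ locRing M ∨ z⁻¹ ∈ locRing M := by
  rcases eq_or_ne z 0 with rfl | hz0
  · exact Or.inl (zero_mem _)
  obtain ⟨f, hf0, hfz⟩ := hz
  have hz' : aeval z f.primPart = 0 := by
    rw [f.eq_C_content_mul_primPart, map_mul, aeval_C, mul_eq_zero] at hfz
    refine hfz.resolve_left ?_
    simp [content_eq_zero_iff, hf0]
  obtain ⟨i, hi⟩ : ∃ i, ¬ (p : ℤ) ∣ f.primPart.coeff i := by
    by_contra! h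
    have : C (p : ℤ) ∣ f.primPart := C_dvd_iff_dvd_coeff _ _ |>.2 h
    have := f.isPrimitive_primPart _ this
    rw [Int.isUnit_iff] at this
    rcases this with h1 | h1 <;> [exact hp.one_lt.ne' (by exact_mod_cast h1); omega]
  refine locRing_dichotomy_aux hz0 f.primPart.natDegree (fun j => (f.primPart.coeff j : locRing M))
    ⟨i, le_natDegree_of_ne_zero (fun h => hi (h ▸ dvd_zero _)), ?_⟩ ?_
  · rw [isUnit_locRing_iff, show ((f.primPart.coeff i : locRing M) : ℂ) =
      ((f.primPart.coeff i : AlgInt) : ℂ) by push_cast; rfl, memLocalIdeal_algInt_iff]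
    intro h
    have hco := (Nat.prime_iff_prime_int.1 hp).coprime_iff_not_dvd.2 hi
    obtain ⟨u, v, huv⟩ := hco
    have : ((u * p + v * f.primPart.coeff i : ℤ) : AlgInt) ∈ M := by
      push_cast; exact add_mem (M.mul_mem_left _ hpM) (M.mul_mem_left _ h)
    rw [huv, Int.cast_one] at this
    exact one_notMem this
  · rw [← hz', aeval_eq_sum_range]
    refine Finset.sum_congr rfl fun j _ => ?_
    simp

theorem intCast_mem_iff {p : ℕ} (hp : p.Prime) (hpM : (p : AlgInt) ∈ M) (n : ℤ) :
    (n : AlgInt) ∈ M ↔ (p : ℤ) ∣ n := by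
  constructor
  · intro h
    by_contra hn
    obtain ⟨u, v, huv⟩ := (Nat.prime_iff_prime_int.1 hp).coprime_iff_not_dvd.2 hn
    have : ((u * p + v * n : ℤ) : AlgInt) ∈ M := by
      push_cast; exact add_mem (M.mul_mem_left _ hpM) (M.mul_mem_left _ h)
    rw [huv, Int.cast_one] at this
    exact one_notMem this
  · rintro ⟨k, rfl⟩
    push_cast
    exact M.mul_mem_right _ hpM

theorem natCast_mem_iff {p : ℕ} (hp : p.Prime) (hpM : (p : AlgInt) ∈ M) (n : ℕ) :
    (n : AlgInt) ∈ M ↔ p ∣ n := by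
  simpa [Int.natCast_dvd_natCast] using intCast_mem_iff hp hpM (n : ℤ)

theorem memLocalIdeal_natCast_iff {p : ℕ} (hp : p.Prime) (hpM : (p : AlgInt) ∈ M) (n : ℕ) :
    MemLocalIdeal M (n : ℂ) ↔ p ∣ n := by
  rw [← natCast_mem_iff hp hpM n, ← memLocalIdeal_algInt_iff]
  simp

theorem inv_natCast_mem_locRing {p : ℕ} (hp : p.Prime) (hpM : (p : AlgInt) ∈ M) {n : ℕ}
    (hn : ¬ p ∣ n) : ((n : ℂ))⁻¹ ∈ locRing M := by
  have := inv_mem_locRing_of_notMem (M := M) (b := (n : AlgInt)) (by rwa [natCast_mem_iff hp hpM])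
  simpa using this

theorem isAlgebraic_coe_locRing (x : locRing M) : IsAlgebraic ℤ (x : ℂ) := by
  obtain ⟨a, b, hb, hab⟩ := x.2
  rw [← hab, div_eq_mul_inv]
  exact (a.2.isAlgebraic).mul (b.2.isAlgebraic.inv)

/-- The localisation is a valuation ring. -/
theorem locRing_preValuationRing {p : ℕ} (hp : p.Prime) (hpM : (p : AlgInt) ∈ M) :
    PreValuationRing (locRing M) := by
  refine ⟨fun a b => ?_⟩
  rcases eq_or_ne b 0 with rfl | hb
  · exact ⟨0, Or.inl (mul_zero a)⟩
  have hb' : (b : ℂ) ≠ 0 := fun h => hb (Subtype.ext h)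
  rcases eq_or_ne a 0 with rfl | ha
  · exact ⟨0, Or.inr (mul_zero b)⟩
  have ha' : (a : ℂ) ≠ 0 := fun h => ha (Subtype.ext h)
  have halg : IsAlgebraic ℤ ((a : ℂ) / b) :=
    (div_eq_mul_inv (a : ℂ) b).symm ▸ (isAlgebraic_coe_locRing a).mul (isAlgebraic_coe_locRing b).inv
  rcases locRing_dichotomy hp hpM halg with h | h
  · exact ⟨⟨_, h⟩, Or.inr (Subtype.ext (show (b : ℂ) * (a / b) = a by field_simp))⟩
  · exact ⟨⟨_, h⟩, Or.inl (Subtype.ext (show (a : ℂ) * ((a / b : ℂ))⁻¹ = b by field_simp))⟩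

theorem locRing_isBezout {p : ℕ} (hp : p.Prime) (hpM : (p : AlgInt) ∈ M) : IsBezout (locRing M) := by
  haveI := locRing_preValuationRing hp hpM
  haveI : ValuationRing (locRing M) := { }
  infer_instance

/-- Monic polynomials over the localisation have roots there. -/
theorem exists_root_locRing (f : (locRing M)[X]) (hf : f.Monic) (hdeg : 0 < f.natDegree) :
    ∃ r : locRing M, f.IsRoot r := by
  obtain ⟨z, hz⟩ := IsAlgClosed.exists_root (f.map (locRing M).subtype) (by
    rw [degree_eq_natDegree (hf.map _).ne_zero, hf.natDegree_map]; exact_mod_cast hdeg.ne')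
  rw [IsRoot, eval_map] at hz
  have hzR : z ∈ locRing M := mem_locRing_of_isIntegral ⟨f, hf, hz⟩
  refine ⟨⟨z, hzR⟩, Subtype.ext ?_⟩
  show (locRing M).subtype (f.eval ⟨z, hzR⟩) = 0
  rw [← eval₂_at_apply]
  exact hz

end Cfsg.Agent.Block
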