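import Cfsg.Agent.Lib.Block.SmallDefectForm
import Cfsg.Agent.Lib.Char.Degrees
import Cfsg.Agent.Lib.Block.CentralExtDefect
import Mathlib.GroupTheory.QuotientGroup.Basic

/-!
# A block modulo a central subgroup of order `p`

The characters of a block trivial on a central element of order `p` form a block of the quotient,
of defect one less and of the same rank.
-/

set_option autoImplicit false

open Cfsg Cfsg.Agent.Char
open scoped ComplexConjugate

namespace Cfsg.Agent.Block

universe u

variable {G : Type u} [Group G] [Finite G] {M : Ideal AlgInt} {p : ℕ}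

theorem zpowers_normal_of_central {x : G} (hx : ∀ y, x * y = y * x) : (Subgroup.zpowers x).Normal := by
  refine ⟨fun n hn g => ?_⟩
  obtain ⟨i, rfl⟩ := Subgroup.mem_zpowers_iff.1 hn
  rw [show g * x ^ i * g⁻¹ = x ^ i by
    rw [← ((show Commute x g from hx g).zpow_left i).eq, mul_inv_cancel_right]]
  exact Subgroup.zpow_mem_zpowers x i

theorem isIrrCharacter_comp_surjective {H : Type*} [Group H] (f : G →* H) (hf : Function.Surjective f)
    {χ : H → ℂ} (hχ : IsIrrCharacter H χ) : IsIrrCharacter G fun g => χ (f g) := by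
  obtain ⟨n, ρ, hρ, rfl⟩ := hχ
  haveI := hρ
  exact ⟨n, ρ.comp f, isIrreducible_comp_surjective ρ f hf, rfl⟩

theorem exists_factor_quotient (N : Subgroup G) [N.Normal] (χ : IrrCharacter G)
    (h : ∀ g ∈ N, ∀ y, (χ : G → ℂ) (g * y) = (χ : G → ℂ) y) :
    ∃ φ : IrrCharacter (G ⧸ N), ∀ g, (φ : G ⧸ N → ℂ) (QuotientGroup.mk g) = (χ : G → ℂ) g := by
  obtain ⟨n, ρ, hρ, hχ⟩ := χ.2
  haveI := hρ
  haveI : Nontrivial (Fin n → ℂ) := nontrivial_of_irreducible ρ
  have hker : N ≤ MonoidHom.ker ρ := fun g hg => by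
    have hn : ρ.character g = ρ.character 1 := by
      have := h g hg 1
      rw [mul_one] at this
      rw [hχ]; exact this
    refine MonoidHom.mem_ker.2 ?_
    exact (character_eq_finrank_iff ρ g).1 (by rw [hn, ρ.char_one])
  refine ⟨⟨fun q => Representation.character (QuotientGroup.lift N ρ hker) q, n, QuotientGroup.lift N ρ hker, ?_, rfl⟩,
    fun g => by rw [← hχ]; rfl⟩
  have hne : (⊥ : Subrepresentation (QuotientGroup.lift N ρ hker : Representation ℂ (G ⧸ N) _)) ≠ ⊤ := fun e =>
    (bot_ne_top : (⊥ : Submodule ℂ (Fin n → ℂ)) ≠ ⊤) (congrArg Subrepresentation.toSubmodule e)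
  haveI : Nontrivial (Subrepresentation (QuotientGroup.lift N ρ hker : Representation ℂ (G ⧸ N) _)) := ⟨⟨⊥, ⊤, hne⟩⟩
  refine ⟨fun W => ?_⟩
  let W' : Subrepresentation ρ := ⟨W.toSubmodule, fun g v hv => W.apply_mem_toSubmodule (QuotientGroup.mk g) hv⟩
  rcases hρ.eq_bot_or_eq_top W' with e | e
  · exact Or.inl (Subrepresentation.toSubmodule_injective (congrArg Subrepresentation.toSubmodule e :))
  · exact Or.inr (Subrepresentation.toSubmodule_injective (congrArg Subrepresentation.toSubmodule e :))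

/-- The block of the quotient by a central subgroup of order `p`. -/
theorem exists_quotient_block' (hM : IsPModular p M) {B : Set (IrrCharacter G)} (hB : IsPBlock M B)
    {x : G} (hx : ∀ y, x * y = y * x) (hxo : orderOf x = p) :
    ∃ (Q : Type u) (_ : Group Q) (_ : Finite Q) (B' : Set (IrrCharacter Q)), IsPBlock M B' ∧
      blockDefect p B' + 1 ≤ blockDefect p B ∧ blockRank p B ≤ Nat.card B' ∧
        blockRank p B ≤ blockRank p B' := by
  classical
  haveI := prime_of_isPModular hM
  haveI : Fact p.Prime := ⟨hM.1⟩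
  haveI := Fintype.ofFinite G
  haveI := zpowers_normal_of_central hx
  haveI := Fintype.ofFinite (G ⧸ Subgroup.zpowers x)
  haveI := Fintype.ofFinite (IrrCharacter G)
  haveI := Fintype.ofFinite (IrrCharacter (G ⧸ Subgroup.zpowers x))
  set Q := G ⧸ Subgroup.zpowers x
  set π : G →* Q := QuotientGroup.mk' (Subgroup.zpowers x) with hπdef
  have hπ : Function.Surjective π := QuotientGroup.mk'_surjective _
  let ι : IrrCharacter Q → IrrCharacter G := fun φ =>
    ⟨fun g => (φ : Q → ℂ) (π g), isIrrCharacter_comp_surjective π hπ φ.2⟩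
  have hιinj : Function.Injective ι := fun φ φ' h => Subtype.ext (funext fun q => by
    obtain ⟨g, rfl⟩ := hπ q
    exact congrFun (congrArg Subtype.val h) g)
  have hreg : ∀ g : G, ¬ p ∣ orderOf g → ¬ p ∣ orderOf (π g) := fun g hg hd =>
    hg (hd.trans (orderOf_map_dvd π g))
  -- regular preimages
  have hpart : ∀ q : Q, ¬ p ∣ orderOf q → ∃ g : G, ¬ p ∣ orderOf g ∧ π g = q := by
    intro q hq
    obtain ⟨g, rfl⟩ := hπ q
    obtain ⟨u, w, huw, hc, ⟨k, hk⟩, hw⟩ := isPPart_exists hM.1 g
    refine ⟨w, hw, ?_⟩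
    have hu1 : orderOf (π u) = 1 := by
      obtain ⟨j, -, hj⟩ := (Nat.dvd_prime_pow hM.1).1 (hk ▸ orderOf_map_dvd π u)
      have hmul : orderOf (π u * π w) = orderOf (π u) * orderOf (π w) :=
        (hc.map π).orderOf_mul_eq_mul_orderOf_of_coprime (by
          rw [hj]; exact Nat.Coprime.pow_left j ((Nat.Prime.coprime_iff_not_dvd hM.1).2 (hreg w hw)))
      rw [← map_mul, huw] at hmul
      rcases Nat.eq_zero_or_pos j with rfl | hj0
      · simpa using hj
      · exact absurd (hmul ▸ (hj ▸ dvd_pow_self p hj0.ne' : p ∣ orderOf (π u)).mul_right _) hq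
    rw [← huw, map_mul, orderOf_eq_one_iff.1 hu1, one_mul]
  have hinj : ∀ g g' : G, ¬ p ∣ orderOf g → ¬ p ∣ orderOf g' → π g = π g' → g = g' := by
    intro g g' hg hg' h
    obtain ⟨i, hi⟩ := Subgroup.mem_zpowers_iff.1 (QuotientGroup.eq.1 h)
    have hg'' : g' = g * x ^ i := by rw [hi, mul_inv_cancel_left]
    rcases (Nat.dvd_prime hM.1).1 (hxo ▸ orderOf_dvd_of_mem_zpowers (Subgroup.zpow_mem_zpowers x i) : orderOf (x ^ i) ∣ p) with h1 | h1
    · rw [hg'', orderOf_eq_one_iff.1 h1, mul_one]
    · refine absurd ?_ hg'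
      have hc : Commute g (x ^ i) := ((show Commute x g from hx g).zpow_left i).symm
      rw [hg'', hc.orderOf_mul_eq_mul_orderOf_of_coprime (by
        rw [h1]; exact ((Nat.Prime.coprime_iff_not_dvd hM.1).2 hg).symm), h1]
      exact dvd_mul_left p _
  have hsum : ∀ f : Q → ℂ, ∑ g : G, (if p ∣ orderOf g then 0 else f (π g)) =
      ∑ q : Q, if p ∣ orderOf q then 0 else f q := by
    intro f
    have e : ∀ {X : Type u} [Group X] [Fintype X] (F : X → ℂ), ∑ a : X, (if p ∣ orderOf a then 0 else F a) =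
        ∑ a ∈ Finset.univ.filter (fun a : X => ¬ p ∣ orderOf a), F a := fun {X} _ _ F => by
      rw [Finset.sum_filter]; exact Finset.sum_congr rfl fun a _ => (ite_not _ _ _).symm
    rw [e (fun g => f (π g)), e f]
    refine Finset.sum_bij (fun g _ => π g) (fun g hg => by simpa using hreg g (by simpa using hg))
      (fun a ha b hb h => hinj a b (by simpa using ha) (by simpa using hb) h) (fun q hq => ?_) fun _ _ => rfl
    obtain ⟨g, hg, hgq⟩ := hpart q (by simpa using hq)
    exact ⟨g, by simpa using hg, hgq⟩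
  have hRI : ∀ φ φ' : IrrCharacter Q,
      regInner p (ι φ : G → ℂ) (ι φ' : G → ℂ) = regInner p (φ : Q → ℂ) (φ' : Q → ℂ) := fun φ φ' =>
    hsum fun q => (φ : Q → ℂ) q * conj ((φ' : Q → ℂ) q)
  have hdeg : ∀ φ : IrrCharacter Q, charDegree (ι φ : G → ℂ) = charDegree (φ : Q → ℂ) := fun φ => by
    simp [charDegree, ι]
  -- the locally integral extension of a restriction
  obtain ⟨χ₀, hχ₀, h00⟩ := exists_height_zero p (isPBlock_nonempty hB)
  set F : G → ℂ := fun g => (χ₀ : G → ℂ) (classRep (qRegClass hM.1 g)) with hFdef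
  have hF : IsSpanR M F := by
    have e : F = ∑ K ∈ Finset.univ.image (qRegClass hM.1),
        ((χ₀ : G → ℂ) (classRep K)) • (fun g => if InSection p (classRep K) g then (1 : ℂ) else 0) := by
      funext g
      simp only [Finset.sum_apply, Pi.smul_apply, smul_eq_mul, mul_ite, mul_one, mul_zero,
        qRegClass_eq_iff hM.1, mk_classRep, Finset.sum_ite_eq]
      rw [if_pos (Finset.mem_image_of_mem _ (Finset.mem_univ g))]
    rw [e]
    refine IsSpanR.sum _ _ fun K hK => IsSpanR.smul (isSpanR_indicator_section hM ?_)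
      (isIntegral_mem_locRing (IsCharacter.isIntegral (IsIrrCharacter.isCharacter χ₀.2) _))
    obtain ⟨y, -, rfl⟩ := Finset.mem_image.1 hK
    obtain ⟨t, ht⟩ := isConj_iff.1 (isConj_classRep_mk (y * (isPPart_exists hM.1 y).choose⁻¹))
    show ¬ p ∣ orderOf (classRep (qRegClass hM.1 y))
    rw [qRegClass, ← ht, orderOf_conj_eq]
    exact not_dvd_orderOf_mul_inv (isPPart_exists hM.1 y).choose_spec
  have hFreg : ∀ g, ¬ p ∣ orderOf g → F g = (χ₀ : G → ℂ) g := by
    intro g hg
    have hu : (isPPart_exists hM.1 g).choose = 1 :=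
      isPPart_unique hM.1 (isPPart_exists hM.1 g).choose_spec
        ⟨g, one_mul g, Commute.one_left g, ⟨0, by simp⟩, hg⟩
    obtain ⟨t, ht⟩ := isConj_iff.1 (isConj_classRep_mk (g * (isPPart_exists hM.1 g).choose⁻¹))
    simp only [hFdef, qRegClass]
    rw [← ht, IsCharacter.isClassFunction (IsIrrCharacter.isCharacter χ₀.2) _ t, hu, inv_one, mul_one]
  have hFx : ∀ g, F (x * g) = F g := by
    intro g
    simp only [hFdef]
    congr 2
    obtain ⟨y, h1, h2, ⟨k, hk⟩, h4⟩ := (isPPart_exists hM.1 g).choose_spec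
    set v := (isPPart_exists hM.1 g).choose
    have hP : IsPPart p (x * g) (x * v) := by
      refine ⟨y, by rw [mul_assoc, h1], (show Commute x y from hx y).mul_left h2, ?_, h4⟩
      have hdvd : orderOf (x * v) ∣ p ^ (k + 1) := by
        refine orderOf_dvd_of_pow_eq_one ?_
        have h5 : x ^ p ^ (k + 1) = 1 := by rw [pow_succ', pow_mul, ← hxo, pow_orderOf_eq_one, one_pow]
        have h6 : v ^ p ^ (k + 1) = 1 := by rw [pow_succ, pow_mul, ← hk, pow_orderOf_eq_one, one_pow]
        rw [(show Commute x v from hx v).mul_pow, h5, h6, one_mul]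
      obtain ⟨j, -, hj⟩ := (Nat.dvd_prime_pow hM.1).1 hdvd
      exact ⟨j, hj⟩
    rw [qRegClass, qRegClass, isPPart_unique hM.1 (isPPart_exists hM.1 (x * g)).choose_spec hP]
    congr 1
    rw [mul_inv_rev, mul_assoc, ← mul_assoc g, ← mul_assoc x]
    rw [hx (g * v⁻¹), mul_inv_cancel_right]
  have hFzero : ∀ θ : IrrCharacter G, classInner F (θ : G → ℂ) ≠ 0 → ∀ g, (θ : G → ℂ) (x * g) = (θ : G → ℂ) g := by
    intro θ hne
    obtain ⟨n, ρ, hρ, hθ⟩ := θ.2
    obtain ⟨s, hs, hsy⟩ := exists_scalar_of_central ρ hρ hx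
    have hs' : ∀ y, (θ : G → ℂ) (x * y) = s * (θ : G → ℂ) y := fun y => by rw [← hθ]; exact hsy y
    suffices h : s = 1 by intro g; rw [hs', h, one_mul]
    have e : classInner F (θ : G → ℂ) = conj s * classInner F (θ : G → ℂ) := by
      have h1 : ∑ g : G, F g * conj ((θ : G → ℂ) g) = ∑ g : G, F (x * g) * conj ((θ : G → ℂ) (x * g)) :=
        (Equiv.sum_comp (Equiv.mulLeft x) (fun g => F g * conj ((θ : G → ℂ) g))).symm
      simp only [classInner]
      conv_lhs => rw [h1]
      simp only [hFx, hs', map_mul, Finset.mul_sum]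
      exact Finset.sum_congr rfl fun g _ => by ring
    have h2 : conj s = 1 := mul_right_cancel₀ hne (e.symm.trans (one_mul _).symm)
    rw [← Complex.conj_conj s, h2, map_one]
  -- a character of height zero trivial on x
  obtain ⟨θ₁, hθ₁, hθ₁x, h10⟩ : ∃ θ : IrrCharacter G, θ ∈ B ∧ (∀ g, (θ : G → ℂ) (x * g) = (θ : G → ℂ) g) ∧
      blockHeight p B (θ : G → ℂ) = 0 := by
    by_contra hno
    push Not at hno
    have h1 : blockPart B F 1 = (χ₀ : G → ℂ) 1 := by
      have e1 := blockPart_regular hM hB F 1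
      have e2 := blockPart_regular hM hB (χ₀ : G → ℂ) 1
      rw [show (fun g : G => if p ∣ orderOf g then (0 : ℂ) else F g) =
        fun g => if p ∣ orderOf g then 0 else (χ₀ : G → ℂ) g from funext fun g => by
          split
          · rfl
          · exact hFreg g ‹_›, e2, blockPart_self hχ₀] at e1
      rw [if_neg (by rw [orderOf_one]; exact hM.1.not_dvd_one),
        if_neg (by rw [orderOf_one]; exact hM.1.not_dvd_one)] at e1
      exact e1.symm
    set m := (charDegree (χ₀ : G → ℂ)).factorization p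
    have hm : minVal p B = m := by
      have := minVal_add_height (p := p) hχ₀
      omega
    have hmem : MemLocalIdeal M ((χ₀ : G → ℂ) 1 / ((p ^ m : ℕ) : ℂ)) := by
      rw [← h1]
      simp only [blockPart, finsum_mem_eq_finite_toFinset_sum _ B.toFinite, Finset.sum_div]
      refine memLocalIdeal_sum _ _ fun θ hθ => ?_
      have hθB := B.toFinite.mem_toFinset.1 hθ
      by_cases hc : classInner F (θ : G → ℂ) = 0
      · convert memLocalIdeal_zero (M := M)
        rw [mul_div_assoc, mul_eq_zero]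
        left
        convert hc using 3
      · have hh := hno θ hθB (hFzero θ hc)
        rw [mul_div_assoc]
        refine memLocalIdeal_mul_left (by convert hF.2 θ using 3) ?_
        set v := (charDegree (θ : G → ℂ)).factorization p
        have hv : m + 1 ≤ v := by
          have := minVal_add_height (p := p) hθB
          omega
        obtain ⟨c, hc⟩ := (pow_dvd_pow p hv).trans (Nat.ordProj_dvd (charDegree (θ : G → ℂ)) p)
        rw [← charDegree_cast (IsIrrCharacter.isCharacter θ.2), hc, pow_succ, mul_assoc, Nat.cast_mul,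
          mul_div_cancel_left₀ _ (Nat.cast_ne_zero.2 (pow_ne_zero m hM.1.ne_zero)),
          memLocalIdeal_natCast_iff hM.1 hM.2.2]
        exact dvd_mul_right p c
    rw [← charDegree_cast (IsIrrCharacter.isCharacter χ₀.2),
      ← Nat.ordProj_mul_ordCompl_eq_self (charDegree (χ₀ : G → ℂ)) p, Nat.cast_mul,
      mul_div_cancel_left₀ _ (Nat.cast_ne_zero.2 (pow_ne_zero m hM.1.ne_zero)),
      memLocalIdeal_natCast_iff hM.1 hM.2.2] at hmem
    exact Nat.not_dvd_ordCompl hM.1 (charDegree_pos χ₀.2).ne' hmem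
  have hfact : ∀ θ : IrrCharacter G, (∀ g, (θ : G → ℂ) (x * g) = (θ : G → ℂ) g) → ∃ φ, ι φ = θ := by
    intro θ hθ
    obtain ⟨φ, hφ⟩ := exists_factor_quotient (Subgroup.zpowers x) θ fun g hg y => by
      obtain ⟨i, rfl⟩ := (Submonoid.mem_powers_iff _ _).1 (mem_powers_iff_mem_zpowers.2 hg)
      induction i with
      | zero => simp
      | succ i ih => rw [pow_succ', mul_assoc, hθ, ih (Subgroup.npow_mem_zpowers x i)]
    exact ⟨φ, Subtype.ext (funext hφ)⟩
  obtain ⟨φ₁, hφ₁⟩ := hfact θ₁ hθ₁x
  set B' := blockOf M (φ₁ : Q → ℂ) with hB'def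
  have hB' : IsPBlock M B' := isPBlock_blockOf φ₁
  have hsub : ∀ φ, ι φ ∈ B → φ ∈ B' := by
    intro φ hφ
    by_contra hn
    have h1 := (regInner_div_memLocalIdeal_iff hM (isPBlock_blockOf φ) (χ := φ₁) (self_mem_blockOf φ)).2
      fun ⟨h, _⟩ => hn (by
        rw [hB'def, blockOf_eq_of_mem h]
        exact self_mem_blockOf φ)
    have h2 := regInner_div_memLocalIdeal_iff hM hB (χ := ι φ₁) hφ
    rw [hRI] at h2
    have e : (ι φ : G → ℂ) 1 = (φ : Q → ℂ) 1 := by simp [ι]
    rw [e] at h2
    exact h2.1 h1 ⟨by rw [hφ₁]; exact hθ₁, by rw [hφ₁]; exact h10⟩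
  have hφ₁B' : φ₁ ∈ B' := self_mem_blockOf φ₁
  refine ⟨Q, inferInstance, inferInstance, B', hB', ?_, ?_⟩
  · have hcardQ : (Nat.card G).factorization p = (Nat.card Q).factorization p + 1 := by
      rw [Subgroup.card_eq_card_quotient_mul_card_subgroup (Subgroup.zpowers x),
        Nat.factorization_mul Nat.card_pos.ne' Nat.card_pos.ne', Finsupp.add_apply, Nat.card_zpowers, hxo,
        hM.1.factorization_self]
    have hge : ∀ φ ∈ B', minVal p B ≤ (charDegree (φ : Q → ℂ)).factorization p ∨ ι φ ∉ B := fun φ _ => by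
      by_cases h : ι φ ∈ B
      · exact Or.inl (hdeg φ ▸ minVal_le h)
      · exact Or.inr h
    have hincl : ∀ φ ∈ B', ι φ ∈ B := by
      intro φ hφ
      by_contra hn
      obtain ⟨φ', hφ', h'0⟩ := exists_height_zero p (isPBlock_nonempty hB')
      by_cases h' : ι φ' ∈ B
      · -- φ' is linked to φ
        have h1 := regInner_div_memLocalIdeal_iff hM hB' (χ := φ') hφ
        have h2 := (regInner_div_memLocalIdeal_iff hM (isPBlock_blockOf (ι φ)) (χ := ι φ')
          (self_mem_blockOf (ι φ))).2 fun ⟨h, _⟩ => hn (by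
            rw [isPBlock_eq_blockOf hB h', blockOf_eq_of_mem h]
            exact self_mem_blockOf _)
        have e : (ι φ : G → ℂ) 1 = (φ : Q → ℂ) 1 := by simp [ι]
        rw [hRI, e] at h2
        exact h1.1 h2 ⟨hφ', h'0⟩
      · have h1 := regInner_div_memLocalIdeal_iff hM hB' (χ := φ') hφ₁B'
        have h2 := (regInner_div_memLocalIdeal_iff hM hB (χ := ι φ') (hφ₁ ▸ hθ₁ : ι φ₁ ∈ B)).2
          fun ⟨h, _⟩ => h' h
        have e : (ι φ₁ : G → ℂ) 1 = (φ₁ : Q → ℂ) 1 := by simp [ι]
        rw [hRI, e] at h2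
        exact h1.1 h2 ⟨hφ', h'0⟩
    obtain ⟨φ', hφ', h'⟩ := exists_minVal p (isPBlock_nonempty hB')
    have h3 : minVal p B ≤ minVal p B' := h' ▸ hdeg φ' ▸ minVal_le (hincl φ' hφ')
    have h4 : minVal p B' ≤ (Nat.card Q).factorization p := h' ▸ degree_factorization_le p φ'
    rw [blockDefect_eq, blockDefect_eq]
    omega
  · set S := B.toFinite.toFinset.filter (fun θ : IrrCharacter G => (θ : G → ℂ) x = (θ : G → ℂ) 1)
    have hspan : Submodule.span ℂ ((fun χ : IrrCharacter G => pRegularPart p (χ : G → ℂ)) '' B) ≤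
        Submodule.span ℂ ((fun χ : IrrCharacter G => pRegularPart p (χ : G → ℂ)) '' (S : Set _)) := by
      refine Submodule.span_le.2 ?_
      rintro _ ⟨χ, hχ, rfl⟩
      have e : pRegularPart p (χ : G → ℂ) =
          ∑ θ ∈ S, ((p : ℂ) * (Nat.card G : ℂ)⁻¹ * regInner p (χ : G → ℂ) (θ : G → ℂ)) •
            pRegularPart p (θ : G → ℂ) := by
        funext g
        simp only [Finset.sum_apply, Pi.smul_apply, smul_eq_mul, pRegularPart_apply]
        by_cases hg : p ∣ orderOf g
        · simp [hg]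
        simp only [if_neg hg]
        have h := blockPart_regular hM hB (χ : G → ℂ) g
        rw [if_neg hg, blockPart_self hχ, blockPart_eq_sum] at h
        rw [← h]
        simp only [regInner, Finset.mul_sum, Finset.sum_mul]
        rw [Finset.sum_comm]
        refine Finset.sum_congr rfl fun y _ => ?_
        by_cases hy : p ∣ orderOf y
        · simp [hy]
        simp only [hy, if_false]
        rw [← kernel_eq_mul_sum_central hM hB hx hxo hg hy, Finset.mul_sum, Finset.mul_sum, Finset.mul_sum]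
        exact Finset.sum_congr rfl fun θ _ => by ring
      show pRegularPart p (χ : G → ℂ) ∈ _
      rw [e]
      exact Submodule.sum_mem _ fun θ hθ => Submodule.smul_mem _ _ (Submodule.subset_span ⟨θ, hθ, rfl⟩)
    have hS : ∀ θ ∈ S, ∃ φ, ι φ = θ ∧ φ ∈ B' := by
      intro θ hθ
      obtain ⟨hθB, hθx⟩ := Finset.mem_filter.1 hθ
      have hθB' := B.toFinite.mem_toFinset.1 hθB
      obtain ⟨φ, hφ⟩ := hfact θ fun g => apply_mul_of_mem_kernel (IsIrrCharacter.isCharacter θ.2) hθx g
      exact ⟨φ, hφ, hsub φ (hφ ▸ hθB')⟩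
    choose f hf hf' using hS
    haveI : FiniteDimensional ℂ (Submodule.span ℂ
        ((fun χ : IrrCharacter G => pRegularPart p (χ : G → ℂ)) '' (S : Set _))) :=
      FiniteDimensional.span_of_finite ℂ (Set.toFinite _)
    constructor
    · refine le_trans (Submodule.finrank_mono hspan) ?_
      rw [← Finset.coe_image]
      refine le_trans (finrank_span_finset_le_card _) (le_trans Finset.card_image_le ?_)
      rw [← Nat.card_eq_finsetCard]
      exact Nat.card_le_card_of_injective (fun θ => ⟨f θ.1 θ.2, hf' θ.1 θ.2⟩) fun a b h =>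
        Subtype.ext ((hf a.1 a.2).symm.trans ((congrArg ι (congrArg Subtype.val h)).trans (hf b.1 b.2)))
    · let L : (Q → ℂ) →ₗ[ℂ] (G → ℂ) :=
        { toFun := fun u g => if p ∣ orderOf g then 0 else u (π g)
          map_add' := fun u u' => by funext g; by_cases h : p ∣ orderOf g <;> simp [h]
          map_smul' := fun c u => by funext g; by_cases h : p ∣ orderOf g <;> simp [h] }
      haveI : FiniteDimensional ℂ (Submodule.span ℂ
          ((fun φ : IrrCharacter Q => pRegularPart p (φ : Q → ℂ)) '' B')) :=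
        FiniteDimensional.span_of_finite ℂ (Set.toFinite _)
      refine le_trans (Submodule.finrank_mono (hspan.trans ?_)) (Submodule.finrank_map_le L _)
      refine Submodule.span_le.2 ?_
      rintro _ ⟨θ, hθ, rfl⟩
      have hθ' : θ ∈ S := Finset.mem_coe.1 hθ
      refine ⟨pRegularPart p (f θ hθ' : Q → ℂ), Submodule.subset_span ⟨f θ hθ', hf' θ hθ', rfl⟩, ?_⟩
      funext g
      show (if p ∣ orderOf g then (0 : ℂ) else pRegularPart p (f θ hθ' : Q → ℂ) (π g)) =
        pRegularPart p (θ : G → ℂ) g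
      rw [pRegularPart_apply, pRegularPart_apply]
      by_cases h : p ∣ orderOf g
      · rw [if_pos h, if_pos h]
      · rw [if_neg h, if_neg h, if_neg (hreg g h)]
        exact congrFun (congrArg Subtype.val (hf θ hθ')) g

/-- The block of the quotient by a central subgroup of order `p`, counted by its characters. -/
theorem exists_quotient_block (hM : IsPModular p M) {B : Set (IrrCharacter G)} (hB : IsPBlock M B)
    {x : G} (hx : ∀ y, x * y = y * x) (hxo : orderOf x = p) :
    ∃ (Q : Type u) (_ : Group Q) (_ : Finite Q) (B' : Set (IrrCharacter Q)), IsPBlock M B' ∧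
      blockDefect p B' + 1 ≤ blockDefect p B ∧ blockRank p B ≤ Nat.card B' := by
  obtain ⟨Q, hQ, hQ', B', h1, h2, h3, -⟩ := exists_quotient_block' hM hB hx hxo
  exact ⟨Q, hQ, hQ', B', h1, h2, h3⟩

end Cfsg.Agent.Block
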