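import Cfsg.Agent.Lib.Block.ResHom
import Mathlib.GroupTheory.Nilpotent

/-!
# Brauer's first main theorem
-/

set_option autoImplicit false

open Cfsg.Agent.Char
open scoped ComplexConjugate

namespace Cfsg.Agent.Block

universe u

variable {G : Type u} [Group G] [Finite G] {M : Ideal AlgInt} [hMp : M.IsPrime] {p : ℕ}
  [Fact p.Prime]

/-- `P` is a Sylow `p`-subgroup of the centraliser of `g`. -/
def MaxIn (p : ℕ) (P : Subgroup G) (g : G) : Prop :=
  g ∈ Subgroup.centralizer (P : Set G) ∧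
    ∀ Q : Subgroup G, IsPGroup p Q → P ≤ Q → Q ≤ Subgroup.centralizer ({g} : Set G) → Q = P

omit [Fact p.Prime] in
theorem maxIn_of_defectLE {P : Subgroup G} {g : G} (hg : g ∈ Subgroup.centralizer (P : Set G))
    (h : DefectLE p P g) : MaxIn p P g := by
  refine ⟨hg, fun Q hQ hPQ hQg => ?_⟩
  obtain ⟨x, hx⟩ := h Q hQ hQg
  refine (Subgroup.eq_of_le_of_card_ge hPQ ?_).symm
  calc Nat.card Q = Nat.card (Q.map (MulAut.conj x).toMonoidHom) := (card_map_conj Q x).symm
    _ ≤ Nat.card P := Subgroup.card_le_of_le hx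

omit [Fact p.Prime] in
theorem exists_sylow_of_maxIn {P : Subgroup G} (hP : IsPGroup p P) {g : G} (h : MaxIn p P g) :
    ∃ S : Sylow p (Subgroup.centralizer ({g} : Set G)), sylowImage S = P := by
  obtain ⟨S, hS⟩ := (show IsPGroup p (P.subgroupOf (Subgroup.centralizer ({g} : Set G))) from
    hP.comap_subtype).exists_le_sylow
  refine ⟨S, h.2 _ (isPGroup_sylowImage S) ?_ (sylowImage_le S)⟩
  intro x hx
  exact ⟨⟨x, mem_centralizer_subgroup.1 h.1 hx⟩, hS hx, rfl⟩

theorem defectLE_of_maxIn {P : Subgroup G} (hP : IsPGroup p P) {g : G} (h : MaxIn p P g) :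
    DefectLE p P g := by
  obtain ⟨S, hS⟩ := exists_sylow_of_maxIn hP h
  rw [← hS]; exact defectLE_sylowImage S

omit [Fact p.Prime] in
theorem maxIn_subgroupOf {P H : Subgroup G} (hPH : P ≤ H) {g : H} (h : MaxIn p P (g : G)) :
    MaxIn p (P.subgroupOf H) g := by
  refine ⟨(mem_centralizer_subgroupOf hPH g).2 h.1, fun Q hQ hPQ hQg => ?_⟩
  have h1 := h.2 (Q.map H.subtype) (hQ.map _) (fun x hx => ⟨⟨x, hPH hx⟩, hPQ hx, rfl⟩) (by
    rintro _ ⟨q, hq, rfl⟩
    exact mem_centralizer_singleton.2 ((mem_centralizer_singleton.1 (hQg hq)).map H.subtype))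
  ext q
  rw [Subgroup.mem_subgroupOf, ← h1]
  exact ⟨fun hq => ⟨q, hq, rfl⟩, fun ⟨q', hq', he⟩ => Subtype.ext he ▸ hq'⟩

theorem maxIn_of_subgroupOf {P H : Subgroup G} (hH : Subgroup.normalizer (P : Set G) ≤ H) {g : H}
    (h : MaxIn p (P.subgroupOf H) g) : MaxIn p P (g : G) := by
  have hPH : P ≤ H := Subgroup.le_normalizer.trans hH
  refine ⟨(mem_centralizer_subgroupOf hPH g).1 h.1, fun Q hQ hPQ hQg => ?_⟩
  by_contra hne
  haveI := hQ.isNilpotent
  have hlt : P.subgroupOf Q < ⊤ :=
    lt_top_iff_ne_top.2 fun he => hne (le_antisymm (Subgroup.subgroupOf_eq_top.1 he) hPQ)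
  obtain ⟨x, hxN, hxP⟩ := SetLike.exists_of_lt (normalizerCondition_of_isNilpotent _ hlt)
  have hxN' : (x : G) ∈ Subgroup.normalizer (P : Set G) := by
    rw [Subgroup.mem_normalizer_iff] at hxN ⊢
    intro y
    constructor
    · intro hy
      have := (hxN ⟨y, hPQ hy⟩).1 hy
      exact this
    · intro hy
      have hyQ : y ∈ Q := by
        have := mul_mem (mul_mem (inv_mem x.2) (hPQ hy)) x.2
        simpa [mul_assoc] using this
      exact (hxN ⟨y, hyQ⟩).2 hy
  have hR := h.2 ((Q ⊓ Subgroup.normalizer (P : Set G)).subgroupOf H)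
    ((hQ.to_le inf_le_left).comap_subtype)
    (Subgroup.comap_mono (le_inf hPQ Subgroup.le_normalizer))
    (fun q hq => mem_centralizer_singleton.2
      (Subtype.ext (mem_centralizer_singleton.1 (hQg hq.1)).eq))
  have : (⟨(x : G), hH hxN'⟩ : H) ∈ (Q ⊓ Subgroup.normalizer (P : Set G)).subgroupOf H :=
    ⟨x.2, hxN'⟩
  rw [hR] at this
  exact hxP this

/-- Conjugate elements with the same Sylow subgroup `P` of the centraliser are conjugate by an
element of `N(P)`. -/
theorem exists_normalizer_conj {P : Subgroup G} (hP : IsPGroup p P) {x y : G} (hx : MaxIn p P x)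
    (hy : MaxIn p P y) (hc : IsConj x y) :
    ∃ n ∈ Subgroup.normalizer (P : Set G), n * x * n⁻¹ = y := by
  obtain ⟨t, ht⟩ := isConj_iff.1 hc
  obtain ⟨S, hS⟩ := exists_sylow_of_maxIn hP hy
  have hle : P.map (MulAut.conj t).toMonoidHom ≤ Subgroup.centralizer ({y} : Set G) :=
    ht ▸ map_conj_centralizer (mem_centralizer_subgroup.1 hx.1) t
  obtain ⟨S', hS'⟩ := (show IsPGroup p ((P.map (MulAut.conj t).toMonoidHom).subgroupOf
    (Subgroup.centralizer ({y} : Set G))) from (hP.map _).comap_subtype).exists_le_sylow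
  obtain ⟨c, hcS⟩ := MulAction.exists_smul_eq (Subgroup.centralizer ({y} : Set G)) S' S
  have hmap : P.map (MulAut.conj ((c : G) * t)).toMonoidHom = P := by
    refine Subgroup.eq_of_le_of_card_ge ?_ (card_map_conj P _).ge
    rintro z ⟨q, hq, rfl⟩
    rw [← hS]
    have hq' : (⟨t * q * t⁻¹, hle ⟨q, hq, rfl⟩⟩ : Subgroup.centralizer ({y} : Set G)) ∈
        (S' : Subgroup _) := hS' ⟨q, hq, rfl⟩
    refine ⟨c * ⟨t * q * t⁻¹, hle ⟨q, hq, rfl⟩⟩ * c⁻¹, ?_, by simp [mul_assoc]⟩
    rw [← hcS]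
    exact Subgroup.smul_mem_pointwise_smul _ (MulAut.conj c) _ hq'
  refine ⟨(c : G) * t, ?_, ?_⟩
  · rw [Subgroup.mem_normalizer_iff]
    intro q
    constructor
    · intro hq; exact hmap.le ⟨q, hq, rfl⟩
    · intro hq
      obtain ⟨q', hq', he⟩ := hmap.symm.le hq
      rwa [← (MulAut.conj ((c : G) * t)).injective he]
  · calc (c : G) * t * x * ((c : G) * t)⁻¹ = (c : G) * (t * x * t⁻¹) * (c : G)⁻¹ := by group
      _ = y := by
        rw [ht, ← (mem_centralizer_singleton.1 c.2).eq, mul_inv_cancel_right]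

/-! ## Defect groups -/

theorem brFun_blockIdem_ne_zero {B : Set (IrrCharacter G)} {P : Subgroup G}
    (hB : IsPBlock M B) (hD : IsDefectGroup p M B P) : brFun M P (blockIdem B) ≠ 0 := by
  obtain ⟨g, hg, S, rfl⟩ := hD
  intro h
  have := (brFun_eq_zero_iff (isLocElt_blockIdem hB)).1 h g
    (mem_centralizer_subgroup.2 (sylowImage_le S))
  exact hg.2.1 (by simpa [blockIdem] using this)

omit [Fact p.Prime] in
theorem exists_unit_coeff_of_brFun_ne_zero {P : Subgroup G} {a : MonoidAlgebra ℂ G}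
    (ha : IsLocElt M a) (h : brFun M P a ≠ 0) :
    ∃ x ∈ Subgroup.centralizer (P : Set G), ¬ MemLocalIdeal M (a.coeff x) := by
  by_contra! hh
  exact h ((brFun_eq_zero_iff ha).2 hh)

theorem defIdeal_blockIdem_of_ro (hM : IsPModular p M) {P : Subgroup G} {u : MonoidAlgebra ℂ G}
    (hu : DefIdeal p M P u) {B : Set (IrrCharacter G)} (hB : IsPBlock M B) {χ : IrrCharacter G}
    (hχ : χ ∈ B) (h : ro M χ u ≠ 0) : DefIdeal p M P (blockIdem B) := by
  refine blockIdem_induction hB (DefIdeal p M P) (defIdeal_zero P) (fun _ _ => defIdeal_add)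
    (fun _ _ hc ha => defIdeal_smul ha hc) (fun _ _ ha hb hbl => defIdeal_mul_left hM ha hb hbl)
    (fun _ ha => ⟨ha.1, ha.2.1⟩) hu fun ψ hψ h0 => h ?_
  rw [ro_congr hB hχ hψ ⟨hu.1, hu.2.1⟩]
  exact (ro_eq_zero_iff ψ ⟨hu.1, hu.2.1⟩).2 h0

theorem isDefectGroup_of_defIdeal (hM : IsPModular p M) {P : Subgroup G} (hP : IsPGroup p P)
    {B : Set (IrrCharacter G)} (hB : IsPBlock M B) (hI : DefIdeal p M P (blockIdem B))
    (hne : brFun M P (blockIdem B) ≠ 0) : IsDefectGroup p M B P := by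
  obtain ⟨D, hD⟩ := exists_isDefectGroup (p := p) hB
  obtain ⟨g, hg, S, hDS⟩ := id hD
  obtain ⟨x, hx⟩ := hI.2.2 g (by simpa [blockIdem] using hg.2.1) (sylowImage S)
    (isPGroup_sylowImage S) (sylowImage_le S)
  obtain ⟨y, hy, hyu⟩ := exists_unit_coeff_of_brFun_ne_zero (isLocElt_blockIdem hB) hne
  obtain ⟨z, hz⟩ := defectLE_of_coeff_unit hM hB hD (h := y) (by simpa [blockIdem] using hyu) P hP
    (mem_centralizer_subgroup.1 hy)
  have hx' : D.map (MulAut.conj x).toMonoidHom ≤ P := hDS ▸ hx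
  have : D.map (MulAut.conj x).toMonoidHom = P := by
    refine Subgroup.eq_of_le_of_card_ge hx' ?_
    calc Nat.card P = Nat.card (P.map (MulAut.conj z).toMonoidHom) := (card_map_conj P z).symm
      _ ≤ Nat.card D := Subgroup.card_le_of_le hz
      _ = _ := (card_map_conj D x).symm
  exact this ▸ isDefectGroup_map_conj hD x

/-- On a block with defect group `P` the central character factors through the Brauer map. -/
theorem ro_eq_zero_of_brFun (hM : IsPModular p M) {B : Set (IrrCharacter G)} (hB : IsPBlock M B)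
    {P : Subgroup G} (hD : IsDefectGroup p M B P) {χ : IrrCharacter G} (hχ : χ ∈ B)
    {a : MonoidAlgebra ℂ G} (ha : CL M a) (h : brFun M P a = 0) : ro M χ a = 0 := by
  haveI := Fintype.ofFinite (ConjClasses G)
  rw [ro_eq_zero_iff χ ha, omega_eq_sum_classes χ ha.1]
  refine memLocalIdeal_sum _ _ fun C _ => ?_
  by_cases hc : MemLocalIdeal M (centralChar (χ : G → ℂ) (classRep C))
  · exact memLocalIdeal_mul_left (ha.2 _) hc
  obtain ⟨S⟩ : Nonempty (Sylow p (Subgroup.centralizer ({classRep C} : Set G))) := inferInstance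
  obtain ⟨x, hx⟩ := exists_conj_le_of_centralChar_unit hM hB hD ⟨χ, hχ, hc⟩ S
  have hmem : x⁻¹ * classRep C * x ∈ Subgroup.centralizer (P : Set G) := by
    refine mem_centralizer_subgroup.2 ?_
    have := map_conj_centralizer (hx.trans (sylowImage_le S)) x⁻¹
    rwa [map_conj_inv_map, inv_inv] at this
  refine memLocalIdeal_mul_right (centralChar_mem_locRing χ _) ?_
  have hh := (brFun_eq_zero_iff ha.2).1 h _ hmem
  have he : a.coeff (x⁻¹ * classRep C * x) = a.coeff (classRep C) := by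
    have := ha.1 (classRep C) x⁻¹
    simpa using this
  rwa [he] at hh

theorem Factors.of_defectGroup (hM : IsPModular p M) {P H : Subgroup G} (hPH : P ≤ H)
    {c : Set (IrrCharacter H)} (hc : IsPBlock M c) (hD : IsDefectGroup p M c (P.subgroupOf H))
    {ξ : IrrCharacter H} (hξ : ξ ∈ c) : Factors M P H ξ := fun _ ha h =>
  ro_eq_zero_of_brFun hM hc hD hξ ha ((brFun_subgroupOf_eq_zero_iff hPH ha.2).2 h)

theorem brFun_embH_ne_zero {P H : Subgroup G} (hPH : P ≤ H) {c : Set (IrrCharacter H)}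
    (hc : IsPBlock M c) (hD : IsDefectGroup p M c (P.subgroupOf H)) :
    brFun M P (embH H (blockIdem c)) ≠ 0 := fun h =>
  brFun_blockIdem_ne_zero hc hD ((brFun_subgroupOf_eq_zero_iff hPH (isLocElt_blockIdem hc)).2 h)

/-- The part of an element on classes of `H` with defect group inside `P`. -/
noncomputable def truncDef (p : ℕ) (P H : Subgroup G) (x : MonoidAlgebra ℂ G) : MonoidAlgebra ℂ H := by
  classical exact mkA fun h => if DefectLE p (P.subgroupOf H) h then x.coeff (h : G) else 0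

theorem defIdeal_truncDef (P H : Subgroup G) {x : MonoidAlgebra ℂ G} (hx : CL M x) :
    DefIdeal p M (P.subgroupOf H) (truncDef p P H x) := by
  classical
  refine ⟨fun g h => ?_, fun g => ?_, fun g hg => ?_⟩
  · simp only [truncDef, coeff_mkA]
    have hc : IsConj (h * g * h⁻¹) g := (isConj_iff.2 ⟨h, rfl⟩).symm
    have he : x.coeff ((h * g * h⁻¹ : H) : G) = x.coeff (g : G) := hx.1 (g : G) (h : G)
    rw [he]
    exact if_congr ⟨defectLE_of_isConj hc, defectLE_of_isConj hc.symm⟩ rfl rfl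
  · simp only [truncDef, coeff_mkA]
    split
    · exact hx.2 _
    · exact zero_mem (locRing M)
  · simp only [truncDef, coeff_mkA] at hg
    by_contra hd
    rw [if_neg hd] at hg
    exact hg memLocalIdeal_zero

theorem brFun_embH_truncDef {P H : Subgroup G} (hP : IsPGroup p P) (hPH : P ≤ H)
    (hCH : Subgroup.centralizer (P : Set G) ≤ H) {x : MonoidAlgebra ℂ G} (hx : DefIdeal p M P x) :
    brFun M P (embH H (truncDef p P H x)) = brFun M P x := by
  classical
  refine brFun_congr fun y hy => ?_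
  have hy' : (embH H (truncDef p P H x)).coeff y =
      if DefectLE p (P.subgroupOf H) ⟨y, hCH hy⟩ then x.coeff y else 0 := by
    refine (coeff_embH H _ ⟨y, hCH hy⟩).trans ?_
    simp [truncDef]
  rw [hy']
  split
  · rfl
  next h =>
    rw [resC_zero, eq_comm]
    refine resC_eq_zero_of_memLocalIdeal (by_contra fun hu => h ?_)
    exact defectLE_of_maxIn (hP.comap_subtype)
      (maxIn_subgroupOf hPH (g := ⟨y, hCH hy⟩) (maxIn_of_defectLE hy (hx.2.2 y hu)))

theorem defIdeal_blockIdem (hM : IsPModular p M) {B : Set (IrrCharacter G)} (hB : IsPBlock M B)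
    {P : Subgroup G} (hD : IsDefectGroup p M B P) : DefIdeal p M P (blockIdem B) :=
  ⟨isCentralElt_blockIdem B, isLocElt_blockIdem hB, fun g hg =>
    defectLE_of_coeff_unit hM hB hD (by simpa [blockIdem] using hg)⟩

section Over

variable {P H : Subgroup G} {B : Set (IrrCharacter G)} {c : Set (IrrCharacter H)}

/-- A block of `H` seeing the idempotent of a block with defect group `P` has defect group `P`. -/
theorem isDefectGroup_of_lam (hM : IsPModular p M) (hPH : P ≤ H)
    (hCH : Subgroup.centralizer (P : Set G) ≤ H) (hB : IsPBlock M B) (hD : IsDefectGroup p M B P)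
    (hc : IsPBlock M c) {ξ : IrrCharacter H} (hξ : ξ ∈ c) (hf : Factors M P H ξ)
    (h : lam M H ξ (blockIdem B) ≠ 0) : IsDefectGroup p M c (P.subgroupOf H) := by
  have hP := isPGroup_of_isDefectGroup hD
  have hu := defIdeal_truncDef (p := p) P H (CL.blockIdem hB)
  have he : ro M ξ (truncDef p P H (blockIdem B)) = lam M H ξ (blockIdem B) :=
    hf.ro_eq ⟨hu.1, hu.2.1⟩ (cl_resH ((CL.blockIdem hB).ps H)) (by
      rw [brFun_embH_resH hCH, brFun_embH_truncDef hP hPH hCH (defIdeal_blockIdem hM hB hD)])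
  refine isDefectGroup_of_defIdeal hM hP.comap_subtype hc
    (defIdeal_blockIdem_of_ro hM hu hc hξ (by rw [he]; exact h)) fun h0 => ?_
  have := hf _ (CL.blockIdem hc) ((brFun_subgroupOf_eq_zero_iff hPH (isLocElt_blockIdem hc)).1 h0)
  rw [ro_blockIdem_mem hξ] at this
  exact one_ne_zero this

/-- The blocks of `H` whose Brauer image meets that of `B`. -/
theorem over_of_mul_ne_zero (hM : IsPModular p M) (hPH : P ≤ H)
    (hCH : Subgroup.centralizer (P : Set G) ≤ H) (hB : IsPBlock M B) (hD : IsDefectGroup p M B P)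
    (hc : IsPBlock M c) (h : brFun M P (embH H (blockIdem c)) * brFun M P (blockIdem B) ≠ 0) :
    IsDefectGroup p M c (P.subgroupOf H) ∧ ∀ ξ ∈ c, lam M H ξ (blockIdem B) = 1 := by
  classical
  have hP := isPGroup_of_isDefectGroup hD
  set u := truncDef p P H (blockIdem B) with hu'
  have hu := defIdeal_truncDef (p := p) P H (CL.blockIdem hB)
  have hucl : CL M u := ⟨hu.1, hu.2.1⟩
  have hub : brFun M P (embH H u) = brFun M P (blockIdem B) :=
    brFun_embH_truncDef hP hPH hCH (defIdeal_blockIdem hM hB hD)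
  have hprod : brFun M P (embH H (blockIdem c * u)) =
      brFun M P (embH H (blockIdem c)) * brFun M P (blockIdem B) := by
    rw [embH_mul, brFun_mul hM hP (ps_embH (CL.blockIdem hc) hPH) (ps_embH hucl hPH), hub]
  have hidem : IsIdempotentElem (brFun M P (embH H (blockIdem c * u))) := by
    have h1 : blockIdem c * u * (blockIdem c * u) = blockIdem c * (u * u) := by
      rw [mul_assoc, ← mul_assoc u, (hu.1.commute (blockIdem c)).eq, mul_assoc (blockIdem c) u,
        ← mul_assoc (blockIdem c) (blockIdem c), blockIdem_mul_self]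
    have hs : PS M P (embH H (blockIdem c * u)) := ps_embH ((CL.blockIdem hc).mul hucl) hPH
    show _ * _ = _
    rw [← brFun_mul hM hP hs hs, ← embH_mul, h1, embH_mul,
      brFun_mul hM hP (ps_embH (CL.blockIdem hc) hPH) (ps_embH (hucl.mul hucl) hPH), embH_mul,
      brFun_mul hM hP (ps_embH hucl hPH) (ps_embH hucl hPH), hub,
      ← brFun_mul hM hP ((CL.blockIdem hB).ps P) ((CL.blockIdem hB).ps P), blockIdem_mul_self,
      hprod]
  obtain ⟨ξ, hξ⟩ := exists_ro_ne_zero hM hP ((CL.blockIdem hc).mul hucl)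
    (ps_embH ((CL.blockIdem hc).mul hucl) hPH) hidem (hprod ▸ h)
  rw [ro_mul ξ (CL.blockIdem hc) hucl] at hξ
  have hξc : ξ ∈ c := by_contra fun hn => hξ (by rw [ro_blockIdem_notMem hn, zero_mul])
  rw [ro_blockIdem_mem hξc, one_mul] at hξ
  have hdef : IsDefectGroup p M c (P.subgroupOf H) :=
    isDefectGroup_of_defIdeal hM hP.comap_subtype hc (defIdeal_blockIdem_of_ro hM hu hc hξc hξ)
      fun h0 => h (by
        rw [(brFun_subgroupOf_eq_zero_iff hPH (isLocElt_blockIdem hc)).1 h0, zero_mul])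
  refine ⟨hdef, fun η hη => ?_⟩
  have hf := Factors.of_defectGroup hM hPH hc hdef hη
  have hne : lam M H η (blockIdem B) ≠ 0 := by
    rw [lam, ← hf.ro_eq hucl (cl_resH ((CL.blockIdem hB).ps H)) (by rw [brFun_embH_resH hCH, hub]),
      ro_congr hc hη hξc hucl]
    exact hξ
  exact (isResHom_lam hM hP hCH (Or.inl hPH) hf).blockIdem_eq_one hB hne

theorem exists_block_over (hM : IsPModular p M) (hPH : P ≤ H)
    (hCH : Subgroup.centralizer (P : Set G) ≤ H) (hB : IsPBlock M B) (hD : IsDefectGroup p M B P) :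
    ∃ c : Set (IrrCharacter H), IsPBlock M c ∧ IsDefectGroup p M c (P.subgroupOf H) ∧
      ∀ ξ ∈ c, lam M H ξ (blockIdem B) = 1 := by
  by_contra hcon
  push Not at hcon
  refine brFun_blockIdem_ne_zero hB hD ?_
  have h1 : brFun M P (embH H (∑ c ∈ pBlocks M H, blockIdem c)) = 1 := by
    rw [sum_pBlocks_blockIdem, show embH H (1 : MonoidAlgebra ℂ H) = 1 from map_one _, brFun_one]
  rw [show embH H (∑ c ∈ pBlocks M H, blockIdem c) = ∑ c ∈ pBlocks M H, embH H (blockIdem c) from
    map_sum _ _ _, brFun_sum _ _ fun c hc => isLocElt_embH H (isLocElt_blockIdem (mem_pBlocks.1 hc))]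
    at h1
  rw [← one_mul (brFun M P (blockIdem B)), ← h1, Finset.sum_mul]
  refine Finset.sum_eq_zero fun c hc => by_contra fun h => ?_
  obtain ⟨hd, hl⟩ := over_of_mul_ne_zero hM hPH hCH hB hD (mem_pBlocks.1 hc) h
  obtain ⟨ξ, hξ, hne⟩ := hcon c (mem_pBlocks.1 hc) hd
  exact hne (hl ξ hξ)

/-- Lifting along the Brauer map. -/
theorem exists_lift (hP : IsPGroup p P) (hH : Subgroup.normalizer (P : Set G) ≤ H)
    {a : MonoidAlgebra ℂ H} (ha : DefIdeal p M (P.subgroupOf H) a) :
    ∃ x : MonoidAlgebra ℂ G, DefIdeal p M P x ∧ brFun M P x = brFun M P (embH H a) := by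
  classical
  have hPH : P ≤ H := Subgroup.le_normalizer.trans hH
  have hCH : Subgroup.centralizer (P : Set G) ≤ H := fun y hy => hH (by
    rw [Subgroup.mem_normalizer_iff]
    intro q
    constructor
    · intro hq
      rw [← Subgroup.mem_centralizer_iff.1 hy q hq, mul_inv_cancel_right]; exact hq
    · intro hq
      have h1 := Subgroup.mem_centralizer_iff.1 hy _ hq
      rw [inv_mul_cancel_right] at h1
      rwa [← mul_left_cancel h1] at hq)
  let f : G → ℂ := fun g =>
    if h : ∃ y, MaxIn p P y ∧ IsConj g y then (embH H a).coeff h.choose else 0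
  have hval : ∀ g y, MaxIn p P y → IsConj g y → f g = (embH H a).coeff y := by
    intro g y hy hgy
    have h : ∃ y, MaxIn p P y ∧ IsConj g y := ⟨y, hy, hgy⟩
    simp only [f, dif_pos h]
    obtain ⟨n, hn, he⟩ := exists_normalizer_conj hP h.choose_spec.1 hy
      (h.choose_spec.2.symm.trans hgy)
    rw [← he]
    exact ((ps_embH (M := M) (P := H) ⟨ha.1, ha.2.1⟩ le_rfl).2 n (hH hn) _).symm
  have hzero : ∀ g, (¬ ∃ y, MaxIn p P y ∧ IsConj g y) → f g = 0 := fun g h => dif_neg h
  refine ⟨mkA f, ⟨fun g t => ?_, fun g => ?_, fun g hg => ?_⟩, brFun_congr fun y hy => ?_⟩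
  · simp only [coeff_mkA]
    have hc : IsConj g (t * g * t⁻¹) := isConj_iff.2 ⟨t, rfl⟩
    by_cases h : ∃ y, MaxIn p P y ∧ IsConj g y
    · obtain ⟨y, hy, hgy⟩ := h
      rw [hval g y hy hgy, hval _ y hy (hc.symm.trans hgy)]
    · rw [hzero g h, hzero _ fun ⟨y, hy, hgy⟩ => h ⟨y, hy, hc.trans hgy⟩]
  · rw [coeff_mkA]
    by_cases h : ∃ y, MaxIn p P y ∧ IsConj g y
    · obtain ⟨y, hy, hgy⟩ := h
      rw [hval g y hy hgy]
      exact isLocElt_embH H ha.2.1 y
    · rw [hzero g h]; exact zero_mem (locRing M)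
  · rw [coeff_mkA] at hg
    by_cases h : ∃ y, MaxIn p P y ∧ IsConj g y
    · obtain ⟨y, hy, hgy⟩ := h
      exact defectLE_of_isConj hgy.symm (defectLE_of_maxIn hP hy)
    · rw [hzero g h] at hg; exact absurd memLocalIdeal_zero hg
  · rw [coeff_mkA]
    by_cases h : MaxIn p P y
    · rw [hval y y h (IsConj.refl _)]
    · rw [hzero y fun ⟨z, hz, hyz⟩ => h (maxIn_of_defectLE hy
        (defectLE_of_isConj hyz.symm (defectLE_of_maxIn hP hz))), resC_zero, eq_comm]
      rw [show (embH H a).coeff y = a.coeff ⟨y, hCH hy⟩ from coeff_embH H a ⟨y, hCH hy⟩]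
      refine resC_eq_zero_of_memLocalIdeal (by_contra fun hu => h ?_)
      exact maxIn_of_subgroupOf hH (g := ⟨y, hCH hy⟩)
        (maxIn_of_defectLE ((mem_centralizer_subgroupOf hPH _).2 hy) (ha.2.2 _ hu))

end Over

theorem centralizer_le_normalizer' (P : Subgroup G) :
    Subgroup.centralizer (P : Set G) ≤ Subgroup.normalizer (P : Set G) := fun y hy => by
  rw [Subgroup.mem_normalizer_iff]
  intro q
  constructor
  · intro hq
    rw [← Subgroup.mem_centralizer_iff.1 hy q hq, mul_inv_cancel_right]; exact hq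
  · intro hq
    have h1 := Subgroup.mem_centralizer_iff.1 hy _ hq
    rw [inv_mul_cancel_right] at h1
    rwa [← mul_left_cancel h1] at hq

section Correspondence

variable {P H : Subgroup G} {B : Set (IrrCharacter G)} {c : Set (IrrCharacter H)}

/-- A block of `H` with defect group `P` induces a block with defect group `P`. -/
theorem exists_induced_of_defectGroup (hM : IsPModular p M) (hP : IsPGroup p P)
    (hH : Subgroup.normalizer (P : Set G) ≤ H) (hc : IsPBlock M c)
    (hD : IsDefectGroup p M c (P.subgroupOf H)) :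
    ∃ B : Set (IrrCharacter G), IsPBlock M B ∧ IsDefectGroup p M B P ∧ IsInducedBlock M H c B := by
  have hPH : P ≤ H := Subgroup.le_normalizer.trans hH
  have hCH := (centralizer_le_normalizer' P).trans hH
  obtain ⟨ξ, hξ⟩ := isPBlock_nonempty hc
  have hf := Factors.of_defectGroup hM hPH hc hD hξ
  have hhom := isResHom_lam hM hP hCH (Or.inl hPH) hf
  obtain ⟨B, hB, h1⟩ := hhom.exists_block
  obtain ⟨χ, hχ⟩ := isPBlock_nonempty hB
  obtain ⟨x, hx, hxb⟩ := exists_lift hP hH (defIdeal_blockIdem hM hc hD)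
  have hxcl : CL M x := ⟨hx.1, hx.2.1⟩
  have h2 : ro M χ x ≠ 0 := by
    rw [← hhom.eq_ro hB (h1 ▸ one_ne_zero) hχ hxcl, lam,
      hf.ro_eq (cl_resH (hxcl.ps H)) (CL.blockIdem hc) (by rw [brFun_embH_resH hCH, hxb]),
      ro_blockIdem_mem hξ]
    exact one_ne_zero
  refine ⟨B, hB, isDefectGroup_of_defIdeal hM hP hB (defIdeal_blockIdem_of_ro hM hx hB hχ h2) ?_,
    isInducedBlock_of_lam hc hξ hhom hB (h1 ▸ one_ne_zero)⟩
  intro h0
  have := hf _ (cl_resH ((CL.blockIdem hB).ps H)) (by rw [brFun_embH_resH hCH, h0])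
  rw [lam, this] at h1
  exact zero_ne_one h1

theorem eq_of_lam_eq_one (hM : IsPModular p M) (hP : IsPGroup p P)
    (hH : Subgroup.normalizer (P : Set G) ≤ H) (hB : IsPBlock M B) {c' : Set (IrrCharacter H)}
    (hc : IsPBlock M c) (hD : IsDefectGroup p M c (P.subgroupOf H)) (hc' : IsPBlock M c')
    (hD' : IsDefectGroup p M c' (P.subgroupOf H)) {ξ ξ' : IrrCharacter H} (hξ : ξ ∈ c)
    (hξ' : ξ' ∈ c') (h : lam M H ξ (blockIdem B) = 1) (h' : lam M H ξ' (blockIdem B) = 1) :
    c = c' := by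
  have hPH : P ≤ H := Subgroup.le_normalizer.trans hH
  have hCH := (centralizer_le_normalizer' P).trans hH
  have hf := Factors.of_defectGroup hM hPH hc hD hξ
  have hf' := Factors.of_defectGroup hM hPH hc' hD' hξ'
  obtain ⟨χ, hχ⟩ := isPBlock_nonempty hB
  obtain ⟨x, hx, hxb⟩ := exists_lift hP hH (defIdeal_blockIdem hM hc hD)
  have hxcl : CL M x := ⟨hx.1, hx.2.1⟩
  have e1 := (isResHom_lam hM hP hCH (Or.inl hPH) hf).eq_ro hB (h ▸ one_ne_zero) hχ hxcl
  have e2 := (isResHom_lam hM hP hCH (Or.inl hPH) hf').eq_ro hB (h' ▸ one_ne_zero) hχ hxcl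
  rw [lam, hf.ro_eq (cl_resH (hxcl.ps H)) (CL.blockIdem hc) (by rw [brFun_embH_resH hCH, hxb]),
    ro_blockIdem_mem hξ] at e1
  rw [lam, hf'.ro_eq (cl_resH (hxcl.ps H)) (CL.blockIdem hc) (by rw [brFun_embH_resH hCH, hxb]),
    ← e1] at e2
  by_contra hne
  rw [ro_blockIdem_notMem fun h => hne (isPBlock_eq_of_mem hc hc' h hξ')] at e2
  exact zero_ne_one e2

theorem brFun_eq_of_lam (hM : IsPModular p M) (hH : Subgroup.normalizer (P : Set G) ≤ H)
    (hB : IsPBlock M B) (hDB : IsDefectGroup p M B P) (hc : IsPBlock M c)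
    (hD : IsDefectGroup p M c (P.subgroupOf H)) {ξ : IrrCharacter H} (hξ : ξ ∈ c)
    (h : lam M H ξ (blockIdem B) = 1) :
    brFun M P (blockIdem B) = brFun M P (embH H (blockIdem c)) := by
  classical
  have hP := isPGroup_of_isDefectGroup hDB
  have hPH : P ≤ H := Subgroup.le_normalizer.trans hH
  have hCH := (centralizer_le_normalizer' P).trans hH
  have hr := cl_resH (M := M) ((CL.blockIdem hB).ps H)
  have hec := CL.blockIdem hc
  -- the image of `c` is fixed by the image of `B`
  have hv : brFun M P (embH H (blockIdem c)) * brFun M P (blockIdem B) =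
      brFun M P (embH H (blockIdem c)) := by
    have ha : CL M (blockIdem c * (1 - resH H (blockIdem B))) := hec.mul (CL.one.sub hr)
    have hs := ps_embH (P := P) ha hPH
    have hs1 := ps_embH (P := P) hec hPH
    have hs2 := ps_embH (P := P) (CL.one.sub hr) hPH
    have hb : brFun M P (embH H (blockIdem c * (1 - resH H (blockIdem B)))) =
        brFun M P (embH H (blockIdem c)) * (1 - brFun M P (blockIdem B)) := by
      rw [embH_mul, brFun_mul hM hP hs1 hs2]
      congr 1
      rw [show embH H (1 - resH H (blockIdem B)) = embH H 1 - embH H (resH H (blockIdem B)) from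
        map_sub _ _ _, show embH H (1 : MonoidAlgebra ℂ H) = 1 from map_one _,
        brFun_sub IsLocElt.one (isLocElt_embH H hr.2), brFun_one, brFun_embH_resH hCH]
    by_contra hne
    have hne' : brFun M P (embH H (blockIdem c * (1 - resH H (blockIdem B)))) ≠ 0 := fun h0 => hne (by
      rw [hb, mul_sub, mul_one, sub_eq_zero] at h0; exact h0.symm)
    have hE : IsIdempotentElem (brFun M P (embH H (blockIdem c))) := by
      show _ * _ = _
      rw [← brFun_mul hM hP hs1 hs1, ← embH_mul, blockIdem_mul_self]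
    have hV : IsIdempotentElem (brFun M P (blockIdem B)) := by
      show _ * _ = _
      rw [← brFun_mul hM hP ((CL.blockIdem hB).ps P) ((CL.blockIdem hB).ps P), blockIdem_mul_self]
    have hcomm : Commute (brFun M P (embH H (blockIdem c))) (brFun M P (blockIdem B)) := by
      show _ * _ = _ * _
      rw [← brFun_mul hM hP hs1 ((CL.blockIdem hB).ps P),
        ← brFun_mul hM hP ((CL.blockIdem hB).ps P) hs1,
        ((isCentralElt_blockIdem B).commute (embH H (blockIdem c))).eq]
    obtain ⟨η, hη⟩ := exists_ro_ne_zero hM hP ha hs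
      (hb ▸ hE.mul_of_commute ((Commute.one_right _).sub_right hcomm) hV.one_sub) hne'
    rw [ro_mul η hec (CL.one.sub hr), ro_sub η CL.one hr, ro_one] at hη
    by_cases hηc : η ∈ c
    · exact hη (by rw [ro_congr hc hηc hξ hr, show ro M ξ (resH H (blockIdem B)) = 1 from h, sub_self,
        mul_zero])
    · exact hη (by rw [ro_blockIdem_notMem hηc, zero_mul])
  have h1 : brFun M P (embH H (∑ c ∈ pBlocks M H, blockIdem c)) = 1 := by
    rw [sum_pBlocks_blockIdem, show embH H (1 : MonoidAlgebra ℂ H) = 1 from map_one _, brFun_one]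
  rw [show embH H (∑ c ∈ pBlocks M H, blockIdem c) = ∑ c ∈ pBlocks M H, embH H (blockIdem c) from
    map_sum _ _ _, brFun_sum _ _ fun c hc => isLocElt_embH H (isLocElt_blockIdem (mem_pBlocks.1 hc))]
    at h1
  conv_lhs => rw [← one_mul (brFun M P (blockIdem B)), ← h1, Finset.sum_mul]
  rw [Finset.sum_eq_single c, hv]
  · intro c' hc' hne
    by_contra h0
    obtain ⟨hd, hl⟩ := over_of_mul_ne_zero hM hPH hCH hB hDB (mem_pBlocks.1 hc') h0
    obtain ⟨ξ', hξ'⟩ := isPBlock_nonempty (mem_pBlocks.1 hc')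
    exact hne (eq_of_lam_eq_one hM hP hH hB (mem_pBlocks.1 hc') hd hc hD hξ' hξ (hl ξ' hξ') h)
  · intro h; exact absurd (mem_pBlocks.2 hc) h

/-- Blocks with defect group `P` and equal Brauer images are equal. -/
theorem eq_of_brFun_eq (hM : IsPModular p M) {B' : Set (IrrCharacter G)} (hB : IsPBlock M B)
    (hD : IsDefectGroup p M B P) (hB' : IsPBlock M B')
    (h : brFun M P (blockIdem B) = brFun M P (blockIdem B')) : B = B' := by
  obtain ⟨χ, hχ⟩ := isPBlock_nonempty hB
  by_contra hne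
  have h0 : brFun M P (blockIdem B - blockIdem B') = 0 := by
    rw [brFun_sub (isLocElt_blockIdem hB) (isLocElt_blockIdem hB'), h, sub_self]
  have := ro_eq_zero_of_brFun hM hB hD hχ ((CL.blockIdem hB).sub (CL.blockIdem hB')) h0
  rw [ro_sub χ (CL.blockIdem hB) (CL.blockIdem hB'), ro_blockIdem_mem hχ,
    ro_blockIdem_notMem fun h' => hne (isPBlock_eq_of_mem hB hB' hχ h'), sub_zero] at this
  exact one_ne_zero this

end Correspondence

end Cfsg.Agent.Block
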