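import Cfsg.Agent.Lib.Block.WeakOrth
import Cfsg.Agent.Lib.Block.PPart

/-!
# Blocks and functions on the `p`-regular elements
-/

set_option autoImplicit false

open Cfsg.Agent.Char
open scoped ComplexConjugate

namespace Cfsg.Agent.Block

universe u

variable {G : Type u} [Group G]

theorem charDegree_cast {χ : G → ℂ} (hχ : IsCharacter G χ) : (charDegree χ : ℂ) = χ 1 := by
  obtain ⟨n, hn⟩ := IsCharacter.exists_degree hχ
  simp [charDegree, hn]

theorem charDegree_pos {χ : G → ℂ} (hχ : IsIrrCharacter G χ) : 0 < charDegree χ := by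
  refine Nat.pos_of_ne_zero fun h => IsIrrCharacter.apply_one_ne_zero hχ ?_
  rw [← charDegree_cast (IsIrrCharacter.isCharacter hχ), h, Nat.cast_zero]

theorem charDegree_dvd_card [Finite G] {χ : G → ℂ} (hχ : IsIrrCharacter G χ) :
    charDegree χ ∣ Nat.card G :=
  Cfsg.Agent.Char.degree_dvd_card hχ _ (charDegree_cast (IsIrrCharacter.isCharacter hχ)).symm

/-- The kernel function of the `B`-part. -/
noncomputable def blockKernel (B : Set (IrrCharacter G)) (g y : G) : ℂ :=
  ∑ᶠ χ ∈ B, (χ : G → ℂ) g * conj ((χ : G → ℂ) y)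

theorem blockPart_eq_sum [Fintype G] (B : Set (IrrCharacter G)) (θ : G → ℂ) (g : G) :
    blockPart B θ g = (Nat.card G : ℂ)⁻¹ * ∑ y, θ y * blockKernel B g y := by
  simp only [blockPart, blockKernel, finsum_mem_eq_finite_toFinset_sum _ B.toFinite, Finset.mul_sum]
  rw [Finset.sum_comm]
  refine Finset.sum_congr rfl fun χ _ => ?_
  simp only [classInner, Finset.mul_sum, Finset.sum_mul]
  refine Finset.sum_congr (Finset.ext fun _ => by simp) fun y _ => ?_
  ring

theorem blockKernel_conj (B : Set (IrrCharacter G)) (g y : G) [Finite G] :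
    conj (blockKernel B g y) = blockKernel B y g := by
  simp only [blockKernel, finsum_mem_eq_finite_toFinset_sum _ B.toFinite, map_sum, map_mul,
    Complex.conj_conj]
  exact Finset.sum_congr rfl fun χ _ => mul_comm _ _

theorem sum_mul_blockKernel [Fintype G] (B : Set (IrrCharacter G)) (χ : IrrCharacter G)
    [Decidable (χ ∈ B)] (g : G) :
    ∑ y, (χ : G → ℂ) y * blockKernel B g y =
      if χ ∈ B then (Nat.card G : ℂ) * (χ : G → ℂ) g else 0 := by
  classical
  simp only [blockKernel, finsum_mem_eq_finite_toFinset_sum _ B.toFinite, Finset.mul_sum]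
  rw [Finset.sum_comm]
  have h : ∀ φ : IrrCharacter G, ∑ y, (χ : G → ℂ) y * ((φ : G → ℂ) g * conj ((φ : G → ℂ) y)) =
      if χ = φ then (Nat.card G : ℂ) * (φ : G → ℂ) g else 0 := by
    intro φ
    have hG : (Nat.card G : ℂ) ≠ 0 := by simp [Nat.card_eq_fintype_card]
    have := classInner_irr χ φ
    rw [classInner] at this
    have h2 : ∑ y, (χ : G → ℂ) y * conj ((φ : G → ℂ) y) = if χ = φ then (Nat.card G : ℂ) else 0 := by
      rw [inv_mul_eq_iff_eq_mul₀ hG] at this
      rw [this]; split <;> simp
    calc ∑ y, (χ : G → ℂ) y * ((φ : G → ℂ) g * conj ((φ : G → ℂ) y))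
        = (φ : G → ℂ) g * ∑ y, (χ : G → ℂ) y * conj ((φ : G → ℂ) y) := by
          rw [Finset.mul_sum]; exact Finset.sum_congr rfl fun y _ => by ring
      _ = _ := by rw [h2]; split <;> simp [mul_comm]
  simp only [h, Finset.sum_ite_eq, Set.Finite.mem_toFinset]

variable {M : Ideal AlgInt} {p : ℕ}

theorem blockKernel_eq_zero [Finite G] (hM : IsPModular p M) {B : Set (IrrCharacter G)}
    (hB : IsPBlock M B) {g y : G} (h : ¬(p ∣ orderOf g ↔ p ∣ orderOf y)) :
    blockKernel B g y = 0 := by
  by_cases hg : p ∣ orderOf g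
  · rw [← blockKernel_conj B y g, show blockKernel B y g = 0 from
      weak_orthogonality hM hB (fun hy => h ⟨fun _ => hy, fun _ => hg⟩) hg, map_zero]
  · exact weak_orthogonality hM hB hg (not_not.1 fun hy => h ⟨fun h1 => absurd h1 hg, fun h1 => absurd h1 hy⟩)

/-- The block projection commutes with the restriction to the regular elements. -/
theorem blockPart_regular [Finite G] (hM : IsPModular p M) {B : Set (IrrCharacter G)}
    (hB : IsPBlock M B) (θ : G → ℂ) (g : G) :
    blockPart B (fun x => if p ∣ orderOf x then 0 else θ x) g =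
      if p ∣ orderOf g then 0 else blockPart B θ g := by
  haveI := Fintype.ofFinite G
  rw [blockPart_eq_sum]
  by_cases hg : p ∣ orderOf g
  · rw [if_pos hg, Finset.sum_eq_zero, mul_zero]
    intro y _
    split
    · rw [zero_mul]
    next hy => rw [blockKernel_eq_zero hM hB (fun h => hy (h.1 hg)), mul_zero]
  · rw [if_neg hg, blockPart_eq_sum]
    congr 1
    refine Finset.sum_congr rfl fun y _ => ?_
    split
    next hy => rw [blockKernel_eq_zero hM hB (fun h => hg (h.2 hy)), zero_mul, mul_zero]
    · rfl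

theorem blockCoeff_eq_blockKernel [Finite G] (B : Set (IrrCharacter G)) (g : G) :
    blockCoeff B g = (Nat.card G : ℂ)⁻¹ * blockKernel B 1 g := rfl

/-- Block idempotents are supported on the regular elements. -/
theorem blockCoeff_eq_zero_of_dvd [Finite G] (hM : IsPModular p M) {B : Set (IrrCharacter G)}
    (hB : IsPBlock M B) {g : G} (hg : p ∣ orderOf g) : blockCoeff B g = 0 := by
  rw [blockCoeff_eq_blockKernel, blockKernel_eq_zero hM hB, mul_zero]
  intro h
  exact hM.1.not_dvd_one (orderOf_one (G := G) ▸ h.2 hg)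

/-- Characters in different blocks are orthogonal on the regular elements. -/
theorem sum_regular_eq_zero [Fintype G] (hM : IsPModular p M) {χ ψ : IrrCharacter G}
    (h : ¬ SameBlock M (χ : G → ℂ) (ψ : G → ℂ)) :
    ∑ x : G, (if p ∣ orderOf x then (0 : ℂ) else (χ : G → ℂ) x * conj ((ψ : G → ℂ) x)) = 0 := by
  classical
  haveI := prime_of_isPModular hM
  have hG : (Nat.card G : ℂ) ≠ 0 := by simp [Nat.card_eq_fintype_card]
  have hψ : ψ ∉ blockOf M (χ : G → ℂ) := h
  have h1 : ∀ x, ¬ p ∣ orderOf x → (Nat.card G : ℂ) * (χ : G → ℂ) x =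
      ∑ y, if p ∣ orderOf y then 0 else (χ : G → ℂ) y * blockKernel (blockOf M (χ : G → ℂ)) x y := by
    intro x hx
    have := sum_mul_blockKernel (blockOf M (χ : G → ℂ)) χ x
    rw [if_pos (self_mem_blockOf χ)] at this
    rw [← this]
    refine Finset.sum_congr rfl fun y _ => ?_
    split
    next hy => rw [blockKernel_eq_zero hM (isPBlock_blockOf χ) (fun e => hx (e.2 hy)), mul_zero]
    · rfl
  have h2 : ∀ y, ¬ p ∣ orderOf y → ∑ x, (if p ∣ orderOf x then 0 else
      blockKernel (blockOf M (χ : G → ℂ)) x y * conj ((ψ : G → ℂ) x)) = 0 := by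
    intro y hy
    have := congrArg conj (sum_mul_blockKernel (blockOf M (χ : G → ℂ)) ψ y)
    rw [if_neg hψ, map_zero, map_sum] at this
    refine Eq.trans ?_ this
    refine Finset.sum_congr rfl fun x _ => ?_
    rw [map_mul, blockKernel_conj]
    split
    next hx => simp [blockKernel_eq_zero hM (isPBlock_blockOf χ) (g := x) (y := y) (fun e => hy (e.1 hx))]
    · exact mul_comm _ _
  refine (mul_eq_zero.1 ?_).resolve_left hG
  calc (Nat.card G : ℂ) * ∑ x : G, (if p ∣ orderOf x then (0 : ℂ) else
        (χ : G → ℂ) x * conj ((ψ : G → ℂ) x))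
      = ∑ x : G, ∑ y : G, (if p ∣ orderOf y then 0 else (χ : G → ℂ) y *
          (if p ∣ orderOf x then 0 else
            blockKernel (blockOf M (χ : G → ℂ)) x y * conj ((ψ : G → ℂ) x))) := by
        rw [Finset.mul_sum]
        refine Finset.sum_congr rfl fun x _ => ?_
        by_cases hx : p ∣ orderOf x
        · simp [hx]
        · rw [if_neg hx, ← mul_assoc, h1 x hx, Finset.sum_mul]
          refine Finset.sum_congr rfl fun y _ => ?_
          simp only [if_neg hx]
          split <;> ring
    _ = ∑ y : G, (if p ∣ orderOf y then 0 else (χ : G → ℂ) y * 0) := by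
        rw [Finset.sum_comm]
        refine Finset.sum_congr rfl fun y _ => ?_
        by_cases hy : p ∣ orderOf y
        · simp [hy]
        · simp only [if_neg hy, ← Finset.mul_sum, h2 y hy]
    _ = 0 := by simp

/-- A character of defect zero forms a block by itself. -/
theorem blockOf_eq_singleton [Finite G] (hM : IsPModular p M) (χ : IrrCharacter G)
    (h : ¬ p ∣ Nat.card G / charDegree (χ : G → ℂ)) : blockOf M (χ : G → ℂ) = {χ} := by
  haveI := prime_of_isPModular hM
  haveI := Fintype.ofFinite G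
  have hc := charDegree_cast (IsIrrCharacter.isCharacter χ.2)
  set d := charDegree (χ : G → ℂ)
  obtain ⟨m, hm⟩ : d ∣ Nat.card G := charDegree_dvd_card χ.2
  have hd : 0 < d := charDegree_pos χ.2
  rw [hm, Nat.mul_div_cancel_left _ hd] at h
  have hl : IsLocElt M (blockIdem {χ}) := fun g => by
    have e : blockCoeff ({χ} : Set (IrrCharacter G)) g = (m : ℂ)⁻¹ * conj ((χ : G → ℂ) g) := by
      have hd' : (d : ℂ) ≠ 0 := Nat.cast_ne_zero.2 hd.ne'
      rw [blockCoeff, finsum_mem_singleton, ← hc, hm]
      push_cast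
      field_simp
    rw [← mem_locRing, blockIdem, coeff_mkA, e]
    refine mul_mem (inv_natCast_mem_locRing hM.1 hM.2.2 h) ?_
    rw [← IsCharacter.map_inv (IsIrrCharacter.isCharacter χ.2)]
    exact irr_mem_locRing χ _
  ext ψ
  exact ⟨fun hψ => mem_of_sameBlock_of_isLocElt hl rfl hψ, fun hψ => by rw [Set.mem_singleton_iff.1 hψ]; exact self_mem_blockOf χ⟩

/-- A character forming a block by itself vanishes on the singular elements. -/
theorem apply_eq_zero_of_singleton [Finite G] (hM : IsPModular p M) {χ : IrrCharacter G}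
    (h : blockOf M (χ : G → ℂ) = {χ}) {g : G} (hg : p ∣ orderOf g) : (χ : G → ℂ) g = 0 := by
  haveI := prime_of_isPModular hM
  have hB := h ▸ isPBlock_blockOf (M := M) χ
  have := blockKernel_eq_zero (p := p) hM hB (g := 1) (y := g)
    (fun e => hM.1.not_dvd_one (orderOf_one (G := G) ▸ e.2 hg))
  rw [blockKernel, finsum_mem_singleton, mul_eq_zero] at this
  simpa using this.resolve_left (IsIrrCharacter.apply_one_ne_zero χ.2)

/-- A character forming a block by itself has defect zero. -/
theorem not_dvd_of_singleton [Finite G] (hM : IsPModular p M) {χ : IrrCharacter G}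
    (h : blockOf M (χ : G → ℂ) = {χ}) : ¬ p ∣ Nat.card G / charDegree (χ : G → ℂ) := by
  classical
  haveI := Fact.mk hM.1
  haveI := Fintype.ofFinite G
  obtain ⟨P⟩ : Nonempty (Sylow p G) := inferInstance
  haveI := Fintype.ofFinite (P : Subgroup G)
  obtain ⟨n, hn⟩ := classInner_natCast_of_isCharacter
    (IsCharacter.restrict (IsIrrCharacter.isCharacter χ.2) (P : Subgroup G)) (isCharacter_one (G := (P : Subgroup G)))
  have hc := charDegree_cast (IsIrrCharacter.isCharacter χ.2)
  have hzero : ∀ x : (P : Subgroup G), x ≠ 1 → (χ : G → ℂ) x = 0 := by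
    intro x hx
    obtain ⟨k, hk⟩ := IsPGroup.iff_orderOf.1 P.2 x
    refine apply_eq_zero_of_singleton hM h ?_
    rw [Subgroup.orderOf_coe, hk]
    rcases k with _ | k
    · exact absurd (orderOf_eq_one_iff.1 (by simpa using hk)) hx
    · exact dvd_pow_self p k.succ_ne_zero
  have hsum : classInner (fun x : (P : Subgroup G) => (χ : G → ℂ) x) (1 : ↥(P : Subgroup G) → ℂ) =
      (Nat.card (P : Subgroup G) : ℂ)⁻¹ * (χ : G → ℂ) 1 := by
    rw [classInner, Finset.sum_eq_single (1 : (P : Subgroup G))]
    · simp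
    · intro x _ hx; rw [hzero x hx, zero_mul]
    · simp
  rw [hsum, ← hc, inv_mul_eq_iff_eq_mul₀ (by simp [Nat.card_eq_fintype_card])] at hn
  norm_cast at hn
  have hd : Nat.card (P : Subgroup G) ∣ charDegree (χ : G → ℂ) := Dvd.intro _ hn.symm
  intro hp
  have h1 := Nat.mul_dvd_mul hd hp
  rw [Nat.mul_div_cancel' (charDegree_dvd_card χ.2), Sylow.card_eq_multiplicity, ← pow_succ] at h1
  exact Nat.pow_succ_factorization_not_dvd Nat.card_pos.ne' hM.1 h1

end Cfsg.Agent.Block
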