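import Cfsg.Agent.Lib.Block.Brauer
import Cfsg.Agent.Lib.Block.RegInner
import Cfsg.Agent.Lib.Block.Regular
import Cfsg.Agent.Lib.Char.Clifford

/-!
The Glauberman correspondence for a p-group of operators, by the Brauer map.
-/

namespace Cfsg.Agent.Block

open Cfsg Cfsg.Agent.Char
open scoped Classical ComplexConjugate

set_option linter.style.haveILetI false
set_option linter.unusedSectionVars false

universe u v w

variable {p : ℕ} {M : Ideal AlgInt} {S : Type w} [Group S]

/-- Sums over an invariant function reduce to the fixed points modulo M. -/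
theorem sum_congr_fixed [M.IsPrime] (hM : IsPModular p M) (hS : IsPGroup p S) [Finite S] {X : Type u}
    [Fintype X] [MulAction S X] (f : X → ℂ) (hf : ∀ (s : S) (x : X), f (s • x) = f x)
    (hl : ∀ x, f x ∈ locRing M) :
    MemLocalIdeal M (∑ x, f x - ∑ x, if (∀ s : S, s • x = x) then f x else 0) := by
  haveI := Fact.mk hM.1
  rw [← Finset.sum_sub_distrib]
  let φ : X → ℂ := fun x => f x - if (∀ s : S, s • x = x) then f x else 0
  haveI := Fintype.ofFinite (MulAction.orbitRel.Quotient S X)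
  show MemLocalIdeal M (∑ x, φ x)
  rw [← (MulAction.selfEquivSigmaOrbits S X).symm.sum_comp, Fintype.sum_sigma]
  refine memLocalIdeal_sum _ _ fun ω _ => ?_
  by_cases hω : ∀ s : S, s • ω.out = ω.out
  · refine memLocalIdeal_sum _ _ ?_
    rintro ⟨y, s, rfl⟩ -
    show MemLocalIdeal M (φ (s • ω.out))
    simp only [φ, hω s, if_pos hω, sub_self]
    exact memLocalIdeal_zero
  · have hconst : ∀ y : MulAction.orbit S ω.out,
        φ ((MulAction.selfEquivSigmaOrbits S X).symm ⟨ω, y⟩) = f ω.out := by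
      rintro ⟨y, s, rfl⟩
      show φ (s • ω.out) = f ω.out
      have hns : ¬ ∀ t : S, t • s • ω.out = s • ω.out := fun h => hω fun t => by
        have h1 := h (s * t * s⁻¹)
        rw [smul_smul, inv_mul_cancel_right, ← smul_smul] at h1
        exact MulAction.injective s h1
      simp only [φ, if_neg hns, sub_zero, hf]
    rw [Finset.sum_congr rfl fun y _ => hconst y, Finset.sum_const, Finset.card_univ,
      ← Nat.card_eq_fintype_card, nsmul_eq_mul]
    obtain ⟨j, hj⟩ := hS.card_orbit (ω.out : X)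
    refine memLocalIdeal_mul_right (hl _) ((memLocalIdeal_natCast_iff hM.1 hM.2.2 _).2 ?_)
    rcases j with _ | j
    · exfalso
      refine hω fun s => ?_
      have hsub : Subsingleton (MulAction.orbit S ω.out) :=
        (Nat.card_eq_one_iff_unique.1 (by simpa using hj)).1
      exact congrArg Subtype.val
        (hsub.elim ⟨_, MulAction.mem_orbit ω.out s⟩ ⟨_, MulAction.mem_orbit_self ω.out⟩)
    · rw [hj]; exact dvd_pow_self p j.succ_ne_zero

variable {G : Type u} [Group G] [Finite G] [MulDistribMulAction S G] {C : Type v} [Group C] [Finite C]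

/-- Invariance under the operators. -/
def OpInv (S : Type w) [Group S] [MulDistribMulAction S G] (χ : G → ℂ) : Prop :=
  ∀ (s : S) (g : G), χ (s • g) = χ g

/-- Restriction along a homomorphism. -/
noncomputable def resHom (ι : C →* G) (a : MonoidAlgebra ℂ G) : MonoidAlgebra ℂ C :=
  mkA fun c => a.coeff (ι c)

theorem isCentralElt_resHom (ι : C →* G) {a : MonoidAlgebra ℂ G} (ha : IsCentralElt a) :
    IsCentralElt (resHom ι a) := fun x y => by
  simp only [resHom, coeff_mkA, map_mul, map_inv]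
  exact ha (ι x) (ι y)

theorem isLocElt_resHom [M.IsPrime] (ι : C →* G) {a : MonoidAlgebra ℂ G} (ha : IsLocElt M a) :
    IsLocElt M (resHom ι a) := fun x => by
  simp only [resHom, coeff_mkA]; exact ha _

/-- The data: the fixed points of a p-group of operators. -/
structure FixedHom (S : Type w) [Group S] [MulDistribMulAction S G] (ι : C →* G) : Prop where
  inj : Function.Injective ι
  mem : ∀ g : G, (∃ c, ι c = g) ↔ ∀ s : S, s • g = g

variable {ι : C →* G}

theorem sum_congr_fixedHom [M.IsPrime] [Fintype G] [Fintype C] (hM : IsPModular p M) (hS : IsPGroup p S)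
    [Finite S] (hι : FixedHom S ι) (f : G → ℂ) (hf : OpInv S f) (hl : ∀ x, f x ∈ locRing M) :
    MemLocalIdeal M (∑ x, f x - ∑ c, f (ι c)) := by
  have h := sum_congr_fixed hM hS f hf hl
  rw [← Finset.sum_filter] at h
  convert h using 2
  refine Finset.sum_bij (fun c _ => ι c) (fun c _ => Finset.mem_filter.2 ⟨Finset.mem_univ _, (hι.mem _).1 ⟨c, rfl⟩⟩)
    (fun a _ b _ e => hι.inj e) (fun g hg => ?_) (fun _ _ => rfl)
  obtain ⟨c, hc⟩ := (hι.mem g).2 (Finset.mem_filter.1 hg).2
  exact ⟨c, Finset.mem_univ _, hc⟩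

theorem card_congr_fixed [M.IsPrime] (hM : IsPModular p M) (hS : IsPGroup p S) [Finite S] (hι : FixedHom S ι) :
    MemLocalIdeal M ((Nat.card G : ℂ) - (Nat.card C : ℂ)) := by
  haveI := Fintype.ofFinite G
  haveI := Fintype.ofFinite C
  have h := sum_congr_fixedHom hM hS hι (fun _ => (1 : ℂ)) (fun _ _ => rfl) (fun _ => one_mem _)
  simpa [Nat.card_eq_fintype_card] using h

/-- The Brauer map is multiplicative modulo M. -/
theorem omega_res_mul [M.IsPrime] (hM : IsPModular p M) (hS : IsPGroup p S) [Finite S] (hι : FixedHom S ι)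
    (β : IrrCharacter C) {a b : MonoidAlgebra ℂ G} (ha : IsCentralElt a) (hal : IsLocElt M a)
    (has : OpInv S (fun g => a.coeff g)) (hb : IsCentralElt b) (hbl : IsLocElt M b)
    (hbs : OpInv S (fun g => b.coeff g)) :
    MemLocalIdeal M (omega (β : C → ℂ) (resHom ι (a * b)) -
      omega (β : C → ℂ) (resHom ι a) * omega (β : C → ℂ) (resHom ι b)) := by
  haveI := Fintype.ofFinite G
  haveI := Fintype.ofFinite C
  rw [← omega_mul β (isCentralElt_resHom ι ha) (isCentralElt_resHom ι hb), ← omega_sub]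
  refine memLocalIdeal_omega_of_coeff β ((isCentralElt_resHom ι (ha.mul hb)).sub
    ((isCentralElt_resHom ι ha).mul (isCentralElt_resHom ι hb))) fun c => ?_
  rw [MonoidAlgebra.coeff_sub, Finsupp.sub_apply, resHom, coeff_mkA, MonoidAlgebra.coeff_mul_apply_left,
    MonoidAlgebra.coeff_mul_apply_left, Finsupp.sum_fintype _ _ (by simp), Finsupp.sum_fintype _ _ (by simp)]
  have h := sum_congr_fixedHom hM hS hι (fun g => a.coeff g * b.coeff (g⁻¹ * ι c)) (fun s g => ?_)
    (fun g => mul_mem (hal _) (hbl _))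
  · simpa [resHom] using h
  · show a.coeff (s • g) * b.coeff ((s • g)⁻¹ * ι c) = a.coeff g * b.coeff (g⁻¹ * ι c)
    have e : (s • g)⁻¹ * ι c = s • (g⁻¹ * ι c) := by rw [smul_mul', smul_inv', (hι.mem _).1 ⟨c, rfl⟩ s]
    have h1 : a.coeff (s • g) = a.coeff g := has s g
    have h2 : b.coeff (s • (g⁻¹ * ι c)) = b.coeff (g⁻¹ * ι c) := hbs s _
    rw [e, h1, h2]

theorem isLocElt_singleton [M.IsPrime] (hM : IsPModular p M) (hG : ¬ p ∣ Nat.card G) (χ : IrrCharacter G) :
    IsLocElt M (blockIdem ({χ} : Set (IrrCharacter G))) := by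
  have hB : IsPBlock M (blockOf M (χ : G → ℂ)) := isPBlock_blockOf χ
  have h := isLocElt_blockIdem hB
  rwa [blockOf_eq_singleton hM χ fun hd => hG (hd.trans (Nat.div_dvd_of_dvd (charDegree_dvd_card χ.2)))] at h

theorem opInv_singleton {χ : IrrCharacter G} (hχ : OpInv S (χ : G → ℂ)) :
    OpInv S (fun g => (blockIdem ({χ} : Set (IrrCharacter G))).coeff g) := fun s g => by
  simp only [blockIdem, coeff_mkA, blockCoeff, finsum_mem_singleton, hχ s g]

theorem mul_singleton {χ : IrrCharacter G} {a : MonoidAlgebra ℂ G} (ha : IsCentralElt a) :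
    a * blockIdem {χ} = omega (χ : G → ℂ) a • blockIdem {χ} := by
  refine eq_of_omega_eq (ha.mul (isCentralElt_blockIdem _)) ((isCentralElt_blockIdem _).smul _) fun ψ => ?_
  rw [omega_mul ψ ha (isCentralElt_blockIdem _), omega_smul, omega_blockIdem]
  by_cases h : ψ ∈ ({χ} : Set (IrrCharacter G))
  · rw [if_pos h, Set.mem_singleton_iff.1 h]
  · rw [if_neg h, mul_zero, mul_zero]

/-- The multiplicity in the restriction. -/
theorem exists_mult [Fintype C] (ι : C →* G) (χ : IrrCharacter G) (β : IrrCharacter C) :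
    ∃ m : ℕ, classInner (fun c => (χ : G → ℂ) (ι c)) (β : C → ℂ) = (m : ℂ) :=
  classInner_natCast_of_isCharacter (isCharacter_comp (IsIrrCharacter.isCharacter χ.2) ι)
    (IsIrrCharacter.isCharacter β.2)

theorem omega_res_singleton_iff [M.IsPrime] [Fintype C] (hM : IsPModular p M) (hS : IsPGroup p S) [Finite S]
    (hι : FixedHom S ι) (hG : ¬ p ∣ Nat.card G) (χ : IrrCharacter G) (β : IrrCharacter C) {m : ℕ}
    (hm : classInner (fun c => (χ : G → ℂ) (ι c)) (β : C → ℂ) = (m : ℂ)) :
    MemLocalIdeal M (omega (β : C → ℂ) (resHom ι (blockIdem {χ}))) ↔ p ∣ m := by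
  have hdG := charDegree_dvd_card χ.2 (G := G)
  have hdC := charDegree_dvd_card β.2 (G := C)
  have hCG : Nat.card C ∣ Nat.card G := Subgroup.card_dvd_of_injective ι hι.inj
  set d := charDegree (χ : G → ℂ)
  set e := charDegree (β : C → ℂ)
  have hu : omega (β : C → ℂ) (resHom ι (blockIdem {χ})) =
      ((d * Nat.card C : ℕ) : ℂ) * ((Nat.card G * e : ℕ) : ℂ)⁻¹ * (m : ℂ) := by
    rw [omega_eq_sum, ← charDegree_cast (IsIrrCharacter.isCharacter β.2)]
    have hsum : ∑ c, (resHom ι (blockIdem {χ})).coeff c * (β : C → ℂ) c =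
        (Nat.card G : ℂ)⁻¹ * (d : ℂ) * ((Nat.card C : ℂ) * conj (m : ℂ)) := by
      rw [← hm, classInner_conj_symm, classInner, ← mul_assoc (Nat.card C : ℂ),
        mul_inv_cancel₀ (Nat.cast_ne_zero.2 Nat.card_pos.ne'), one_mul, Finset.mul_sum]
      refine Finset.sum_congr rfl fun c _ => ?_
      simp only [resHom, blockIdem, coeff_mkA, blockCoeff, finsum_mem_singleton]
      rw [← charDegree_cast (IsIrrCharacter.isCharacter χ.2)]
      ring
    rw [hsum, Complex.conj_natCast]
    push_cast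
    field_simp
    rfl
  have hnum : ¬ p ∣ d * Nat.card C := fun h => by
    rcases hM.1.dvd_mul.1 h with h | h
    exacts [hG (h.trans hdG), hG (h.trans hCG)]
  have hden : ¬ p ∣ Nat.card G * e := fun h => by
    rcases hM.1.dvd_mul.1 h with h | h
    exacts [hG h, hG ((h.trans hdC).trans hCG)]
  rw [hu, memLocalIdeal_unit_mul_iff (mul_mem (natCast_mem _ _) (inv_natCast_mem_locRing hM.1 hM.2.2 hden))
    (by rw [mul_inv, inv_inv]; exact mul_mem (inv_natCast_mem_locRing hM.1 hM.2.2 hnum) (natCast_mem _ _))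
    (mul_ne_zero (Nat.cast_ne_zero.2 fun h => hnum (by rw [h]; exact dvd_zero p))
      (inv_ne_zero (Nat.cast_ne_zero.2 fun h => hden (by rw [h]; exact dvd_zero p)))),
    memLocalIdeal_natCast_iff hM.1 hM.2.2]

theorem omega_res_orth [M.IsPrime] (hM : IsPModular p M) (hS : IsPGroup p S) [Finite S] (hι : FixedHom S ι)
    (hG : ¬ p ∣ Nat.card G) (β : IrrCharacter C) {χ : IrrCharacter G} (hχ : OpInv S (χ : G → ℂ))
    {a : MonoidAlgebra ℂ G} (ha : IsCentralElt a) (hal : IsLocElt M a) (has : OpInv S (fun g => a.coeff g))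
    (hu : ¬ MemLocalIdeal M (omega (β : C → ℂ) (resHom ι (blockIdem {χ})))) :
    MemLocalIdeal M (omega (β : C → ℂ) (resHom ι a) - omega (χ : G → ℂ) a) := by
  have hel := isLocElt_singleton hM hG χ
  set x := omega (β : C → ℂ) (resHom ι (blockIdem {χ}))
  have h := omega_res_mul hM hS hι β ha hal has (isCentralElt_blockIdem {χ}) hel (opInv_singleton hχ)
  have hsm : resHom ι (omega (χ : G → ℂ) a • blockIdem ({χ} : Set (IrrCharacter G))) =
      omega (χ : G → ℂ) a • resHom ι (blockIdem {χ}) :=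
    MonoidAlgebra.ext (Finsupp.ext fun c => by simp [resHom])
  rw [mul_singleton ha, hsm, omega_smul, ← sub_mul] at h
  have hxl : x ∈ locRing M := omega_mem_locRing β (isCentralElt_resHom ι (isCentralElt_blockIdem _)) (isLocElt_resHom ι hel)
  have hal' : omega (χ : G → ℂ) a - omega (β : C → ℂ) (resHom ι a) ∈ locRing M :=
    sub_mem (omega_mem_locRing χ ha hal) (omega_mem_locRing β (isCentralElt_resHom ι ha) (isLocElt_resHom ι hal))
  rcases memLocalIdeal_of_mul hal' hxl h with h' | h'
  · have := memLocalIdeal_neg h'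
    rwa [neg_sub] at this
  · exact absurd h' hu

/-- Each character of the fixed points has exactly one partner. -/
theorem existsUnique_partner [M.IsPrime] (hM : IsPModular p M) (hS : IsPGroup p S) [Finite S]
    (hι : FixedHom S ι) (hG : ¬ p ∣ Nat.card G) (β : IrrCharacter C) :
    ∃! χ : IrrCharacter G, OpInv S (χ : G → ℂ) ∧
      ¬ MemLocalIdeal M (omega (β : C → ℂ) (resHom ι (blockIdem {χ}))) := by
  haveI := Fintype.ofFinite G
  haveI := Fintype.ofFinite C
  haveI := Fintype.ofFinite (IrrCharacter G)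
  refine existsUnique_of_exists_of_unique ?_ ?_
  · letI : MulAction S (IrrCharacter G) :=
      { smul := fun s χ => ⟨fun g => (χ : G → ℂ) (s⁻¹ • g),
          isIrrCharacter_comp_mulEquiv (MulDistribMulAction.toMulEquiv G s⁻¹) χ.2⟩
        one_smul := fun χ => Subtype.ext (funext fun g => show (χ : G → ℂ) ((1 : S)⁻¹ • g) = _ by rw [inv_one, one_smul])
        mul_smul := fun s t χ => Subtype.ext (funext fun g => show (χ : G → ℂ) ((s * t)⁻¹ • g) =
          (χ : G → ℂ) (t⁻¹ • s⁻¹ • g) by rw [mul_inv_rev, mul_smul]) }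
    have hsm : ∀ (s : S) (χ : IrrCharacter G) (g : G), ((s • χ : IrrCharacter G) : G → ℂ) g = (χ : G → ℂ) (s⁻¹ • g) :=
      fun _ _ _ => rfl
    let f : IrrCharacter G → ℂ := fun χ => omega (β : C → ℂ) (resHom ι (blockIdem {χ}))
    have hf : ∀ (s : S) (χ : IrrCharacter G), f (s • χ) = f χ := by
      intro s χ
      refine congrArg (omega (β : C → ℂ)) (MonoidAlgebra.ext (Finsupp.ext fun c => ?_))
      simp only [resHom, blockIdem, coeff_mkA, blockCoeff, finsum_mem_singleton, hsm, smul_one]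
      rw [(hι.mem _).1 ⟨c, rfl⟩ s⁻¹]
    have hfl : ∀ χ, f χ ∈ locRing M := fun χ => omega_mem_locRing β
      (isCentralElt_resHom ι (isCentralElt_blockIdem _)) (isLocElt_resHom ι (isLocElt_singleton hM hG χ))
    have h := sum_congr_fixed hM hS f hf hfl
    have h1 : ∑ χ, f χ = 1 := by
      simp only [f, omega_eq_sum, ← Finset.sum_div, resHom, coeff_mkA]
      rw [Finset.sum_comm]
      have hco : ∀ c : C, ∑ χ : IrrCharacter G, (blockIdem ({χ} : Set (IrrCharacter G))).coeff (ι c) * (β : C → ℂ) c =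
          (blockIdem (Set.univ : Set (IrrCharacter G))).coeff (ι c) * (β : C → ℂ) c := by
        intro c
        rw [← Finset.sum_mul]
        congr 1
        simp only [blockIdem, coeff_mkA, blockCoeff, finsum_mem_singleton, ← Finset.mul_sum]
        rw [finsum_mem_univ, finsum_eq_sum_of_fintype]
      rw [Finset.sum_congr rfl fun c _ => hco c, blockIdem_univ, Finset.sum_eq_single (1 : C)]
      · simp [MonoidAlgebra.one_def, IsIrrCharacter.apply_one_ne_zero β.2]
      · intro c _ hc
        have : ι c ≠ 1 := fun e => hc (hι.inj (e.trans (map_one ι).symm))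
        simp [MonoidAlgebra.one_def, Ne.symm this]
      · simp
    by_contra hno
    push Not at hno
    rw [h1] at h
    refine not_memLocalIdeal_one (M := M) ?_
    have h2 : MemLocalIdeal M (∑ χ, if (∀ s : S, s • χ = χ) then f χ else 0) := by
      refine memLocalIdeal_sum _ _ fun χ _ => ?_
      split
      next hfix =>
        refine hno χ fun s g => ?_
        have := congrArg (fun ψ : IrrCharacter G => (ψ : G → ℂ) g) (hfix s⁻¹)
        simpa [hsm] using this
      · exact memLocalIdeal_zero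
    simpa using memLocalIdeal_add h h2
  · rintro χ ψ ⟨hχ, hχu⟩ ⟨hψ, hψu⟩
    by_contra hne
    have h := omega_res_orth hM hS hι hG β hχ (isCentralElt_blockIdem ({ψ} : Set (IrrCharacter G)))
      (isLocElt_singleton hM hG ψ) (opInv_singleton hψ) hχu
    rw [omega_blockIdem, if_neg (show χ ∉ ({ψ} : Set (IrrCharacter G)) from hne), sub_zero] at h
    exact hψu h

/-- Fixed elements conjugate in G are conjugate among the fixed points. -/
theorem isConj_fixed (hp : p.Prime) (hS : IsPGroup p S) [Finite S] (hι : FixedHom S ι) (hG : ¬ p ∣ Nat.card G)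
    {c c' : C} (h : IsConj (ι c) (ι c')) : IsConj c c' := by
  haveI := Fact.mk hp
  have hfx : ∀ (s : S) (d : C), s • ι d = ι d := fun s d => (hι.mem _).1 ⟨d, rfl⟩ s
  let X := {g : G // g * ι c * g⁻¹ = ι c'}
  letI : MulAction S X :=
    { smul := fun s g => ⟨s • (g : G), by
        have e := congrArg (s • ·) g.2
        simp only [smul_mul', smul_inv', hfx] at e
        exact e⟩
      one_smul := fun g => Subtype.ext (one_smul S (g : G))
      mul_smul := fun s t g => Subtype.ext (mul_smul s t (g : G)) }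
  obtain ⟨g₀, hg₀⟩ := isConj_iff.1 h
  have hcard : Nat.card X = Nat.card (Subgroup.centralizer ({ι c} : Set G)) := by
    refine Nat.card_congr
      { toFun := fun g => ⟨g₀⁻¹ * (g : G), mem_centralizer_singleton.2 ?_⟩
        invFun := fun k => ⟨g₀ * (k : G), ?_⟩
        left_inv := fun g => Subtype.ext (mul_inv_cancel_left _ _)
        right_inv := fun k => Subtype.ext (inv_mul_cancel_left _ _) }
    · show ι c * (g₀⁻¹ * (g : G)) = g₀⁻¹ * (g : G) * ι c
      have h1 : (g : G) * ι c = ι c' * (g : G) := mul_inv_eq_iff_eq_mul.1 g.2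
      have h2 : g₀ * ι c = ι c' * g₀ := mul_inv_eq_iff_eq_mul.1 hg₀
      rw [mul_assoc g₀⁻¹, h1, ← mul_assoc, ← mul_assoc]
      calc ι c * g₀⁻¹ * (g : G) = g₀⁻¹ * (g₀ * ι c) * g₀⁻¹ * (g : G) := by group
        _ = g₀⁻¹ * ι c' * (g : G) := by rw [h2]; group
    · have h1 : ι c * (k : G) = (k : G) * ι c := (mem_centralizer_singleton.1 k.2).eq
      rw [mul_inv_rev, show g₀ * (k : G) * ι c * ((k : G)⁻¹ * g₀⁻¹) = g₀ * ((k : G) * ι c * (k : G)⁻¹) * g₀⁻¹ by group,
        ← h1, mul_inv_cancel_right, hg₀]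
  have hnd : ¬ p ∣ Nat.card X := by
    rw [hcard]; exact fun hd => hG (hd.trans (Subgroup.card_subgroup_dvd_card _))
  obtain ⟨g, hg⟩ := hS.nonempty_fixed_point_of_prime_not_dvd_card X hnd
  obtain ⟨d, hd⟩ := (hι.mem (g : G)).2 fun s => congrArg Subtype.val (hg s)
  refine isConj_iff.2 ⟨d, hι.inj ?_⟩
  rw [map_mul, map_mul, map_inv, hd]
  exact g.2

/-- Each invariant character has at most one partner. -/
theorem partner_inj [M.IsPrime] (hM : IsPModular p M) (hS : IsPGroup p S) [Finite S] (hι : FixedHom S ι)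
    (hG : ¬ p ∣ Nat.card G) {χ : IrrCharacter G} (hχ : OpInv S (χ : G → ℂ)) {β β' : IrrCharacter C}
    (hu : ¬ MemLocalIdeal M (omega (β : C → ℂ) (resHom ι (blockIdem {χ}))))
    (hu' : ¬ MemLocalIdeal M (omega (β' : C → ℂ) (resHom ι (blockIdem {χ})))) : β = β' := by
  have hsame : SameBlock M (β : C → ℂ) (β' : C → ℂ) := by
    intro c
    have hres : resHom ι (classSum (ι c)) = classSum c := by
      refine MonoidAlgebra.ext (Finsupp.ext fun d => ?_)
      simp only [resHom, classSum, coeff_mkA]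
      exact if_congr ⟨fun h => isConj_fixed hM.1 hS hι hG h, fun h => ι.map_isConj h⟩ rfl rfl
    have hinv : OpInv S (fun g => (classSum (ι c)).coeff g) := fun s g => by
      simp only [classSum, coeff_mkA]
      have e := (hι.mem (ι c)).1 ⟨c, rfl⟩
      refine if_congr ⟨fun h => ?_, fun h => ?_⟩ rfl rfl
      · have h2 : IsConj (s⁻¹ • ι c) (s⁻¹ • s • g) := (MulDistribMulAction.toMonoidHom G s⁻¹).map_isConj h
        rwa [inv_smul_smul, e] at h2
      · have h2 : IsConj (s • ι c) (s • g) := (MulDistribMulAction.toMonoidHom G s).map_isConj h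
        rwa [e] at h2
    have h1 := omega_res_orth hM hS hι hG β hχ (isCentralElt_classSum (ι c)) (isLocElt_classSum _) hinv hu
    have h2 := omega_res_orth hM hS hι hG β' hχ (isCentralElt_classSum (ι c)) (isLocElt_classSum _) hinv hu'
    rw [hres, omega_classSum, ← omega_classSum] at h1 h2
    rw [omega_classSum β c] at h1
    rw [omega_classSum β' c] at h2
    simpa using memLocalIdeal_sub h1 h2
  have hCG : Nat.card C ∣ Nat.card G := Subgroup.card_dvd_of_injective ι hι.inj
  have hb := blockOf_eq_singleton hM β fun hd =>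
    hG ((hd.trans (Nat.div_dvd_of_dvd (charDegree_dvd_card β.2))).trans hCG)
  have hmem : β' ∈ blockOf M (β : C → ℂ) := hsame
  rw [hb] at hmem
  exact (Set.mem_singleton_iff.1 hmem).symm

/-- The multiplicities of an invariant character: one unit square, the others divisible by p. -/
theorem exists_partner [M.IsPrime] [Fintype C] (hM : IsPModular p M) (hS : IsPGroup p S) [Finite S]
    (hι : FixedHom S ι) (hG : ¬ p ∣ Nat.card G) {χ : IrrCharacter G} (hχ : OpInv S (χ : G → ℂ)) :
    ∃ (β : IrrCharacter C) (m : ℕ), classInner (fun c => (χ : G → ℂ) (ι c)) (β : C → ℂ) = (m : ℂ) ∧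
      ¬ p ∣ m ∧ p ∣ m * m + (p - 1) ∧
      (∀ β' : IrrCharacter C, β' ≠ β → ∀ m' : ℕ,
        classInner (fun c => (χ : G → ℂ) (ι c)) (β' : C → ℂ) = (m' : ℂ) → p ∣ m') := by
  haveI := Fintype.ofFinite G
  haveI := Fintype.ofFinite (IrrCharacter C)
  choose m hm using fun β => exists_mult ι χ β
  have hcl : IsClassFunction C (fun c => (χ : G → ℂ) (ι c)) :=
    IsCharacter.isClassFunction (isCharacter_comp (IsIrrCharacter.isCharacter χ.2) ι)
  have hnormC : classInner (fun c => (χ : G → ℂ) (ι c)) (fun c => (χ : G → ℂ) (ι c)) =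
      ∑ β, ((m β * m β : ℕ) : ℂ) := by
    conv_lhs => arg 2; rw [IsClassFunction.eq_sum hcl]
    rw [classInner_sum_right]
    refine Finset.sum_congr rfl fun β _ => ?_
    rw [classInner_smul_right, hm, Complex.conj_natCast, Nat.cast_mul]
  have h := sum_congr_fixedHom hM hS hι (fun g => (χ : G → ℂ) g * conj ((χ : G → ℂ) g))
    (fun s g => by show (χ : G → ℂ) (s • g) * conj ((χ : G → ℂ) (s • g)) = _; rw [hχ s g]) (fun g => mul_mem (irr_mem_locRing χ g) (by
      rw [← IsCharacter.map_inv (IsIrrCharacter.isCharacter χ.2)]; exact irr_mem_locRing χ _))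
  have h1 := IsIrrCharacter.classInner_self χ.2
  rw [classInner, inv_mul_eq_iff_eq_mul₀ (Nat.cast_ne_zero.2 Nat.card_pos.ne'), mul_one] at h1
  rw [classInner, inv_mul_eq_iff_eq_mul₀ (Nat.cast_ne_zero.2 Nat.card_pos.ne')] at hnormC
  rw [h1, hnormC, ← Nat.cast_sum] at h
  have hkey : MemLocalIdeal M ((Nat.card C : ℂ) * (1 - ((∑ β, m β * m β : ℕ) : ℂ))) := by
    have := memLocalIdeal_sub h (card_congr_fixed hM hS hι)
    convert this using 1
    ring
  have hCG : Nat.card C ∣ Nat.card G := Subgroup.card_dvd_of_injective ι hι.inj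
  have h2 : MemLocalIdeal M (1 - ((∑ β, m β * m β : ℕ) : ℂ)) :=
    (memLocalIdeal_unit_mul_iff (natCast_mem _ _)
      (inv_natCast_mem_locRing hM.1 hM.2.2 fun hd => hG (hd.trans hCG))
      (Nat.cast_ne_zero.2 Nat.card_pos.ne')).1 hkey
  have hdv : p ∣ (∑ β, m β * m β) + (p - 1) := by
    refine (memLocalIdeal_natCast_iff hM.1 hM.2.2 _).1 ?_
    have hp' := memLocalIdeal_sub ((memLocalIdeal_natCast_iff hM.1 hM.2.2 p).2 dvd_rfl) h2
    convert hp' using 1
    push_cast [Nat.cast_sub hM.1.one_le]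
    ring
  obtain ⟨β, hβ⟩ : ∃ β, ¬ p ∣ m β := by
    by_contra hno
    push Not at hno
    have hd : p ∣ ∑ β, m β * m β := Finset.dvd_sum fun β _ => (hno β).mul_right _
    have := Nat.le_of_dvd (Nat.sub_pos_of_lt hM.1.one_lt) ((Nat.dvd_add_right hd).1 hdv)
    have := hM.1.pos
    omega
  have hother : ∀ β', β' ≠ β → p ∣ m β' := by
    intro β' hne
    by_contra hd
    exact hne (partner_inj hM hS hι hG hχ
      (mt (omega_res_singleton_iff hM hS hι hG χ β' (hm β')).1 hd)
      (mt (omega_res_singleton_iff hM hS hι hG χ β (hm β)).1 hβ))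
  refine ⟨β, m β, hm β, hβ, ?_, fun β' hne m' hm' => ?_⟩
  · rw [← Finset.add_sum_erase _ _ (Finset.mem_univ β), add_right_comm] at hdv
    exact (Nat.dvd_add_left (Finset.dvd_sum fun β' hβ' => (hother β' (Finset.ne_of_mem_erase hβ')).mul_right _)).1 hdv
  · have : m' = m β' := Nat.cast_injective (R := ℂ) (hm'.symm.trans (hm β'))
    exact this ▸ hother β' hne

theorem partner_degree [M.IsPrime] [Fintype C] (hM : IsPModular p M) {χ : IrrCharacter G} {β : IrrCharacter C}
    {m : ℕ} (hm : classInner (fun c => (χ : G → ℂ) (ι c)) (β : C → ℂ) = (m : ℂ))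
    (hoth : ∀ β' : IrrCharacter C, β' ≠ β → ∀ m' : ℕ,
        classInner (fun c => (χ : G → ℂ) (ι c)) (β' : C → ℂ) = (m' : ℂ) → p ∣ m') :
    (charDegree (χ : G → ℂ) : ZMod p) = (m : ZMod p) * (charDegree (β : C → ℂ) : ZMod p) := by
  haveI := Fintype.ofFinite (IrrCharacter C)
  choose n hn using fun β => exists_mult ι χ β
  have hcl : IsClassFunction C (fun c => (χ : G → ℂ) (ι c)) :=
    IsCharacter.isClassFunction (isCharacter_comp (IsIrrCharacter.isCharacter χ.2) ι)
  have h := congrFun (IsClassFunction.eq_sum hcl) 1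
  simp only [map_one, Finset.sum_apply, Pi.smul_apply, smul_eq_mul, hn,
    ← charDegree_cast (IsIrrCharacter.isCharacter χ.2)] at h
  rw [Finset.sum_congr rfl (g := fun β' : IrrCharacter C => ((n β' * charDegree (β' : C → ℂ) : ℕ) : ℂ)) fun β' _ => by
    rw [← charDegree_cast (IsIrrCharacter.isCharacter β'.2)]; push_cast; rfl, ← Nat.cast_sum] at h
  rw [Nat.cast_injective h, Nat.cast_sum, Finset.sum_eq_single β]
  · rw [Nat.cast_mul, show n β = m from Nat.cast_injective (R := ℂ) ((hn β).symm.trans hm)]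
  · intro β' _ hne
    rw [Nat.cast_mul, (ZMod.natCast_eq_zero_iff _ _).2 ?_, zero_mul]
    exact hoth β' hne (n β') (hn β')
  · simp

theorem modEq_of_sq {p m : ℕ} (hp : p.Prime) (h : p ∣ m * m + (p - 1)) :
    ((m : ℤ) ≡ 1 [ZMOD p] ∨ (m : ℤ) ≡ -1 [ZMOD p]) := by
  have h1 : (p : ℤ) ∣ ((m : ℤ) - 1) * ((m : ℤ) + 1) := by
    have h2 : ((p : ℕ) : ℤ) ∣ ((m * m + (p - 1) : ℕ) : ℤ) := Int.natCast_dvd_natCast.2 h
    push_cast [Nat.cast_sub hp.one_le] at h2
    have h3 := Int.dvd_sub h2 (dvd_refl (p : ℤ))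
    convert h3 using 1
    ring
  rcases (Nat.prime_iff_prime_int.1 hp).dvd_or_dvd h1 with h | h
  · exact Or.inl (Int.modEq_iff_dvd.2 (by rw [← dvd_neg, neg_sub]; exact h))
  · exact Or.inr (Int.modEq_iff_dvd.2 (by rw [← dvd_neg, neg_sub, sub_neg_eq_add]; exact h))

/-- The correspondence, including the case of trivial operators. -/
theorem glauberman_pgroup (hp : p.Prime) (hS : IsPGroup p S) [Finite S] [Fintype C]
    (hcop : (Nat.card G).Coprime (Nat.card S)) (hι : FixedHom S ι) :
    (∀ χ : IrrCharacter G, OpInv S (χ : G → ℂ) → ∃ β : IrrCharacter C, ∃ m : ℕ,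
      classInner (fun c => (χ : G → ℂ) (ι c)) (β : C → ℂ) = (m : ℂ) ∧ ¬ p ∣ m ∧
      ((m : ℤ) ≡ 1 [ZMOD p] ∨ (m : ℤ) ≡ -1 [ZMOD p]) ∧
      (charDegree (χ : G → ℂ) : ZMod p) = (m : ZMod p) * (charDegree (β : C → ℂ) : ZMod p) ∧
      ∀ β' : IrrCharacter C, β' ≠ β → ∀ m' : ℕ,
        classInner (fun c => (χ : G → ℂ) (ι c)) (β' : C → ℂ) = (m' : ℂ) → p ∣ m') ∧
    ∀ β : IrrCharacter C, ∃! χ : IrrCharacter G, OpInv S (χ : G → ℂ) ∧
      ∃ m : ℕ, classInner (fun c => (χ : G → ℂ) (ι c)) (β : C → ℂ) = (m : ℂ) ∧ ¬ p ∣ m := by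
  by_cases hG : p ∣ Nat.card G
  · -- the operators are trivial
    haveI := Fact.mk hp
    obtain ⟨k, hk⟩ := IsPGroup.iff_card.1 hS
    rcases k with _ | k
    · have hsub : Subsingleton S := (Nat.card_eq_one_iff_unique.1 (by simpa using hk)).1
      have hfix : ∀ (s : S) (g : G), s • g = g := fun s g => by rw [Subsingleton.elim s 1, one_smul]
      have hinv : ∀ χ : G → ℂ, OpInv S χ := fun χ s g => by rw [hfix]
      have hsurj : Function.Surjective ι := fun g => (hι.mem g).2 fun s => hfix s g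
      let e : C ≃* G := MulEquiv.ofBijective ι ⟨hι.inj, hsurj⟩
      haveI := Fintype.ofFinite G
      let r : IrrCharacter G → IrrCharacter C := fun χ => ⟨fun c => (χ : G → ℂ) (ι c), isIrrCharacter_comp_mulEquiv e χ.2⟩
      have hr : Function.Injective r := fun χ χ' h => by
        refine Subtype.ext (funext fun g => ?_)
        obtain ⟨c, rfl⟩ := hsurj g
        exact congrFun (congrArg Subtype.val h) c
      have hin : ∀ (χ : IrrCharacter G) (β : IrrCharacter C),
          classInner (fun c => (χ : G → ℂ) (ι c)) (β : C → ℂ) = if r χ = β then 1 else 0 := fun χ β =>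
        classInner_irr (r χ) β
      constructor
      · intro χ _
        refine ⟨r χ, 1, by rw [hin, if_pos rfl, Nat.cast_one], hp.not_dvd_one, Or.inl (by simp [Int.ModEq]), ?_, fun β' hne m' hm' => ?_⟩
        · rw [Nat.cast_one, one_mul]
          simp only [r, charDegree, map_one]
        · rw [hin, if_neg (Ne.symm hne)] at hm'
          rw [show m' = 0 from Nat.cast_eq_zero.1 hm'.symm]
          exact dvd_zero p
      · intro β
        let ψ : IrrCharacter G := ⟨fun g => (β : C → ℂ) (e.symm g), isIrrCharacter_comp_mulEquiv e.symm β.2⟩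
        have hψ : r ψ = β := Subtype.ext (funext fun c => congrArg (β : C → ℂ) (e.symm_apply_apply c))
        refine ⟨ψ, ⟨hinv _, 1, by rw [hin, if_pos hψ, Nat.cast_one], hp.not_dvd_one⟩, ?_⟩
        rintro χ ⟨-, m, hm, hmd⟩
        refine hr (Eq.trans ?_ hψ.symm)
        by_contra hne
        rw [hin, if_neg hne] at hm
        exact hmd (by rw [Nat.cast_eq_zero.1 hm.symm]; exact dvd_zero p)
    · exfalso
      have h1 : p ∣ Nat.card S := hk ▸ dvd_pow_self p k.succ_ne_zero
      exact hp.one_lt.ne' (Nat.eq_one_of_dvd_coprimes hcop hG h1)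
  obtain ⟨M, hM⟩ := exists_isPModular hp
  haveI := prime_of_isPModular hM
  constructor
  · intro χ hχ
    obtain ⟨β, m, hm, hmd, hsq, hoth⟩ := exists_partner hM hS hι hG hχ
    exact ⟨β, m, hm, hmd, modEq_of_sq hp hsq, partner_degree hM hm hoth, hoth⟩
  · intro β
    obtain ⟨χ, ⟨hχ, hu⟩, huniq⟩ := existsUnique_partner hM hS hι hG β
    obtain ⟨m, hm⟩ := exists_mult ι χ β
    refine ⟨χ, ⟨hχ, m, hm, fun hd => hu ((omega_res_singleton_iff hM hS hι hG χ β hm).2 hd)⟩, ?_⟩
    rintro χ' ⟨hχ', m', hm', hmd'⟩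
    exact huniq χ' ⟨hχ', fun h => hmd' ((omega_res_singleton_iff hM hS hι hG χ' β hm').1 h)⟩

end Cfsg.Agent.Block
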