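import Cfsg.Agent.Lib.Block.CoverPPower
import Cfsg.Agent.Lib.Block.FirstMain
import Cfsg.Agent.Lib.Block.Glauberman
import Cfsg.Agent.Lib.Block.Regular
import Cfsg.Agent.Lib.Solv.PSolvable

/-!
# The block over an invariant character of a normal `p'`-subgroup in constrained groups
-/

set_option autoImplicit false
set_option linter.style.haveILetI false
set_option linter.unusedSectionVars false

open Cfsg.Agent.Char
open scoped ComplexConjugate Pointwise

namespace Cfsg.Agent.Block

universe u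

section Generic

variable {G : Type u} [Group G] [Fintype G] {M : Ideal AlgInt} [hMp : M.IsPrime] {p : ℕ}
  [Fact p.Prime] {N : Subgroup G} [hN : N.Normal] [Fintype N]

/-- A stable block of a normal subgroup controlling the regular part of the centraliser of its
defect group has only one covering block. -/
theorem eq_of_covers_core (hM : IsPModular p M) {c : Set (IrrCharacter N)} (hc : IsPBlock M c)
    (hst : ∀ g : G, conjBlk (mem_normalizer_of_normal (N := N) g) c = c) {Q : Subgroup G} (hQN : Q ≤ N)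
    (hQ : IsDefectGroup p M c (Q.subgroupOf N))
    (hCQ : ∀ g ∈ Subgroup.centralizer (Q : Set G), ¬ p ∣ orderOf g → g ∈ N)
    {B B' : Set (IrrCharacter G)} (hB : IsPBlock M B) (hB' : IsPBlock M B') (hcB : Covers B c)
    (hcB' : Covers B' c) : B = B' := by
  classical
  have hQp : IsPGroup p Q := by
    have := (isPGroup_of_isDefectGroup hQ).map N.subtype
    rwa [Subgroup.map_subgroupOf_eq_of_le hQN] at this
  obtain ⟨θ, hθ⟩ := isPBlock_nonempty hc
  let x : Set (IrrCharacter G) → MonoidAlgebra ℂ N := fun B => resH N (blockIdem B)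
  have hcl : ∀ {B : Set (IrrCharacter G)}, IsPBlock M B → CL M (x B) := fun hB => cl_resH ((CL.blockIdem hB).ps N)
  have hbr : ∀ {B : Set (IrrCharacter G)}, IsPBlock M B →
      brFun M Q (embH N (x B)) = brFun M Q (blockIdem B) := fun {B} hB => by
    refine brFun_congr fun g hg => ?_
    by_cases hgN : g ∈ N
    · rw [show g = ((⟨g, hgN⟩ : N) : G) from rfl, coeff_embH, coeff_resH]
    · rw [coeff_embH_of_notMem _ _ hgN, ← coeff_blockIdem, blockCoeff_eq_zero_of_dvd hM hB
        (by_contra fun h => hgN (hCQ g hg h))]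
  have hne : ∀ {B : Set (IrrCharacter G)}, IsPBlock M B → Covers B c → ro M θ (x B) ≠ 0 := by
    intro B hB hcB
    have h1 : brFun M Q (embH N (x B * blockIdem c)) = brFun M Q (blockIdem B) := by
      have hpc : PS M Q (embH N (blockIdem c)) := ps_embH (CL.blockIdem hc) hQN
      rw [embH_mul, brFun_mul hM hQp (ps_embH (hcl hB) hQN) hpc, hbr hB,
        ← brFun_mul hM hQp ((CL.blockIdem hB).ps Q) hpc, ← blockOrbit_of_stable hc hst,
        blockIdem_mul_blockOrbit hB hc hcB]
    have h2 : brFun M Q (blockIdem B) ≠ 0 := by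
      have := brFun_defect_cover_ne_zero hM hB hc hcB hQ
      rwa [Subgroup.map_subgroupOf_eq_of_le hQN] at this
    obtain ⟨η, hη⟩ := exists_ro_ne_zero hM hQp ((hcl hB).mul (CL.blockIdem hc))
      (ps_embH ((hcl hB).mul (CL.blockIdem hc)) hQN)
      (by rw [h1]; show _ * _ = _; rw [← brFun_mul hM hQp ((CL.blockIdem hB).ps Q) ((CL.blockIdem hB).ps Q),
        blockIdem_mul_self]) (h1.symm ▸ h2)
    rw [ro_mul η (hcl hB) (CL.blockIdem hc)] at hη
    have hηc : η ∈ c := by_contra fun h => right_ne_zero_of_mul hη (ro_blockIdem_notMem h)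
    rw [ro_congr hc hθ hηc (hcl hB)]
    exact left_ne_zero_of_mul hη
  by_contra hBB
  refine mul_ne_zero (hne hB hcB) (hne hB' hcB') ?_
  rw [← ro_mul θ (hcl hB) (hcl hB')]
  refine ro_eq_zero_of_brFun hM hc hQ hθ ((hcl hB).mul (hcl hB')) ?_
  rw [brFun_subgroupOf_eq_zero_iff hQN ((hcl hB).mul (hcl hB')).2, embH_mul,
    brFun_mul hM hQp (ps_embH (hcl hB) hQN) (ps_embH (hcl hB') hQN), hbr hB, hbr hB',
    ← brFun_mul hM hQp ((CL.blockIdem hB).ps Q) ((CL.blockIdem hB').ps Q), blockIdem_mul_eq_zero hB hB' hBB,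
    brFun_zero]

end Generic

section OverPrime

variable {G : Type u} [Group G] [Fintype G] {M : Ideal AlgInt} [hMp : M.IsPrime] {p : ℕ}
  [Fact p.Prime] {K : Subgroup G} [hKn : K.Normal] [Fintype K]

theorem isPBlock_singleton_of_coprime (hM : IsPModular p M) (hK : ¬ p ∣ Nat.card K) (θ : IrrCharacter K) :
    IsPBlock M ({θ} : Set (IrrCharacter K)) := by
  have h := isPBlock_blockOf (M := M) θ
  rwa [blockOf_eq_singleton hM θ fun hd => hK (hd.trans (Nat.div_dvd_of_dvd (charDegree_dvd_card θ.2)))] at h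

theorem conjBlk_singleton_of_invariant {θ : IrrCharacter K}
    (hinv : ∀ (g : G) (k : K), (θ : K → ℂ) ⟨g * k * g⁻¹, hKn.conj_mem k k.2 g⟩ = (θ : K → ℂ) k) (g : G) :
    conjBlk (mem_normalizer_of_normal (N := K) g) {θ} = {θ} := by
  rw [conjBlk, Set.image_singleton]
  refine congrArg _ (Subtype.ext (funext fun k => ?_))
  rw [conjIrr_apply, ← hinv g⁻¹ k]
  exact congrArg (θ : K → ℂ) (Subtype.ext (by simp))

/-- All characters over an invariant `θ` lie in one block. -/
theorem eq_of_covers_singleton (hM : IsPModular p M) (hK : ¬ p ∣ Nat.card K) {θ : IrrCharacter K}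
    (hinv : ∀ (g : G) (k : K), (θ : K → ℂ) ⟨g * k * g⁻¹, hKn.conj_mem k k.2 g⟩ = (θ : K → ℂ) k)
    {L : Subgroup G} [L.Normal] (hKL : K ≤ L) (hidx : ∃ k : ℕ, K.relIndex L = p ^ k)
    {Q : Subgroup G} (hQL : Q ≤ L) (hQ : IsPGroup p Q) (hQS : ¬ p ∣ Q.relIndex L)
    (hCQ : ∀ g ∈ Subgroup.centralizer (Q : Set G), ¬ p ∣ orderOf g → g ∈ L)
    {B B' : Set (IrrCharacter G)} (hB : IsPBlock M B) (hB' : IsPBlock M B')
    (hcB : Covers B {θ}) (hcB' : Covers B' {θ}) : B = B' := by
  classical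
  haveI := Fintype.ofFinite L
  let K' : Subgroup L := K.subgroupOf L
  haveI := Fintype.ofFinite K'
  let e : K' ≃* K := Subgroup.subgroupOfEquivOfLe hKL
  let θ' : IrrCharacter K' := ⟨_, isIrrCharacter_comp_mulEquiv e θ.2⟩
  have hK' : ¬ p ∣ Nat.card K' := by rwa [Nat.card_congr e.toEquiv]
  have hb' := isPBlock_singleton_of_coprime hM hK' θ'
  have hθb := isPBlock_singleton_of_coprime hM hK θ
  have hinv' : ∀ (l : L) (k : K'), (θ' : K' → ℂ) ⟨l * k * l⁻¹, Subgroup.Normal.conj_mem inferInstance (k : L) k.2 l⟩ =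
      (θ' : K' → ℂ) k := fun l k => hinv (l : G) (e k)
  have hstK := conjBlk_singleton_of_invariant hinv
  have hstK' := conjBlk_singleton_of_invariant hinv'
  have hres : ∀ χ : IrrCharacter G, (∃ φ ∈ ({θ} : Set (IrrCharacter K)),
      classInner (fun k : K => (χ : G → ℂ) k) (φ : K → ℂ) ≠ 0) ↔ ro M χ (embH K (blockIdem {θ})) = 1 := fun χ => by
    rw [exists_constituent_iff (M := M) hθb χ, blockOrbit_of_stable hθb hstK]
  have hres' : ∀ η : IrrCharacter L, (∃ φ ∈ ({θ'} : Set (IrrCharacter K')),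
      classInner (fun k : K' => (η : L → ℂ) k) (φ : K' → ℂ) ≠ 0) ↔
        ro M η (resH L (embH K (blockIdem {θ}))) = 1 := fun η => by
    have hF : resH L (embH K (blockIdem {θ})) = embH K' (blockIdem {θ'}) := by
      refine MonoidAlgebra.ext (Finsupp.ext fun l => ?_)
      rw [coeff_resH]
      by_cases hl : (l : G) ∈ K
      · refine (coeff_embH K _ ⟨(l : G), hl⟩).trans (Eq.trans ?_ (coeff_embH K' _ ⟨l, hl⟩).symm)
        simp only [blockIdem, coeff_mkA, blockCoeff, finsum_mem_singleton, θ']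
        rw [Nat.card_congr e.toEquiv]
        congr 2
      · rw [coeff_embH_of_notMem _ _ hl, coeff_embH_of_notMem _ _ (show l ∉ K' from hl)]
    rw [exists_constituent_iff (M := M) hb' η, blockOrbit_of_stable hb' hstK', hF]
  obtain ⟨k, hk⟩ := hidx
  obtain ⟨c, hc, hcc, -⟩ := exists_block_of_stable hM ⟨k, hk⟩ hb' hstK'
  have hQc : IsDefectGroup p M c (Q.subgroupOf L) := by
    obtain ⟨P, hP⟩ := exists_isDefectGroup (p := p) hc
    obtain ⟨htop, -⟩ := defectGroup_of_stable hM ⟨k, hk⟩ hb' hstK' hc hcc hP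
    have hPp := isPGroup_of_isDefectGroup hP
    have hdisj : P ⊓ K' = ⊥ := Solv.inf_eq_bot_of_coprime_card _ _
      (Solv.coprime_card_of_isPGroup hPp ((Nat.Prime.coprime_iff_not_dvd hM.1).2 hK').symm)
    have hPcard : ¬ p ∣ P.index := by
      intro hd
      have h1 : P.index = P.relIndex (K' ⊔ P) := by rw [htop, Subgroup.relIndex_top_right]
      rw [h1, sup_comm] at hd
      change p ∣ (P.subgroupOf (P ⊔ K')).index at hd
      have h2 := card_eq_inf_mul_image (N := K') (P ⊔ K')
      rw [inf_eq_right.2 le_sup_right, Subgroup.map_sup, QuotientGroup.map_mk'_self, sup_bot_eq] at h2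
      have h3 := card_eq_inf_mul_image (N := K') P
      rw [hdisj, Subgroup.card_bot, one_mul] at h3
      have h4 := ((P.subgroupOf (P ⊔ K'))).card_mul_index
      rw [Nat.card_congr (Subgroup.subgroupOfEquivOfLe le_sup_left).toEquiv, h2, ← h3, mul_comm (Nat.card K')] at h4
      have h5 := Nat.eq_of_mul_eq_mul_left Nat.card_pos h4
      rw [h5] at hd
      exact hK' hd
    have hQp : IsPGroup p (Q.subgroupOf L) := hQ.comap_subtype
    let S₁ : Sylow p L := hPp.toSylow hPcard
    let S₂ : Sylow p L := hQp.toSylow hQS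
    obtain ⟨l, hl⟩ := MulAction.exists_smul_eq L S₁ S₂
    have := isDefectGroup_map_conj hP l
    have he : P.map (MulAut.conj l).toMonoidHom = Q.subgroupOf L := by
      rw [show Q.subgroupOf L = ((S₂ : Sylow p L) : Subgroup L) from (IsPGroup.toSylow_coe hQp hQS).symm, ← hl]
      rfl
    rwa [he] at this
  have hstc : ∀ g : G, conjBlk (mem_normalizer_of_normal (N := L) g) c = c := by
    intro g
    obtain ⟨η, hη, hη'⟩ := hcc
    refine covers_unique hM ⟨k, hk⟩ (isPBlock_conjBlk _ hc) hc hb'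
      ⟨conjIrr (mem_normalizer_of_normal g) η, (mem_conjBlk_iff _ c η).2 hη, (hres' _).2 ?_⟩ ⟨η, hη, hη'⟩
    have h1 := (hres' η).1 hη'
    rw [← h1]
    refine congrArg (resC M) ?_
    rw [omega_eq_sum, omega_eq_sum]
    simp only [coeff_resH, conjIrr_apply]
    rw [show normConj (mem_normalizer_of_normal (N := L) g) 1 = 1 from map_one _]
    congr 1
    refine Fintype.sum_equiv (normConj (mem_normalizer_of_normal (N := L) g)).toEquiv _ _ fun l => ?_
    show _ = (embH K (blockIdem {θ})).coeff ((normConj (mem_normalizer_of_normal (N := L) g) l : L) : G) * _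
    rw [coe_normConj]
    have hcen : IsCentralElt (embH K (blockIdem {θ})) :=
      (blockOrbit_of_stable hθb hstK) ▸ (cl_blockOrbit {θ}).1
    have h2 := hcen (l : G) g⁻¹
    simp only [inv_inv] at h2
    rw [← h2]
    rfl
  have hcov : ∀ {B : Set (IrrCharacter G)}, Covers B {θ} → Covers B c := by
    rintro B ⟨χ, hχ, hχθ⟩
    obtain ⟨η, hη⟩ := exists_constituent' (N := L) χ
    have h1 := (hres χ).1 hχθ
    have hF : CL M (embH K (blockIdem {θ})) := (blockOrbit_of_stable hθb hstK) ▸ cl_blockOrbit {θ}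
    have hs : InCoset L 1 (embH K (blockIdem {θ})) := fun x hx =>
      coeff_embH_of_notMem _ _ fun h => hx ((QuotientGroup.eq_one_iff x).2 (hKL h))
    rw [ro, omega_eq_of_constituent χ η hη hF.1 hs] at h1
    obtain ⟨φ, hφ, hne⟩ := (hres' η).2 h1
    refine ⟨χ, hχ, η, ?_, hη⟩
    have := covers_unique hM ⟨k, hk⟩ hc (isPBlock_blockOf η) hb' hcc ⟨η, self_mem_blockOf η, φ, hφ, hne⟩
    rw [this]
    exact self_mem_blockOf η
  exact eq_of_covers_core hM hc hstc hQL hQc hCQ hB hB' (hcov hcB) (hcov hcB')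

/-- The block over an invariant character of a normal `p'`-subgroup. -/
theorem block_over_invariant (hM : IsPModular p M) (hK : ¬ p ∣ Nat.card K) {θ : IrrCharacter K}
    (hinv : ∀ (g : G) (k : K), (θ : K → ℂ) ⟨g * k * g⁻¹, hKn.conj_mem k k.2 g⟩ = (θ : K → ℂ) k)
    (huniq : ∀ {B B' : Set (IrrCharacter G)}, IsPBlock M B → IsPBlock M B' →
      Covers B ({θ} : Set (IrrCharacter K)) → Covers B' ({θ} : Set (IrrCharacter K)) → B = B') :
    ∃ B : Set (IrrCharacter G), IsPBlock M B ∧
      (∀ χ : IrrCharacter G, χ ∈ B ↔ classInner (fun k : K => (χ : G → ℂ) k) (θ : K → ℂ) ≠ 0) ∧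
      (∀ S : Sylow p G, IsDefectGroup p M B (S : Subgroup G)) ∧
      (∀ D : Subgroup G, IsDefectGroup p M B D → ∃ S : Sylow p G, D = (S : Subgroup G)) ∧
      blockIdem B = embH K (blockIdem {θ}) := by
  classical
  have hθb := isPBlock_singleton_of_coprime hM hK θ
  have hstK := conjBlk_singleton_of_invariant hinv
  obtain ⟨χ₀, hχ₀⟩ := exists_above_char (G := G) θ
  have hc₀ : Covers (blockOf M (χ₀ : G → ℂ)) ({θ} : Set (IrrCharacter K)) :=
    ⟨χ₀, self_mem_blockOf χ₀, θ, rfl, hχ₀⟩
  set B := blockOf M (χ₀ : G → ℂ) with hBdef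
  have hB : IsPBlock M B := isPBlock_blockOf χ₀
  have hmem : ∀ χ : IrrCharacter G, χ ∈ B ↔ classInner (fun k : K => (χ : G → ℂ) k) (θ : K → ℂ) ≠ 0 := by
    intro χ
    constructor
    · intro hχ
      have h1 : ro M χ (blockOrbit M ({θ} : Set (IrrCharacter K))) = 1 := by
        rw [ro, omega_blockOrbit_eq_one hB hθb hc₀ hχ, resC_one]
      obtain ⟨φ, hφ, hne⟩ := (exists_constituent_iff (M := M) hθb χ).2 h1
      rwa [Set.mem_singleton_iff.1 hφ] at hne
    · intro hne
      rw [huniq hB (isPBlock_blockOf χ) hc₀ ⟨χ, self_mem_blockOf χ, θ, rfl, hne⟩]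
      exact self_mem_blockOf χ
  have hidem : blockIdem B = embH K (blockIdem {θ}) := by
    rw [← blockOrbit_of_stable hθb hstK]
    refine eq_of_omega_eq (isCentralElt_blockIdem B) (cl_blockOrbit _).1 fun χ => ?_
    rw [omega_blockIdem]
    split
    next h => rw [omega_blockOrbit_eq_one hB hθb hc₀ h]
    next h =>
      rcases omega_blockOrbit_zero_or_one (M := M) ({θ} : Set (IrrCharacter K)) χ with h1 | h1
      · rw [h1]
      · obtain ⟨φ, hφ, hne⟩ := (exists_constituent_iff (M := M) hθb χ).2 (by rw [ro, h1, resC_one])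
        rw [Set.mem_singleton_iff.1 hφ] at hne
        exact absurd ((hmem χ).2 hne) h
  have hsyl : ∀ D : Subgroup G, IsDefectGroup p M B D → ∀ S : Sylow p G, Nat.card (S : Subgroup G) ≤ Nat.card D := by
    intro D hD S
    obtain ⟨B₁, P, hB₁, hc₁, hP, hle⟩ := exists_covers_card_ge hM S.isPGroup' hθb fun t _ => hstK t
    obtain rfl := huniq hB₁ hB hc₁ hc₀
    obtain ⟨x, rfl⟩ := isDefectGroup_conj hM hB hP hD
    rw [card_map_conj]
    have h1 := card_eq_inf_mul_image (N := K) (S : Subgroup G)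
    rw [Solv.inf_eq_bot_of_coprime_card _ _ (Solv.coprime_card_of_isPGroup S.isPGroup'
      ((Nat.Prime.coprime_iff_not_dvd hM.1).2 hK).symm), Subgroup.card_bot, one_mul] at h1
    rw [h1, card_eq_inf_mul_image (N := K) P]
    exact hle.trans (Nat.le_mul_of_pos_left _ Nat.card_pos)
  have hall : ∀ D : Subgroup G, IsDefectGroup p M B D → ∃ S : Sylow p G, D = (S : Subgroup G) := by
    intro D hD
    obtain ⟨S, hS⟩ := (isPGroup_of_isDefectGroup hD).exists_le_sylow
    exact ⟨S, Subgroup.eq_of_le_of_card_ge hS (hsyl D hD S)⟩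
  refine ⟨B, hB, hmem, fun S => ?_, hall, hidem⟩
  obtain ⟨D, hD⟩ := exists_isDefectGroup (p := p) hB
  obtain ⟨S₀, rfl⟩ := hall D hD
  obtain ⟨x, hx⟩ := MulAction.exists_smul_eq G S₀ S
  have := isDefectGroup_map_conj hD x
  rw [← hx]
  exact this

end OverPrime

end Cfsg.Agent.Block
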