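import Cfsg.Agent.Lib.Block.Brauer
import Cfsg.Agent.Lib.Block.Vanish

/-!
# Brauer's second main theorem
-/

set_option autoImplicit false

open Cfsg.Agent.Char
open scoped ComplexConjugate

namespace Cfsg.Agent.Block

universe u

variable {G : Type u} [Group G] [Finite G] {M : Ideal AlgInt} {p : ℕ}

/-- An element of the group algebra of a subgroup, viewed in the whole group. -/
noncomputable def embH (H : Subgroup G) (a : MonoidAlgebra ℂ H) : MonoidAlgebra ℂ G :=
  MonoidAlgebra.mapDomainRingHom ℂ H.subtype a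

theorem coeff_embH (H : Subgroup G) (a : MonoidAlgebra ℂ H) (h : H) :
    (embH H a).coeff (h : G) = a.coeff h := by
  simp only [embH, MonoidAlgebra.mapDomainRingHom_apply, MonoidAlgebra.coeff_mapDomain]
  exact Finsupp.mapDomain_apply H.subtype_injective _ _

theorem coeff_embH_of_notMem (H : Subgroup G) (a : MonoidAlgebra ℂ H) {g : G} (hg : g ∉ H) :
    (embH H a).coeff g = 0 := by
  simp only [embH, MonoidAlgebra.mapDomainRingHom_apply, MonoidAlgebra.coeff_mapDomain]
  exact Finsupp.mapDomain_notin_range _ _ fun ⟨h, hh⟩ => hg (hh ▸ h.2)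

theorem isLocElt_embH [M.IsPrime] (H : Subgroup G) {a : MonoidAlgebra ℂ H} (ha : IsLocElt M a) :
    IsLocElt M (embH H a) := fun g => by
  rw [← mem_locRing]
  by_cases hg : g ∈ H
  · rw [show g = ((⟨g, hg⟩ : H) : G) from rfl, coeff_embH]; exact ha _
  · rw [coeff_embH_of_notMem H a hg]; exact zero_mem _

theorem embH_mul (H : Subgroup G) (a b : MonoidAlgebra ℂ H) :
    embH H (a * b) = embH H a * embH H b := map_mul _ a b

theorem commute_embH_single (H : Subgroup G) {a : MonoidAlgebra ℂ H} (ha : IsCentralElt a) {g : G}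
    (hg : g ∈ H) : Commute (embH H a) (MonoidAlgebra.single g (1 : ℂ)) := by
  have h := (ha.commute (MonoidAlgebra.single ⟨g, hg⟩ (1 : ℂ))).map (MonoidAlgebra.mapDomainRingHom ℂ H.subtype)
  simpa [embH] using h

/-- The trace of a product with a central element. -/
theorem sum_mul_central_apply [Fintype G] (χ : IrrCharacter G) (x : MonoidAlgebra ℂ G)
    {a : MonoidAlgebra ℂ G} (ha : IsCentralElt a) (t : G) :
    ∑ g, (x * a).coeff g * (χ : G → ℂ) (g * t) =
      omega (χ : G → ℂ) a * ∑ g, x.coeff g * (χ : G → ℂ) (g * t) := by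
  obtain ⟨n, ρ, hρ, hχ⟩ := χ.2
  rw [← hχ]
  have key : ∀ b : MonoidAlgebra ℂ G, LinearMap.trace ℂ _ (ρ.asAlgebraHom b * ρ t) =
      ∑ g, b.coeff g * ρ.character (g * t) := fun b => by
    rw [Representation.asAlgebraHom_def, MonoidAlgebra.lift_apply, Finsupp.sum_fintype _ _ (by simp),
      Finset.sum_mul, map_sum]
    refine Finset.sum_congr rfl fun g _ => ?_
    rw [smul_mul_assoc, map_smul, ← map_mul]; rfl
  rw [← key, ← key, map_mul ρ.asAlgebraHom, asAlgebraHom_central ρ hρ ha, mul_smul_comm, mul_one, smul_mul_assoc,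
    map_smul, smul_eq_mul]

theorem sum_embH_mul [Fintype G] (H : Subgroup G) [Fintype H] (a : MonoidAlgebra ℂ H) (f : G → ℂ) :
    ∑ g, (embH H a).coeff g * f g = ∑ h : H, a.coeff h * f h := by
  classical
  rw [← Finset.sum_subset (Finset.subset_univ (Finset.univ.filter (· ∈ H))) fun g _ hg => by
    rw [coeff_embH_of_notMem H a (fun h => hg (by simp [h])), zero_mul]]
  refine (Finset.sum_bij (fun (h : H) _ => (h : G)) (fun h _ => by simp) (fun a _ b _ h => Subtype.ext h)
    (fun g hg => ⟨⟨g, (Finset.mem_filter.1 hg).2⟩, Finset.mem_univ _, rfl⟩) fun h _ => ?_).symm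
  rw [coeff_embH]

/-- The second main theorem in idempotent form. -/
theorem secondMain (hM : IsPModular p M) {H : Subgroup G} [Fintype H] {z u : G}
    (hz : ∃ k : ℕ, orderOf z = p ^ k) (hC : Subgroup.centralizer ({z} : Set G) ≤ H)
    (hu : u ∈ H) (huz : Commute u z) (hur : ¬ p ∣ orderOf u)
    {b : Set (IrrCharacter H)} {B : Set (IrrCharacter G)} (hind : IsInducedBlock M H b B)
    {χ : IrrCharacter G} (hχ : χ ∉ B) :
    ∑ k : H, blockCoeff b k * (χ : G → ℂ) ((k : G) * (z * u)) = 0 := by
  classical
  haveI := Fact.mk hM.1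
  haveI := prime_of_isPModular hM
  haveI := Fintype.ofFinite G
  set P := Subgroup.zpowers z with hPdef
  obtain ⟨k, hk⟩ := hz
  have hP : IsPGroup p P := IsPGroup.of_card (n := k) (by rw [hPdef, Nat.card_zpowers, hk])
  have hCP : Subgroup.centralizer (P : Set G) = Subgroup.centralizer ({z} : Set G) := by
    ext x
    rw [mem_centralizer_subgroup, mem_centralizer_singleton, hPdef, Subgroup.zpowers_le,
      mem_centralizer_singleton]
    exact ⟨Commute.symm, Commute.symm⟩
  have hzH : z ∈ H := hC (mem_centralizer_singleton.2 (Commute.refl z))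
  have hPH : P ≤ H := Subgroup.zpowers_le.2 hzH
  have hCH : Subgroup.centralizer (P : Set G) ≤ H := hCP ▸ hC
  set eB := blockIdem B with heB
  have heBc := isCentralElt_blockIdem B
  have heBl := isLocElt_blockIdem hind.2.1
  set r := resH H eB with hr
  have hrc := isCentralElt_resH H heBc
  have hrl := isLocElt_resH H heBl
  set eb := blockIdem b with heb
  have hebc := isCentralElt_blockIdem b
  have hebl := isLocElt_blockIdem hind.1
  have hebr := hebc.mul hrc
  have hunit : ∀ ξ ∈ b, ¬ MemLocalIdeal M (omega (ξ : H → ℂ) (eb * r)) := by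
    intro ξ hξ
    rw [omega_mul ξ hebc hrc, omega_blockIdem, if_pos hξ, one_mul]
    obtain ⟨φ, hφ⟩ := isPBlock_nonempty hind.2.1
    have h := induced_congr hM hind (a := fun g => eB.coeff g) heBc heBl hξ hφ
    have e1 : mkA (fun g => eB.coeff g) = eB := MonoidAlgebra.ext (Finsupp.ext fun g => by simp)
    rw [e1, heB, omega_blockIdem, if_pos hφ] at h
    rw [omega_eq_sum]
    simpa [hr, heB] using not_memLocalIdeal_congr h not_memLocalIdeal_one
  have hPr : ∃ w : MonoidAlgebra ℂ H, IsCentralElt w ∧ IsLocElt M w ∧ eb = w * (eb * r) :=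
    blockIdem_induction hind.1
      (fun a => ∃ w : MonoidAlgebra ℂ H, IsCentralElt w ∧ IsLocElt M w ∧ a = w * (eb * r))
      ⟨0, IsCentralElt.zero, IsLocElt.zero, (zero_mul _).symm⟩
      (fun a c ⟨w, hw, hwl, e1⟩ ⟨w', hw', hwl', e2⟩ =>
        ⟨w + w', hw.add hw', hwl.add hwl', by rw [e1, e2, add_mul]⟩)
      (fun c a hc ⟨w, hw, hwl, e1⟩ => ⟨c • w, hw.smul c, hwl.smul hc, by rw [e1, smul_mul_assoc]⟩)
      (fun a c ⟨w, hw, hwl, e1⟩ hc hcl => ⟨c * w, hc.mul hw, hcl.mul hwl, by rw [e1, mul_assoc]⟩)
      (fun a ⟨w, hw, hwl, e1⟩ => e1 ▸ ⟨hw.mul hebr, hwl.mul (hebl.mul hrl)⟩)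
      ⟨1, IsCentralElt.one, IsLocElt.one, (one_mul _).symm⟩ hunit
  obtain ⟨w, hw, hwl, hweq⟩ := hPr
  have hsub : IsCentralElt (r - r * r) := hrc.sub (hrc.mul hrc)
  have hnull : BrauerNull M P (eb * (1 - r)) := by
    have h1 : BrauerNull M P (r - r * r) := by
      have h2 := brauerNull_resH_mul hM hP hPH hCH heBc heBl heBc heBl
      rwa [blockIdem_mul_self] at h2
    have h3 : eb * (1 - r) = (w * eb) * (r - r * r) := by
      conv_lhs => rw [hweq]
      rw [mul_assoc, mul_assoc eb r, mul_sub, mul_one, mul_assoc w eb]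
    rw [h3]
    exact brauerNull_mul_left hM hP hPH hsub (hrl.sub (hrl.mul hrl)) (hw.mul hebc) (hwl.mul hebl) h1
  set e := embH H eb * (1 - eB)
  have h1B : IsCentralElt (1 - eB) := IsCentralElt.one.sub heBc
  have he : e * e = e := by
    show (embH H eb * (1 - eB)) * (embH H eb * (1 - eB)) = _
    have hc1 := h1B.commute (embH H eb)
    calc (embH H eb * (1 - eB)) * (embH H eb * (1 - eB))
        = embH H eb * ((1 - eB) * embH H eb) * (1 - eB) := by noncomm_ring
      _ = (embH H eb * embH H eb) * ((1 - eB) * (1 - eB)) := by rw [hc1.eq]; noncomm_ring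
      _ = embH H eb * (1 - eB) := by
          rw [← embH_mul, heb, blockIdem_mul_self]
          congr 1
          rw [mul_sub, sub_mul, sub_mul, one_mul, one_mul, mul_one, heB, blockIdem_mul_self, sub_self,
            sub_zero]
  have hl : IsLocElt M e := (isLocElt_embH H hebl).mul (IsLocElt.one.sub heBl)
  have hbr : ∀ g, Commute z g → MemLocalIdeal M (e.coeff g) := by
    intro g hg
    have hgH : g ∈ H := hC (mem_centralizer_singleton.2 hg)
    have hgC : g ∈ Subgroup.centralizer (P : Set G) := hCP ▸ mem_centralizer_singleton.2 hg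
    have hEinv : ∀ q ∈ P, ∀ x, (embH H eb).coeff (q * x * q⁻¹) = (embH H eb).coeff x := by
      intro q hq x
      have h2 := congrArg (fun a => a.coeff (q * x)) (commute_embH_single H hebc (hPH hq)).eq
      simpa [MonoidAlgebra.coeff_mul_single_apply, MonoidAlgebra.coeff_single_mul_apply] using h2
    have hA := brauer_mul_congr hM.1 hM.2.2 P hP (isLocElt_embH H hebl) (IsLocElt.one.sub heBl) hEinv
      (fun q _ x => h1B x q) hgC
    have hB' := brauer_mul_congr hM.1 hM.2.2 (P.subgroupOf H)
      (hP.of_equiv (Subgroup.subgroupOfEquivOfLe hPH).symm) hebl (IsLocElt.one.sub hrl)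
      (fun q _ x => hebc x q) (fun q _ x => (IsCentralElt.one.sub hrc) x q) (g := ⟨g, hgH⟩)
      ((mem_centralizer_subgroupOf hPH _).2 hgC)
    have hn : MemLocalIdeal M ((eb * (1 - r)).coeff ⟨g, hgH⟩) := hnull ⟨g, hgH⟩ hgC
    have heq : (∑ h : G, if h ∈ Subgroup.centralizer (P : Set G) then
          (embH H eb).coeff h * (1 - eB).coeff (h⁻¹ * g) else 0) =
        ∑ h : H, if h ∈ Subgroup.centralizer ((P.subgroupOf H : Subgroup H) : Set H) then
          eb.coeff h * (1 - r).coeff (h⁻¹ * ⟨g, hgH⟩) else 0 := by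
      rw [← Finset.sum_filter, ← Finset.sum_filter]
      refine Eq.symm (Finset.sum_bij (fun x _ => (x : G)) (fun x hx => ?_) (fun x _ y _ h => Subtype.ext h)
        (fun x hx => ?_) fun x _ => ?_)
      · simp only [Finset.mem_filter, Finset.mem_univ, true_and] at hx ⊢
        exact (mem_centralizer_subgroupOf hPH x).1 hx
      · simp only [Finset.mem_filter, Finset.mem_univ, true_and] at hx
        exact ⟨⟨x, hCH hx⟩, Finset.mem_filter.2 ⟨Finset.mem_univ _,
          (mem_centralizer_subgroupOf hPH ⟨x, hCH hx⟩).2 hx⟩, rfl⟩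
      · rw [coeff_embH]
        congr 1
        simp [hr, MonoidAlgebra.one_def, Finsupp.single_apply, Subtype.ext_iff]
    rw [heq] at hA
    have hfin := memLocalIdeal_add (memLocalIdeal_sub hA hB') hn
    convert hfin using 1
    ring
  have hcz := (commute_embH_single H hebc hzH).mul_left (h1B.commute _)
  have hcu := (commute_embH_single H hebc hu).mul_left (h1B.commute _)
  have h := sum_mul_classFunction_eq_zero hM ⟨k, hk⟩ hl he hcz hbr huz hur hcu
    (IsCharacter.isClassFunction (IsIrrCharacter.isCharacter χ.2))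
  rw [sum_mul_central_apply χ _ h1B (z * u), omega_sub, omega_one (IsIrrCharacter.apply_one_ne_zero χ.2),
    heB, omega_blockIdem, if_neg hχ, sub_zero, one_mul, sum_embH_mul] at h
  simpa [heb, blockIdem] using h

/-- The block part at an element through the idempotent. -/
theorem blockPart_eq_convolution [Fintype G] (B : Set (IrrCharacter G)) {θ : G → ℂ}
    (hθ : IsClassFunction G θ) (y : G) :
    blockPart B θ y = ∑ k, blockCoeff B k * θ (k * y) := by
  classical
  haveI := Fintype.ofFinite (IrrCharacter G)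
  have hχ : ∀ χ : IrrCharacter G, ∑ k, blockCoeff B k * (χ : G → ℂ) (k * y) =
      if χ ∈ B then (χ : G → ℂ) y else 0 := by
    intro χ
    have h := sum_mul_central_apply χ 1 (isCentralElt_blockIdem B) y
    rw [one_mul, omega_blockIdem] at h
    simp only [blockIdem, coeff_mkA] at h
    rw [h, Finset.sum_eq_single (1 : G)]
    · split <;> simp [MonoidAlgebra.one_def]
    · intro g _ hg; simp [MonoidAlgebra.one_def, Finsupp.single_apply, Ne.symm hg]
    · simp
  conv_rhs => rw [IsClassFunction.eq_sum hθ]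
  simp only [Finset.sum_apply, Pi.smul_apply, smul_eq_mul, Finset.mul_sum]
  rw [Finset.sum_comm]
  simp only [mul_left_comm (blockCoeff B _), ← Finset.mul_sum, hχ]
  rw [blockPart, finsum_mem_eq_finite_toFinset_sum _ B.toFinite]
  simp only [mul_ite, mul_zero]
  rw [← Finset.sum_filter]
  refine Finset.sum_congr (Finset.ext fun χ => by simp) fun χ _ => ?_
  congr 2
  exact Subsingleton.elim _ _

theorem blockPart_univ [Fintype G] {θ : G → ℂ} (hθ : IsClassFunction G θ) (y : G) :
    blockPart (Set.univ : Set (IrrCharacter G)) θ y = θ y := by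
  classical
  rw [blockPart_eq_convolution _ hθ, Finset.sum_eq_single (1 : G)]
  · have h := congrArg (fun a => a.coeff (1 : G)) (blockIdem_univ (G := G))
    simp only [blockIdem, coeff_mkA, MonoidAlgebra.one_def, MonoidAlgebra.coeff_single,
      Finsupp.single_eq_same] at h
    rw [h, one_mul, one_mul]
  · intro g _ hg
    have h := congrArg (fun a => a.coeff g) (blockIdem_univ (G := G))
    simp only [blockIdem, coeff_mkA, MonoidAlgebra.one_def, MonoidAlgebra.coeff_single,
      Finsupp.single_apply, if_neg (Ne.symm hg)] at h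
    rw [h, zero_mul]
  · simp

/-- All blocks of a group. -/
noncomputable def pBlocks (M : Ideal AlgInt) (G : Type u) [Group G] [Finite G] :
    Finset (Set (IrrCharacter G)) :=
  (Set.toFinite {B : Set (IrrCharacter G) | IsPBlock M B}).toFinset

theorem mem_pBlocks {B : Set (IrrCharacter G)} : B ∈ pBlocks M G ↔ IsPBlock M B :=
  Set.Finite.mem_toFinset _

theorem sum_pBlocks_blockPart [M.IsPrime] [Fintype G] {θ : G → ℂ} (hθ : IsClassFunction G θ) (y : G) :
    ∑ B ∈ pBlocks M G, blockPart B θ y = θ y := by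
  classical
  haveI := Fintype.ofFinite (IrrCharacter G)
  refine Eq.trans ?_ (blockPart_univ hθ y)
  simp only [blockPart, finsum_mem_eq_finite_toFinset_sum _ (Set.toFinite _)]
  rw [← Finset.sum_biUnion]
  · refine Finset.sum_congr (Finset.ext fun χ => ?_) fun _ _ => rfl
    simp only [Finset.mem_biUnion, Set.Finite.mem_toFinset, Set.mem_univ, iff_true]
    exact ⟨_, mem_pBlocks.2 (isPBlock_blockOf χ), self_mem_blockOf χ⟩
  · intro B hB B' hB' hne
    refine Finset.disjoint_left.2 fun χ hχ hχ' => hne ?_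
    simp only [Set.Finite.mem_toFinset] at hχ hχ'
    exact isPBlock_eq_of_mem (mem_pBlocks.1 hB) (mem_pBlocks.1 hB') hχ hχ'

/-- The blocks of the centraliser inducing a given block. -/
noncomputable def localBlocks (M : Ideal AlgInt) (z : G) (B : Set (IrrCharacter G)) :
    Finset (Set (IrrCharacter (Subgroup.centralizer ({z} : Set G)))) :=
  (Set.toFinite {b : Set (IrrCharacter (Subgroup.centralizer ({z} : Set G))) |
    IsInducedBlock M (Subgroup.centralizer ({z} : Set G)) b B}).toFinset

theorem mem_localBlocks {z : G} {B : Set (IrrCharacter G)}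
    {b : Set (IrrCharacter (Subgroup.centralizer ({z} : Set G)))} :
    b ∈ localBlocks M z B ↔ IsInducedBlock M (Subgroup.centralizer ({z} : Set G)) b B :=
  Set.Finite.mem_toFinset _

theorem isClassFunction_translate {z : G} {θ : G → ℂ} (hθ : IsClassFunction G θ) :
    IsClassFunction (Subgroup.centralizer ({z} : Set G))
      (fun c : Subgroup.centralizer ({z} : Set G) => θ (z * (c : G))) := fun c h => by
  show θ (z * ((h : G) * (c : G) * (h : G)⁻¹)) = θ (z * (c : G))
  have hh : Commute z (h : G) := mem_centralizer_singleton.1 h.2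
  rw [← hθ (z * (c : G)) (h : G)]
  congr 1
  rw [← mul_assoc, ← mul_assoc, hh.eq]; group

theorem inducedBlockDefined_centralizer (hM : IsPModular p M) {z : G} (hz : ∃ k : ℕ, orderOf z = p ^ k)
    {b : Set (IrrCharacter (Subgroup.centralizer ({z} : Set G)))} (hb : IsPBlock M b) :
    InducedBlockDefined M (Subgroup.centralizer ({z} : Set G)) b := by
  haveI := Fact.mk hM.1
  obtain ⟨k, hk⟩ := hz
  have h : Subgroup.centralizer ((Subgroup.zpowers z : Subgroup G) : Set G) =
      Subgroup.centralizer ({z} : Set G) := by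
    ext x
    rw [mem_centralizer_subgroup, Subgroup.zpowers_le, mem_centralizer_singleton,
      mem_centralizer_singleton]
    exact ⟨Commute.symm, Commute.symm⟩
  refine inducedBlockDefined_local hM (P := Subgroup.zpowers z)
    (IsPGroup.of_card (n := k) (by rw [Nat.card_zpowers, hk])) ?_ h.le ?_ hb
  · exact Subgroup.zpowers_le.2 (mem_centralizer_singleton.2 (Commute.refl z))
  · rw [← h]; exact Subgroup.centralizer_le_normalizer _

/-- The second main theorem: local block parts of a character vanish outside its block. -/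
theorem blockPart_translate_eq_zero (hM : IsPModular p M) {z : G} (hz : ∃ k : ℕ, orderOf z = p ^ k)
    {B : Set (IrrCharacter G)} (hB : IsPBlock M B) {χ : IrrCharacter G} (hχ : χ ∈ B)
    {b : Set (IrrCharacter (Subgroup.centralizer ({z} : Set G)))} (hb : IsPBlock M b)
    (hnot : ¬ IsInducedBlock M (Subgroup.centralizer ({z} : Set G)) b B)
    {y : Subgroup.centralizer ({z} : Set G)} (hy : ¬ p ∣ orderOf y) :
    blockPart b (fun c : Subgroup.centralizer ({z} : Set G) => (χ : G → ℂ) (z * (c : G))) y = 0 := by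
  haveI := prime_of_isPModular hM
  haveI := Fintype.ofFinite (Subgroup.centralizer ({z} : Set G))
  obtain ⟨B', hB'⟩ := inducedBlockDefined_centralizer hM hz hb
  have hne : χ ∉ B' := fun h => hnot (isPBlock_eq_of_mem hB'.2.1 hB h hχ ▸ hB')
  have hyz : Commute (y : G) z := (mem_centralizer_singleton.1 y.2).symm
  rw [blockPart_eq_convolution b
    (isClassFunction_translate (IsCharacter.isClassFunction (IsIrrCharacter.isCharacter χ.2)))]
  refine Eq.trans (Finset.sum_congr rfl fun k _ => ?_)
    (secondMain hM hz le_rfl y.2 hyz (by rwa [Subgroup.orderOf_coe]) hB' hne)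
  rw [Subgroup.coe_mul, ← mul_assoc, ← mul_assoc, (mem_centralizer_singleton.1 k.2).eq]

/-- Decomposition of a block part on a section into local block parts. -/
theorem blockPart_mul_eq_sum_local (hM : IsPModular p M) {z : G} (hz : ∃ k : ℕ, orderOf z = p ^ k)
    {B : Set (IrrCharacter G)} (hB : IsPBlock M B) {θ : G → ℂ} (hθ : IsClassFunction G θ)
    {y : Subgroup.centralizer ({z} : Set G)} (hy : ¬ p ∣ orderOf y) :
    blockPart B θ (z * (y : G)) = ∑ b ∈ localBlocks M z B,
      blockPart b (fun c : Subgroup.centralizer ({z} : Set G) => θ (z * (c : G))) y := by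
  classical
  haveI := prime_of_isPModular hM
  haveI := Fintype.ofFinite G
  haveI := Fintype.ofFinite (IrrCharacter G)
  haveI := Fintype.ofFinite (Subgroup.centralizer ({z} : Set G))
  have hχ : ∀ χ : IrrCharacter G,
      ∑ b ∈ localBlocks M z B, blockPart b (fun c : (Subgroup.centralizer ({z} : Set G)) => (χ : G → ℂ) (z * (c : G))) y =
        if χ ∈ B then (χ : G → ℂ) (z * (y : G)) else 0 := by
    intro χ
    split
    next h =>
      refine Eq.trans ?_ (sum_pBlocks_blockPart (M := M)
        (isClassFunction_translate (IsCharacter.isClassFunction (IsIrrCharacter.isCharacter χ.2))) y)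
      refine Finset.sum_subset (fun b hb => mem_pBlocks.2 (mem_localBlocks.1 hb).1) fun b hb hb' => ?_
      exact blockPart_translate_eq_zero hM hz hB h (mem_pBlocks.1 hb)
        (fun h' => hb' (mem_localBlocks.2 h')) hy
    next h =>
      refine Finset.sum_eq_zero fun b hb => ?_
      have hb' := mem_localBlocks.1 hb
      refine blockPart_translate_eq_zero hM hz (isPBlock_blockOf χ) (self_mem_blockOf χ) hb'.1 ?_ hy
      intro hind
      obtain ⟨ξ, hξ⟩ := isPBlock_nonempty hb'.1
      obtain ⟨φ, hφ⟩ := isPBlock_nonempty hB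
      apply h
      rw [isPBlock_mem_iff hB hφ]
      intro g
      simpa using memLocalIdeal_sub (hind.2.2 ξ hξ χ (self_mem_blockOf χ) g) (hb'.2.2 ξ hξ φ hφ g)
  have hlin : ∀ b : Set (IrrCharacter (Subgroup.centralizer ({z} : Set G))), blockPart b (fun c : (Subgroup.centralizer ({z} : Set G)) => θ (z * (c : G))) y =
      ∑ χ : IrrCharacter G, classInner θ (χ : G → ℂ) *
        blockPart b (fun c : (Subgroup.centralizer ({z} : Set G)) => (χ : G → ℂ) (z * (c : G))) y := by
    intro b
    simp only [blockPart_eq_sum, Finset.mul_sum]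
    rw [Finset.sum_comm]
    refine Finset.sum_congr rfl fun c _ => ?_
    conv_lhs => rw [IsClassFunction.eq_sum hθ]
    simp only [Finset.sum_apply, Pi.smul_apply, smul_eq_mul, Finset.sum_mul, Finset.mul_sum]
    exact Finset.sum_congr rfl fun χ _ => by ring
  rw [Finset.sum_congr rfl fun b _ => hlin b, Finset.sum_comm]
  simp only [← Finset.mul_sum, hχ, mul_ite, mul_zero]
  rw [blockPart, finsum_mem_eq_finite_toFinset_sum _ B.toFinite, ← Finset.sum_filter]
  refine Finset.sum_congr (Finset.ext fun χ => by simp) fun χ _ => ?_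
  congr 2
  exact Subsingleton.elim _ _

theorem isDefectGroup_map_conj [Fact p.Prime] {B : Set (IrrCharacter G)} {D : Subgroup G}
    (hD : IsDefectGroup p M B D) (t : G) :
    IsDefectGroup p M B (D.map (MulAut.conj t).toMonoidHom) := by
  obtain ⟨g, hg, S, rfl⟩ := hD
  have hc : IsConj g (t * g * t⁻¹) := isConj_iff.2 ⟨t, rfl⟩
  have hco : blockCoeff B (t * g * t⁻¹) = blockCoeff B g := by
    simpa [blockIdem] using isCentralElt_blockIdem B g t
  refine ⟨t * g * t⁻¹, ⟨hco ▸ hg.1, hco ▸ hg.2.1, fun χ hχ => ?_⟩, ?_⟩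
  · rw [← omega_classSum]
    have : classSum (t * g * t⁻¹) = classSum g := by
      classical
      refine MonoidAlgebra.ext (Finsupp.ext fun x => ?_)
      simp only [classSum, coeff_mkA]
      exact if_congr ⟨fun h => hc.trans h, fun h => hc.symm.trans h⟩ rfl rfl
    rw [this, omega_classSum]
    exact hg.2.2 χ hχ
  · have hle : (sylowImage S).map (MulAut.conj t).toMonoidHom ≤
        Subgroup.centralizer ({t * g * t⁻¹} : Set G) := map_conj_centralizer (sylowImage_le S) t
    obtain ⟨T, hT⟩ := (show IsPGroup p (((sylowImage S).map (MulAut.conj t).toMonoidHom).subgroupOf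
      (Subgroup.centralizer ({t * g * t⁻¹} : Set G))) from
        ((isPGroup_sylowImage S).map _).comap_subtype).exists_le_sylow
    refine ⟨T, Subgroup.eq_of_le_of_card_ge ?_ ?_⟩
    · intro x hx
      exact ⟨⟨x, hle hx⟩, hT hx, rfl⟩
    · obtain ⟨x, hx⟩ := defectLE_sylowImage S ((sylowImage T).map (MulAut.conj t⁻¹).toMonoidHom)
        ((isPGroup_sylowImage T).map _) (by
          have := map_conj_centralizer (sylowImage_le T) t⁻¹
          rwa [show t⁻¹ * (t * g * t⁻¹) * t⁻¹⁻¹ = g by group] at this)
      calc Nat.card (sylowImage T)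
          = Nat.card ((sylowImage T).map (MulAut.conj t⁻¹).toMonoidHom) := (card_map_conj _ _).symm
        _ = Nat.card (((sylowImage T).map (MulAut.conj t⁻¹).toMonoidHom).map (MulAut.conj x).toMonoidHom) :=
            (card_map_conj _ _).symm
        _ ≤ Nat.card (sylowImage S) := Subgroup.card_le_of_le hx
        _ = _ := (card_map_conj _ _).symm

/-- A character vanishes at elements whose `p`-part lies in no defect group of its block. -/
theorem apply_eq_zero_off_defect (hM : IsPModular p M) {χ : IrrCharacter G} {g x : G}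
    (hx : IsPPart p g x) (hD : ∀ D : Subgroup G, IsDefectGroup p M (blockOf M (χ : G → ℂ)) D → x ∉ D) :
    (χ : G → ℂ) g = 0 := by
  classical
  haveI := Fact.mk hM.1
  haveI := prime_of_isPModular hM
  haveI := Fintype.ofFinite G
  obtain ⟨y, hxy, hc, hxk, hy⟩ := hx
  set B := blockOf M (χ : G → ℂ)
  have hB : IsPBlock M B := isPBlock_blockOf χ
  obtain ⟨D, hDB⟩ := exists_isDefectGroup (p := p) hB
  have heBc := isCentralElt_blockIdem B
  have hbr : ∀ t, Commute x t → MemLocalIdeal M ((blockIdem B).coeff t) := by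
    intro t ht
    by_contra hu
    obtain ⟨k, hk⟩ := hxk
    obtain ⟨w, hw⟩ := defectLE_of_coeff_unit hM hB hDB (h := t) (by simpa [blockIdem] using hu)
      (Subgroup.zpowers x) (IsPGroup.of_card (n := k) (by rw [Nat.card_zpowers, hk]))
      (Subgroup.zpowers_le.2 (mem_centralizer_singleton.2 ht.symm))
    refine hD _ (isDefectGroup_map_conj hDB w⁻¹) ⟨w * x * w⁻¹, hw ⟨x, Subgroup.mem_zpowers x, rfl⟩, ?_⟩
    simp [mul_assoc]
  have h := sum_mul_classFunction_eq_zero hM hxk (isLocElt_blockIdem hB) (blockIdem_mul_self B)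
    (heBc.commute _) hbr hc.symm hy (heBc.commute _)
    (IsCharacter.isClassFunction (IsIrrCharacter.isCharacter χ.2))
  rw [hxy] at h
  have h2 := blockPart_eq_convolution B (IsCharacter.isClassFunction (IsIrrCharacter.isCharacter χ.2)) g
  simp only [blockIdem, coeff_mkA] at h
  rw [h] at h2
  rw [← h2, blockPart, finsum_mem_eq_finite_toFinset_sum _ B.toFinite, Finset.sum_eq_single χ]
  · refine (Eq.trans ?_ (one_mul _)).symm
    congr 1
    convert IsIrrCharacter.classInner_self χ.2
  · intro ψ _ hne
    refine mul_eq_zero_of_left ?_ _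
    convert IsIrrCharacter.classInner_eq_zero χ.2 ψ.2 fun e => hne (Subtype.ext e.symm)
  · intro h'; exact absurd (B.toFinite.mem_toFinset.2 (self_mem_blockOf χ)) h'

/-- Block parts respect sections. -/
theorem blockPart_eq_zero_of_section (hM : IsPModular p M) {θ : G → ℂ} (hθ : IsClassFunction G θ)
    {x : G} (hx : ∃ k : ℕ, orderOf x = p ^ k)
    (hzero : ∀ u z : G, IsPPart p u z → IsConj x z → θ u = 0)
    {B : Set (IrrCharacter G)} (hB : IsPBlock M B) {u z : G} (hu : IsPPart p u z) (hxz : IsConj x z) :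
    blockPart B θ u = 0 := by
  haveI := prime_of_isPModular hM
  obtain ⟨y, h1, h2, h3, h4⟩ := hu
  set C := Subgroup.centralizer ({z} : Set G)
  haveI := Fintype.ofFinite C
  rw [← h1, show y = (((⟨y, mem_centralizer_singleton.2 h2⟩ : C)) : G) from rfl,
    blockPart_mul_eq_sum_local hM h3 hB hθ (by rwa [Subgroup.orderOf_mk])]
  refine Finset.sum_eq_zero fun b hb => ?_
  have h5 := blockPart_regular (p := p) hM (mem_localBlocks.1 hb).1
    (fun c : C => θ (z * (c : G))) ⟨y, mem_centralizer_singleton.2 h2⟩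
  rw [Subgroup.orderOf_mk, if_neg h4] at h5
  rw [← h5, blockPart_eq_sum]
  refine mul_eq_zero_of_right _ (Finset.sum_eq_zero fun c _ => ?_)
  split
  · rw [zero_mul]
  next hc =>
    rw [hzero (z * (c : G)) z ⟨(c : G), rfl, mem_centralizer_singleton.1 c.2, h3,
      by rwa [Subgroup.orderOf_coe]⟩ hxz, zero_mul]

/-- Columns of different sections are orthogonal block by block. -/
theorem blockKernel_eq_zero_of_sections (hM : IsPModular p M) {g h x y : G} (hg : IsPPart p g x)
    (hh : IsPPart p h y) (hne : ¬ IsConj x y) {B : Set (IrrCharacter G)} (hB : IsPBlock M B) :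
    blockKernel B g h = 0 := by
  classical
  haveI := prime_of_isPModular hM
  haveI := Fintype.ofFinite G
  obtain ⟨y', hg1, hg2, hxk, hg4⟩ := hg
  have hcls : IsClassFunction G (fun v : G => if IsConj h v then (1 : ℂ) else 0) := fun a b => by
    have hab : IsConj (b * a * b⁻¹) a := (isConj_iff.2 ⟨b, rfl⟩).symm
    exact if_congr ⟨fun h' => h'.trans hab, fun h' => h'.trans hab.symm⟩ rfl rfl
  have h0 := blockPart_eq_zero_of_section hM hcls hxk (fun u z hu hxz => ?_) hB (u := g) (z := x)
    ⟨y', hg1, hg2, hxk, hg4⟩ (IsConj.refl x)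
  · rw [blockPart_eq_sum] at h0
    have hK : ∀ v, IsConj h v → blockKernel B g v = blockKernel B g h := fun v hv => by
      simp only [blockKernel]
      refine finsum_congr fun χ => finsum_congr fun _ => ?_
      rw [IsIrrCharacter.apply_isConj χ.2 hv]
    simp only [ite_mul, one_mul, zero_mul] at h0
    rw [← Finset.sum_filter, Finset.sum_congr rfl fun v hv => hK v (Finset.mem_filter.1 hv).2,
      Finset.sum_const, nsmul_eq_mul] at h0
    rcases mul_eq_zero.1 h0 with h' | h'
    · simp [Nat.card_eq_fintype_card] at h'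
    rcases mul_eq_zero.1 h' with h'' | h''
    · rw [Nat.cast_eq_zero, Finset.card_eq_zero] at h''
      exact absurd (Finset.mem_filter.2 ⟨Finset.mem_univ h, IsConj.refl h⟩)
        (Finset.eq_empty_iff_forall_notMem.1 h'' h)
    · exact h''
  · show (if IsConj h u then (1 : ℂ) else 0) = 0
    rw [if_neg]
    intro hhu
    obtain ⟨t, rfl⟩ := isConj_iff.1 hhu
    rw [isPPart_unique hM.1 hu (isPPart_conj hh t)] at hxz
    exact hne (hxz.trans (isConj_iff.2 ⟨t, rfl⟩).symm)

end Cfsg.Agent.Block
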