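import Cfsg.Agent.Lib.Block.BrauerHom
import Cfsg.Agent.Lib.Block.SecondMain

/-!
# Normal subgroups of order prime to p lie in the kernels of the principal block
-/

namespace Cfsg.Agent.Block

open Cfsg Cfsg.Agent.Char
open scoped Classical ComplexConjugate

set_option linter.style.haveILetI false

universe u

variable {G : Type u} [Group G] [Finite G] {p : ℕ} {M : Ideal AlgInt}

/-- A normal subgroup on which the sum of an irreducible character is non-zero lies in its kernel. -/
theorem apply_eq_one_of_sum_ne_zero [Fintype G] (N : Subgroup G) [N.Normal] (χ : IrrCharacter G)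
    (h : omega (χ : G → ℂ) (mkA fun g => if g ∈ N then (1 : ℂ) else 0) ≠ 0) {m : G} (hm : m ∈ N) :
    (χ : G → ℂ) m = (χ : G → ℂ) 1 := by
  set e := mkA (G := G) fun g => if g ∈ N then (1 : ℂ) else 0
  have hc : IsCentralElt e := fun x y => by
    simp only [e, coeff_mkA]
    exact if_congr ⟨fun hx => by
      have := Subgroup.Normal.conj_mem inferInstance _ hx y⁻¹
      simpa [mul_assoc] using this, fun hx => Subgroup.Normal.conj_mem inferInstance _ hx y⟩ rfl rfl
  have he : MonoidAlgebra.single m (1 : ℂ) * e = e := by
    ext g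
    rw [MonoidAlgebra.coeff_single_mul_apply, one_mul]
    simp only [e, coeff_mkA]
    exact if_congr ⟨fun hx => by simpa using N.mul_mem hm hx, fun hx => N.mul_mem (N.inv_mem hm) hx⟩ rfl rfl
  have h1 := sum_mul_central_apply χ (MonoidAlgebra.single m (1 : ℂ)) hc 1
  have h2 := sum_mul_central_apply χ (MonoidAlgebra.single 1 (1 : ℂ)) hc 1
  rw [he] at h1
  rw [show MonoidAlgebra.single (1 : G) (1 : ℂ) * e = e from one_mul e, h1] at h2
  have h3 := mul_left_cancel₀ h h2
  simpa [MonoidAlgebra.coeff_single, Finsupp.single_apply] using h3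

/-- Normal subgroups of order prime to `p` lie in the kernels of the principal block. -/
theorem apply_eq_one_of_mem_principal (hM : IsPModular p M) (N : Subgroup G) [N.Normal]
    (hN : ¬ p ∣ Nat.card N) {χ : IrrCharacter G} (hχ : χ ∈ principalBlock M G) {m : G} (hm : m ∈ N) :
    (χ : G → ℂ) m = (χ : G → ℂ) 1 := by
  haveI := prime_of_isPModular hM
  haveI := Fintype.ofFinite G
  refine apply_eq_one_of_sum_ne_zero N χ (fun h0 => ?_) hm
  set e := mkA (G := G) fun g => if g ∈ N then (1 : ℂ) else 0
  have hc : IsCentralElt e := fun x y => by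
    simp only [e, coeff_mkA]
    exact if_congr ⟨fun hx => by
      have := Subgroup.Normal.conj_mem inferInstance _ hx y⁻¹
      simpa [mul_assoc] using this, fun hx => Subgroup.Normal.conj_mem inferInstance _ hx y⟩ rfl rfl
  have hl : IsLocElt M e := fun g => by
    simp only [e, coeff_mkA]
    split
    exacts [one_mem (locRing M), zero_mem (locRing M)]
  let one : IrrCharacter G := ⟨fun _ => 1, isIrrCharacter_one⟩
  have hB : IsPBlock M (principalBlock M G) := ⟨one, rfl⟩
  have h1 := omega_congr (isPBlock_sameBlock hB hχ (self_mem_blockOf one)) hc hl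
  rw [h0, zero_sub, omega_eq_sum] at h1
  simp only [e, coeff_mkA, one, mul_one, div_one, Finset.sum_boole] at h1
  rw [show (Finset.univ.filter (fun g : G => g ∈ N)).card = Nat.card N by
    rw [← Fintype.card_subtype, ← Nat.card_eq_fintype_card]] at h1
  have h2 := memLocalIdeal_mul_right (inv_natCast_mem_locRing hM.1 hM.2.2 hN) h1
  rw [neg_mul, mul_inv_cancel₀ (Nat.cast_ne_zero.2 Nat.card_pos.ne')] at h2
  exact not_memLocalIdeal_one (by simpa using memLocalIdeal_neg h2)

end Cfsg.Agent.Block
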