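import Cfsg.Agent.Lib.Block.Cover
import Cfsg.Agent.Lib.Block.CentralExtDefect
import Cfsg.Agent.Lib.Block.CoreUnique
import Cfsg.Agent.Lib.Block.PrincipalKernel
import Cfsg.Agent.Lib.Block.CentralQuotientBlock

/-!
# Blocks above a normal subgroup of order prime to `p`
-/

set_option autoImplicit false

open Cfsg.Agent.Char
open scoped ComplexConjugate

namespace Cfsg.Agent.Block

universe u

variable {G : Type u} [Group G] [Fintype G] {M : Ideal AlgInt} {p : ℕ} [hMp : M.IsPrime] {N : Subgroup G}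
  [hN : N.Normal] [Fintype N]

/-- The members of a block cover the same blocks. -/
theorem exists_constituent_of_sameBlock {b : Set (IrrCharacter N)} (hb : IsPBlock M b)
    {χ χ' : IrrCharacter G} (h : SameBlock M (χ : G → ℂ) (χ' : G → ℂ)) {θ : IrrCharacter N} (hθ : θ ∈ b)
    (hc : classInner (fun n : N => (χ : G → ℂ) n) (θ : N → ℂ) ≠ 0) :
    ∃ θ' ∈ b, classInner (fun n : N => (χ' : G → ℂ) n) (θ' : N → ℂ) ≠ 0 := by
  rw [exists_constituent_iff hb, ← ro_congr (isPBlock_blockOf χ) (self_mem_blockOf χ) (mem_blockOf.2 h)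
    (cl_blockOrbit b), ← exists_constituent_iff hb]
  exact ⟨θ, hθ, hc⟩

/-- Below a block the constituents on a normal subgroup of order prime to `p` are fixed. -/
theorem constituent_of_sameBlock (hM : IsPModular p M) (hNp : ¬ p ∣ Nat.card N)
    {χ χ' : IrrCharacter G} (h : SameBlock M (χ : G → ℂ) (χ' : G → ℂ)) (θ : IrrCharacter N)
    (hc : classInner (fun n : N => (χ : G → ℂ) n) (θ : N → ℂ) ≠ 0) :
    classInner (fun n : N => (χ' : G → ℂ) n) (θ : N → ℂ) ≠ 0 := by
  have hs : blockOf M (θ : N → ℂ) = {θ} :=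
    blockOf_eq_singleton hM θ fun hd => hNp (hd.trans (Nat.div_dvd_of_dvd (charDegree_dvd_card θ.2)))
  obtain ⟨θ', hθ', h'⟩ := exists_constituent_of_sameBlock (isPBlock_blockOf (M := M) θ) h (self_mem_blockOf θ) hc
  rw [hs, Set.mem_singleton_iff] at hθ'
  exact hθ' ▸ h'

omit hMp in
/-- The trivial character is a constituent exactly for the characters trivial on the subgroup. -/
theorem classInner_one_ne_zero_iff (χ : IrrCharacter G) :
    classInner (fun n : N => (χ : G → ℂ) n) (fun _ : N => (1 : ℂ)) ≠ 0 ↔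
      ∀ n ∈ N, (χ : G → ℂ) n = (χ : G → ℂ) 1 := by
  rw [apply_eq_one_iff_sum_ne_zero, classInner]
  simp only [map_one, mul_one, ne_eq, mul_eq_zero, inv_eq_zero, Nat.cast_eq_zero, Nat.card_pos.ne', false_or]

/-- Being trivial on a normal subgroup of order prime to `p` is a property of the block. -/
theorem trivial_of_sameBlock (hM : IsPModular p M) (hNp : ¬ p ∣ Nat.card N)
    {χ χ' : IrrCharacter G} (h : SameBlock M (χ : G → ℂ) (χ' : G → ℂ))
    (hχ : ∀ n ∈ N, (χ : G → ℂ) n = (χ : G → ℂ) 1) : ∀ n ∈ N, (χ' : G → ℂ) n = (χ' : G → ℂ) 1 :=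
  (classInner_one_ne_zero_iff χ').1
    (constituent_of_sameBlock hM hNp h ⟨fun _ => 1, isIrrCharacter_one⟩ ((classInner_one_ne_zero_iff χ).2 hχ))

end Cfsg.Agent.Block
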