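import Cfsg.Agent.Lib.Block.Height
import Cfsg.Agent.Lib.Char.Induction

/-!
# Induced blocks and the regular inner product
-/

set_option autoImplicit false

open Cfsg.Agent.Char
open scoped ComplexConjugate

namespace Cfsg.Agent.Block

universe u

variable {G : Type u} [Group G] [Finite G] {M : Ideal AlgInt} {p : ℕ}

theorem memLocalIdeal_unit_mul_iff [hMp : M.IsPrime] {u x : ℂ} (hu : u ∈ locRing M)
    (hui : u⁻¹ ∈ locRing M) (hu0 : u ≠ 0) : MemLocalIdeal M (u * x) ↔ MemLocalIdeal M x :=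
  ⟨fun h => by simpa [inv_mul_cancel_left₀ hu0] using memLocalIdeal_mul_left hui h,
    fun h => memLocalIdeal_mul_left hu h⟩

/-- The inner product of the regular restriction, divided by the degree. -/
theorem classInner_regRestrict_div [Fintype G] (hp : p.Prime) (χ ψ : G → ℂ) :
    classInner (fun x : G => if p ∣ orderOf x then (0 : ℂ) else
      ((p ^ (Nat.card G).factorization p : ℕ) : ℂ) * χ x) ψ / ψ 1 =
      ((Nat.card G / p ^ (Nat.card G).factorization p : ℕ) : ℂ)⁻¹ * (regInner p χ ψ / ψ 1) := by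
  set a := (Nat.card G).factorization p
  set m := Nat.card G / p ^ a
  have hm : (Nat.card G : ℂ) = ((p ^ a : ℕ) : ℂ) * (m : ℂ) := by
    rw [← Nat.cast_mul, Nat.ordProj_mul_ordCompl_eq_self]
  rw [classInner_regRestrict, hm, mul_div_mul_left _ _ (Nat.cast_ne_zero.2 (pow_ne_zero _ hp.ne_zero))]
  ring

theorem classInner_regRestrict_memLocalIdeal_iff [Fintype G] (hM : IsPModular p M) (χ ψ : G → ℂ) :
    MemLocalIdeal M (classInner (fun x : G => if p ∣ orderOf x then (0 : ℂ) else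
      ((p ^ (Nat.card G).factorization p : ℕ) : ℂ) * χ x) ψ / ψ 1) ↔
      MemLocalIdeal M (regInner p χ ψ / ψ 1) := by
  haveI := prime_of_isPModular hM
  have hm := Nat.not_dvd_ordCompl hM.1 (Nat.card_pos (α := G)).ne'
  rw [classInner_regRestrict_div hM.1]
  refine memLocalIdeal_unit_mul_iff (inv_natCast_mem_locRing hM.1 hM.2.2 hm)
    (by rw [inv_inv]; exact natCast_mem _ _) (inv_ne_zero (Nat.cast_ne_zero.2 fun h => hm ?_))
  rw [h]; exact dvd_zero p

/-- A sum over a subgroup through the induced central character. -/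
theorem sum_subgroup_eq_inducedCentralChar [Fintype (ConjClasses G)] (H : Subgroup G) [Fintype H]
    {a : G → ℂ} (ha : IsClassFunction G a) (ξ : H → ℂ) :
    ∑ h : H, a h * (ξ h / ξ 1) =
      ∑ C : ConjClasses G, a (classRep C) * inducedCentralChar H ξ (classRep C) := by
  classical
  rw [← Finset.sum_fiberwise_of_maps_to (g := fun h : H => ConjClasses.mk (h : G))
    (t := Finset.univ) (fun _ _ => Finset.mem_univ _)]
  refine Finset.sum_congr rfl fun C _ => ?_
  rw [inducedCentralChar, finsum_mem_eq_finite_toFinset_sum _ (Set.toFinite _), Finset.mul_sum]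
  refine Finset.sum_congr (Finset.ext fun h => ?_) fun h hh => ?_
  · simp only [Finset.mem_filter, Finset.mem_univ, true_and, Set.Finite.mem_toFinset, Set.mem_setOf_eq]
    rw [← ConjClasses.mk_eq_mk_iff_isConj, mk_classRep]
    exact eq_comm
  · simp only [Set.Finite.mem_toFinset, Set.mem_setOf_eq] at hh
    rw [IsClassFunction.apply_isConj ha hh]

/-- The congruence expressing that a block is induced. -/
theorem induced_congr [Fintype G] (hM : IsPModular p M) {H : Subgroup G} [Fintype H]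
    {b : Set (IrrCharacter H)} {B : Set (IrrCharacter G)} (hind : IsInducedBlock M H b B)
    {a : G → ℂ} (ha : IsClassFunction G a) (hal : ∀ g, MemLocalRing M (a g)) {ξ : IrrCharacter H}
    (hξ : ξ ∈ b) {φ : IrrCharacter G} (hφ : φ ∈ B) :
    MemLocalIdeal M ((∑ h : H, a h * (ξ : H → ℂ) h) / (ξ : H → ℂ) 1 -
      omega (φ : G → ℂ) (mkA a)) := by
  haveI := prime_of_isPModular hM
  haveI := Fintype.ofFinite (ConjClasses G)
  have hc : IsCentralElt (mkA a) := fun g h => by simp [ha g h]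
  rw [omega_eq_sum_classes φ hc, Finset.sum_div]
  simp only [mul_div_assoc, coeff_mkA]
  rw [sum_subgroup_eq_inducedCentralChar H ha, ← Finset.sum_sub_distrib]
  refine memLocalIdeal_sum _ _ fun C _ => ?_
  rw [← mul_sub]
  exact memLocalIdeal_mul_left (hal _) (hind.2.2 ξ hξ φ hφ _)

theorem regInner_eq_sum_inv [Fintype G] (χ : G → ℂ) {ψ : G → ℂ} (hψ : IsCharacter G ψ) :
    regInner p χ ψ = ∑ x : G, (if p ∣ orderOf x then 0 else χ x⁻¹) * ψ x := by
  refine Fintype.sum_equiv (Equiv.inv G) _ _ fun x => ?_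
  show _ = (if p ∣ orderOf x⁻¹ then 0 else χ x⁻¹⁻¹) * ψ x⁻¹
  rw [orderOf_inv, inv_inv, IsCharacter.map_inv hψ]
  split <;> simp

/-- Restricting to a subgroup does not change the regular inner product modulo `M`. -/
theorem regInner_induced_congr [Fintype G] (hM : IsPModular p M) {H : Subgroup G} [Fintype H]
    {b : Set (IrrCharacter H)} {B : Set (IrrCharacter G)} (hind : IsInducedBlock M H b B)
    (χ : IrrCharacter G) {ξ : IrrCharacter H} (hξ : ξ ∈ b) {φ : IrrCharacter G} (hφ : φ ∈ B) :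
    MemLocalIdeal M (regInner p (fun h : H => (χ : G → ℂ) h) (ξ : H → ℂ) / (ξ : H → ℂ) 1 -
      regInner p (χ : G → ℂ) (φ : G → ℂ) / (φ : G → ℂ) 1) := by
  haveI := prime_of_isPModular hM
  have h := induced_congr hM hind (a := fun x => if p ∣ orderOf x then 0 else (χ : G → ℂ) x⁻¹)
    (fun g t => by
      simp only [orderOf_conj_eq, conj_inv, IsCharacter.isClassFunction
        (IsIrrCharacter.isCharacter χ.2) g⁻¹ t])
    (fun g => by rw [← mem_locRing]; split; exacts [zero_mem _, irr_mem_locRing χ _]) hξ hφ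
  rw [omega_eq_sum, show (∑ g, (mkA fun x => if p ∣ orderOf x then 0 else (χ : G → ℂ) x⁻¹).coeff g *
    (φ : G → ℂ) g) = regInner p (χ : G → ℂ) (φ : G → ℂ) by
      simp only [coeff_mkA]; rw [regInner_eq_sum_inv _ (IsIrrCharacter.isCharacter φ.2)]] at h
  rw [regInner_eq_sum_inv _ (IsIrrCharacter.isCharacter ξ.2)]
  simpa [Subgroup.orderOf_coe] using h

theorem regInner_restrict_memLocalIdeal_iff [Fintype G] (hM : IsPModular p M) {H : Subgroup G}
    [Fintype H] {b : Set (IrrCharacter H)} {B : Set (IrrCharacter G)} (hind : IsInducedBlock M H b B)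
    (χ : IrrCharacter G) {ξ : IrrCharacter H} (hξ : ξ ∈ b) :
    MemLocalIdeal M (regInner p (fun h : H => (χ : G → ℂ) h) (ξ : H → ℂ) / (ξ : H → ℂ) 1) ↔
      ¬ (χ ∈ B ∧ blockHeight p B (χ : G → ℂ) = 0) := by
  haveI := prime_of_isPModular hM
  obtain ⟨φ, hφ⟩ := isPBlock_nonempty hind.2.1
  have h := regInner_induced_congr hM hind χ hξ hφ
  rw [← regInner_div_memLocalIdeal_iff (χ := χ) hM hind.2.1 hφ]
  exact ⟨fun h1 => by simpa using memLocalIdeal_sub h1 h, fun h1 => by simpa using memLocalIdeal_add h h1⟩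

/-- Okuyama's criterion. -/
theorem okuyama (hM : IsPModular p M) (H : Subgroup G) (χ : IrrCharacter G)
    (hres : IsIrrCharacter H (fun h : H => (χ : G → ℂ) h))
    (hχ0 : blockHeight p (blockOf M (χ : G → ℂ)) (χ : G → ℂ) = 0)
    (hψ0 : blockHeight p (blockOf M (fun h : H => (χ : G → ℂ) h)) (fun h : H => (χ : G → ℂ) h) = 0)
    {e : Set (IrrCharacter H)} (he : InducedBlockDefined M H e) :
    IsInducedBlock M H e (blockOf M (χ : G → ℂ)) ↔ e = blockOf M (fun h : H => (χ : G → ℂ) h) := by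
  haveI := prime_of_isPModular hM
  haveI := Fintype.ofFinite G
  haveI := Fintype.ofFinite H
  obtain ⟨B, hB⟩ := he
  set χ' : IrrCharacter H := ⟨_, hres⟩
  obtain ⟨ξ, hξ⟩ := isPBlock_nonempty hB.1
  have h1 : MemLocalIdeal M (regInner p (χ' : H → ℂ) (ξ : H → ℂ) / (ξ : H → ℂ) 1) ↔ χ' ∉ e := by
    rw [regInner_div_memLocalIdeal_iff hM hB.1 hξ]
    refine ⟨fun h hm => h ⟨hm, ?_⟩, fun h hm => h hm.1⟩
    rw [isPBlock_eq_blockOf hB.1 hm]
    exact hψ0
  have h2 : MemLocalIdeal M (regInner p (χ' : H → ℂ) (ξ : H → ℂ) / (ξ : H → ℂ) 1) ↔ χ ∉ B := by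
    refine (regInner_restrict_memLocalIdeal_iff hM hB χ hξ).trans ⟨fun h hm => h ⟨hm, ?_⟩, fun h hm => h hm.1⟩
    rw [isPBlock_eq_blockOf hB.2.1 hm]
    exact hχ0
  have key : χ' ∈ e ↔ χ ∈ B := not_iff_not.1 (h1.symm.trans h2)
  constructor
  · intro h
    have hmem : χ' ∈ e := by
      by_contra hn
      exact (regInner_restrict_memLocalIdeal_iff hM h χ hξ).1 (h1.2 hn)
        ⟨self_mem_blockOf χ, hχ0⟩
    exact isPBlock_eq_blockOf hB.1 hmem
  · intro h
    rw [← isPBlock_eq_blockOf hB.2.1 (key.1 (h.symm ▸ self_mem_blockOf χ'))]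
    exact hB

theorem exists_nat_blockPart_one (B : Set (IrrCharacter G)) {θ : G → ℂ} (hθ : IsCharacter G θ) :
    ∃ n : ℕ, blockPart B θ 1 = n := by
  haveI := Fintype.ofFinite G
  have : blockPart B θ 1 = ∑ χ ∈ B.toFinite.toFinset, classInner θ (χ : G → ℂ) * (χ : G → ℂ) 1 := by
    rw [← finsum_mem_eq_finite_toFinset_sum]
    simp only [blockPart]
    congr
    funext χ
    congr
    funext _
    congr
    exact Subsingleton.elim _ _
  rw [this]
  refine Finset.sum_induction _ (fun z : ℂ => ∃ n : ℕ, z = n) (fun a b ⟨i, hi⟩ ⟨j, hj⟩ =>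
    ⟨i + j, by rw [hi, hj, Nat.cast_add]⟩) ⟨0, Nat.cast_zero.symm⟩ fun χ _ => ?_
  obtain ⟨n, hn⟩ := classInner_natCast_of_isCharacter hθ (IsIrrCharacter.isCharacter χ.2)
  exact ⟨n * charDegree (χ : G → ℂ), by
    rw [hn, ← charDegree_cast (IsIrrCharacter.isCharacter χ.2), Nat.cast_mul]⟩

/-- The block parts of an induced character at `1`, relative to its degree. -/
theorem blockPart_indFun_one_congr [Fintype G] (hM : IsPModular p M) {H : Subgroup G} [Fintype H]
    {b : Set (IrrCharacter H)} {B₀ : Set (IrrCharacter G)} (hind : IsInducedBlock M H b B₀)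
    {ξ : IrrCharacter H} (hξ : ξ ∈ b) {B : Set (IrrCharacter G)} (hB : IsPBlock M B)
    [Decidable (B = B₀)] :
    MemLocalIdeal M (blockPart B (indFun H (ξ : H → ℂ)) 1 /
      ((H.index : ℂ) * (ξ : H → ℂ) 1) - if B = B₀ then 1 else 0) := by
  classical
  haveI := prime_of_isPModular hM
  obtain ⟨φ, hφ⟩ := isPBlock_nonempty hind.2.1
  have hcls : IsClassFunction G (blockCoeff B) := fun g h => by
    simpa [blockIdem] using isCentralElt_blockIdem B g h
  have h := induced_congr hM hind hcls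
    (fun g => (mem_locRing).1 (blockCoeff_mem_locRing hB g)) hξ hφ
  have hiff : (φ ∈ B) ↔ B = B₀ :=
    ⟨fun h' => isPBlock_eq_of_mem hB hind.2.1 h' hφ, fun h' => h' ▸ hφ⟩
  rw [show mkA (blockCoeff B) = blockIdem B from rfl, omega_blockIdem, if_congr hiff rfl rfl] at h
  convert h using 2
  have h2 : blockPart B (indFun H (ξ : H → ℂ)) 1 = (H.index : ℂ) * ∑ h : H, blockCoeff B h * (ξ : H → ℂ) h := by
    have hG : (Nat.card G : ℂ) ≠ 0 := by simp [Nat.card_eq_fintype_card]
    have hH : (Nat.card H : ℂ) ≠ 0 := by simp [Nat.card_eq_fintype_card]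
    have hfrob := classInner_indFun (H := H) (ξ : H → ℂ) (χ := fun x => conj (blockCoeff B x))
      (fun g t => by simp only [hcls g t])
    simp only [classInner, Complex.conj_conj] at hfrob
    rw [blockPart_eq_sum]
    simp only [blockCoeff_eq_blockKernel] at hfrob ⊢
    have e1 : ∀ y, indFun H (ξ : H → ℂ) y * ((Nat.card G : ℂ)⁻¹ * blockKernel B 1 y) =
        (Nat.card G : ℂ)⁻¹ * (indFun H (ξ : H → ℂ) y * blockKernel B 1 y) := fun y => by ring
    simp only [e1, ← Finset.mul_sum] at hfrob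
    calc (Nat.card G : ℂ)⁻¹ * ∑ y, indFun H (ξ : H → ℂ) y * blockKernel B 1 y
        = (Nat.card G : ℂ) * ((Nat.card G : ℂ)⁻¹ * ((Nat.card G : ℂ)⁻¹ *
            ∑ y, indFun H (ξ : H → ℂ) y * blockKernel B 1 y)) := by rw [mul_inv_cancel_left₀ hG]
      _ = (Nat.card G : ℂ) * ((Nat.card H : ℂ)⁻¹ *
            ∑ h : H, (ξ : H → ℂ) h * ((Nat.card G : ℂ)⁻¹ * blockKernel B 1 (h : G))) := by rw [hfrob]
      _ = _ := by
          rw [← H.index_mul_card, Nat.cast_mul, mul_assoc, mul_inv_cancel_left₀ hH]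
          exact congrArg _ (Finset.sum_congr rfl fun h _ => mul_comm _ _)
  rw [h2, mul_div_mul_left _ _ (Nat.cast_ne_zero.2 Subgroup.index_ne_zero_of_finite)]

theorem natCast_div_lt_of_memLocalIdeal [hMp : M.IsPrime] (hM : IsPModular p M) {n N : ℕ}
    (hn : n ≠ 0) (hN : N ≠ 0) (h : MemLocalIdeal M ((n : ℂ) / (N : ℂ))) :
    N.factorization p < n.factorization p := by
  by_contra hle
  push Not at hle
  refine Nat.not_dvd_ordCompl hM.1 hn ((memLocalIdeal_natCast_iff hM.1 hM.2.2 _).1 ?_)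
  set i := n.factorization p
  set v := N.factorization p
  have e1 : (n : ℂ) = ((p ^ i : ℕ) : ℂ) * ((n / p ^ i : ℕ) : ℂ) := by
    rw [← Nat.cast_mul, Nat.ordProj_mul_ordCompl_eq_self]
  have e2 : (N : ℂ) = ((p ^ i : ℕ) : ℂ) * ((p ^ (v - i) * (N / p ^ v) : ℕ) : ℂ) := by
    rw [← Nat.cast_mul, ← mul_assoc, ← pow_add, Nat.add_sub_cancel' hle, Nat.ordProj_mul_ordCompl_eq_self]
  have hp0 : ((p ^ i : ℕ) : ℂ) ≠ 0 := Nat.cast_ne_zero.2 (pow_ne_zero _ hM.1.ne_zero)
  rw [e1, e2, mul_div_mul_left _ _ hp0] at h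
  have hK : ((p ^ (v - i) * (N / p ^ v) : ℕ) : ℂ) ≠ 0 := by
    intro h0
    apply hN
    have := e2
    rw [h0, mul_zero] at this
    exact_mod_cast this
  have h' := memLocalIdeal_mul_right (natCast_mem (locRing M) (p ^ (v - i) * (N / p ^ v))) h
  rwa [div_mul_cancel₀ _ hK] at h'

theorem charDegree_indFun [Fintype G] (H : Subgroup G) (ξ : IrrCharacter H) :
    charDegree (indFun H (ξ : H → ℂ)) = H.index * charDegree (ξ : H → ℂ) := by
  haveI := Fintype.ofFinite H
  have h := charDegree_cast (isCharacter_indFun (IsIrrCharacter.isCharacter ξ.2) (H := H))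
  rw [indFun_one_apply, ← charDegree_cast (IsIrrCharacter.isCharacter ξ.2), ← Nat.cast_mul] at h
  exact_mod_cast h

theorem blockPart_indFun_degree [Fintype G] (hM : IsPModular p M) {H : Subgroup G} [Fintype H]
    {b : Set (IrrCharacter H)} {B₀ : Set (IrrCharacter G)} (hind : IsInducedBlock M H b B₀)
    {ξ : IrrCharacter H} (hξ : ξ ∈ b) :
    (∃ n : ℕ, blockPart B₀ (indFun H (ξ : H → ℂ)) 1 = (n : ℂ) ∧ n ≠ 0 ∧
        n.factorization p = (charDegree (indFun H (ξ : H → ℂ))).factorization p) ∧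
      ∀ B : Set (IrrCharacter G), IsPBlock M B → B ≠ B₀ →
        ∃ n : ℕ, blockPart B (indFun H (ξ : H → ℂ)) 1 = (n : ℂ) ∧
          (n = 0 ∨ (charDegree (indFun H (ξ : H → ℂ))).factorization p < n.factorization p) := by
  classical
  haveI := prime_of_isPModular hM
  have hchar := isCharacter_indFun (IsIrrCharacter.isCharacter ξ.2) (H := H)
  set N := charDegree (indFun H (ξ : H → ℂ)) with hN
  have hN0 : N ≠ 0 := by
    rw [hN, charDegree_indFun]
    exact mul_ne_zero Subgroup.index_ne_zero_of_finite (charDegree_pos ξ.2).ne'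
  have hNc : (N : ℂ) = (H.index : ℂ) * (ξ : H → ℂ) 1 := by
    rw [hN, charDegree_indFun, Nat.cast_mul, charDegree_cast (IsIrrCharacter.isCharacter ξ.2)]
  constructor
  · obtain ⟨n, hn⟩ := exists_nat_blockPart_one B₀ hchar
    have h := blockPart_indFun_one_congr hM hind hξ hind.2.1
    rw [if_pos rfl, hn, ← hNc] at h
    have hu : ¬ MemLocalIdeal M ((n : ℂ) / (N : ℂ)) := not_memLocalIdeal_congr h not_memLocalIdeal_one
    have hl : ((n : ℤ) : ℂ) / (N : ℂ) ∈ locRing M := by
      have := add_mem (mem_locRing_of_memLocalIdeal h) (one_mem (locRing M))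
      simpa using this
    have := (intCast_div_unit_iff hM hN0 hl).1 (by simpa using hu)
    refine ⟨n, hn, by simpa using this.1, ?_⟩
    rw [Nat.factorization_def _ hM.1, ← this.2]
    simp [padicValInt]
  · intro B hB hne
    obtain ⟨n, hn⟩ := exists_nat_blockPart_one B hchar
    refine ⟨n, hn, ?_⟩
    have h := blockPart_indFun_one_congr hM hind hξ hB
    rw [if_neg hne, hn, ← hNc, sub_zero] at h
    rcases eq_or_ne n 0 with h0 | h0
    · exact Or.inl h0
    · exact Or.inr (natCast_div_lt_of_memLocalIdeal hM h0 hN0 h)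

theorem exists_constituent_over [Fintype G] (hM : IsPModular p M) {H : Subgroup G} [Fintype H]
    {b : Set (IrrCharacter H)} {B : Set (IrrCharacter G)} (hind : IsInducedBlock M H b B)
    {ξ : IrrCharacter H} (hξ : ξ ∈ b) :
    ∃ χ ∈ B, classInner (fun h : H => (χ : G → ℂ) h) (ξ : H → ℂ) ≠ 0 := by
  obtain ⟨⟨n, hn, hn0, -⟩, -⟩ := blockPart_indFun_degree hM hind hξ
  by_contra! hall
  refine hn0 ?_
  suffices hz : (n : ℂ) = 0 from Nat.cast_eq_zero.1 hz
  rw [← hn]
  simp only [blockPart]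
  refine finsum_mem_of_eqOn_zero fun χ hχ => ?_
  have h := classInner_indFun (H := H) (ξ : H → ℂ)
    (IsCharacter.isClassFunction (IsIrrCharacter.isCharacter χ.2))
  have h2 := congrArg conj (hall χ hχ)
  rw [map_zero, classInner_conj_symm] at h2
  rw [h2] at h
  show _ * _ = (0 : ℂ)
  convert zero_mul _
  convert h

/-- Blau's theorem. -/
theorem blau [Fintype G] (hM : IsPModular p M) {H : Subgroup G} [Fintype H]
    {b : Set (IrrCharacter H)} {B : Set (IrrCharacter G)} (hind : IsInducedBlock M H b B)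
    {χ : IrrCharacter G} (hχ : χ ∈ B) (h0 : blockHeight p B (χ : G → ℂ) = 0) :
    ∃ ξ ∈ b, blockHeight p b (ξ : H → ℂ) = 0 ∧
      ∃ n : ℕ, classInner (fun h : H => (χ : G → ℂ) h) (ξ : H → ℂ) = (n : ℂ) ∧ ¬ p ∣ n := by
  haveI := prime_of_isPModular hM
  haveI := Fintype.ofFinite (IrrCharacter H)
  obtain ⟨ψ, hψ⟩ := isPBlock_nonempty hind.1
  have hu : ¬ MemLocalIdeal M (regInner p (fun h : H => (χ : G → ℂ) h) (ψ : H → ℂ) / (ψ : H → ℂ) 1) :=
    fun h => (regInner_restrict_memLocalIdeal_iff hM hind χ hψ).1 h ⟨hχ, h0⟩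
  have hres := IsCharacter.restrict (IsIrrCharacter.isCharacter χ.2) H
  have hexp := IsClassFunction.eq_sum (IsCharacter.isClassFunction hres)
  have hlin : regInner p (fun h : H => (χ : G → ℂ) h) (ψ : H → ℂ) / (ψ : H → ℂ) 1 =
      ∑ ξ : IrrCharacter H, classInner (fun h : H => (χ : G → ℂ) h) (ξ : H → ℂ) *
        (regInner p (ξ : H → ℂ) (ψ : H → ℂ) / (ψ : H → ℂ) 1) := by
    conv_lhs => rw [hexp]
    simp only [regInner, Finset.sum_apply, Pi.smul_apply, smul_eq_mul, Finset.sum_mul, Finset.sum_div,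
      Finset.mul_sum]
    rw [Finset.sum_comm]
    refine Finset.sum_congr rfl fun x _ => ?_
    split
    · simp
    · rw [Finset.sum_div]; exact Finset.sum_congr rfl fun ξ _ => by ring
  by_contra! hall
  refine hu (hlin ▸ memLocalIdeal_sum _ _ fun ξ _ => ?_)
  obtain ⟨n, hn⟩ := classInner_natCast_of_isCharacter hres (IsIrrCharacter.isCharacter ξ.2)
  have hloc : regInner p (ξ : H → ℂ) (ψ : H → ℂ) / (ψ : H → ℂ) 1 ∈ locRing M :=
    isIntegral_mem_locRing (isIntegral_regInner_div p (IsIrrCharacter.isCharacter ξ.2) ψ)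
  rw [hn]
  by_cases hR : ξ ∈ b ∧ blockHeight p b (ξ : H → ℂ) = 0
  · exact memLocalIdeal_mul_right hloc
      ((memLocalIdeal_natCast_iff hM.1 hM.2.2 _).2 (hall ξ hR.1 hR.2 n hn))
  · exact memLocalIdeal_mul_left (natCast_mem _ _) ((regInner_div_memLocalIdeal_iff hM hind.1 hψ).2 hR)

theorem exists_height_zero_over [Fintype G] (hM : IsPModular p M) {H : Subgroup G}
    {b : Set (IrrCharacter H)} {B : Set (IrrCharacter G)} (hind : IsInducedBlock M H b B)
    (hdef : blockDefect p b = blockDefect p B) {ζ : IrrCharacter H} (hζ : ζ ∈ b)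
    (hζ0 : blockHeight p b (ζ : H → ℂ) = 0) :
    ∃ χ ∈ B, blockHeight p B (χ : G → ℂ) = 0 ∧
      ∃ a : ℕ, classInner (indFun H (ζ : H → ℂ)) (χ : G → ℂ) = (a : ℂ) ∧ ¬ p ∣ a := by
  classical
  haveI := prime_of_isPModular hM
  haveI := Fintype.ofFinite H
  obtain ⟨⟨n, hn, hn0, hnv⟩, -⟩ := blockPart_indFun_degree hM hind hζ
  have hchar := isCharacter_indFun (IsIrrCharacter.isCharacter ζ.2) (H := H)
  have hv : n.factorization p = minVal p B := by
    rw [hnv, charDegree_indFun, Nat.factorization_mul Subgroup.index_ne_zero_of_finite (charDegree_pos ζ.2).ne']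
    have h1 : (Nat.card G).factorization p = H.index.factorization p + (Nat.card H).factorization p := by
      rw [← H.index_mul_card, Nat.factorization_mul Subgroup.index_ne_zero_of_finite Nat.card_pos.ne']
      rfl
    have h2 := (blockHeight_eq_zero_iff hζ).1 hζ0
    rw [blockDefect_eq, blockDefect_eq] at hdef
    have h3 : minVal p b ≤ (Nat.card H).factorization p := (minVal_le hζ).trans (degree_factorization_le p ζ)
    obtain ⟨χ, hχ⟩ := isPBlock_nonempty hind.2.1
    have h4 : minVal p B ≤ (Nat.card G).factorization p := (minVal_le hχ).trans (degree_factorization_le p χ)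
    simp only [Finsupp.coe_add, Pi.add_apply]
    omega
  by_contra! hall
  have hdvd : ∀ χ ∈ B, ∀ a : ℕ, classInner (indFun H (ζ : H → ℂ)) (χ : G → ℂ) = (a : ℂ) →
      p ^ (minVal p B + 1) ∣ a * charDegree (χ : G → ℂ) := by
    intro χ hχ a ha
    by_cases h0 : blockHeight p B (χ : G → ℂ) = 0
    · rw [pow_succ']
      exact mul_dvd_mul (hall χ hχ h0 a ha) ((pow_dvd_pow p (minVal_le hχ)).trans (Nat.ordProj_dvd _ _))
    · refine Dvd.dvd.mul_left ((pow_dvd_pow p ?_).trans (Nat.ordProj_dvd _ _)) a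
      have := minVal_add_height (p := p) hχ
      omega
  have key : ∃ k : ℕ, blockPart B (indFun H (ζ : H → ℂ)) 1 = ((p ^ (minVal p B + 1) * k : ℕ) : ℂ) := by
    simp only [blockPart, finsum_mem_eq_finite_toFinset_sum _ B.toFinite]
    refine Finset.sum_induction _ (fun z : ℂ => ∃ k : ℕ, z = ((p ^ (minVal p B + 1) * k : ℕ) : ℂ))
      (fun x y ⟨i, hi⟩ ⟨j, hj⟩ => ⟨i + j, by rw [hi, hj, ← Nat.cast_add, mul_add]⟩)
      ⟨0, by simp⟩ fun χ hχ => ?_
    obtain ⟨a, ha⟩ := classInner_natCast_of_isCharacter hchar (IsIrrCharacter.isCharacter χ.2)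
    obtain ⟨k, hk⟩ := hdvd χ (B.toFinite.mem_toFinset.1 hχ) a ha
    refine ⟨k, ?_⟩
    rw [← hk, Nat.cast_mul, charDegree_cast (IsIrrCharacter.isCharacter χ.2), ← ha]
    congr 3
    exact Subsingleton.elim _ _
  obtain ⟨k, hk⟩ := key
  rw [hn, Nat.cast_inj] at hk
  have : p ^ (n.factorization p + 1) ∣ n := hv.symm ▸ Dvd.intro k hk.symm
  exact Nat.pow_succ_factorization_not_dvd hn0 hM.1 this

end Cfsg.Agent.Block
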