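import Cfsg.Agent.Lib.Block.Regular
import Cfsg.Prelude.Def_BlockRank
import Mathlib.LinearAlgebra.Trace
import Mathlib.LinearAlgebra.Dimension.Finrank

/-!
# The regular rank of a block as an average norm
-/

set_option autoImplicit false

open Cfsg.Agent.Char
open scoped ComplexConjugate

namespace Cfsg.Agent.Block

universe u

variable {G : Type u} [Group G]

theorem pRegularPart_apply (p : ℕ) (χ : G → ℂ) (x : G) :
    pRegularPart p χ x = if p ∣ orderOf x then 0 else χ x := by
  classical
  by_cases h : p ∣ orderOf x <;> simp [pRegularPart, IsPRegular, h]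

theorem sum_pRegularPart_mul_inv [Fintype G] (p : ℕ) (B : Set (IrrCharacter G)) (x : G) :
    ∑ᶠ χ ∈ B, pRegularPart p (χ : G → ℂ) x * (χ : G → ℂ) x⁻¹ =
      if p ∣ orderOf x then 0 else blockKernel B x x := by
  simp only [blockKernel, pRegularPart_apply, finsum_mem_eq_finite_toFinset_sum _ B.toFinite]
  split
  · simp
  · exact Finset.sum_congr rfl fun χ _ => by rw [IsCharacter.map_inv (IsIrrCharacter.isCharacter χ.2)]

/-- The rank of a block counted on the diagonal of its kernel. -/
theorem card_mul_blockRank [Fintype G] {M : Ideal AlgInt} {p : ℕ} (hM : IsPModular p M)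
    {B : Set (IrrCharacter G)} (hB : IsPBlock M B) :
    (Nat.card G : ℂ) * (blockRank p B : ℂ) = ∑ x : G, if p ∣ orderOf x then 0 else blockKernel B x x := by
  classical
  have hG : (Nat.card G : ℂ) ≠ 0 := by simp [Nat.card_eq_fintype_card]
  set W := Submodule.span ℂ ((fun χ : IrrCharacter G => pRegularPart p (χ : G → ℂ)) '' B) with hW
  let P : (G → ℂ) →ₗ[ℂ] (G → ℂ) :=
    { toFun := fun f x => if p ∣ orderOf x then 0 else
        (Nat.card G : ℂ)⁻¹ * ∑ y, (if p ∣ orderOf y then 0 else f y) * blockKernel B x y
      map_add' := fun f f' => by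
        funext x
        simp only [Pi.add_apply]
        split
        · simp
        · rw [← mul_add, ← Finset.sum_add_distrib]
          congr 1
          exact Finset.sum_congr rfl fun y _ => by split <;> ring
      map_smul' := fun c f => by
        funext x
        simp only [Pi.smul_apply, smul_eq_mul, RingHom.id_apply]
        split
        · simp
        · rw [mul_left_comm c]
          congr 1
          rw [Finset.mul_sum]
          exact Finset.sum_congr rfl fun y _ => by split <;> ring }
  have hP : ∀ f x, P f x = if p ∣ orderOf x then 0 else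
      (Nat.card G : ℂ)⁻¹ * ∑ y, (if p ∣ orderOf y then 0 else f y) * blockKernel B x y := fun _ _ => rfl
  have hmem : ∀ f, P f ∈ W := fun f => by
    have : P f = ∑ χ ∈ B.toFinite.toFinset,
        classInner (fun y => if p ∣ orderOf y then 0 else f y) (χ : G → ℂ) •
          pRegularPart p (χ : G → ℂ) := by
      funext x
      rw [hP, ← blockPart_eq_sum]
      simp only [Finset.sum_apply, Pi.smul_apply, smul_eq_mul, pRegularPart_apply, blockPart,
        finsum_mem_eq_finite_toFinset_sum _ B.toFinite]
      split
      · simp
      · refine Finset.sum_congr rfl fun χ _ => ?_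
        congr 2
        exact Subsingleton.elim _ _
    rw [this]
    exact W.sum_mem fun χ hχ => W.smul_mem _ (Submodule.subset_span ⟨χ, B.toFinite.mem_toFinset.1 hχ, rfl⟩)
  have hfix : ∀ f ∈ W, P f = f := by
    intro f hf
    induction hf using Submodule.span_induction with
    | mem f hf =>
      obtain ⟨χ, hχ, rfl⟩ := hf
      funext x
      rw [hP]
      simp only [pRegularPart_apply]
      split
      · rfl
      next hx =>
        have h := sum_mul_blockKernel B χ x
        rw [if_pos hχ] at h
        rw [inv_mul_eq_iff_eq_mul₀ hG, ← h]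
        refine Finset.sum_congr rfl fun y _ => ?_
        split
        next hy => simp [blockKernel_eq_zero hM hB (g := x) (y := y) (fun e => hx (e.2 hy))]
        · rfl
    | zero => simp
    | add f f' _ _ h h' => rw [map_add, h, h']
    | smul c f _ h => rw [map_smul, h]
  have htr : LinearMap.trace ℂ (G → ℂ) P = (Module.finrank ℂ W : ℂ) :=
    (LinearMap.IsProj.mk hmem hfix).trace
  rw [blockRank, ← hW, ← htr, LinearMap.trace_eq_matrix_trace ℂ (Pi.basisFun ℂ G), Matrix.trace,
    Finset.mul_sum]
  refine Finset.sum_congr rfl fun x _ => ?_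
  rw [Matrix.diag_apply, LinearMap.toMatrix_apply, Pi.basisFun_repr, hP]
  by_cases hx : p ∣ orderOf x
  · simp [hx]
  · rw [if_neg hx, if_neg hx, Finset.sum_eq_single x]
    · simp [hx, mul_inv_cancel_left₀ hG]
    · intro y _ hy
      simp [hy]
    · simp

end Cfsg.Agent.Block
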