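import Cfsg.Agent.Lib.Block.SecondMain
import Cfsg.Agent.Lib.Block.Rank
import Cfsg.Agent.Lib.Block.Induced
import Cfsg.Agent.Lib.Block.Kulshammer

/-!
Columns of the character table on a section: the kernel of a block at `z c, z c'` is the sum of the
kernels of the local blocks at `c, c'`; and the link between Brauer pairs and induced blocks.
-/

namespace Cfsg.Agent.Block

open Cfsg Cfsg.Agent.Char
open scoped Classical ComplexConjugate

set_option linter.style.haveILetI false

universe u

variable {G : Type u} [Group G] [Finite G] {p : ℕ} {M : Ideal AlgInt}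

theorem card_filter_isConj [Fintype G] (g : G) :
    (Finset.univ.filter (fun x => IsConj g x)).card = (Subgroup.centralizer ({g} : Set G)).index := by
  let one : IrrCharacter G := ⟨fun _ => 1, isIrrCharacter_one⟩
  have h := omega_classSum one g
  rw [omega_eq_sum] at h
  simp only [classSum, coeff_mkA, centralChar, one, mul_one, div_one] at h
  have h2 : ((Finset.univ.filter (fun x => IsConj g x)).card : ℂ) =
      ((Subgroup.centralizer ({g} : Set G)).index : ℂ) := by
    rw [Finset.natCast_card_filter]
    refine Eq.trans (Finset.sum_congr rfl fun x _ => ?_) h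
    split <;> rfl
  exact_mod_cast h2

/-- The class indicator read in a block. -/
theorem blockPart_classInd [Fintype G] (B : Set (IrrCharacter G)) (g h : G) :
    blockPart B (fun v => if IsConj h v then (1 : ℂ) else 0) g =
      ((Nat.card (Subgroup.centralizer ({h} : Set G)) : ℂ))⁻¹ * blockKernel B g h := by
  rw [blockPart_eq_sum]
  simp only [ite_mul, one_mul, zero_mul]
  rw [← Finset.sum_filter, Finset.sum_congr rfl (g := fun _ => blockKernel B g h) fun v hv => ?_,
    Finset.sum_const, nsmul_eq_mul, card_filter_isConj, ← mul_assoc]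
  · congr 1
    have hi := (Subgroup.centralizer ({h} : Set G)).index_mul_card
    have h0 : ((Subgroup.centralizer ({h} : Set G)).index : ℂ) ≠ 0 :=
      Nat.cast_ne_zero.2 Subgroup.index_ne_zero_of_finite
    rw [← hi, Nat.cast_mul, mul_inv, mul_comm ((_ : ℂ)⁻¹) (_⁻¹), mul_assoc, inv_mul_cancel₀ h0,
      mul_one]
  · simp only [blockKernel]
    refine finsum_congr fun χ => finsum_congr fun _ => ?_
    rw [IsIrrCharacter.apply_isConj χ.2 (Finset.mem_filter.1 hv).2]

theorem eq_of_mul_eq_mul_pPart (hp : p.Prime) {z w w' : G} (hz : ∃ k : ℕ, orderOf z = p ^ k)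
    (h : Commute z w) (h' : Commute z w') (hw : ¬ p ∣ orderOf w) (hw' : ¬ p ∣ orderOf w') {t : G}
    (ht : t * (z * w') * t⁻¹ = z * w) : Commute t z ∧ t * w' * t⁻¹ = w := by
  have h1 : IsPPart p (z * w) z := ⟨w, rfl, h, hz, hw⟩
  have h2 : IsPPart p (z * w') z := ⟨w', rfl, h', hz, hw'⟩
  have h3 := isPPart_conj h2 t
  rw [ht] at h3
  have hz' : t * z * t⁻¹ = z := isPPart_unique hp h3 h1
  refine ⟨?_, ?_⟩
  · show t * z = z * t
    conv_rhs => rw [← hz']
    group
  · have : t * z * t⁻¹ * (t * w' * t⁻¹) = z * w := by rw [← ht]; group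
    rw [hz'] at this
    exact mul_left_cancel this

theorem centralizer_coe_iff {z : G} (w : Subgroup.centralizer ({z} : Set G)) :
    Commute z (w : G) := mem_centralizer_singleton.1 w.2

theorem isConj_section_iff (hp : p.Prime) {z : G} (hz : ∃ k : ℕ, orderOf z = p ^ k)
    {c w : Subgroup.centralizer ({z} : Set G)} (hc : ¬ p ∣ orderOf c) (hw : ¬ p ∣ orderOf w) :
    IsConj (z * (c : G)) (z * (w : G)) ↔ IsConj c w := by
  constructor
  · intro h
    obtain ⟨t, ht⟩ := isConj_iff.1 h
    obtain ⟨h1, h2⟩ := eq_of_mul_eq_mul_pPart hp hz (centralizer_coe_iff w) (centralizer_coe_iff c)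
      (by rwa [Subgroup.orderOf_coe]) (by rwa [Subgroup.orderOf_coe]) ht
    exact isConj_iff.2 ⟨⟨t, mem_centralizer_singleton.2 h1.symm⟩, Subtype.ext h2⟩
  · intro h
    obtain ⟨t, ht⟩ := isConj_iff.1 h
    refine isConj_iff.2 ⟨(t : G), ?_⟩
    have ht' : (t : G) * (c : G) * (t : G)⁻¹ = (w : G) := congrArg Subtype.val ht
    rw [← mul_assoc, ← (centralizer_coe_iff t).eq, mul_assoc z, mul_assoc z, ht']

theorem card_centralizer_section (hp : p.Prime) {z : G} (hz : ∃ k : ℕ, orderOf z = p ^ k)
    {c : Subgroup.centralizer ({z} : Set G)} (hc : ¬ p ∣ orderOf c) :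
    Nat.card (Subgroup.centralizer ({z * (c : G)} : Set G)) =
      Nat.card (Subgroup.centralizer ({c} : Set (Subgroup.centralizer ({z} : Set G)))) := by
  have hcG : ¬ p ∣ orderOf (c : G) := by rwa [Subgroup.orderOf_coe]
  have key : ∀ t : G, Commute (z * (c : G)) t → Commute t z ∧ t * (c : G) * t⁻¹ = (c : G) := fun t ht =>
    eq_of_mul_eq_mul_pPart hp hz (centralizer_coe_iff c) (centralizer_coe_iff c) hcG hcG
      (by rw [← ht.eq, mul_inv_cancel_right])
  refine Nat.card_congr
    { toFun := fun t => ⟨⟨t.1, mem_centralizer_singleton.2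
          (key t.1 (mem_centralizer_singleton.1 t.2)).1.symm⟩, mem_centralizer_singleton.2 <| Subtype.ext <| by
          show (c : G) * t.1 = t.1 * (c : G)
          exact (mul_inv_eq_iff_eq_mul.1 (key t.1 (mem_centralizer_singleton.1 t.2)).2).symm⟩
      invFun := fun t => ⟨(t.1 : G), mem_centralizer_singleton.2
          ((centralizer_coe_iff t.1).mul_left
            (congrArg Subtype.val (mem_centralizer_singleton.1 t.2).eq :))⟩
      left_inv := fun t => rfl
      right_inv := fun t => rfl }

/-- Column orthogonality on a section. -/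
theorem blockKernel_section (hM : IsPModular p M) {z : G} (hz : ∃ k : ℕ, orderOf z = p ^ k)
    {B : Set (IrrCharacter G)} (hB : IsPBlock M B)
    {c c' : Subgroup.centralizer ({z} : Set G)} (hc : ¬ p ∣ orderOf c) (hc' : ¬ p ∣ orderOf c') :
    blockKernel B (z * (c : G)) (z * (c' : G)) = ∑ b ∈ localBlocks M z B, blockKernel b c c' := by
  haveI := prime_of_isPModular hM
  haveI := Fintype.ofFinite G
  haveI := Fintype.ofFinite (Subgroup.centralizer ({z} : Set G))
  have hθ : IsClassFunction G (fun v : G => if IsConj (z * (c' : G)) v then (1 : ℂ) else 0) := fun a b => by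
    have hab : IsConj (b * a * b⁻¹) a := (isConj_iff.2 ⟨b, rfl⟩).symm
    exact if_congr ⟨fun h' => h'.trans hab, fun h' => h'.trans hab.symm⟩ rfl rfl
  have h := blockPart_mul_eq_sum_local hM hz hB hθ hc
  rw [blockPart_classInd] at h
  have hterm : ∀ b ∈ localBlocks M z B,
      blockPart b (fun w : Subgroup.centralizer ({z} : Set G) =>
        if IsConj (z * (c' : G)) (z * (w : G)) then (1 : ℂ) else 0) c =
      ((Nat.card (Subgroup.centralizer ({z * (c' : G)} : Set G)) : ℂ))⁻¹ * blockKernel b c c' := by
    intro b hb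
    have h1 := blockPart_regular (p := p) hM (mem_localBlocks.1 hb).1
      (fun w : Subgroup.centralizer ({z} : Set G) =>
        if IsConj (z * (c' : G)) (z * (w : G)) then (1 : ℂ) else 0) c
    rw [if_neg hc] at h1
    rw [← h1, card_centralizer_section hM.1 hz hc', ← blockPart_classInd]
    congr 1
    funext w
    by_cases hw : p ∣ orderOf w
    · rw [if_pos hw, if_neg]
      intro hcw
      obtain ⟨t, rfl⟩ := isConj_iff.1 hcw
      exact hc' (by rwa [orderOf_conj_eq] at hw)
    · rw [if_neg hw]
      by_cases h : IsConj c' w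
      · rw [if_pos h, if_pos ((isConj_section_iff hM.1 hz hc' hw).2 h)]
      · rw [if_neg h, if_neg (fun h' => h ((isConj_section_iff hM.1 hz hc' hw).1 h'))]
  rw [Finset.sum_congr rfl hterm, ← Finset.mul_sum] at h
  exact mul_left_cancel₀ (inv_ne_zero (Nat.cast_ne_zero.2 Nat.card_pos.ne')) h

/-- Kernels of blocks are orthogonal projections on the regular elements. -/
theorem sum_regular_kernel_mul [Fintype G] (hM : IsPModular p M) {b b' : Set (IrrCharacter G)}
    (hb : IsPBlock M b) (hb' : IsPBlock M b') {s t : G} (hs : ¬ p ∣ orderOf s) :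
    ∑ c : G, (if p ∣ orderOf c then 0 else blockKernel b s c * blockKernel b' c t) =
      if b = b' then (Nat.card G : ℂ) * blockKernel b s t else 0 := by
  haveI := prime_of_isPModular hM
  have h1 : ∀ c : G, (if p ∣ orderOf c then 0 else blockKernel b s c * blockKernel b' c t) =
      ∑ χ ∈ b'.toFinite.toFinset, ((χ : G → ℂ) c * blockKernel b s c) * conj ((χ : G → ℂ) t) := by
    intro c
    split
    next hc =>
      refine (Finset.sum_eq_zero fun χ _ => ?_).symm
      rw [blockKernel_eq_zero hM hb (fun e => hs (e.2 hc)), mul_zero, zero_mul]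
    next =>
      conv_lhs => arg 2; rw [blockKernel, finsum_mem_eq_finite_toFinset_sum _ b'.toFinite]
      rw [Finset.mul_sum]
      exact Finset.sum_congr rfl fun χ _ => by ring
  simp only [h1]
  rw [Finset.sum_comm]
  simp only [← Finset.sum_mul, sum_mul_blockKernel]
  split
  next h =>
    subst h
    rw [blockKernel, finsum_mem_eq_finite_toFinset_sum _ b.toFinite, Finset.mul_sum]
    refine Finset.sum_congr rfl fun χ hχ => ?_
    rw [if_pos (b.toFinite.mem_toFinset.1 hχ), mul_assoc]
  next h =>
    refine Finset.sum_eq_zero fun χ hχ => ?_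
    rw [if_neg (fun hχb => h (isPBlock_eq_of_mem hb hb' hχb (b'.toFinite.mem_toFinset.1 hχ))), zero_mul]

theorem centralizer_zpowers (z : G) :
    Subgroup.centralizer ((Subgroup.zpowers z : Subgroup G) : Set G) =
      Subgroup.centralizer ({z} : Set G) := by
  ext x
  rw [mem_centralizer_subgroup, Subgroup.zpowers_le, mem_centralizer_singleton,
    mem_centralizer_singleton]
  exact ⟨Commute.symm, Commute.symm⟩

theorem brauerOmega_eq_omega {Q : Subgroup G} (B : Set (IrrCharacter G))
    (ξ : Subgroup.centralizer (Q : Set G) → ℂ) :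
    brauerOmega Q (blockCoeff B) ξ =
      omega ξ (resH (Subgroup.centralizer (Q : Set G)) (blockIdem B)) := by
  haveI := Fintype.ofFinite (Subgroup.centralizer (Q : Set G))
  rw [brauerOmega, finsum_eq_sum_of_fintype, omega_eq_sum, Finset.sum_div]
  simp [resH, blockIdem]

/-- When the centraliser contains Q, a local block induces B exactly when it pairs with B. -/
theorem isInducedBlock_iff_brauerOmega (hM : IsPModular p M) {Q : Subgroup G} (hQ : IsPGroup p Q)
    (hQC : Q ≤ Subgroup.centralizer (Q : Set G)) {B : Set (IrrCharacter G)} (hB : IsPBlock M B)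
    {e : Set (IrrCharacter (Subgroup.centralizer (Q : Set G)))} (he : IsPBlock M e) :
    IsInducedBlock M (Subgroup.centralizer (Q : Set G)) e B ↔
      ∀ ξ ∈ e, MemLocalIdeal M (brauerOmega Q (blockCoeff B)
        (ξ : Subgroup.centralizer (Q : Set G) → ℂ) - 1) := by
  haveI := prime_of_isPModular hM
  haveI := Fintype.ofFinite G
  haveI := Fintype.ofFinite (Subgroup.centralizer (Q : Set G))
  obtain ⟨B', hB'⟩ := inducedBlockDefined_local hM hQ hQC le_rfl (Subgroup.centralizer_le_normalizer _) he
  have key : ∀ ξ ∈ e, ∀ φ ∈ B', MemLocalIdeal M (brauerOmega Q (blockCoeff B)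
      (ξ : Subgroup.centralizer (Q : Set G) → ℂ) - (if φ ∈ B then 1 else 0)) := by
    intro ξ hξ φ hφ
    have h := induced_congr hM hB' (a := blockCoeff B)
      (fun g t => isCentralElt_blockIdem B g t |> fun h => by simpa [blockIdem] using h)
      (fun g => mem_locRing.1 (blockCoeff_mem_locRing hB g)) hξ hφ
    rw [show omega (φ : G → ℂ) (mkA (blockCoeff B)) = if φ ∈ B then 1 else 0 from
      omega_blockIdem B φ] at h
    rw [brauerOmega, finsum_eq_sum_of_fintype, ← Finset.sum_div]
    exact h
  constructor
  · intro hind ξ hξ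
    obtain ⟨φ, hφ⟩ := isPBlock_nonempty hB'.2.1
    obtain ⟨ψ, hψ⟩ := isPBlock_nonempty hB
    have hφB : φ ∈ B := by
      rw [isPBlock_mem_iff hB hψ]
      intro g
      simpa using memLocalIdeal_sub (hB'.2.2 ξ hξ φ hφ g) (hind.2.2 ξ hξ ψ hψ g)
    simpa [if_pos hφB] using key ξ hξ φ hφ
  · intro h
    obtain ⟨φ, hφ⟩ := isPBlock_nonempty hB'.2.1
    obtain ⟨ξ, hξ⟩ := isPBlock_nonempty he
    have hφB : φ ∈ B := by
      by_contra hn
      have h1 := key ξ hξ φ hφ
      rw [if_neg hn, sub_zero] at h1
      have := memLocalIdeal_sub h1 (h ξ hξ)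
      rw [sub_sub_cancel] at this
      exact not_memLocalIdeal_one this
    rwa [isPBlock_eq_of_mem hB hB'.2.1 hφB hφ]

theorem isPGroup_zpowers_of_orderOf {z : G} (hz : ∃ k : ℕ, orderOf z = p ^ k) :
    IsPGroup p (Subgroup.zpowers z) := by
  obtain ⟨k, hk⟩ := hz
  exact IsPGroup.of_card (n := k) (by rw [Nat.card_zpowers, hk])

theorem zpowers_le_centralizer_zpowers (z : G) :
    Subgroup.zpowers z ≤ Subgroup.centralizer ((Subgroup.zpowers z : Subgroup G) : Set G) := by
  rw [centralizer_zpowers, Subgroup.zpowers_le, mem_centralizer_singleton]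

theorem isInducedBlock_principal_iff_of_eq (hM : IsPModular p M) {z : G}
    (hz : ∃ k : ℕ, orderOf z = p ^ k) : ∀ (C : Subgroup G),
    C = Subgroup.centralizer ((Subgroup.zpowers z : Subgroup G) : Set G) →
      ∀ b : Set (IrrCharacter C), IsInducedBlock M C b (principalBlock M G) ↔ b = principalBlock M C := by
  rintro C rfl b
  haveI := prime_of_isPModular hM
  have hQ := isPGroup_zpowers_of_orderOf hz
  have hB : IsPBlock M (principalBlock M G) := ⟨⟨fun _ => 1, isIrrCharacter_one⟩, rfl⟩
  have he0 : IsPBlock M (principalBlock M (Subgroup.centralizer ((Subgroup.zpowers z : Subgroup G) : Set G))) :=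
    ⟨⟨fun _ => 1, isIrrCharacter_one⟩, rfl⟩
  constructor
  · intro hind
    obtain ⟨ξ, hξ⟩ := isPBlock_nonempty hind.1
    refine isPBlock_eq_of_mem hind.1 he0 hξ ?_
    by_contra hn
    have h1 := (isInducedBlock_iff_brauerOmega hM hQ (zpowers_le_centralizer_zpowers z) hB hind.1).1 hind ξ hξ
    have h2 := brauerOmega_principal hM hQ ξ
    rw [if_neg hn, sub_zero] at h2
    have := memLocalIdeal_sub h2 h1
    rw [sub_sub_cancel] at this
    exact not_memLocalIdeal_one this
  · rintro rfl
    refine (isInducedBlock_iff_brauerOmega hM hQ (zpowers_le_centralizer_zpowers z) hB he0).2 fun ξ hξ => ?_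
    simpa [if_pos hξ] using brauerOmega_principal hM hQ ξ

/-- The local blocks of the principal block. -/
theorem localBlocks_principal (hM : IsPModular p M) {z : G} (hz : ∃ k : ℕ, orderOf z = p ^ k) :
    localBlocks M z (principalBlock M G) =
      {principalBlock M (Subgroup.centralizer ({z} : Set G))} := by
  ext b
  rw [mem_localBlocks, Finset.mem_singleton]
  exact isInducedBlock_principal_iff_of_eq hM hz _ (centralizer_zpowers z).symm b

theorem natCast_mul_card_block [Fintype G] (B : Set (IrrCharacter G)) :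
    ∑ g : G, blockKernel B g g = (Nat.card G : ℂ) * (Nat.card B : ℂ) := by
  simp only [blockKernel, finsum_mem_eq_finite_toFinset_sum _ B.toFinite]
  rw [Finset.sum_comm, Finset.sum_congr rfl (g := fun _ => (Nat.card G : ℂ)) fun χ _ => ?_,
    Finset.sum_const, nsmul_eq_mul, mul_comm]
  · congr 2
    rw [Nat.card_coe_set_eq, Set.ncard_eq_toFinset_card]
  · have h := IsIrrCharacter.classInner_self χ.2
    rw [classInner, inv_mul_eq_iff_eq_mul₀ (Nat.cast_ne_zero.2 Nat.card_pos.ne'), mul_one] at h
    exact h

/-- The part of the diagonal of a block kernel lying over a p-element. -/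
noncomputable def sectionDiag [Fintype G] (p : ℕ) (B : Set (IrrCharacter G)) (z : G) : ℂ :=
  ∑ g : G, if IsPPart p g z then blockKernel B g g else 0

theorem sectionDiag_conj [Fintype G] (B : Set (IrrCharacter G)) (z t : G) :
    sectionDiag p B (t * z * t⁻¹) = sectionDiag p B z := by
  refine (Fintype.sum_equiv (MulAut.conj t).toEquiv _ _ fun g => ?_).symm
  show (if IsPPart p g z then _ else 0) =
    if IsPPart p (t * g * t⁻¹) (t * z * t⁻¹) then blockKernel B (t * g * t⁻¹) (t * g * t⁻¹) else 0
  have hiff : IsPPart p g z ↔ IsPPart p (t * g * t⁻¹) (t * z * t⁻¹) := by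
    refine ⟨fun h => isPPart_conj h t, fun h => ?_⟩
    have h' := isPPart_conj h t⁻¹
    rw [show t⁻¹ * (t * g * t⁻¹) * t⁻¹⁻¹ = g by group, show t⁻¹ * (t * z * t⁻¹) * t⁻¹⁻¹ = z by group] at h'
    exact h'
  refine if_congr hiff ?_ rfl
  simp only [blockKernel]
  refine finsum_congr fun χ => finsum_congr fun _ => ?_
  rw [IsCharacter.isClassFunction (IsIrrCharacter.isCharacter χ.2) g t]

theorem sectionDiag_eq [Fintype G] (hM : IsPModular p M) {B : Set (IrrCharacter G)} (hB : IsPBlock M B)
    {z : G} (hz : ∃ k : ℕ, orderOf z = p ^ k) :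
    sectionDiag p B z = (Nat.card (Subgroup.centralizer ({z} : Set G)) : ℂ) *
      ∑ b ∈ localBlocks M z B, (blockRank p b : ℂ) := by
  haveI := prime_of_isPModular hM
  haveI := Fintype.ofFinite (Subgroup.centralizer ({z} : Set G))
  rw [Finset.mul_sum, Finset.sum_congr rfl fun b hb => card_mul_blockRank hM (mem_localBlocks.1 hb).1,
    Finset.sum_comm, sectionDiag, ← Finset.sum_filter]
  have hre : ∀ y : Subgroup.centralizer ({z} : Set G),
      (∑ b ∈ localBlocks M z B, if p ∣ orderOf y then (0 : ℂ) else blockKernel b y y) =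
        if ¬ p ∣ orderOf y then blockKernel B (z * (y : G)) (z * (y : G)) else 0 := by
    intro y
    by_cases hy : p ∣ orderOf y
    · simp [hy]
    · simp only [if_neg hy, if_pos hy]
      exact (blockKernel_section hM hz hB hy hy).symm
  simp only [hre]
  rw [← Finset.sum_filter]
  symm
  refine Finset.sum_bij (fun y _ => z * (y : G)) (fun y hy => ?_) (fun y _ y' _ h => ?_) (fun g hg => ?_)
    (fun y _ => rfl)
  · simp only [Finset.mem_filter, Finset.mem_univ, true_and] at hy ⊢
    exact ⟨(y : G), rfl, centralizer_coe_iff y, hz, by rwa [Subgroup.orderOf_coe]⟩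
  · exact Subtype.ext (mul_left_cancel h)
  · simp only [Finset.mem_filter, Finset.mem_univ, true_and] at hg
    obtain ⟨y, h1, h2, -, h4⟩ := hg
    exact ⟨⟨y, mem_centralizer_singleton.2 h2⟩, Finset.mem_filter.2 ⟨Finset.mem_univ _,
      by rwa [Subgroup.orderOf_mk]⟩, h1⟩

/-- The number of characters in a block as a sum of local ranks. -/
theorem card_block_eq_sum (hM : IsPModular p M) {B : Set (IrrCharacter G)} (hB : IsPBlock M B)
    (X : Finset G) (hX : ∀ x ∈ X, ∃ k : ℕ, orderOf x = p ^ k)
    (hXrep : ∀ g : G, (∃ k : ℕ, orderOf g = p ^ k) → ∃! x, x ∈ X ∧ IsConj g x) :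
    Nat.card B = ∑ x ∈ X, ∑ b ∈ localBlocks M x B, blockRank p b := by
  haveI := prime_of_isPModular hM
  haveI := Fintype.ofFinite G
  have h1 : ∑ g : G, blockKernel B g g =
      ∑ z ∈ Finset.univ.filter (fun z : G => ∃ k : ℕ, orderOf z = p ^ k), sectionDiag p B z := by
    simp only [sectionDiag]
    rw [Finset.sum_comm]
    refine Finset.sum_congr rfl fun g _ => ?_
    obtain ⟨z, hz⟩ := isPPart_exists hM.1 g
    rw [Finset.sum_eq_single z]
    · rw [if_pos hz]
    · exact fun w _ hw => if_neg fun h => hw (isPPart_unique hM.1 h hz)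
    · intro h
      obtain ⟨y, -, -, hk, -⟩ := hz
      exact absurd (Finset.mem_filter.2 ⟨Finset.mem_univ z, hk⟩) h
  have h2 : ∑ z ∈ Finset.univ.filter (fun z : G => ∃ k : ℕ, orderOf z = p ^ k), sectionDiag p B z =
      ∑ x ∈ X, ∑ z ∈ Finset.univ.filter (fun z : G => IsConj x z), sectionDiag p B z := by
    rw [← Finset.sum_biUnion]
    · refine Finset.sum_congr (Finset.ext fun z => ?_) fun _ _ => rfl
      simp only [Finset.mem_filter, Finset.mem_univ, true_and, Finset.mem_biUnion]
      constructor
      · intro h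
        obtain ⟨x, ⟨hx, hzx⟩, -⟩ := hXrep z h
        exact ⟨x, hx, hzx.symm⟩
      · rintro ⟨x, hx, hxz⟩
        obtain ⟨k, hk⟩ := hX x hx
        obtain ⟨t, rfl⟩ := isConj_iff.1 hxz
        exact ⟨k, by rw [orderOf_conj_eq, hk]⟩
    · intro x hx x' hx' hne
      refine Finset.disjoint_left.2 fun z h h' => hne ?_
      simp only [Finset.mem_filter, Finset.mem_univ, true_and] at h h'
      exact (hXrep x (hX x hx)).unique ⟨hx, IsConj.refl x⟩ ⟨hx', h.trans h'.symm⟩
  have h3 : ∀ x ∈ X, ∑ z ∈ Finset.univ.filter (fun z : G => IsConj x z), sectionDiag p B z =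
      (Nat.card G : ℂ) * ∑ b ∈ localBlocks M x B, (blockRank p b : ℂ) := by
    intro x hx
    rw [Finset.sum_congr rfl (g := fun _ => sectionDiag p B x) fun z hz => ?_, Finset.sum_const,
      nsmul_eq_mul, card_filter_isConj, sectionDiag_eq hM hB (hX x hx), ← mul_assoc,
      ← Nat.cast_mul, Subgroup.index_mul_card]
    obtain ⟨t, rfl⟩ := isConj_iff.1 (Finset.mem_filter.1 hz).2
    exact sectionDiag_conj B x t
  rw [natCast_mul_card_block, h2, Finset.sum_congr rfl h3, ← Finset.mul_sum] at h1
  have := mul_left_cancel₀ (Nat.cast_ne_zero.2 (Nat.card_pos (α := G)).ne') h1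
  exact_mod_cast this

/-- Norms of the local decomposition on a section. -/
theorem sum_localPart_norm [Fintype G] (hM : IsPModular p M) {z : G} (hz : ∃ k : ℕ, orderOf z = p ^ k)
    {B : Set (IrrCharacter G)} (hB : IsPBlock M B)
    [Fintype (Subgroup.centralizer ({z} : Set G))]
    {e : Set (IrrCharacter (Subgroup.centralizer ({z} : Set G)))} (he : e ∈ localBlocks M z B) :
    ∑ χ ∈ B.toFinite.toFinset, ∑ s : Subgroup.centralizer ({z} : Set G),
      (if p ∣ orderOf s then (0 : ℂ) else
        blockPart e (fun c : Subgroup.centralizer ({z} : Set G) => (χ : G → ℂ) (z * (c : G))) s *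
          conj (blockPart e (fun c : Subgroup.centralizer ({z} : Set G) => (χ : G → ℂ) (z * (c : G))) s)) =
      (Nat.card (Subgroup.centralizer ({z} : Set G)) : ℂ) * (blockRank p e : ℂ) := by
  haveI := prime_of_isPModular hM
  have heb := (mem_localBlocks.1 he).1
  set n : ℂ := (Nat.card (Subgroup.centralizer ({z} : Set G)) : ℂ)
  have hn : n ≠ 0 := Nat.cast_ne_zero.2 Nat.card_pos.ne'
  let K := fun (s c : Subgroup.centralizer ({z} : Set G)) =>
    if p ∣ orderOf c then (0 : ℂ) else blockKernel e s c
  have hbp : ∀ (χ : IrrCharacter G) (s : Subgroup.centralizer ({z} : Set G)), ¬ p ∣ orderOf s →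
      blockPart e (fun c : Subgroup.centralizer ({z} : Set G) => (χ : G → ℂ) (z * (c : G))) s =
        n⁻¹ * ∑ c : Subgroup.centralizer ({z} : Set G), (χ : G → ℂ) (z * (c : G)) * K s c := by
    intro χ s hs
    rw [blockPart_eq_sum]
    congr 1
    refine Finset.sum_congr rfl fun c _ => ?_
    simp only [K]
    split
    next hc => rw [blockKernel_eq_zero hM heb (fun h => hs (h.2 hc))]
    · rfl
  rw [Finset.sum_comm, card_mul_blockRank hM heb]
  refine Finset.sum_congr rfl fun s _ => ?_
  split
  · simp
  next hs =>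
    rw [Finset.sum_congr rfl fun χ _ => by rw [hbp χ s hs]]
    simp only [map_mul, map_inv₀, map_sum, Complex.conj_natCast, n]
    calc ∑ χ ∈ B.toFinite.toFinset, (n⁻¹ * ∑ c : Subgroup.centralizer ({z} : Set G), (χ : G → ℂ) (z * (c : G)) * K s c) *
          (n⁻¹ * ∑ c' : Subgroup.centralizer ({z} : Set G), conj ((χ : G → ℂ) (z * (c' : G))) * conj (K s c'))
        = n⁻¹ * n⁻¹ * ∑ c : Subgroup.centralizer ({z} : Set G), ∑ c' : Subgroup.centralizer ({z} : Set G), K s c * conj (K s c') *
            ∑ χ ∈ B.toFinite.toFinset, (χ : G → ℂ) (z * (c : G)) * conj ((χ : G → ℂ) (z * (c' : G))) := by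
          rw [Finset.mul_sum]
          simp only [Finset.mul_sum, Finset.sum_mul]
          rw [Finset.sum_comm]
          conv_rhs => rw [Finset.sum_comm]
          refine Finset.sum_congr rfl fun c' _ => ?_
          rw [Finset.sum_comm]
          exact Finset.sum_congr rfl fun c _ => Finset.sum_congr rfl fun χ _ => by ring
      _ = n⁻¹ * n⁻¹ * ∑ c : Subgroup.centralizer ({z} : Set G), ∑ c' : Subgroup.centralizer ({z} : Set G), K s c * conj (K s c') *
            ∑ b ∈ localBlocks M z B, blockKernel b c c' := by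
          congr 1
          refine Finset.sum_congr rfl fun c _ => Finset.sum_congr rfl fun c' _ => ?_
          simp only [K]
          split
          · simp
          next hc =>
            split
            · simp
            next hc' =>
              rw [← blockKernel_section hM hz hB hc hc']
              congr 1
              simp only [blockKernel]
              rw [finsum_mem_eq_finite_toFinset_sum _ B.toFinite]
      _ = n⁻¹ * n⁻¹ * ∑ c', conj (K s c') * ∑ b ∈ localBlocks M z B,
            ∑ c, (if p ∣ orderOf c then 0 else blockKernel e s c * blockKernel b c c') := by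
          congr 1
          rw [Finset.sum_comm]
          refine Finset.sum_congr rfl fun c' _ => ?_
          simp only [Finset.mul_sum]
          rw [Finset.sum_comm]
          refine Finset.sum_congr rfl fun b _ => Finset.sum_congr rfl fun c _ => ?_
          simp only [K]
          split <;> ring
      _ = n⁻¹ * ∑ c', conj (K s c') * blockKernel e s c' := by
          rw [mul_assoc, Finset.mul_sum (a := n⁻¹)]
          congr 1
          refine Finset.sum_congr rfl fun c' _ => ?_
          rw [Finset.sum_eq_single e, sum_regular_kernel_mul hM heb heb hs, if_pos rfl]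
          · simp only [n]; field_simp
          · intro b hb hbe
            rw [sum_regular_kernel_mul hM heb (mem_localBlocks.1 hb).1 hs, if_neg (Ne.symm hbe)]
          · exact fun h => absurd he h
      _ = blockKernel e s s := by
          have : ∀ c', conj (K s c') * blockKernel e s c' =
              if p ∣ orderOf c' then 0 else blockKernel e s c' * blockKernel e c' s := fun c' => by
            simp only [K]
            split
            · simp
            · rw [blockKernel_conj, mul_comm]
          simp only [this]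
          rw [sum_regular_kernel_mul hM heb heb hs, if_pos rfl]
          simp only [n]; field_simp

theorem sum_localPart_norm_of_eq [Fintype G] (hM : IsPModular p M) {z : G}
    (hz : ∃ k : ℕ, orderOf z = p ^ k) {B : Set (IrrCharacter G)} (hB : IsPBlock M B) :
    ∀ (C : Subgroup G), C = Subgroup.centralizer ({z} : Set G) → ∀ (_ : Fintype C)
      (e : Set (IrrCharacter C)), IsInducedBlock M C e B →
    ∑ χ ∈ B.toFinite.toFinset, ∑ s : C,
      (if p ∣ orderOf s then (0 : ℂ) else
        blockPart e (fun c : C => (χ : G → ℂ) (z * (c : G))) s *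
          conj (blockPart e (fun c : C => (χ : G → ℂ) (z * (c : G))) s)) =
      (Nat.card C : ℂ) * (blockRank p e : ℂ) := by
  rintro C rfl _ e he
  exact sum_localPart_norm hM hz hB (mem_localBlocks.2 he)

end Cfsg.Agent.Block
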