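import Cfsg.Agent.Lib.Block.RegInner
import Cfsg.Agent.Lib.Block.RegVirtual
import Mathlib.NumberTheory.Padics.PadicVal.Basic

/-!
# Defects, heights, and the regular inner product modulo `M`
-/

set_option autoImplicit false

open Cfsg.Agent.Char
open scoped ComplexConjugate

namespace Cfsg.Agent.Block

universe u

variable {G : Type u} [Group G]

/-- The least exponent of `p` in the degrees of a set of characters. -/
noncomputable def minVal (p : ℕ) (B : Set (IrrCharacter G)) : ℕ :=
  sInf ((fun χ : IrrCharacter G => (charDegree (χ : G → ℂ)).factorization p) '' B)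

theorem minVal_le {p : ℕ} {B : Set (IrrCharacter G)} {χ : IrrCharacter G} (hχ : χ ∈ B) :
    minVal p B ≤ (charDegree (χ : G → ℂ)).factorization p := Nat.sInf_le ⟨χ, hχ, rfl⟩

theorem exists_minVal (p : ℕ) {B : Set (IrrCharacter G)} (hB : B.Nonempty) :
    ∃ χ ∈ B, (charDegree (χ : G → ℂ)).factorization p = minVal p B := Nat.sInf_mem (hB.image _)

theorem degree_factorization_le [Finite G] (p : ℕ) (χ : IrrCharacter G) :
    (charDegree (χ : G → ℂ)).factorization p ≤ (Nat.card G).factorization p :=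
  (Nat.factorization_le_iff_dvd (charDegree_pos χ.2).ne' Nat.card_pos.ne').2
    (charDegree_dvd_card χ.2) p

theorem blockHeight_eq (p : ℕ) (B : Set (IrrCharacter G)) (χ : IrrCharacter G) :
    blockHeight p B (χ : G → ℂ) = (charDegree (χ : G → ℂ)).factorization p - minVal p B := rfl

theorem blockDefect_eq (p : ℕ) (B : Set (IrrCharacter G)) :
    blockDefect p B = (Nat.card G).factorization p - minVal p B := rfl

theorem blockHeight_eq_zero_iff {p : ℕ} {B : Set (IrrCharacter G)} {χ : IrrCharacter G} (hχ : χ ∈ B) :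
    blockHeight p B (χ : G → ℂ) = 0 ↔ (charDegree (χ : G → ℂ)).factorization p = minVal p B := by
  have := minVal_le (p := p) hχ
  rw [blockHeight_eq]; omega

theorem exists_height_zero (p : ℕ) {B : Set (IrrCharacter G)} (hB : B.Nonempty) :
    ∃ χ ∈ B, blockHeight p B (χ : G → ℂ) = 0 := by
  obtain ⟨χ, hχ, h⟩ := exists_minVal p hB
  exact ⟨χ, hχ, (blockHeight_eq_zero_iff hχ).2 h⟩

theorem minVal_add_height {p : ℕ} {B : Set (IrrCharacter G)} {χ : IrrCharacter G} (hχ : χ ∈ B) :
    minVal p B + blockHeight p B (χ : G → ℂ) = (charDegree (χ : G → ℂ)).factorization p := by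
  have := minVal_le (p := p) hχ
  rw [blockHeight_eq]; omega

/-- The exponent of `p` in the class size. -/
noncomputable def classExp (p : ℕ) (g : G) : ℕ :=
  ((Subgroup.centralizer ({g} : Set G)).index).factorization p

theorem classExp_add [Finite G] (p : ℕ) (g : G) :
    classExp p g + (Nat.card (Subgroup.centralizer ({g} : Set G))).factorization p =
      (Nat.card G).factorization p := by
  rw [classExp, ← (Subgroup.centralizer ({g} : Set G)).index_mul_card,
    Nat.factorization_mul Subgroup.index_ne_zero_of_finite Nat.card_pos.ne']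
  rfl

theorem centralizer_singleton_inv (g : G) :
    Subgroup.centralizer ({g⁻¹} : Set G) = Subgroup.centralizer ({g} : Set G) := by
  ext x
  rw [mem_centralizer_singleton, mem_centralizer_singleton, Commute.inv_left_iff]

theorem classExp_inv (p : ℕ) (g : G) : classExp p g⁻¹ = classExp p g := by
  rw [classExp, classExp, centralizer_singleton_inv]

/-- The `p`-prime part of the class size. -/
noncomputable def classCofactor (p : ℕ) (g : G) : ℕ :=
  (Subgroup.centralizer ({g} : Set G)).index / p ^ classExp p g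

theorem index_eq_mul_classCofactor (p : ℕ) (g : G) :
    (Subgroup.centralizer ({g} : Set G)).index = p ^ classExp p g * classCofactor p g :=
  (Nat.ordProj_mul_ordCompl_eq_self _ p).symm

theorem not_dvd_classCofactor [Finite G] {p : ℕ} (hp : p.Prime) (g : G) :
    ¬ p ∣ classCofactor p g := Nat.not_dvd_ordCompl hp Subgroup.index_ne_zero_of_finite

/-- Relation between character value and central character. -/
theorem classCofactor_mul_apply [Finite G] {p : ℕ} (hp : p.Prime) (χ : IrrCharacter G) (g : G)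
    {e : ℕ} (he : classExp p g + e = (charDegree (χ : G → ℂ)).factorization p) :
    (classCofactor p g : ℂ) * (χ : G → ℂ) g =
      centralChar (χ : G → ℂ) g * ((p ^ e : ℕ) : ℂ) *
        ((charDegree (χ : G → ℂ) / p ^ (charDegree (χ : G → ℂ)).factorization p : ℕ) : ℂ) := by
  set n := charDegree (χ : G → ℂ) with hn
  set n' := n / p ^ n.factorization p
  have hn' : p ^ n.factorization p * n' = n := Nat.ordProj_mul_ordCompl_eq_self n p
  have hc := charDegree_cast (IsIrrCharacter.isCharacter χ.2)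
  rw [← hn] at hc
  have hp0 : ((p ^ classExp p g : ℕ) : ℂ) ≠ 0 := Nat.cast_ne_zero.2 (pow_ne_zero _ hp.ne_zero)
  have h1 : (χ : G → ℂ) 1 ≠ 0 := IsIrrCharacter.apply_one_ne_zero χ.2
  apply mul_left_cancel₀ hp0
  calc ((p ^ classExp p g : ℕ) : ℂ) * ((classCofactor p g : ℂ) * (χ : G → ℂ) g)
      = ((Subgroup.centralizer ({g} : Set G)).index : ℂ) * (χ : G → ℂ) g := by
        rw [index_eq_mul_classCofactor p g]; push_cast; ring
    _ = centralChar (χ : G → ℂ) g * (χ : G → ℂ) 1 := by rw [centralChar, div_mul_cancel₀ _ h1]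
    _ = centralChar (χ : G → ℂ) g * ((p ^ (classExp p g + e) * n' : ℕ) : ℂ) := by
        rw [← hc, he, hn']
    _ = _ := by push_cast; ring

variable {M : Ideal AlgInt} [hMp : M.IsPrime] {p : ℕ} [Finite G]

theorem memLocalIdeal_natCast_pow (hp : p.Prime) (hpM : (p : AlgInt) ∈ M) {e : ℕ} (he : e ≠ 0) :
    MemLocalIdeal M ((p ^ e : ℕ) : ℂ) :=
  (memLocalIdeal_natCast_iff hp hpM _).2 (dvd_pow_self p he)

/-- A unit central character bounds the class size. -/
theorem classExp_le_of_unit (hM : IsPModular p M) (χ : IrrCharacter G) (g : G)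
    (h : ¬ MemLocalIdeal M (centralChar (χ : G → ℂ) g)) :
    classExp p g ≤ (charDegree (χ : G → ℂ)).factorization p := by
  by_contra hlt
  push Not at hlt
  set n := charDegree (χ : G → ℂ) with hn
  set v := n.factorization p
  have hn' : p ^ v * (n / p ^ v) = n := Nat.ordProj_mul_ordCompl_eq_self n p
  have hc := charDegree_cast (IsIrrCharacter.isCharacter χ.2)
  rw [← hn] at hc
  have hp0 : ((p ^ v : ℕ) : ℂ) ≠ 0 := Nat.cast_ne_zero.2 (pow_ne_zero _ hM.1.ne_zero)
  have hkey : centralChar (χ : G → ℂ) g * ((n / p ^ v : ℕ) : ℂ) =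
      ((p ^ (classExp p g - v) : ℕ) : ℂ) * ((classCofactor p g : ℂ) * (χ : G → ℂ) g) := by
    apply mul_left_cancel₀ hp0
    calc ((p ^ v : ℕ) : ℂ) * (centralChar (χ : G → ℂ) g * ((n / p ^ v : ℕ) : ℂ))
        = centralChar (χ : G → ℂ) g * ((p ^ v * (n / p ^ v) : ℕ) : ℂ) := by push_cast; ring
      _ = ((Subgroup.centralizer ({g} : Set G)).index : ℂ) * (χ : G → ℂ) g := by
          rw [hn', hc, centralChar, div_mul_cancel₀ _ (IsIrrCharacter.apply_one_ne_zero χ.2)]
      _ = _ := by
          rw [index_eq_mul_classCofactor p g]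
          conv_lhs => rw [show classExp p g = v + (classExp p g - v) by omega, pow_add]
          push_cast; ring
  rcases memLocalIdeal_of_mul (centralChar_mem_locRing χ g) (natCast_mem (locRing M) (n / p ^ v))
    (hkey ▸ memLocalIdeal_mul_right (mul_mem (natCast_mem _ _) (irr_mem_locRing χ g))
      (memLocalIdeal_natCast_pow hM.1 hM.2.2 (Nat.sub_ne_zero_of_lt hlt))) with h' | h'
  · exact h h'
  · exact Nat.not_dvd_ordCompl hM.1 (charDegree_pos χ.2).ne'
      ((memLocalIdeal_natCast_iff hM.1 hM.2.2 _).1 h')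

/-- Small class size forces a small value. -/
theorem memLocalIdeal_apply_of_lt (hM : IsPModular p M) (χ : IrrCharacter G) (g : G)
    (h : classExp p g < (charDegree (χ : G → ℂ)).factorization p) :
    MemLocalIdeal M ((χ : G → ℂ) g) := by
  have h1 := classCofactor_mul_apply hM.1 χ g (Nat.add_sub_cancel' h.le)
  rw [show (χ : G → ℂ) g = (classCofactor p g : ℂ)⁻¹ * ((classCofactor p g : ℂ) * (χ : G → ℂ) g) by
    rw [inv_mul_cancel_left₀ (Nat.cast_ne_zero.2 fun h0 =>
      not_dvd_classCofactor hM.1 g (by rw [h0]; exact dvd_zero p))], h1]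
  exact memLocalIdeal_mul_left (inv_natCast_mem_locRing hM.1 hM.2.2 (not_dvd_classCofactor hM.1 g))
    (memLocalIdeal_mul_right (natCast_mem _ _) (memLocalIdeal_mul_left (centralChar_mem_locRing χ g)
      (memLocalIdeal_natCast_pow hM.1 hM.2.2 (Nat.sub_ne_zero_of_lt h))))

omit hMp in
theorem classExp_le_minVal (hM : IsPModular p M) {B : Set (IrrCharacter G)} (hB : IsPBlock M B)
    {χ : IrrCharacter G} (hχ : χ ∈ B) {g : G} (h : ¬ MemLocalIdeal M (centralChar (χ : G → ℂ) g)) :
    classExp p g ≤ minVal p B := by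
  haveI := prime_of_isPModular hM
  obtain ⟨ψ, hψ, hv⟩ := exists_minVal p (isPBlock_nonempty hB)
  exact hv ▸ classExp_le_of_unit hM ψ g (centralChar_unit_congr hB hχ hψ h)

/-- The block idempotent coefficients are combinations of the character values. -/
theorem exists_blockCoeff_eq_sum (hM : IsPModular p M) {B : Set (IrrCharacter G)}
    (hB : IsPBlock M B) : ∃ c : IrrCharacter G → ℂ, (∀ χ, c χ ∈ locRing M) ∧
      ∀ x : G, ¬ p ∣ orderOf x → blockCoeff B x = ∑ᶠ χ ∈ B, c χ * (χ : G → ℂ) x⁻¹ := by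
  classical
  haveI := Fact.mk hM.1
  haveI := Fintype.ofFinite G
  obtain ⟨P⟩ : Nonempty (Sylow p G) := inferInstance
  set φ := sectionFun (P : Subgroup G) (1 : G)
  have hP1 : (P : Subgroup G) ≤ Subgroup.centralizer ({1} : Set G) := fun x _ =>
    mem_centralizer_singleton.2 (Commute.one_left x)
  have hspan : IsSpanR M φ := isSpanR_sectionFun _ hP1
  have h1p : ¬ p ∣ orderOf (1 : G) := by rw [orderOf_one]; exact hM.1.not_dvd_one
  set a := (Nat.card G).factorization p
  set m := Nat.card G / p ^ a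
  have hm : (Nat.card G : ℂ) = ((p ^ a : ℕ) : ℂ) * (m : ℂ) := by
    rw [← Nat.cast_mul, Nat.ordProj_mul_ordCompl_eq_self]
  have hφ1 : φ 1 = (m : ℂ) := by
    have hp0 : ((p ^ a : ℕ) : ℂ) ≠ 0 := Nat.cast_ne_zero.2 (pow_ne_zero _ hM.1.ne_zero)
    show sectionFun _ _ _ = _
    rw [sectionFun_self hM.1 h1p P.2 hP1, Sylow.card_eq_multiplicity,
      show Subgroup.centralizer ({1} : Set G) = ⊤ from eq_top_iff.2 fun x _ =>
        mem_centralizer_singleton.2 (Commute.one_left x), Subgroup.card_top, hm,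
      mul_div_cancel_left₀ _ hp0]
  refine ⟨fun χ => (m : ℂ)⁻¹ * classInner φ (χ : G → ℂ),
    fun χ => mul_mem (inv_natCast_mem_locRing hM.1 hM.2.2 (Nat.not_dvd_ordCompl hM.1 Nat.card_pos.ne'))
      (hspan.2 χ), fun x hx => ?_⟩
  have h1 := blockPart_regular (p := p) hM hB φ x⁻¹
  rw [orderOf_inv, if_neg hx, blockPart_eq_sum, Finset.sum_eq_single (1 : G), if_neg h1p, hφ1] at h1
  · have hk : blockKernel B x⁻¹ 1 = blockKernel B 1 x := by
      simp only [blockKernel]
      refine finsum_congr fun χ => finsum_congr fun _ => ?_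
      rw [IsCharacter.map_inv (IsIrrCharacter.isCharacter χ.2), conj_irr_one, mul_comm]
    rw [hk] at h1
    have hm0 : (m : ℂ) ≠ 0 := Nat.cast_ne_zero.2 fun h0 =>
      Nat.not_dvd_ordCompl hM.1 Nat.card_pos.ne' (show p ∣ m from h0 ▸ dvd_zero p)
    rw [blockCoeff_eq_blockKernel, ← inv_mul_cancel_left₀ hm0 ((Nat.card G : ℂ)⁻¹ * blockKernel B 1 x),
      mul_left_comm (m : ℂ), h1, blockPart, finsum_mem_eq_finite_toFinset_sum _ B.toFinite,
      finsum_mem_eq_finite_toFinset_sum _ B.toFinite, Finset.mul_sum]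
    refine Finset.sum_congr rfl fun χ _ => ?_
    rw [← mul_assoc]
    congr 3
    exact Subsingleton.elim _ _
  · intro y _ hy
    by_cases hyp : p ∣ orderOf y
    · rw [if_pos hyp, zero_mul]
    · have hzero : φ y = 0 := by
        refine sectionFun_eq_zero_of_not h1p hP1 P.2 hM.1 fun ⟨u, hu, hc⟩ => hy ?_
        have := isPPart_unique hM.1 hu ((isPPart_one_iff hM.1).2 hyp)
        rw [this, inv_one, mul_one] at hc
        obtain ⟨t, ht⟩ := isConj_iff.1 hc
        rw [← ht]; simp
      rw [if_neg hyp, hzero, zero_mul]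
  · simp

/-- The defect of a class with unit idempotent coefficient. -/
theorem minVal_le_classExp (hM : IsPModular p M) {B : Set (IrrCharacter G)} (hB : IsPBlock M B)
    {g : G} (hg : ¬ MemLocalIdeal M (blockCoeff B g)) : minVal p B ≤ classExp p g := by
  obtain ⟨c, hc, hsum⟩ := exists_blockCoeff_eq_sum hM hB
  have hreg : ¬ p ∣ orderOf g := fun h => hg (by
    rw [blockCoeff_eq_zero_of_dvd hM hB h]; exact memLocalIdeal_zero)
  by_contra hlt
  push Not at hlt
  refine hg ?_
  rw [hsum g hreg, finsum_mem_eq_finite_toFinset_sum _ B.toFinite]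
  refine memLocalIdeal_sum _ _ fun χ hχ => memLocalIdeal_mul_left (hc χ) ?_
  refine memLocalIdeal_apply_of_lt hM χ g⁻¹ ?_
  rw [classExp_inv]
  exact hlt.trans_le (minVal_le (B.toFinite.mem_toFinset.1 hχ))

theorem classExp_eq_minVal_of_isDefectClass (hM : IsPModular p M) {B : Set (IrrCharacter G)}
    (hB : IsPBlock M B) {g : G} (hg : IsDefectClass M B g) : classExp p g = minVal p B := by
  obtain ⟨χ, hχ⟩ := isPBlock_nonempty hB
  exact le_antisymm (classExp_le_minVal hM hB hχ (hg.2.2 χ hχ)) (minVal_le_classExp hM hB hg.2.1)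

omit hMp in
/-- Defect groups have order `p` to the defect. -/
theorem card_defectGroup (hM : IsPModular p M) {B : Set (IrrCharacter G)} (hB : IsPBlock M B)
    {D : Subgroup G} (hD : IsDefectGroup p M B D) : Nat.card D = p ^ blockDefect p B := by
  haveI := prime_of_isPModular hM
  haveI := Fact.mk hM.1
  obtain ⟨g, hg, S, rfl⟩ := hD
  rw [Nat.card_congr ((S : Subgroup _).equivMapOfInjective (Subgroup.centralizer ({g} : Set G)).subtype
    (Subgroup.subtype_injective _)).toEquiv.symm, Sylow.card_eq_multiplicity, blockDefect_eq]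
  congr 1
  have := classExp_add p g
  rw [classExp_eq_minVal_of_isDefectClass hM hB hg] at this
  omega

/-- The common value, up to `M`, of the pairing of a block on classes of full defect. -/
noncomputable def defectSum (p : ℕ) (B : Set (IrrCharacter G)) (φ : G → ℂ)
    [Fintype (ConjClasses G)] : ℂ :=
  ∑ C : ConjClasses G,
    if ¬ p ∣ orderOf (classRep C) ∧ classExp p (classRep C) = minVal p B then
      centralChar φ (classRep C) * centralChar φ (classRep C)⁻¹ * ((classCofactor p (classRep C) : ℂ))⁻¹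
    else 0

theorem defectSum_mem [Fintype (ConjClasses G)] (hM : IsPModular p M) (B : Set (IrrCharacter G))
    (φ : IrrCharacter G) : defectSum p B (φ : G → ℂ) ∈ locRing M := by
  refine Subring.sum_mem _ fun C _ => ?_
  split
  · exact mul_mem (mul_mem (centralChar_mem_locRing φ _) (centralChar_mem_locRing φ _))
      (inv_natCast_mem_locRing hM.1 hM.2.2 (not_dvd_classCofactor hM.1 _))
  · exact zero_mem _

/-- The degree divided by the least power of `p` in the block. -/
noncomputable def redDegree (p : ℕ) (B : Set (IrrCharacter G)) (χ : G → ℂ) : ℕ :=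
  charDegree χ / p ^ minVal p B

omit [Finite G] in
theorem redDegree_eq (hp : p.Prime) {B : Set (IrrCharacter G)} {χ : IrrCharacter G} (hχ : χ ∈ B) :
    redDegree p B (χ : G → ℂ) = p ^ blockHeight p B (χ : G → ℂ) *
      (charDegree (χ : G → ℂ) / p ^ (charDegree (χ : G → ℂ)).factorization p) := by
  set n := charDegree (χ : G → ℂ)
  have hn' : p ^ n.factorization p * (n / p ^ n.factorization p) = n :=
    Nat.ordProj_mul_ordCompl_eq_self n p
  rw [redDegree]
  refine Nat.div_eq_of_eq_mul_right (pow_pos hp.pos _) ?_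
  rw [← mul_assoc, ← pow_add, minVal_add_height hχ, hn']

omit [Finite G] in
theorem not_dvd_redDegree_iff (hp : p.Prime) {B : Set (IrrCharacter G)} {χ : IrrCharacter G}
    (hχ : χ ∈ B) : ¬ p ∣ redDegree p B (χ : G → ℂ) ↔ blockHeight p B (χ : G → ℂ) = 0 := by
  rw [redDegree_eq hp hχ]
  refine ⟨fun h => by_contra fun h0 => h ((dvd_pow_self p h0).mul_right _), fun h => ?_⟩
  rw [h, pow_zero, one_mul]
  exact Nat.not_dvd_ordCompl hp (charDegree_pos χ.2).ne'

theorem apply_congr_of_classExp_eq (hM : IsPModular p M) {B : Set (IrrCharacter G)}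
    (hB : IsPBlock M B) {χ φ : IrrCharacter G} (hχ : χ ∈ B) (hφ : φ ∈ B) {g : G}
    (hg : classExp p g = minVal p B) :
    MemLocalIdeal M ((χ : G → ℂ) g - centralChar (φ : G → ℂ) g * (redDegree p B (χ : G → ℂ) : ℂ) *
      ((classCofactor p g : ℂ))⁻¹) := by
  have h1 := classCofactor_mul_apply hM.1 χ g (e := blockHeight p B (χ : G → ℂ))
    (by rw [hg, minVal_add_height hχ])
  rw [mul_assoc, ← Nat.cast_mul, ← redDegree_eq hM.1 hχ] at h1
  have hc0 : (classCofactor p g : ℂ) ≠ 0 := Nat.cast_ne_zero.2 fun h0 =>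
    not_dvd_classCofactor hM.1 g (by rw [h0]; exact dvd_zero p)
  have h2 : (χ : G → ℂ) g = centralChar (χ : G → ℂ) g * (redDegree p B (χ : G → ℂ) : ℂ) *
      ((classCofactor p g : ℂ))⁻¹ := by rw [← h1]; field_simp
  rw [h2, ← sub_mul, ← sub_mul]
  exact memLocalIdeal_mul_right (inv_natCast_mem_locRing hM.1 hM.2.2 (not_dvd_classCofactor hM.1 g))
    (memLocalIdeal_mul_right (natCast_mem _ _) (isPBlock_sameBlock hB hχ hφ g))

omit hMp in
/-- The regular inner product divided by the degree, modulo `M`. -/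
theorem regInner_div_congr [Fintype G] [Fintype (ConjClasses G)] (hM : IsPModular p M)
    {B : Set (IrrCharacter G)} (hB : IsPBlock M B) {χ ψ φ : IrrCharacter G} (hχ : χ ∈ B) (hψ : ψ ∈ B)
    (hφ : φ ∈ B) :
    MemLocalIdeal M (regInner p (χ : G → ℂ) (ψ : G → ℂ) / (ψ : G → ℂ) 1 -
      (redDegree p B (χ : G → ℂ) : ℂ) * defectSum p B (φ : G → ℂ)) := by
  haveI := prime_of_isPModular hM
  rw [← omega_conjChar_regElt, omega_eq_sum_classes _
    (isCentralElt_regElt p (IsCharacter.isClassFunction (IsIrrCharacter.isCharacter χ.2))),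
    defectSum, Finset.mul_sum, ← Finset.sum_sub_distrib]
  refine memLocalIdeal_sum _ _ fun C _ => ?_
  set g := classRep C
  have hcc : centralChar (conjChar ψ : G → ℂ) g = centralChar (ψ : G → ℂ) g⁻¹ := by
    simp only [centralChar, centralizer_singleton_inv, conjChar_apply,
      IsCharacter.map_inv (IsIrrCharacter.isCharacter ψ.2), conj_irr_one]
  rw [hcc]
  simp only [regElt, coeff_mkA]
  by_cases hg : p ∣ orderOf g
  · rw [if_pos hg, if_neg (fun h => h.1 hg), zero_mul, mul_zero, sub_zero]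
    exact memLocalIdeal_zero
  rw [if_neg hg]
  by_cases he : classExp p g = minVal p B
  · rw [if_pos ⟨hg, he⟩]
    have e : (redDegree p B (χ : G → ℂ) : ℂ) * (centralChar (φ : G → ℂ) g *
        centralChar (φ : G → ℂ) g⁻¹ * ((classCofactor p g : ℂ))⁻¹) =
        centralChar (φ : G → ℂ) g * (redDegree p B (χ : G → ℂ) : ℂ) *
          ((classCofactor p g : ℂ))⁻¹ * centralChar (φ : G → ℂ) g⁻¹ := by ring
    rw [e]
    exact memLocalIdeal_mul_sub_mul (centralChar_mem_locRing ψ _)
      (mul_mem (mul_mem (centralChar_mem_locRing φ _) (natCast_mem _ _))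
        (inv_natCast_mem_locRing hM.1 hM.2.2 (not_dvd_classCofactor hM.1 g)))
      (apply_congr_of_classExp_eq hM hB hχ hφ he) (isPBlock_sameBlock hB hψ hφ g⁻¹)
  · rw [if_neg (fun h => he h.2), mul_zero, sub_zero]
    rcases lt_or_gt_of_ne he with hlt | hgt
    · exact memLocalIdeal_mul_right (centralChar_mem_locRing ψ _)
        (memLocalIdeal_apply_of_lt hM χ g (hlt.trans_le (minVal_le hχ)))
    · refine memLocalIdeal_mul_left (irr_mem_locRing χ _) (not_not.1 fun h => ?_)
      have := classExp_le_minVal hM hB hψ h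
      rw [classExp_inv] at this
      omega

omit hMp in
theorem not_memLocalIdeal_defectSum [Fintype (ConjClasses G)] (hM : IsPModular p M)
    {B : Set (IrrCharacter G)} (hB : IsPBlock M B) {φ : IrrCharacter G} (hφ : φ ∈ B) :
    ¬ MemLocalIdeal M (defectSum p B (φ : G → ℂ)) := by
  classical
  haveI := prime_of_isPModular hM
  intro hS
  obtain ⟨c, hc, hsum⟩ := exists_blockCoeff_eq_sum hM hB
  set κ := ∑ χ ∈ B.toFinite.toFinset, c χ * (redDegree p B (χ : G → ℂ) : ℂ) with hκ
  have hκm : κ ∈ locRing M := Subring.sum_mem _ fun χ _ => mul_mem (hc χ) (natCast_mem _ _)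
  have h1 : omega (φ : G → ℂ) (blockIdem B) = 1 := by rw [omega_blockIdem, if_pos hφ]
  rw [omega_eq_sum_classes φ (isCentralElt_blockIdem B)] at h1
  refine not_memLocalIdeal_one (M := M) ?_
  rw [← h1]
  have h2 : MemLocalIdeal M (κ * defectSum p B (φ : G → ℂ)) := memLocalIdeal_mul_left hκm hS
  have h3 : MemLocalIdeal M ((∑ C : ConjClasses G, (blockIdem B).coeff (classRep C) *
      centralChar (φ : G → ℂ) (classRep C)) - κ * defectSum p B (φ : G → ℂ)) := by
    rw [defectSum, Finset.mul_sum, ← Finset.sum_sub_distrib]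
    refine memLocalIdeal_sum _ _ fun C _ => ?_
    set g := classRep C
    simp only [blockIdem, coeff_mkA]
    by_cases hg : p ∣ orderOf g
    · rw [blockCoeff_eq_zero_of_dvd hM hB hg, zero_mul, if_neg (fun h => h.1 hg), mul_zero, sub_zero]
      exact memLocalIdeal_zero
    rcases lt_trichotomy (classExp p g) (minVal p B) with hlt | he | hgt
    · rw [if_neg (fun h => hlt.ne h.2), mul_zero, sub_zero]
      exact memLocalIdeal_mul_right (centralChar_mem_locRing φ g)
        (not_not.1 fun h => absurd (minVal_le_classExp hM hB h) (not_le.2 hlt))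
    · rw [if_pos ⟨hg, he⟩, hsum g hg, finsum_mem_eq_finite_toFinset_sum _ B.toFinite, hκ,
        Finset.sum_mul, Finset.sum_mul, ← Finset.sum_sub_distrib]
      refine memLocalIdeal_sum _ _ fun χ hχ => ?_
      have hχB := B.toFinite.mem_toFinset.1 hχ
      have h4 := apply_congr_of_classExp_eq hM hB hχB hφ (g := g⁻¹) (by rw [classExp_inv]; exact he)
      have hcc : classCofactor p g⁻¹ = classCofactor p g := by
        rw [classCofactor, classCofactor, classExp_inv, centralizer_singleton_inv]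
      rw [hcc] at h4
      have e : c χ * (χ : G → ℂ) g⁻¹ * centralChar (φ : G → ℂ) g -
          c χ * (redDegree p B (χ : G → ℂ) : ℂ) * (centralChar (φ : G → ℂ) g *
            centralChar (φ : G → ℂ) g⁻¹ * ((classCofactor p g : ℂ))⁻¹) =
          c χ * centralChar (φ : G → ℂ) g * ((χ : G → ℂ) g⁻¹ - centralChar (φ : G → ℂ) g⁻¹ *
            (redDegree p B (χ : G → ℂ) : ℂ) * ((classCofactor p g : ℂ))⁻¹) := by ring
      rw [e]
      exact memLocalIdeal_mul_left (mul_mem (hc χ) (centralChar_mem_locRing φ g)) h4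
    · rw [if_neg (fun h => hgt.ne' h.2), mul_zero, sub_zero]
      exact memLocalIdeal_mul_left (blockCoeff_mem_locRing hB g)
        (not_not.1 fun h => absurd (classExp_le_minVal hM hB hφ h) (not_le.2 hgt))
  simpa using memLocalIdeal_add h3 h2

omit hMp in
theorem regInner_div_memLocalIdeal_iff [Fintype G] (hM : IsPModular p M)
    {B : Set (IrrCharacter G)} (hB : IsPBlock M B) {χ ψ : IrrCharacter G} (hψ : ψ ∈ B) :
    MemLocalIdeal M (regInner p (χ : G → ℂ) (ψ : G → ℂ) / (ψ : G → ℂ) 1) ↔
      ¬ (χ ∈ B ∧ blockHeight p B (χ : G → ℂ) = 0) := by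
  haveI := prime_of_isPModular hM
  haveI := Fintype.ofFinite (ConjClasses G)
  by_cases hχ : χ ∈ B
  · have h := regInner_div_congr hM hB hχ hψ hψ
    constructor
    · rintro h1 ⟨-, h0⟩
      have h2 := memLocalIdeal_sub h1 h
      rw [sub_sub_cancel] at h2
      rcases memLocalIdeal_of_mul (natCast_mem _ _) (defectSum_mem hM B ψ) h2 with h3 | h3
      · exact (not_dvd_redDegree_iff hM.1 hχ).2 h0 ((memLocalIdeal_natCast_iff hM.1 hM.2.2 _).1 h3)
      · exact not_memLocalIdeal_defectSum hM hB hψ h3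
    · intro h1
      have hdvd : p ∣ redDegree p B (χ : G → ℂ) := not_not.1 fun hd =>
        h1 ⟨hχ, (not_dvd_redDegree_iff hM.1 hχ).1 hd⟩
      simpa using memLocalIdeal_add h (memLocalIdeal_mul_right (defectSum_mem hM B ψ)
        ((memLocalIdeal_natCast_iff hM.1 hM.2.2 _).2 hdvd))
  · refine iff_of_true ?_ (fun h => hχ h.1)
    rw [regInner, sum_regular_eq_zero hM (fun h => hχ ((isPBlock_mem_iff hB hψ).2 (sameBlock_symm h))),
      zero_div]
    exact memLocalIdeal_zero

/-- An integer over a natural number is a local unit exactly when the `p`-adic values agree. -/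
theorem intCast_div_unit_iff (hM : IsPModular p M) {z : ℤ} {m : ℕ} (hm : m ≠ 0)
    (hl : (z : ℂ) / (m : ℂ) ∈ locRing M) :
    ¬ MemLocalIdeal M ((z : ℂ) / (m : ℂ)) ↔ z ≠ 0 ∧ padicValInt p z = m.factorization p := by
  rcases eq_or_ne z 0 with rfl | hz
  · simp [memLocalIdeal_zero]
  have hz' : z.natAbs ≠ 0 := Int.natAbs_ne_zero.2 hz
  set i := z.natAbs.factorization p
  set v := m.factorization p
  set s := z.natAbs / p ^ i
  set r := m / p ^ v
  have hs : p ^ i * s = z.natAbs := Nat.ordProj_mul_ordCompl_eq_self _ p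
  have hr : p ^ v * r = m := Nat.ordProj_mul_ordCompl_eq_self _ p
  have hsd : ¬ p ∣ s := Nat.not_dvd_ordCompl hM.1 hz'
  have hrd : ¬ p ∣ r := Nat.not_dvd_ordCompl hM.1 hm
  have hpv : padicValInt p z = i := (Nat.factorization_def _ hM.1).symm
  set X : ℂ := (z.natAbs : ℂ) / (m : ℂ)
  have hX : MemLocalIdeal M ((z : ℂ) / (m : ℂ)) ↔ MemLocalIdeal M X := by
    rcases Int.natAbs_eq z with e | e
    · conv_lhs => rw [e, Int.cast_natCast]
    · conv_lhs => rw [e, Int.cast_neg, Int.cast_natCast, neg_div]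
      exact ⟨fun h => neg_neg X ▸ memLocalIdeal_neg h, memLocalIdeal_neg⟩
  have hXl : X ∈ locRing M := by
    rcases Int.natAbs_eq z with e | e
    · rw [e, Int.cast_natCast] at hl; exact hl
    · rw [e, Int.cast_neg, Int.cast_natCast, neg_div] at hl; exact neg_neg X ▸ neg_mem hl
  have hp0 : (p : ℂ) ≠ 0 := Nat.cast_ne_zero.2 hM.1.ne_zero
  have hr0 : (r : ℂ) ≠ 0 := Nat.cast_ne_zero.2 fun h => hrd (h ▸ dvd_zero p)
  rw [hX, hpv]
  simp only [ne_eq, hz, not_false_eq_true, true_and]
  have hXeq : X * ((r : ℂ) * (p : ℂ) ^ v) = (p : ℂ) ^ i * (s : ℂ) := by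
    have : (m : ℂ) = (p : ℂ) ^ v * (r : ℂ) := by rw [← hr]; push_cast; ring
    rw [mul_comm (r : ℂ), ← this, div_mul_cancel₀ _ (Nat.cast_ne_zero.2 hm), ← hs]
    push_cast; ring
  rcases lt_trichotomy i v with hlt | heq | hgt
  · exfalso
    have : (s : ℂ) = X * (r : ℂ) * ((p ^ (v - i) : ℕ) : ℂ) := by
      have e : (p : ℂ) ^ v = (p : ℂ) ^ i * (p : ℂ) ^ (v - i) := by
        rw [← pow_add, Nat.add_sub_cancel' hlt.le]
      apply mul_left_cancel₀ (pow_ne_zero i hp0)
      rw [← hXeq, e]; push_cast; ring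
    refine hsd ((memLocalIdeal_natCast_iff hM.1 hM.2.2 _).1 ?_)
    rw [this]
    exact memLocalIdeal_mul_left (mul_mem hXl (natCast_mem _ _))
      (memLocalIdeal_natCast_pow hM.1 hM.2.2 (Nat.sub_ne_zero_of_lt hlt))
  · refine iff_of_true (fun h => hsd ((memLocalIdeal_natCast_iff hM.1 hM.2.2 _).1 ?_)) heq
    have : (s : ℂ) = X * (r : ℂ) := by
      apply mul_left_cancel₀ (pow_ne_zero i hp0)
      rw [← hXeq, heq]; ring
    rw [this]
    exact memLocalIdeal_mul_right (natCast_mem _ _) h
  · refine iff_of_false (fun h => h ?_) hgt.ne'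
    have : X = (r : ℂ)⁻¹ * (s : ℂ) * ((p ^ (i - v) : ℕ) : ℂ) := by
      have e : (p : ℂ) ^ i = (p : ℂ) ^ v * (p : ℂ) ^ (i - v) := by
        rw [← pow_add, Nat.add_sub_cancel' hgt.le]
      apply mul_right_cancel₀ (mul_ne_zero hr0 (pow_ne_zero v hp0))
      rw [hXeq, e]; field_simp; push_cast; ring
    rw [this]
    exact memLocalIdeal_mul_left (mul_mem (inv_natCast_mem_locRing hM.1 hM.2.2 hrd) (natCast_mem _ _))
      (memLocalIdeal_natCast_pow hM.1 hM.2.2 (Nat.sub_ne_zero_of_lt hgt))

end Cfsg.Agent.Block
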