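import Cfsg.Agent.Lib.Block.PairDefect
import Cfsg.Agent.Lib.Block.Columns
import Cfsg.Agent.Lib.Block.Height

/-!
# Defects of non-principal blocks of centralisers of p-elements
-/

set_option autoImplicit false
set_option linter.style.haveILetI false

open Cfsg.Agent.Char
open scoped ComplexConjugate Pointwise

namespace Cfsg.Agent.Block

universe u

local notation "CG(" P ")" => Subgroup.centralizer (SetLike.coe P)

variable {G : Type u} [Group G] [Finite G] {M : Ideal AlgInt} [hMp : M.IsPrime] {p : ℕ} [Fact p.Prime]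

theorem eq_principal_of_pairOf (hM : IsPModular p M) {Q : Subgroup G}
    {f : Set (IrrCharacter (Subgroup.centralizer (Q : Set G)))}
    (h : IsBrauerPairOf p M (principalBlock M G) Q f) :
    f = principalBlock M (Subgroup.centralizer (Q : Set G)) := by
  obtain ⟨ξ, hξ⟩ := isPBlock_nonempty h.1.2
  refine isPBlock_eq_of_mem h.1.2 ⟨⟨fun _ => 1, isIrrCharacter_one⟩, rfl⟩ hξ ?_
  by_contra hn
  have h2 := brauerOmega_principal hM h.1.1 ξ
  rw [if_neg hn, sub_zero] at h2
  have := memLocalIdeal_sub h2 (h.2.2 ξ hξ)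
  rw [sub_sub_cancel] at this
  exact not_memLocalIdeal_one this

theorem pairOf_principal (hM : IsPModular p M) {Q : Subgroup G} (hQ : IsPGroup p Q) :
    IsBrauerPairOf p M (principalBlock M G) Q (principalBlock M (Subgroup.centralizer (Q : Set G))) :=
  ⟨⟨hQ, ⟨fun _ => 1, isIrrCharacter_one⟩, rfl⟩, ⟨⟨fun _ => 1, isIrrCharacter_one⟩, rfl⟩,
    fun ξ hξ => by simpa [if_pos hξ] using brauerOmega_principal hM hQ ξ⟩

/-- A non-principal block of a centraliser of a `p`-subgroup lies under a non-principal block of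
at least its defect. -/
theorem exists_nonprincipal_above (hM : IsPModular p M) {Q : Subgroup G} (hQ : IsPGroup p Q)
    {f : Set (IrrCharacter (Subgroup.centralizer (Q : Set G)))} (hf : IsPBlock M f)
    (hne : f ≠ principalBlock M (Subgroup.centralizer (Q : Set G))) :
    ∃ B : Set (IrrCharacter G), IsPBlock M B ∧ B ≠ principalBlock M G ∧
      blockDefect p f ≤ blockDefect p B := by
  obtain ⟨ξ, hξ⟩ := isPBlock_nonempty hf
  obtain ⟨B, hB, hB1⟩ := (isResHom_lam_centralizer hM hQ ξ).exists_block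
  have hpairQ : IsBrauerPairOf p M B Q f := (isBrauerPairOf_iff hξ).2 ⟨⟨hQ, hf⟩, hB, hB1⟩
  refine ⟨B, hB, fun h => hne (eq_principal_of_pairOf hM (h ▸ hpairQ)), ?_⟩
  obtain ⟨D, hD⟩ := exists_isDefectGroup (p := p) hf
  obtain ⟨E, hE⟩ := exists_isDefectGroup (p := p) hB
  obtain ⟨g, hg, S, hS⟩ := id hD
  have hDG : D.map CG(Q).subtype ≤ CG(Q) := Subgroup.map_subtype_le D
  have hRp : IsPGroup p (Q ⊔ D.map CG(Q).subtype : Subgroup G) :=
    hQ.to_sup_of_normal_left' ((isPGroup_of_isDefectGroup hD).map _)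
      (hDG.trans (centralizer_le_normalizer' Q))
  have hRN : Q ⊔ D.map CG(Q).subtype ≤ Subgroup.normalizer (Q : Set G) :=
    sup_le Subgroup.le_normalizer (hDG.trans (centralizer_le_normalizer' Q))
  have hne' : brFun M (Q ⊔ D.map CG(Q).subtype) (embH CG(Q) (blockIdem f)) ≠ 0 := fun h0 => by
    have hy : (g : G) ∈ Subgroup.centralizer ((Q ⊔ D.map CG(Q).subtype : Subgroup G) : Set G) := by
      refine mem_centralizer_subgroup.2 (sup_le (mem_centralizer_subgroup.1 g.2) ?_)
      rintro _ ⟨d, hd, rfl⟩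
      rw [mem_centralizer_singleton]
      have hd' : d ∈ Subgroup.centralizer ({g} : Set CG(Q)) := sylowImage_le S (hS.le hd)
      exact (mem_centralizer_singleton.1 hd').map CG(Q).subtype
    have h1 := (brFun_eq_zero_iff (isLocElt_embH _ (isLocElt_blockIdem hf))).1 h0 _ hy
    rw [coeff_embH] at h1
    exact hg.2.1 (by simpa [blockIdem] using h1)
  obtain ⟨e', he'⟩ := exists_extension hM hpairQ.1 hRp le_sup_left hRN
    (fun q hq => conjBlk_of_mem_sup (sup_le_sup_left hDG Q hq)) hne'
  have h1 := card_le_of_pairOf hM ((IsNormalSubpair.pairOf_iff hM he' B).2 hpairQ) hE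
  have h2 : Nat.card D ≤ Nat.card (Q ⊔ D.map CG(Q).subtype : Subgroup G) := by
    rw [Nat.card_congr (D.equivMapOfInjective _ (Subgroup.subtype_injective _)).toEquiv]
    exact Subgroup.card_le_of_le le_sup_right
  have h3 := h2.trans h1
  rw [card_defectGroup hM hf hD, card_defectGroup hM hB hE] at h3
  exact (Nat.pow_le_pow_iff_right (Fact.out : p.Prime).one_lt).1 h3

/-- A defect group carries a Brauer pair. -/
theorem exists_pairOf_defectGroup (hM : IsPModular p M) {B : Set (IrrCharacter G)} (hB : IsPBlock M B)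
    {P : Subgroup G} (hD : IsDefectGroup p M B P) :
    ∃ e, IsBrauerPairOf p M B P e := by
  have hP := isPGroup_of_isDefectGroup hD
  have hps : PS M (Subgroup.centralizer (P : Set G)) (blockIdem B) := (CL.blockIdem hB).ps _
  have hcl := cl_resH hps
  have hidem : IsIdempotentElem (brFun M P (embH (Subgroup.centralizer (P : Set G))
      (resH (Subgroup.centralizer (P : Set G)) (blockIdem B)))) := by
    rw [brFun_embH_resH le_rfl]
    show _ * _ = _
    rw [← brFun_mul hM hP ((CL.blockIdem hB).ps _) ((CL.blockIdem hB).ps _), blockIdem_mul_self]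
  obtain ⟨ξ, hξ⟩ := exists_ro_ne_zero hM hP hcl (ps_embH_centralizer hcl.2 le_rfl) hidem
    (by rw [brFun_embH_resH le_rfl]; exact brFun_blockIdem_ne_zero hB hD)
  exact ⟨blockOf M (ξ : _ → ℂ), (isBrauerPairOf_iff (self_mem_blockOf ξ)).2
    ⟨⟨hP, isPBlock_blockOf ξ⟩, hB, (isResHom_lam_centralizer hM hP ξ).blockIdem_eq_one hB hξ⟩⟩

/-- A non-principal block of positive defect lies over a non-principal block, of at least its defect,
of the centraliser of an element of order `p`. -/
theorem exists_nonprincipal_below (hM : IsPModular p M) {B : Set (IrrCharacter G)} (hB : IsPBlock M B)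
    (hne : B ≠ principalBlock M G) (hpos : 0 < blockDefect p B) :
    ∃ y : G, orderOf y = p ∧ ∃ f : Set (IrrCharacter CG(Subgroup.zpowers y)), IsPBlock M f ∧
      f ≠ principalBlock M CG(Subgroup.zpowers y) ∧ blockDefect p B ≤ blockDefect p f := by
  obtain ⟨D, hD⟩ := exists_isDefectGroup (p := p) hB
  obtain ⟨e, he⟩ := exists_pairOf_defectGroup hM hB hD
  have hmax := isMaximal_of_defectGroup hM he hD
  have hDp : IsPGroup p D := he.1.1
  have hc := card_defectGroup hM hB hD
  haveI : Nontrivial D := by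
    rw [← Finite.one_lt_card_iff_nontrivial, hc]
    exact Nat.one_lt_pow hpos.ne' (Fact.out : p.Prime).one_lt
  haveI := hDp.center_nontrivial
  obtain ⟨k, hk0, hk⟩ := (hDp.to_subgroup (Subgroup.center D)).nontrivial_iff_card.1 inferInstance
  obtain ⟨z, hz⟩ := exists_prime_orderOf_dvd_card' (G := Subgroup.center D) p
    (hk ▸ dvd_pow_self p hk0.ne')
  refine ⟨((z : D) : G), by rw [Subgroup.orderOf_coe, Subgroup.orderOf_coe, hz], ?_⟩
  have hQP : Subgroup.zpowers ((z : D) : G) ≤ D := Subgroup.zpowers_le.2 (z : D).2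
  obtain ⟨f, hle, -⟩ := existsUnique_subpair hM D e he.1 _ hQP
  have hpairQ := (SubpairLE.pairOf_iff hM hle B).1 he
  refine ⟨f, hpairQ.1.2, fun h => hne ?_, ?_⟩
  · subst h
    exact pairOf_unique hM hpairQ (pairOf_principal hM hpairQ.1.1)
  · obtain ⟨D', hD', hle'⟩ := exists_defectGroup_centralizer hM he.1 hpairQ.1.2 hle
    have hDC : D ≤ CG(Subgroup.zpowers ((z : D) : G)) := fun d hd => by
      rw [centralizer_zpowers, mem_centralizer_singleton]
      exact (congrArg Subtype.val (Subgroup.mem_center_iff.1 z.2 ⟨d, hd⟩)).symm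
    have h1 : Nat.card D ≤ Nat.card D' := by
      refine le_trans ?_ (Subgroup.card_le_of_le hle')
      rw [inf_eq_left.2 hDC, Nat.card_congr (Subgroup.subgroupOfEquivOfLe hDC).toEquiv]
    rw [hc, card_defectGroup hM hpairQ.1.2 hD'] at h1
    exact (Nat.pow_le_pow_iff_right (Fact.out : p.Prime).one_lt).1 h1

end Cfsg.Agent.Block
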