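import Cfsg.Agent.Lib.Block.Induced

/-!
# Brauer–Feit: the integral matrix of regular inner products of a block
-/

set_option autoImplicit false

open Cfsg.Agent.Char
open scoped ComplexConjugate

namespace Cfsg.Agent.Block

universe u

variable {G : Type u} [Group G] [Finite G] {M : Ideal AlgInt} {p : ℕ}

theorem sum_regInner_mul_regInner [Fintype G] (hM : IsPModular p M) {B : Set (IrrCharacter G)}
    (hB : IsPBlock M B) {χ : IrrCharacter G} (hχ : χ ∈ B) (ψ : G → ℂ) :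
    ∑ φ ∈ B.toFinite.toFinset, regInner p (χ : G → ℂ) (φ : G → ℂ) * regInner p (φ : G → ℂ) ψ =
      (Nat.card G : ℂ) * regInner p (χ : G → ℂ) ψ := by
  classical
  haveI := prime_of_isPModular hM
  have h1 : ∀ x, ¬ p ∣ orderOf x →
      ∑ φ ∈ B.toFinite.toFinset, regInner p (χ : G → ℂ) (φ : G → ℂ) * (φ : G → ℂ) x =
        (Nat.card G : ℂ) * (χ : G → ℂ) x := by
    intro x hx
    have h2 := sum_mul_blockKernel B χ x
    rw [if_pos hχ] at h2
    rw [← h2]
    simp only [regInner, Finset.sum_mul, blockKernel, finsum_mem_eq_finite_toFinset_sum _ B.toFinite]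
    rw [Finset.sum_comm]
    refine Finset.sum_congr rfl fun y _ => ?_
    by_cases hy : p ∣ orderOf y
    · have h3 := blockKernel_eq_zero hM hB (g := x) (y := y) (fun e => hx (e.2 hy))
      simp only [blockKernel, finsum_mem_eq_finite_toFinset_sum _ B.toFinite] at h3
      simp [hy, h3]
    · rw [Finset.mul_sum]
      exact Finset.sum_congr rfl fun φ _ => by rw [if_neg hy]; ring
  calc ∑ φ ∈ B.toFinite.toFinset, regInner p (χ : G → ℂ) (φ : G → ℂ) * regInner p (φ : G → ℂ) ψ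
      = ∑ x : G, (if p ∣ orderOf x then 0 else
          (∑ φ ∈ B.toFinite.toFinset, regInner p (χ : G → ℂ) (φ : G → ℂ) * (φ : G → ℂ) x) * conj (ψ x)) := by
        conv_lhs => simp only [regInner.eq_def p _ ψ, Finset.mul_sum]
        rw [Finset.sum_comm]
        refine Finset.sum_congr rfl fun x _ => ?_
        split
        next hx => simp [hx]
        next hx =>
          rw [Finset.sum_mul]
          exact Finset.sum_congr rfl fun φ _ => by ring
    _ = _ := by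
        rw [regInner, Finset.mul_sum]
        refine Finset.sum_congr rfl fun x _ => ?_
        split
        · simp
        next hx => rw [h1 x hx, mul_assoc]

/-- The entries `p ^ d * regInner / |G|`. -/
theorem exists_qInt [Fintype G] (hM : IsPModular p M) {B : Set (IrrCharacter G)} (hB : IsPBlock M B)
    {χ ψ : IrrCharacter G} (hχ : χ ∈ B) (hψ : ψ ∈ B) :
    ∃ z : ℤ, (z : ℂ) = ((p ^ blockDefect p B : ℕ) : ℂ) * regInner p (χ : G → ℂ) (ψ : G → ℂ) /
        (Nat.card G : ℂ) ∧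
      ((p ^ blockHeight p B (ψ : G → ℂ) : ℕ) : ℤ) ∣ z ∧
      (((p ^ (blockHeight p B (ψ : G → ℂ) + 1) : ℕ) : ℤ) ∣ z ↔ blockHeight p B (χ : G → ℂ) ≠ 0) := by
  haveI := prime_of_isPModular hM
  obtain ⟨w, hw⟩ := exists_int_regInner hM.1 χ ψ
  set a := (Nat.card G).factorization p
  set v := (charDegree (ψ : G → ℂ)).factorization p
  set h := blockHeight p B (ψ : G → ℂ)
  have hd : blockDefect p B = h + (a - v) := by
    have h1 := minVal_add_height (p := p) hψ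
    have h2 := degree_factorization_le p ψ
    rw [blockDefect_eq]
    omega
  refine ⟨((p ^ h : ℕ) : ℤ) * w, ?_, Dvd.intro w rfl, ?_⟩
  · rw [Int.cast_mul, Int.cast_natCast, ← hw, hd, pow_add, Nat.cast_mul]
    ring
  rw [pow_succ, Nat.cast_mul, Int.mul_dvd_mul_iff_left (by exact_mod_cast pow_ne_zero h hM.1.ne_zero)]
  have key : ((p : ℤ) ∣ w) ↔ MemLocalIdeal M (regInner p (χ : G → ℂ) (ψ : G → ℂ) / (ψ : G → ℂ) 1) := by
    set n' := charDegree (ψ : G → ℂ) / p ^ v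
    set m := Nat.card G / p ^ a
    have hm : (Nat.card G : ℂ) = ((p ^ a : ℕ) : ℂ) * (m : ℂ) := by
      rw [← Nat.cast_mul, Nat.ordProj_mul_ordCompl_eq_self]
    have hn : (ψ : G → ℂ) 1 = ((p ^ v : ℕ) : ℂ) * (n' : ℂ) := by
      rw [← Nat.cast_mul, Nat.ordProj_mul_ordCompl_eq_self, charDegree_cast (IsIrrCharacter.isCharacter ψ.2)]
    have hmd : ¬ p ∣ m := Nat.not_dvd_ordCompl hM.1 Nat.card_pos.ne'
    have hnd : ¬ p ∣ n' := Nat.not_dvd_ordCompl hM.1 (charDegree_pos ψ.2).ne'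
    have hm0 : (m : ℂ) ≠ 0 := Nat.cast_ne_zero.2 fun h0 => hmd (by rw [h0]; exact dvd_zero p)
    have hn0 : (n' : ℂ) ≠ 0 := Nat.cast_ne_zero.2 fun h0 => hnd (by rw [h0]; exact dvd_zero p)
    have hp0 : (p : ℂ) ≠ 0 := Nat.cast_ne_zero.2 hM.1.ne_zero
    have e : (w : ℂ) = ((m : ℂ)⁻¹ * (n' : ℂ)) *
        (regInner p (χ : G → ℂ) (ψ : G → ℂ) / (ψ : G → ℂ) 1) := by
      rw [← hw, hn, hm]
      push_cast
      rw [show (p : ℂ) ^ a = (p : ℂ) ^ (a - v) * (p : ℂ) ^ v by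
        rw [← pow_add, Nat.sub_add_cancel (degree_factorization_le p ψ)]]
      field_simp
    have h1 : (p : ℤ) ∣ w ↔ MemLocalIdeal M ((w : ℂ)) := by
      rcases Int.natAbs_eq w with e' | e'
      · conv_rhs => rw [e', Int.cast_natCast]
        rw [Int.natCast_dvd, memLocalIdeal_natCast_iff hM.1 hM.2.2]
      · conv_rhs => rw [e', Int.cast_neg, Int.cast_natCast]
        rw [Int.natCast_dvd]
        exact ⟨fun h => memLocalIdeal_neg ((memLocalIdeal_natCast_iff hM.1 hM.2.2 _).2 h),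
          fun h => (memLocalIdeal_natCast_iff hM.1 hM.2.2 _).1 (neg_neg (w.natAbs : ℂ) ▸ memLocalIdeal_neg h)⟩
    rw [h1, e]
    exact memLocalIdeal_unit_mul_iff (mul_mem (inv_natCast_mem_locRing hM.1 hM.2.2 hmd) (natCast_mem _ _))
      (by rw [mul_inv, inv_inv]; exact mul_mem (natCast_mem _ _) (inv_natCast_mem_locRing hM.1 hM.2.2 hnd))
      (mul_ne_zero (inv_ne_zero hm0) hn0)
  rw [key, regInner_div_memLocalIdeal_iff hM hB hψ]
  simp [hχ]

/-- The row of a character in the integral matrix. -/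
theorem exists_qRow [Fintype G] (hM : IsPModular p M) {B : Set (IrrCharacter G)} (hB : IsPBlock M B)
    {χ : IrrCharacter G} (hχ : χ ∈ B) :
    ∃ z : IrrCharacter G → ℤ, 0 < z χ ∧
      (∑ ψ ∈ B.toFinite.toFinset, z ψ ^ 2 = ((p ^ blockDefect p B : ℕ) : ℤ) * z χ) ∧
      (∀ ψ ∈ B, ((p ^ blockHeight p B (ψ : G → ℂ) : ℕ) : ℤ) ∣ z ψ ∧
        (((p ^ (blockHeight p B (ψ : G → ℂ) + 1) : ℕ) : ℤ) ∣ z ψ ↔ blockHeight p B (χ : G → ℂ) ≠ 0)) ∧
      (∀ ψ ∈ B, ((p ^ blockHeight p B (χ : G → ℂ) : ℕ) : ℤ) ∣ z ψ ∧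
        (((p ^ (blockHeight p B (χ : G → ℂ) + 1) : ℕ) : ℤ) ∣ z ψ ↔ blockHeight p B (ψ : G → ℂ) ≠ 0)) := by
  classical
  choose! z hz using fun ψ (hψ : ψ ∈ B) => exists_qInt hM hB hχ hψ
  have hG : (Nat.card G : ℂ) ≠ 0 := by simp [Nat.card_eq_fintype_card]
  set q : ℂ := ((p ^ blockDefect p B : ℕ) : ℂ) with hq
  have hcomm : ∀ ψ : IrrCharacter G, regInner p (χ : G → ℂ) (ψ : G → ℂ) = regInner p (ψ : G → ℂ) (χ : G → ℂ) :=
    fun ψ => regInner_comm p (IsIrrCharacter.isCharacter χ.2) (IsIrrCharacter.isCharacter ψ.2)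
  refine ⟨z, ?_, ?_, fun ψ hψ => (hz ψ hψ).2, fun ψ hψ => ?_⟩
  · have h := (hz χ hχ).1
    set s : ℝ := ∑ x : G, (if p ∣ orderOf x then 0 else Complex.normSq ((χ : G → ℂ) x)) with hs
    have hR : regInner p (χ : G → ℂ) (χ : G → ℂ) = (s : ℂ) := by
      rw [regInner, hs, Complex.ofReal_sum]
      refine Finset.sum_congr rfl fun x _ => ?_
      split <;> simp [Complex.mul_conj]
    have hs0 : 0 < s := Finset.sum_pos' (fun x _ => by split <;> [rfl; exact Complex.normSq_nonneg _])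
      ⟨1, Finset.mem_univ _, by
        rw [orderOf_one, if_neg hM.1.not_dvd_one]
        exact Complex.normSq_pos.2 (IsIrrCharacter.apply_one_ne_zero χ.2)⟩
    rw [hR] at h
    have h' : ((z χ : ℤ) : ℝ) = ((p ^ blockDefect p B : ℕ) : ℝ) * s / (Nat.card G : ℝ) := by
      apply Complex.ofReal_injective
      rw [hq] at h
      push_cast at h ⊢
      exact h
    have : (0 : ℝ) < ((z χ : ℤ) : ℝ) := by
      rw [h']
      exact div_pos (mul_pos (Nat.cast_pos.2 (pow_pos hM.1.pos _)) hs0) (Nat.cast_pos.2 Nat.card_pos)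
    exact_mod_cast this
  · apply Int.cast_injective (α := ℂ)
    push_cast
    calc ∑ ψ ∈ B.toFinite.toFinset, ((z ψ : ℤ) : ℂ) ^ 2
        = q ^ 2 / (Nat.card G : ℂ) ^ 2 * ∑ ψ ∈ B.toFinite.toFinset,
            regInner p (χ : G → ℂ) (ψ : G → ℂ) * regInner p (ψ : G → ℂ) (χ : G → ℂ) := by
          rw [Finset.mul_sum]
          refine Finset.sum_congr rfl fun ψ hψ => ?_
          rw [(hz ψ (B.toFinite.mem_toFinset.1 hψ)).1, ← hcomm ψ]
          ring
      _ = q * (z χ : ℂ) := by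
          rw [sum_regInner_mul_regInner hM hB hχ, (hz χ hχ).1]
          field_simp
      _ = _ := by rw [hq]; push_cast; rfl
  · obtain ⟨w, hw, h1, h2⟩ := exists_qInt hM hB hψ hχ
    have : w = z ψ := by
      apply Int.cast_injective (α := ℂ)
      rw [hw, (hz ψ hψ).1, hcomm]
    exact this ▸ ⟨h1, h2⟩

theorem sq_le_sq_of_dvd {k : ℕ} {z : ℤ} (h : ((k : ℕ) : ℤ) ∣ z) (hz : z ≠ 0) :
    ((k ^ 2 : ℕ) : ℤ) ≤ z ^ 2 := by
  obtain ⟨c, rfl⟩ := h
  have hc : c ≠ 0 := fun h => hz (by simp [h])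
  have : (0 : ℤ) < c ^ 2 := sq_pos_of_ne_zero hc
  have : (1 : ℤ) ≤ c ^ 2 := by omega
  rw [Nat.cast_pow, mul_pow]
  nlinarith [sq_nonneg (k : ℤ)]

/-- The weighted Brauer–Feit inequality. -/
theorem sum_pow_height_le [Fintype G] (hM : IsPModular p M) {B : Set (IrrCharacter G)}
    (hB : IsPBlock M B) [DecidableEq (IrrCharacter G)] {χ : IrrCharacter G} (hχ : χ ∈ B)
    (h0 : blockHeight p B (χ : G → ℂ) = 0) :
    4 * ∑ ψ ∈ B.toFinite.toFinset.erase χ, p ^ (2 * blockHeight p B (ψ : G → ℂ)) ≤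
      p ^ (2 * blockDefect p B) := by
  obtain ⟨z, hzpos, hsum, hdiv, -⟩ := exists_qRow hM hB hχ
  rw [← Finset.add_sum_erase _ _ (B.toFinite.mem_toFinset.2 hχ)] at hsum
  have hle : ∑ ψ ∈ B.toFinite.toFinset.erase χ, ((p ^ (2 * blockHeight p B (ψ : G → ℂ)) : ℕ) : ℤ) ≤
      ∑ ψ ∈ B.toFinite.toFinset.erase χ, z ψ ^ 2 := by
    refine Finset.sum_le_sum fun ψ hψ => ?_
    have hψ' := B.toFinite.mem_toFinset.1 (Finset.mem_of_mem_erase hψ)
    rw [mul_comm, pow_mul]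
    exact sq_le_sq_of_dvd (hdiv ψ hψ').1 fun hz => (hdiv ψ hψ').2.1 (by rw [hz]; exact dvd_zero _) h0
  have key : 4 * ∑ ψ ∈ B.toFinite.toFinset.erase χ, ((p ^ (2 * blockHeight p B (ψ : G → ℂ)) : ℕ) : ℤ) ≤
      ((p ^ (2 * blockDefect p B) : ℕ) : ℤ) := by
    rw [mul_comm 2 (blockDefect p B), pow_mul, Nat.cast_pow _ 2]
    nlinarith [sq_nonneg (((p ^ blockDefect p B : ℕ) : ℤ) - 2 * z χ)]
  exact_mod_cast key

theorem height_pos_facts [Fintype G] (hM : IsPModular p M) {B : Set (IrrCharacter G)}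
    (hB : IsPBlock M B) [DecidableEq (IrrCharacter G)] {χ : IrrCharacter G} (hχ : χ ∈ B)
    (h0 : blockHeight p B (χ : G → ℂ) ≠ 0) :
    blockHeight p B (χ : G → ℂ) + 2 ≤ blockDefect p B ∧
      4 * (B.toFinite.toFinset.filter fun ψ : IrrCharacter G => blockHeight p B (ψ : G → ℂ) = 0).card *
        p ^ (2 * blockHeight p B (χ : G → ℂ)) ≤ p ^ (2 * blockDefect p B) := by
  haveI := prime_of_isPModular hM
  obtain ⟨z, hzpos, hsum, -, hdiv⟩ := exists_qRow hM hB hχ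
  set h := blockHeight p B (χ : G → ℂ)
  rw [← Finset.add_sum_erase _ _ (B.toFinite.mem_toFinset.2 hχ)] at hsum
  set F := B.toFinite.toFinset.filter fun ψ : IrrCharacter G => blockHeight p B (ψ : G → ℂ) = 0
  have hne : ∀ ψ ∈ F, (((p ^ h) ^ 2 : ℕ) : ℤ) ≤ z ψ ^ 2 := fun ψ hψ => by
    simp only [F, Finset.mem_filter, B.toFinite.mem_toFinset] at hψ
    exact sq_le_sq_of_dvd (hdiv ψ hψ.1).1
      fun hz => (hdiv ψ hψ.1).2.1 (by rw [hz]; exact dvd_zero _) hψ.2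
  have hsub : F ⊆ B.toFinite.toFinset.erase χ := fun ψ hψ => by
    simp only [F, Finset.mem_filter] at hψ
    refine Finset.mem_erase.2 ⟨fun e => h0 ?_, hψ.1⟩
    have := hψ.2
    rw [e] at this
    exact this
  have hF : (F.card : ℤ) * (((p ^ h) ^ 2 : ℕ) : ℤ) ≤ ∑ ψ ∈ B.toFinite.toFinset.erase χ, z ψ ^ 2 :=
    calc (F.card : ℤ) * (((p ^ h) ^ 2 : ℕ) : ℤ) = ∑ _ψ ∈ F, (((p ^ h) ^ 2 : ℕ) : ℤ) := by simp
      _ ≤ ∑ ψ ∈ F, z ψ ^ 2 := Finset.sum_le_sum hne
      _ ≤ _ := Finset.sum_le_sum_of_subset_of_nonneg hsub fun _ _ _ => sq_nonneg _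
  have hF1 : (1 : ℤ) ≤ F.card := by
    obtain ⟨ψ, hψ, hψ0⟩ := exists_height_zero p (isPBlock_nonempty hB)
    exact_mod_cast Finset.card_pos.2 ⟨ψ, Finset.mem_filter.2 ⟨B.toFinite.mem_toFinset.2 hψ, hψ0⟩⟩
  constructor
  · have hlow : ((p ^ (h + 1) : ℕ) : ℤ) ≤ z χ := Int.le_of_dvd hzpos ((hdiv χ hχ).2.2 h0)
    have hpos : (0 : ℤ) < (((p ^ h) ^ 2 : ℕ) : ℤ) := by exact_mod_cast pow_pos (pow_pos hM.1.pos h) 2
    have hup : z χ < ((p ^ blockDefect p B : ℕ) : ℤ) := by nlinarith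
    have hlt : p ^ (h + 1) < p ^ blockDefect p B := by exact_mod_cast hlow.trans_lt hup
    have := (Nat.pow_lt_pow_iff_right hM.1.one_lt).1 hlt
    omega
  · have key : 4 * (F.card : ℤ) * (((p ^ h) ^ 2 : ℕ) : ℤ) ≤ (((p ^ blockDefect p B) ^ 2 : ℕ) : ℤ) := by
      rw [Nat.cast_pow _ 2, Nat.cast_pow _ 2]
      rw [Nat.cast_pow _ 2] at hF
      nlinarith [sq_nonneg (((p ^ blockDefect p B : ℕ) : ℤ) - 2 * z χ)]
    rw [mul_comm 2 h, mul_comm 2 (blockDefect p B), pow_mul, pow_mul]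
    exact_mod_cast key

theorem brauer_feit (hM : IsPModular p M) {B : Set (IrrCharacter G)} (hB : IsPBlock M B) :
    4 * Nat.card B ≤ p ^ (2 * blockDefect p B) + 4 := by
  classical
  haveI := Fintype.ofFinite G
  haveI := prime_of_isPModular hM
  obtain ⟨χ, hχ, h0⟩ := exists_height_zero p (isPBlock_nonempty hB)
  have h := sum_pow_height_le hM hB hχ h0
  have h1 : (B.toFinite.toFinset.erase χ).card ≤
      ∑ ψ ∈ B.toFinite.toFinset.erase χ, p ^ (2 * blockHeight p B (ψ : G → ℂ)) := by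
    rw [Finset.card_eq_sum_ones]
    exact Finset.sum_le_sum fun ψ _ => Nat.one_le_pow _ _ hM.1.pos
  rw [Finset.card_erase_of_mem (B.toFinite.mem_toFinset.2 hχ)] at h1
  rw [Nat.card_eq_card_finite_toFinset B.toFinite]
  have : 0 < B.toFinite.toFinset.card := Finset.card_pos.2 ⟨χ, B.toFinite.mem_toFinset.2 hχ⟩
  omega

theorem two_mul_card_le_of_height_pos (hM : IsPModular p M) {B : Set (IrrCharacter G)}
    (hB : IsPBlock M B) {χ : IrrCharacter G} (hχ : χ ∈ B) (h0 : blockHeight p B (χ : G → ℂ) ≠ 0) :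
    2 * Nat.card B ≤ p ^ (2 * blockDefect p B - 2) := by
  classical
  haveI := Fintype.ofFinite G
  haveI := prime_of_isPModular hM
  obtain ⟨hd, hF⟩ := height_pos_facts hM hB hχ h0
  obtain ⟨χ₀, hχ₀, h00⟩ := exists_height_zero p (isPBlock_nonempty hB)
  have hS := sum_pow_height_le hM hB hχ₀ h00
  set d := blockDefect p B
  set T := B.toFinite.toFinset
  set F := T.filter fun ψ : IrrCharacter G => blockHeight p B (ψ : G → ℂ) = 0
  set N := p ^ (2 * d - 2)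
  have hpd : p ^ (2 * d) = p ^ 2 * N := by rw [← pow_add]; congr 1; omega
  have hN4 : 4 ≤ N :=
    calc 4 = 2 ^ 2 := rfl
      _ ≤ p ^ 2 := Nat.pow_le_pow_left hM.1.two_le 2
      _ ≤ N := Nat.pow_le_pow_right hM.1.pos (by omega)
  have hF4 : 4 * F.card * p ^ 2 ≤ p ^ 2 * N := by
    rw [← hpd]
    exact le_trans (Nat.mul_le_mul_left _ (Nat.pow_le_pow_right hM.1.pos (by omega))) hF
  have hsplit : F.card + p ^ 2 * (T.card - F.card) ≤
      1 + ∑ ψ ∈ T.erase χ₀, p ^ (2 * blockHeight p B (ψ : G → ℂ)) := by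
    have h1 : 1 + ∑ ψ ∈ T.erase χ₀, p ^ (2 * blockHeight p B (ψ : G → ℂ)) =
        ∑ ψ ∈ T, p ^ (2 * blockHeight p B (ψ : G → ℂ)) := by
      rw [← Finset.add_sum_erase T _ (B.toFinite.mem_toFinset.2 hχ₀), h00, mul_zero, pow_zero]
    rw [h1, ← Finset.sum_filter_add_sum_filter_not T (fun ψ : IrrCharacter G => blockHeight p B (ψ : G → ℂ) = 0)]
    refine Nat.add_le_add ?_ ?_
    · rw [Finset.card_eq_sum_ones]
      exact Finset.sum_le_sum fun ψ _ => Nat.one_le_pow _ _ hM.1.pos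
    · calc p ^ 2 * (T.card - F.card)
          = ∑ _ψ ∈ T.filter (fun ψ : IrrCharacter G => ¬ blockHeight p B (ψ : G → ℂ) = 0), p ^ 2 := by
            rw [Finset.sum_const, smul_eq_mul, mul_comm (p ^ 2)]
            congr 1
            have hh : F.card + (T.filter (fun ψ : IrrCharacter G => ¬ blockHeight p B (ψ : G → ℂ) = 0)).card = T.card :=
              Finset.card_filter_add_card_filter_not (s := T) (fun ψ : IrrCharacter G => blockHeight p B (ψ : G → ℂ) = 0)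
            omega
        _ ≤ _ := Finset.sum_le_sum fun ψ hψ => Nat.pow_le_pow_right hM.1.pos (by
            have := (Finset.mem_filter.1 hψ).2; omega)
  rw [Nat.card_eq_card_finite_toFinset B.toFinite]
  have hFT : F.card ≤ T.card := Finset.card_filter_le _ _
  obtain ⟨e, he⟩ := Nat.exists_eq_add_of_le hFT
  rw [he, Nat.add_sub_cancel_left] at hsplit
  rw [he]
  have hp4 : 4 ≤ p ^ 2 := Nat.pow_le_pow_left hM.1.two_le 2
  set q := p ^ 2
  rw [hpd] at hS
  by_contra hlt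
  push Not at hlt
  have hF' : 4 * F.card ≤ N := Nat.le_of_mul_le_mul_right (by rw [mul_comm N q]; exact hF4) (by omega : 0 < q)
  nlinarith [Nat.mul_le_mul_left q (Nat.succ_le_of_lt hlt)]

end Cfsg.Agent.Block
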