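import Cfsg.Agent.Lib.Block.Height
import Cfsg.Agent.Lib.Block.PPart
import Cfsg.Agent.Lib.Char.Extension

/-!
Multiplying the argument of a character by a commuting p-element does not change it modulo M.
-/

namespace Cfsg.Agent.Block

open Cfsg Cfsg.Agent.Char
open scoped Classical ComplexConjugate

set_option linter.style.haveILetI false

universe u

variable {G : Type u} [Group G] [Finite G] {p : ℕ} {M : Ideal AlgInt}

/-- A central element acts on an irreducible representation by a root of unity. -/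
theorem exists_scalar_of_central {n : ℕ} (ρ : Representation ℂ G (Fin n → ℂ)) (hρ : ρ.IsIrreducible)
    {x : G} (hx : ∀ y, x * y = y * x) :
    ∃ s : ℂ, s ^ orderOf x = 1 ∧ ∀ y, ρ.character (x * y) = s * ρ.character y := by
  haveI := hρ
  obtain ⟨s, hs⟩ := isScalar_of_commute ρ (ρ x) fun y => by rw [← map_mul, ← map_mul, hx]
  haveI : Nontrivial (Fin n → ℂ) := nontrivial_of_irreducible ρ
  refine ⟨s, ?_, fun y => ?_⟩
  · have h := congrArg (fun T => T ^ orderOf x) hs
    simp only [← map_pow, pow_orderOf_eq_one, map_one, smul_pow, one_pow] at h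
    obtain ⟨v, hv⟩ := exists_ne (0 : Fin n → ℂ)
    have h' := congrArg (fun T : Module.End ℂ (Fin n → ℂ) => T v) h
    simp only [Module.End.one_apply, LinearMap.smul_apply] at h'
    have h3 : (s ^ orderOf x - 1) • v = 0 := by rw [sub_smul, one_smul, ← h', sub_self]
    exact sub_eq_zero.1 ((smul_eq_zero.1 h3).resolve_right hv)
  · simp only [Representation.character, map_mul, hs, smul_mul_assoc, one_mul, map_smul, smul_eq_mul]

/-- Roots of unity of `p`-power order are congruent to one. -/
theorem sub_one_memLocalIdeal_of_pow (hM : IsPModular p M) {s : ℂ} {k : ℕ} (hs : s ^ p ^ k = 1) :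
    MemLocalIdeal M (s - 1) := by
  haveI := prime_of_isPModular hM
  haveI : Fact p.Prime := ⟨hM.1⟩
  have hint : IsIntegral ℤ s :=
    IsIntegral.of_pow (pow_pos hM.1.pos k) (hs ▸ isIntegral_one)
  let a : AlgInt := ⟨s, hint⟩
  have ha : a ^ p ^ k = 1 := Subtype.ext (by simpa using hs)
  let π := Ideal.Quotient.mk M
  haveI : Nontrivial (AlgInt ⧸ M) :=
    Ideal.Quotient.nontrivial_iff.2 (Ideal.IsPrime.ne_top inferInstance)
  haveI : CharP (AlgInt ⧸ M) p := (CharP.charP_iff_prime_eq_zero hM.1).2 (by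
    rw [← map_natCast π]; exact Ideal.Quotient.eq_zero_iff_mem.2 hM.2.2)
  have h0 : π (a - 1) ^ p ^ k = 0 := by
    rw [map_sub, map_one, sub_pow_char_pow, one_pow, ← map_pow, ha, map_one, sub_self]
  have h1 : π (a - 1) = 0 := eq_zero_of_pow_eq_zero h0
  have := (memLocalIdeal_algInt_iff (a - 1)).2 (Ideal.Quotient.eq_zero_iff_mem.1 h1)
  simpa [a] using this

/-- Multiplying by a commuting p-element changes no character value modulo M. -/
theorem apply_mul_congr (hM : IsPModular p M) {χ : G → ℂ} (hχ : IsCharacter G χ) {x y : G}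
    (hx : ∃ k : ℕ, orderOf x = p ^ k) (hxy : Commute x y) :
    MemLocalIdeal M (χ (x * y) - χ y) := by
  haveI := prime_of_isPModular hM
  set H : Subgroup G := Subgroup.zpowers x ⊔ Subgroup.zpowers y
  have hxH : x ∈ H := (le_sup_left : _ ≤ H) (Subgroup.mem_zpowers x)
  have hyH : y ∈ H := (le_sup_right : _ ≤ H) (Subgroup.mem_zpowers y)
  have hcen : H ≤ Subgroup.centralizer ({x} : Set G) :=
    sup_le (Subgroup.zpowers_le.2 (mem_centralizer_singleton.2 (Commute.refl x)))
      (Subgroup.zpowers_le.2 (mem_centralizer_singleton.2 hxy))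
  haveI := Fintype.ofFinite H
  haveI := Fintype.ofFinite (IrrCharacter H)
  have hf : IsCharacter H (fun h : H => χ h) := IsCharacter.restrict hχ H
  have hsum := IsClassFunction.eq_sum (IsCharacter.isClassFunction hf)
  have e1 := congrFun hsum (⟨x, hxH⟩ * ⟨y, hyH⟩)
  have e2 := congrFun hsum ⟨y, hyH⟩
  simp only [Finset.sum_apply, Pi.smul_apply, smul_eq_mul, Subgroup.coe_mul] at e1 e2
  rw [e1, e2, ← Finset.sum_sub_distrib]
  refine memLocalIdeal_sum _ _ fun ψ _ => ?_
  obtain ⟨m, hm⟩ := classInner_natCast_of_isCharacter hf (IsIrrCharacter.isCharacter ψ.2)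
  rw [hm, ← mul_sub]
  refine memLocalIdeal_mul_left (natCast_mem _ _) ?_
  obtain ⟨n, ρ, hρ, hρψ⟩ := ψ.2
  obtain ⟨s, hs1, hs⟩ := exists_scalar_of_central ρ hρ (x := (⟨x, hxH⟩ : H)) fun z => Subtype.ext
    (mem_centralizer_singleton.1 (hcen z.2)).eq
  rw [hρψ] at hs
  rw [hs, ← sub_one_mul]
  obtain ⟨k, hk⟩ := hx
  refine memLocalIdeal_mul_right (irr_mem_locRing ψ _) (sub_one_memLocalIdeal_of_pow hM (k := k) ?_)
  rwa [Subgroup.orderOf_mk, hk] at hs1

/-- A height zero character is a unit at a defect element. -/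
theorem apply_unit_of_defectClass (hM : IsPModular p M) {B : Set (IrrCharacter G)} (hB : IsPBlock M B)
    {χ : IrrCharacter G} (hχ : χ ∈ B) (h0 : blockHeight p B (χ : G → ℂ) = 0) {g : G}
    (hg : IsDefectClass M B g) : ¬ MemLocalIdeal M ((χ : G → ℂ) g) := by
  haveI := prime_of_isPModular hM
  intro hbad
  have h1 := apply_congr_of_classExp_eq hM hB hχ hχ (classExp_eq_minVal_of_isDefectClass hM hB hg)
  have h2 := memLocalIdeal_sub hbad h1
  rw [sub_sub_cancel] at h2
  rcases memLocalIdeal_of_mul (mul_mem (centralChar_mem_locRing χ g) (natCast_mem _ _))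
    (inv_natCast_mem_locRing hM.1 hM.2.2 (not_dvd_classCofactor hM.1 g)) h2 with h3 | h3
  · rcases memLocalIdeal_of_mul (centralChar_mem_locRing χ g) (natCast_mem _ _) h3 with h4 | h4
    · exact hg.2.2 χ hχ h4
    · exact (not_dvd_redDegree_iff hM.1 hχ).2 h0 ((memLocalIdeal_natCast_iff hM.1 hM.2.2 _).1 h4)
  · have := memLocalIdeal_mul_left (natCast_mem (locRing M) (classCofactor p g)) h3
    rw [mul_inv_cancel₀ (Nat.cast_ne_zero.2 fun h => not_dvd_classCofactor hM.1 g
      (by rw [h]; exact dvd_zero p))] at this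
    exact not_memLocalIdeal_one this

theorem not_dvd_orderOf_defectClass (hM : IsPModular p M) {B : Set (IrrCharacter G)} (hB : IsPBlock M B)
    {g : G} (hg : IsDefectClass M B g) : ¬ p ∣ orderOf g := fun h => by
  haveI := prime_of_isPModular hM
  exact hg.2.1 (by rw [blockCoeff_eq_zero_of_dvd hM hB h]; exact memLocalIdeal_zero)

end Cfsg.Agent.Block
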