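import Cfsg.Agent.Lib.Block.CycTrace
import Cfsg.Agent.Lib.Block.Congr
import Mathlib.NumberTheory.NumberField.Cyclotomic.Basic

/-!
# Real integers in the cyclotomic fields of `2`-power conductor

A real algebraic integer of such a field has an integer average over its conjugates, of the same
residue modulo a prime over `2`.
-/

set_option autoImplicit false

open Cfsg Cfsg.Agent.Char Polynomial
open scoped ComplexConjugate IntermediateField

namespace Cfsg.Agent.Block

/-- An algebraic integer of a cyclotomic field of `2`-power conductor in the power basis. -/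
theorem exists_coeff_two {k : ℕ} {ζ v : ℂ} (hζ : IsPrimitiveRoot ζ (2 ^ (k + 1)))
    (hv : v ∈ cycF (2 ^ (k + 1))) (hint : IsIntegral ℤ v) :
    ∃ c : ℕ → ℤ, v = ∑ j ∈ Finset.range (2 ^ k), (c j : ℂ) * ζ ^ j := by
  haveI : NeZero (2 ^ (k + 1)) := ⟨pow_ne_zero _ two_ne_zero⟩
  haveI : Fact (Nat.Prime 2) := ⟨Nat.prime_two⟩
  haveI : IsCyclotomicExtension {2 ^ (k + 1)} ℚ ℚ⟮ζ⟯ := by
    change IsCyclotomicExtension {2 ^ (k + 1)} ℚ (IntermediateField.adjoin ℚ {ζ}).toSubalgebra
    rw [IntermediateField.adjoin_simple_toSubalgebra_of_isAlgebraic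
      (hζ.isIntegral (pow_pos two_pos _)).tower_top.isAlgebraic]
    exact hζ.adjoin_isCyclotomicExtension ℚ
  have hle : cycF (2 ^ (k + 1)) ≤ ℚ⟮ζ⟯ := by
    refine IntermediateField.adjoin_le_iff.2 fun r hr => ?_
    obtain ⟨i, _, rfl⟩ := hζ.eq_pow_of_pow_eq_one hr
    exact pow_mem (IntermediateField.mem_adjoin_simple_self ℚ ζ) i
  set z : ℚ⟮ζ⟯ := ⟨ζ, IntermediateField.mem_adjoin_simple_self ℚ ζ⟩
  set v' : ℚ⟮ζ⟯ := ⟨v, hle hv⟩
  have hz : IsPrimitiveRoot z (2 ^ (k + 1)) :=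
    IsPrimitiveRoot.of_map_of_injective (f := ℚ⟮ζ⟯.val) (by exact hζ) Subtype.val_injective
  have hic := IsCyclotomicExtension.Rat.isIntegralClosure_adjoin_singleton_of_prime_pow hz
  have hv' : IsIntegral ℤ v' :=
    (isIntegral_algebraMap_iff (A := ℚ⟮ζ⟯) (B := ℂ) (algebraMap ℚ⟮ζ⟯ ℂ).injective).mp hint
  obtain ⟨y, hy⟩ := hic.isIntegral_iff.1 hv'
  obtain ⟨P, hP⟩ : ∃ P : ℤ[X], aeval z P = v' := by
    have hy2 : v' ∈ Algebra.adjoin ℤ ({z} : Set ℚ⟮ζ⟯) := hy ▸ y.2
    rw [Algebra.adjoin_singleton_eq_range_aeval] at hy2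
    exact hy2
  have hPv : aeval ζ P = v := by
    have := congrArg (algebraMap ℚ⟮ζ⟯ ℂ) hP
    rwa [← aeval_algebraMap_apply] at this
  set Φ : ℤ[X] := X ^ 2 ^ k + C 1
  have hΦm : Φ.Monic := monic_X_pow_add_C 1 (pow_ne_zero _ two_ne_zero)
  have hhalf : ζ ^ 2 ^ k = -1 := by
    have h1 : ζ ^ 2 ^ k * ζ ^ 2 ^ k = 1 := by rw [← pow_add, ← two_mul, ← pow_succ', hζ.pow_eq_one]
    refine (mul_self_eq_one_iff.1 h1).resolve_left fun h => ?_
    have h2 := Nat.le_of_dvd (pow_pos two_pos k) (hζ.dvd_of_pow_eq_one _ h)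
    rw [pow_succ] at h2
    have : 0 < 2 ^ k := pow_pos two_pos k
    omega
  have hΦ0 : aeval ζ Φ = 0 := by simp [Φ, hhalf]
  have hR : aeval ζ (P %ₘ Φ) = v := by
    rw [aeval_modByMonic_eq_self_of_root hΦ0, hPv]
  have hne : Φ ≠ 1 := fun h => by
    have := congrArg natDegree h
    rw [natDegree_X_pow_add_C, natDegree_one] at this
    exact pow_ne_zero k two_ne_zero this
  have hdeg : (P %ₘ Φ).natDegree < 2 ^ k := by
    have h1 := natDegree_modByMonic_lt P hΦm hne
    rwa [natDegree_X_pow_add_C] at h1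
  refine ⟨(P %ₘ Φ).coeff, ?_⟩
  rw [← hR, aeval_eq_sum_range' hdeg]
  simp [zsmul_eq_mul]

theorem memLocalIdeal_intCast_two_iff {M : Ideal AlgInt} [M.IsPrime] (hM : IsPModular 2 M) (z : ℤ) :
    MemLocalIdeal M (z : ℂ) ↔ Even z := by
  rw [← Int.natAbs_even, even_iff_two_dvd, ← memLocalIdeal_natCast_iff hM.1 hM.2.2]
  rcases Int.natAbs_eq z with e | e
  · conv_lhs => rw [e, Int.cast_natCast]
  · conv_lhs => rw [e, Int.cast_neg, Int.cast_natCast]
    exact ⟨fun h => neg_neg (z.natAbs : ℂ) ▸ memLocalIdeal_neg h, memLocalIdeal_neg⟩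

/-- The average of the conjugates of a real algebraic integer of the cyclotomic field of
`2`-power conductor. -/
theorem exists_int_trace_two {k N : ℕ} [NeZero N] (hN : 2 ^ (k + 1) ∣ N)
    {M : Ideal AlgInt} [M.IsPrime] (hM : IsPModular 2 M) (v : cycF N)
    (hv : (v : ℂ) ∈ cycF (2 ^ (k + 1))) (hint : IsIntegral ℤ (v : ℂ))
    (hreal : conj (v : ℂ) = (v : ℂ)) :
    ∃ c : ℤ, Algebra.trace ℚ (cycF N) v = (Module.finrank ℚ (cycF N) : ℚ) * c ∧
      (MemLocalIdeal M (v : ℂ) ↔ Even c) := by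
  classical
  set ζ : ℂ := Complex.exp (2 * Real.pi * Complex.I / ((2 ^ (k + 1) : ℕ) : ℂ)) with hζdef
  have hζ : IsPrimitiveRoot ζ (2 ^ (k + 1)) :=
    Complex.isPrimitiveRoot_exp _ (pow_ne_zero _ two_ne_zero)
  obtain ⟨c, hc⟩ := exists_coeff_two hζ hv hint
  set n := 2 ^ k with hn
  have hnpos : 0 < n := pow_pos two_pos k
  have h2n : 2 ^ (k + 1) = 2 * n := pow_succ' 2 k
  set J := Finset.Ico 1 n
  have hsplit : Finset.range n = insert 0 J := by
    ext j
    simp only [Finset.mem_range, Finset.mem_insert, J, Finset.mem_Ico]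
    omega
  have hJ0 : (0 : ℕ) ∉ J := by simp [J]
  have hJ : ∀ j ∈ J, 1 ≤ j ∧ j < n := fun j hj => Finset.mem_Ico.1 hj
  have hinv : ∀ j ∈ J, n - j ∈ J := fun j hj => by
    have := hJ j hj
    exact Finset.mem_Ico.2 ⟨by omega, by omega⟩
  have hnorm : ‖ζ‖ = 1 :=
    Complex.norm_eq_one_of_pow_eq_one hζ.pow_eq_one (pow_ne_zero _ two_ne_zero)
  have hhalf : ζ ^ n = -1 := by
    have h1 : ζ ^ n * ζ ^ n = 1 := by rw [← pow_add, ← two_mul, ← h2n, hζ.pow_eq_one]
    refine (mul_self_eq_one_iff.1 h1).resolve_left fun h => ?_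
    have h2 := Nat.le_of_dvd hnpos (hζ.dvd_of_pow_eq_one _ h)
    omega
  have hconj : ∀ j ∈ J, conj (ζ ^ j) = -ζ ^ (n - j) := fun j hj => by
    rw [map_pow, ← Complex.inv_eq_conj hnorm, inv_pow]
    refine inv_eq_of_mul_eq_one_right ?_
    rw [mul_neg, ← pow_add, Nat.add_sub_cancel' (hJ j hj).2.le, hhalf, neg_neg]
  -- the coefficients are skew symmetric
  have hskew : ∀ j ∈ J, c j + c (n - j) = 0 := by
    have h1 : ∑ j ∈ J, ((c j + c (n - j) : ℤ) : ℂ) * ζ ^ j = 0 := by
      have e0 : (v : ℂ) = (c 0 : ℂ) + ∑ j ∈ J, (c j : ℂ) * ζ ^ j := by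
        rw [hc, hsplit, Finset.sum_insert hJ0, pow_zero, mul_one]
      have e1 : conj (v : ℂ) = (c 0 : ℂ) - ∑ j ∈ J, (c (n - j) : ℂ) * ζ ^ j := by
        rw [e0, map_add, map_intCast, map_sum, sub_eq_add_neg, ← Finset.sum_neg_distrib]
        congr 1
        refine Finset.sum_nbij' (fun j => n - j) (fun j => n - j) hinv hinv
          (fun j hj => Nat.sub_sub_self (hJ j hj).2.le) (fun j hj => Nat.sub_sub_self (hJ j hj).2.le)
          fun j hj => ?_
        rw [map_mul, map_intCast, hconj j hj, Nat.sub_sub_self (hJ j hj).2.le, mul_neg]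
      rw [hreal, e0, sub_eq_add_neg, add_right_inj] at e1
      simp only [Int.cast_add, add_mul, Finset.sum_add_distrib, e1, neg_add_cancel]
    intro j hj
    set Q : ℚ[X] := ∑ i ∈ J, C ((c i + c (n - i) : ℤ) : ℚ) * X ^ i with hQ
    have hQ0 : aeval ζ Q = 0 := by
      rw [← h1, hQ, map_sum]
      simp
    have hQdeg : Q.degree < (n : ℕ) := by
      refine lt_of_le_of_lt (degree_sum_le _ _) ((Finset.sup_lt_iff (by exact WithBot.bot_lt_coe n)).2 ?_)
      intro i hi
      exact lt_of_le_of_lt (degree_C_mul_X_pow_le i _) (WithBot.coe_lt_coe.2 (hJ i hi).2)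
    have hQz : Q = 0 := by
      by_contra hne
      have h2 := minpoly.degree_le_of_ne_zero ℚ ζ hne hQ0
      rw [← cyclotomic_eq_minpoly_rat hζ (pow_pos two_pos _), degree_cyclotomic,
        Nat.totient_prime_pow_succ Nat.prime_two] at h2
      simp only [Nat.add_one_sub_one, mul_one, ← hn] at h2
      exact absurd (lt_of_le_of_lt h2 hQdeg) (lt_irrefl _)
    have h3 : Q.coeff j = ((c j + c (n - j) : ℤ) : ℚ) := by
      rw [hQ, finset_sum_coeff, Finset.sum_eq_single j]
      · rw [coeff_C_mul, coeff_X_pow, if_pos rfl, mul_one]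
      · intro i _ hij
        rw [coeff_C_mul, coeff_X_pow, if_neg (Ne.symm hij), mul_zero]
      · exact fun h => absurd hj h
    rw [hQz, coeff_zero] at h3
    exact_mod_cast h3.symm
  have hzero : ∑ j ∈ J, c j = 0 := by
    have h1 : ∑ j ∈ J, c (n - j) = ∑ j ∈ J, c j :=
      Finset.sum_nbij' (fun j => n - j) (fun j => n - j) hinv hinv
        (fun j hj => Nat.sub_sub_self (hJ j hj).2.le) (fun j hj => Nat.sub_sub_self (hJ j hj).2.le)
        fun j _ => rfl
    have h2 : ∑ j ∈ J, (c j + c (n - j)) = 0 := Finset.sum_eq_zero hskew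
    rw [Finset.sum_add_distrib, h1] at h2
    omega
  refine ⟨c 0, ?_, ?_⟩
  · set z : cycF N := ⟨ζ, cycF_mono hN (root_mem_cycF hζ.pow_eq_one)⟩
    have e : v = ∑ j ∈ Finset.range n, (c j : ℚ) • z ^ j := by
      refine Subtype.ext ?_
      rw [show ((∑ j ∈ Finset.range n, (c j : ℚ) • z ^ j : cycF N) : ℂ) =
        ∑ j ∈ Finset.range n, (((c j : ℚ) • z ^ j : cycF N) : ℂ) from map_sum (cycF N).val _ _, hc]
      refine Finset.sum_congr rfl fun j _ => ?_
      rw [IntermediateField.coe_smul, IntermediateField.coe_pow, Algebra.smul_def, eq_ratCast,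
        Rat.cast_intCast]
    rw [e, map_sum, hsplit, Finset.sum_insert hJ0, Finset.sum_eq_zero, add_zero]
    · rw [pow_zero, map_smul, smul_eq_mul, show (1 : cycF N) = algebraMap ℚ (cycF N) 1 from (map_one _).symm,
        Algebra.trace_algebraMap, nsmul_eq_mul, mul_one, mul_comm]
    · intro j hj
      have hz2 : (z ^ j) ^ 2 ^ (k + 1) = 1 := Subtype.ext (by
        rw [IntermediateField.coe_pow, IntermediateField.coe_pow, IntermediateField.coe_one, ← pow_mul,
          mul_comm, pow_mul]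
        show (ζ ^ 2 ^ (k + 1)) ^ j = 1
        rw [hζ.pow_eq_one, one_pow])
      obtain ⟨e, he, htr⟩ := exists_trace_root (z ^ j) hz2
      have h1 : z ^ j ≠ 1 := fun h => by
        have h' : ζ ^ j = 1 := by simpa [z] using congrArg (fun w : cycF N => (w : ℂ)) h
        have := Nat.le_of_dvd (by have := hJ j hj; omega) (hζ.dvd_of_pow_eq_one _ h')
        have := hJ j hj
        omega
      have h2 : z ^ j ≠ -1 := fun h => by
        have h' : ζ ^ j = -1 := by simpa [z] using congrArg (fun w : cycF N => (w : ℂ)) h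
        rw [← hhalf] at h'
        have := hζ.pow_inj (by have := hJ j hj; omega) (by omega) h'
        have := hJ j hj
        omega
      rw [if_neg h1, if_neg h2] at he
      rw [map_smul, htr, he, Int.cast_zero, mul_zero, smul_zero]
  · rw [← memLocalIdeal_intCast_two_iff hM]
    have h : MemLocalIdeal M ((v : ℂ) - ((∑ j ∈ Finset.range n, c j : ℤ) : ℂ)) := by
      rw [hc, Int.cast_sum, ← Finset.sum_sub_distrib]
      refine memLocalIdeal_sum _ _ fun j _ => ?_
      rw [← mul_sub_one]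
      exact memLocalIdeal_mul_left (intCast_mem_locRing _)
        (sub_one_memLocalIdeal_of_pow hM (k := k + 1) (by rw [← pow_mul, mul_comm, pow_mul, hζ.pow_eq_one, one_pow]))
    rw [hsplit, Finset.sum_insert hJ0, hzero, add_zero] at h
    exact ⟨fun h' => by simpa using memLocalIdeal_sub h' h, fun h' => by simpa using memLocalIdeal_add h h'⟩

end Cfsg.Agent.Block
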