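import Cfsg.Agent.Lib.Block.SubsectionMajor
import Cfsg.Agent.Lib.Block.CycTwo
import Cfsg.Agent.Lib.Block.BrauerFeit

/-!
# The diagonal of a major subsection of a `2`-block
-/

set_option autoImplicit false

open Cfsg Cfsg.Agent.Char
open scoped ComplexConjugate

namespace Cfsg.Agent.Block

universe u

local notation "CG(" y ")" => Subgroup.centralizer ({y} : Set _)

/-- Weighted counting along a row of a projection. -/
theorem weight_mul_finrank_le {ι : Type*} {N : ℕ} [NeZero N] (s : Finset ι) (w : ι → ℕ) (m : ι → ℂ)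
    (hm : ∀ i ∈ s, m i ∈ cycF N)
    (hint : ∀ i ∈ s, IsIntegral ℤ (m i / (w i : ℂ))) (hne : ∀ i ∈ s, m i ≠ 0)
    (hw : ∀ i ∈ s, 0 < w i)
    (α : cycF N) (hα : ∑ i ∈ s, m i * conj (m i) = (α : ℂ)) :
    ((∑ i ∈ s, w i ^ 2 : ℕ) : ℚ) * (Module.finrank ℚ (cycF N) : ℚ) ≤ Algebra.trace ℚ (cycF N) α := by
  classical
  have key := card_mul_finrank_le_trace (s.sigma fun i => Finset.range (w i ^ 2))
    (fun x => m x.1 / (w x.1 : ℂ))
    (fun x hx => div_mem (hm _ (Finset.mem_sigma.1 hx).1) (natCast_mem _ _))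
    (fun x hx => hint _ (Finset.mem_sigma.1 hx).1)
    (fun x hx => div_ne_zero (hne _ (Finset.mem_sigma.1 hx).1)
      (Nat.cast_ne_zero.2 (hw _ (Finset.mem_sigma.1 hx).1).ne')) α ?_
  · rw [Finset.card_sigma] at key
    simpa using key
  · rw [Finset.sum_sigma, ← hα]
    refine Finset.sum_congr rfl fun i hi => ?_
    show ∑ _x ∈ Finset.range (w i ^ 2), m i / (w i : ℂ) * conj (m i / (w i : ℂ)) = _
    rw [Finset.sum_const, Finset.card_range, nsmul_eq_mul, Nat.cast_pow, map_div₀, Complex.conj_natCast]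
    have : (w i : ℂ) ≠ 0 := Nat.cast_ne_zero.2 (hw i hi).ne'
    field_simp

variable {G : Type u} [Group G] [Finite G] {M : Ideal AlgInt}

theorem exists_major_two (hM : IsPModular 2 M) {B : Set (IrrCharacter G)} (hB : IsPBlock M B)
    {y : G} (hy : ∃ k : ℕ, orderOf y = 2 ^ k)
    {b : Set (IrrCharacter (CG(y)))} (hind : IsInducedBlock M (CG(y)) b B)
    (hd : blockDefect 2 b = blockDefect 2 B) (hd0 : 0 < blockDefect 2 B) :
    ∃ t : IrrCharacter G → ℤ,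
      ∑ χ ∈ B.toFinite.toFinset, t χ = ((2 ^ blockDefect 2 B * blockRank 2 b : ℕ) : ℤ) ∧
      (∀ χ ∈ B, blockHeight 2 B (χ : G → ℂ) = 0 →
        Odd (t χ) ∧ Odd (((2 ^ blockDefect 2 B : ℕ) : ℤ) - t χ) ∧
        ((∑ ψ ∈ B.toFinite.toFinset, (2 ^ blockHeight 2 B (ψ : G → ℂ)) ^ 2 : ℕ) : ℤ) ≤
          ((2 ^ blockDefect 2 B : ℕ) : ℤ) * t χ ∧
        ((∑ ψ ∈ B.toFinite.toFinset, (2 ^ blockHeight 2 B (ψ : G → ℂ)) ^ 2 : ℕ) : ℤ) ≤
          ((2 ^ blockDefect 2 B : ℕ) : ℤ) * (((2 ^ blockDefect 2 B : ℕ) : ℤ) - t χ)) ∧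
      ∀ χ ∈ B, blockHeight 2 B (χ : G → ℂ) ≠ 0 →
        ((2 * 2 ^ blockHeight 2 B (χ : G → ℂ) : ℕ) : ℤ) ≤ t χ ∧
        ((2 * 2 ^ blockHeight 2 B (χ : G → ℂ) : ℕ) : ℤ) ≤ ((2 ^ blockDefect 2 B : ℕ) : ℤ) - t χ := by
  classical
  haveI := prime_of_isPModular hM
  haveI := Fintype.ofFinite G
  haveI := Fintype.ofFinite (IrrCharacter CG(y))
  haveI := Fintype.ofFinite (IrrCharacter G)
  obtain ⟨hK, hint, hunit, hexp⟩ := subMat_props hM hy hind
  obtain ⟨hrow, htr⟩ := subMat_row hM hB hy hind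
  obtain ⟨hdiv, hexact, hdiag⟩ := subMat_major_props hM hB hy hind hd
  rw [hd] at hrow htr
  choose s w hs hsymm hw using hexp
  choose ks hks using hs
  set K := ∑ χ : IrrCharacter G, ∑ ξ : IrrCharacter CG(y), ks χ ξ with hKdef
  set N := Nat.card G * 2 ^ (K + 1) with hNdef
  haveI : NeZero N := ⟨Nat.mul_ne_zero Nat.card_pos.ne' (pow_ne_zero _ two_ne_zero)⟩
  have hle : cycF (Nat.card G) ≤ cycF N := cycF_mono (dvd_mul_right _ _)
  have hsmem : ∀ χ ξ, s χ ξ ∈ cycF (2 ^ (K + 1)) := fun χ ξ => by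
    have h1 : ks χ ξ ≤ K + 1 := le_trans (le_trans
      (Finset.single_le_sum (f := ks χ) (fun _ _ => Nat.zero_le _) (Finset.mem_univ ξ))
      (Finset.single_le_sum (f := fun χ => ∑ ξ, ks χ ξ) (fun _ _ => Nat.zero_le _) (Finset.mem_univ χ)))
      (Nat.le_succ K)
    refine root_mem_cycF ?_
    obtain ⟨c, hc⟩ := Nat.exists_eq_add_of_le h1
    rw [hc, pow_add, pow_mul, hks, one_pow]
  have hdiag2 : ∀ χ, subMat 2 y b χ χ ∈ cycF (2 ^ (K + 1)) := fun χ => by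
    rw [hw]
    exact sum_mem fun ξ _ => sum_mem fun η _ =>
      mul_mem (intCast_mem _ _) (mul_mem (hsmem χ ξ) (conj_mem_cycF (hsmem χ η)))
  set α : IrrCharacter G → cycF N := fun χ => ⟨subMat 2 y b χ χ, hle (hK χ χ)⟩
  set q : IrrCharacter G → ℕ := fun χ => 2 ^ blockHeight 2 B (χ : G → ℂ) with hqdef
  have hq : ∀ χ, (q χ : ℂ) ≠ 0 := fun χ => Nat.cast_ne_zero.2 (pow_ne_zero _ two_ne_zero)
  set D : ℕ := 2 ^ blockDefect 2 B with hD
  have hdeg : (0 : ℚ) < (Module.finrank ℚ (cycF N) : ℚ) := by exact_mod_cast Module.finrank_pos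
  have hav : ∀ χ ∈ B, ∃ c : ℤ,
      Algebra.trace ℚ (cycF N) (α χ) = (Module.finrank ℚ (cycF N) : ℚ) * (((q χ : ℤ) * c : ℤ) : ℚ) ∧
      (MemLocalIdeal M (subMat 2 y b χ χ / (q χ : ℂ)) ↔ Even c) := by
    intro χ hχ
    set v : cycF N := ⟨subMat 2 y b χ χ / (q χ : ℂ), div_mem (hle (hK χ χ)) (natCast_mem _ _)⟩
    obtain ⟨c, hc, hpar⟩ := exists_int_trace_two (N := N) (k := K) (dvd_mul_left _ _) hM v
      (div_mem (hdiag2 χ) (natCast_mem _ _)) (hdiv χ χ hχ)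
      (by simp only [v, map_div₀, Complex.conj_natCast, conj_subMat])
    refine ⟨c, ?_, hpar⟩
    have e : α χ = (q χ : ℚ) • v := by
      refine Subtype.ext ?_
      rw [IntermediateField.coe_smul, Algebra.smul_def, eq_ratCast, Rat.cast_natCast]
      exact (mul_div_cancel₀ _ (hq χ)).symm
    rw [e, map_smul, hc, smul_eq_mul]
    push_cast
    ring
  choose! c hctr hcpar using hav
  set t : IrrCharacter G → ℤ := fun χ => (q χ : ℤ) * c χ with ht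
  have htα : ∀ χ ∈ B, Algebra.trace ℚ (cycF N) (α χ) = (Module.finrank ℚ (cycF N) : ℚ) * (t χ : ℚ) :=
    fun χ hχ => hctr χ hχ
  -- a row and its complement
  set m' : IrrCharacter G → IrrCharacter G → ℂ :=
    fun χ ψ => (if ψ = χ then (D : ℂ) else 0) - subMat 2 y b χ ψ with hm'
  have hrow' : ∀ χ ∈ B, ∑ ψ ∈ B.toFinite.toFinset, m' χ ψ * conj (m' χ ψ) =
      (((D : ℚ) • ((D : ℚ) • (1 : cycF N) - α χ) : cycF N) : ℂ) := by
    intro χ hχ
    have h := hrow χ χ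
    have e : ∀ ψ, m' χ ψ * conj (m' χ ψ) = (if ψ = χ then (D : ℂ) * (D : ℂ) -
        (D : ℂ) * subMat 2 y b χ χ - (D : ℂ) * subMat 2 y b χ χ else 0) +
        subMat 2 y b χ ψ * subMat 2 y b ψ χ := by
      intro ψ
      simp only [hm', map_sub, conj_subMat, apply_ite conj, map_natCast, map_zero]
      split_ifs with h
      · subst h; ring
      · ring
    simp only [e, Finset.sum_add_distrib, Finset.sum_ite_eq', B.toFinite.mem_toFinset, if_pos hχ]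
    rw [h]
    simp [α, Algebra.smul_def]
    ring
  have hrowα : ∀ χ ∈ B, ∑ ψ ∈ B.toFinite.toFinset, subMat 2 y b χ ψ * conj (subMat 2 y b χ ψ) =
      (((D : ℚ) • α χ : cycF N) : ℂ) := by
    intro χ hχ
    simp only [conj_subMat]
    rw [hrow χ χ]
    simp [α, Algebra.smul_def]
  have hweight : ∀ (χ : IrrCharacter G) (f : IrrCharacter G → ℂ) (T : cycF N) (z : ℤ),
      (∀ ψ, f ψ ∈ cycF N) → (∀ ψ ∈ B, IsIntegral ℤ (f ψ / (q ψ : ℂ))) →
      (∑ ψ ∈ B.toFinite.toFinset, f ψ * conj (f ψ) = (T : ℂ)) →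
      (Algebra.trace ℚ (cycF N) T = (Module.finrank ℚ (cycF N) : ℚ) * ((D : ℚ) * (z : ℚ))) →
      ((∑ ψ ∈ B.toFinite.toFinset.filter (fun ψ => f ψ ≠ 0), q ψ ^ 2 : ℕ) : ℤ) ≤ (D : ℤ) * z := by
    intro χ f T z hf hfi hsum htT
    have h := weight_mul_finrank_le (B.toFinite.toFinset.filter (fun ψ => f ψ ≠ 0)) q f (fun ψ _ => hf ψ)
      (fun ψ h => hfi ψ (B.toFinite.mem_toFinset.1 (Finset.mem_filter.1 h).1))
      (fun ψ h => (Finset.mem_filter.1 h).2) (fun ψ _ => pow_pos two_pos _) T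
      (Eq.trans (Finset.sum_filter_of_ne (p := fun ψ => f ψ ≠ 0) fun ψ _ hne h0 => hne (mul_eq_zero_of_left h0 _)) hsum)
    rw [htT, mul_comm] at h
    have h2 := le_of_mul_le_mul_left h hdeg
    exact_mod_cast h2
  have hDne : (D : ℂ) ≠ 0 := Nat.cast_ne_zero.2 (pow_ne_zero _ two_ne_zero)
  have hDM : ∀ h, h + 1 ≤ blockDefect 2 B → MemLocalIdeal M ((D : ℂ) / ((2 ^ h : ℕ) : ℂ)) ∧
      IsIntegral ℤ ((D : ℂ) / ((2 ^ h : ℕ) : ℂ)) := fun h hh => by
    rw [← Nat.cast_div (pow_dvd_pow 2 (by omega)) (Nat.cast_ne_zero.2 (pow_ne_zero h two_ne_zero))]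
    refine ⟨(memLocalIdeal_natCast_iff hM.1 hM.2.2 _).2 ?_, isIntegral_natCast _⟩
    rw [Nat.pow_div (by omega) two_pos]
    exact dvd_pow_self 2 (by omega)
  have hht : ∀ χ ∈ B, blockHeight 2 B (χ : G → ℂ) + 1 ≤ blockDefect 2 B := fun χ hχ => by
    by_cases h0 : blockHeight 2 B (χ : G → ℂ) = 0
    · omega
    · exact le_trans (Nat.le_succ _) (height_pos_facts hM hB hχ h0).1
  have hm'q : ∀ χ ∈ B, ∀ ψ ∈ B, IsIntegral ℤ (m' χ ψ / (q ψ : ℂ)) := fun χ _ ψ hψ => by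
    simp only [hm', sub_div]
    refine IsIntegral.sub ?_ (hdiv χ ψ hψ)
    split_ifs
    · exact (hDM _ (hht ψ hψ)).2
    · rw [zero_div]; exact isIntegral_zero
  have hm'K : ∀ χ ψ, m' χ ψ ∈ cycF N := fun χ ψ => by
    simp only [hm']
    refine sub_mem ?_ (hle (hK χ ψ))
    split_ifs
    exacts [natCast_mem _ _, zero_mem _]
  have htr' : ∀ χ ∈ B, Algebra.trace ℚ (cycF N) ((D : ℚ) • ((D : ℚ) • (1 : cycF N) - α χ)) =
      (Module.finrank ℚ (cycF N) : ℚ) * ((D : ℚ) * ((((D : ℤ) - t χ) : ℤ) : ℚ)) := fun χ hχ => by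
    rw [map_smul, map_sub, map_smul, htα χ hχ, show (1 : cycF N) = algebraMap ℚ (cycF N) 1 from (map_one _).symm,
      Algebra.trace_algebraMap]
    simp only [nsmul_eq_mul, smul_eq_mul, mul_one]
    push_cast
    ring
  have hA : ∀ χ ∈ B, ((∑ ψ ∈ B.toFinite.toFinset.filter (fun ψ => subMat 2 y b χ ψ ≠ 0), q ψ ^ 2 : ℕ) : ℤ) ≤
      (D : ℤ) * t χ := fun χ hχ =>
    hweight χ _ _ (t χ) (fun ψ => hle (hK χ ψ)) (fun ψ hψ => hdiv χ ψ hψ) (hrowα χ hχ)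
      (by rw [map_smul, htα χ hχ, smul_eq_mul]; ring)
  have hA' : ∀ χ ∈ B, ((∑ ψ ∈ B.toFinite.toFinset.filter (fun ψ => m' χ ψ ≠ 0), q ψ ^ 2 : ℕ) : ℤ) ≤
      (D : ℤ) * ((D : ℤ) - t χ) := fun χ hχ =>
    hweight χ _ _ ((D : ℤ) - t χ) (hm'K χ) (hm'q χ hχ) (hrow' χ hχ) (htr' χ hχ)
  refine ⟨t, ?_, fun χ hχ h0 => ?_, fun χ hχ hne => ?_⟩
  · have h1 : ∑ χ ∈ B.toFinite.toFinset, α χ = ((D * blockRank 2 b : ℕ) : ℚ) • (1 : cycF N) := by
      refine Subtype.ext ?_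
      rw [show ((∑ χ ∈ B.toFinite.toFinset, α χ : cycF N) : ℂ) = ∑ χ ∈ B.toFinite.toFinset, (α χ : ℂ) from
        map_sum (cycF N).val _ _, IntermediateField.coe_smul, IntermediateField.coe_one]
      simp only [α]
      rw [htr]
      simp [Algebra.smul_def]
    have h2 := congrArg (Algebra.trace ℚ (cycF N)) h1
    rw [map_sum, map_smul, show (1 : cycF N) = algebraMap ℚ (cycF N) 1 from (map_one _).symm,
      Algebra.trace_algebraMap,
      Finset.sum_congr rfl fun χ hχ => htα χ (B.toFinite.mem_toFinset.1 hχ), ← Finset.mul_sum] at h2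
    simp only [nsmul_eq_mul, mul_one, smul_eq_mul] at h2
    rw [mul_comm ((D * blockRank 2 b : ℕ) : ℚ)] at h2
    have h3 := mul_left_cancel₀ hdeg.ne' h2
    exact_mod_cast h3
  · have hq1 : q χ = 1 := by simp [hqdef, h0]
    have hodd : Odd (t χ) := by
      rw [ht]
      simp only [hq1, Nat.cast_one, one_mul, ← Int.not_even_iff_odd]
      exact fun h => hexact χ χ hχ h0 hχ ((hcpar χ hχ).2 h)
    have hDeven : Even (D : ℤ) := by
      rw [Int.even_coe_nat, hD, Nat.even_pow]; exact ⟨even_two, hd0.ne'⟩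
    have hall : B.toFinite.toFinset.filter (fun ψ => subMat 2 y b χ ψ ≠ 0) = B.toFinite.toFinset :=
      Finset.filter_true_of_mem fun ψ hψ h => hexact χ ψ hχ h0 (B.toFinite.mem_toFinset.1 hψ)
        (by rw [h, zero_div]; exact memLocalIdeal_zero)
    have hall' : B.toFinite.toFinset.filter (fun ψ => m' χ ψ ≠ 0) = B.toFinite.toFinset := by
      refine Finset.filter_true_of_mem fun ψ hψ h => ?_
      have hψ' := B.toFinite.mem_toFinset.1 hψ
      refine hexact χ ψ hχ h0 hψ' ?_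
      rw [show subMat 2 y b χ ψ = (if ψ = χ then (D : ℂ) else 0) from (sub_eq_zero.1 h).symm]
      split_ifs
      · exact (hDM _ (hht ψ hψ')).1
      · rw [zero_div]; exact memLocalIdeal_zero
    have h1 := hA χ hχ
    have h2 := hA' χ hχ
    rw [hall] at h1
    rw [hall'] at h2
    exact ⟨hodd, hDeven.sub_odd hodd, h1, h2⟩
  · have hc2 : Even (c χ) := (hcpar χ hχ).1 (hdiag χ hχ hne)
    obtain ⟨χ₀, hχ₀, h00⟩ := exists_height_zero 2 (isPBlock_nonempty hB)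
    have hnz : subMat 2 y b χ χ₀ ≠ 0 := fun h => hexact χ₀ χ hχ₀ h00 hχ (by
      rw [← conj_subMat, h, map_zero, zero_div]; exact memLocalIdeal_zero)
    have hnz' : m' χ χ₀ ≠ 0 := by
      simp only [hm', if_neg (show χ₀ ≠ χ from fun e => hne (e ▸ h00)), zero_sub, neg_ne_zero]
      exact hnz
    have hp : ∀ (f : IrrCharacter G → ℂ) (z : ℤ), f χ₀ ≠ 0 →
        ((∑ ψ ∈ B.toFinite.toFinset.filter (fun ψ => f ψ ≠ 0), q ψ ^ 2 : ℕ) : ℤ) ≤ (D : ℤ) * z → 0 < z := by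
      intro f z hf h
      have h3 : 0 < ∑ ψ ∈ B.toFinite.toFinset.filter (fun ψ => f ψ ≠ 0), q ψ ^ 2 :=
        Finset.sum_pos (fun ψ _ => pow_pos (pow_pos two_pos _) 2)
          ⟨χ₀, Finset.mem_filter.2 ⟨B.toFinite.mem_toFinset.2 hχ₀, hf⟩⟩
      have h4 : (0 : ℤ) < (D : ℤ) * z := lt_of_lt_of_le (by exact_mod_cast h3) h
      exact pos_of_mul_pos_right h4 (Int.natCast_nonneg _)
    have hpt := hp _ _ hnz (hA χ hχ)
    have hpt' := hp _ _ hnz' (hA' χ hχ)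
    obtain ⟨e, he⟩ := hc2
    have hdvd : ((2 * q χ : ℕ) : ℤ) ∣ t χ := ⟨e, by rw [ht]; simp only [he]; push_cast; ring⟩
    have hdvd' : ((2 * q χ : ℕ) : ℤ) ∣ (D : ℤ) - t χ := by
      refine dvd_sub (Int.natCast_dvd_natCast.2 ?_) hdvd
      simp only [hqdef, hD]
      rw [← pow_succ']
      exact pow_dvd_pow 2 (hht χ hχ)
    exact ⟨Int.le_of_dvd hpt hdvd, Int.le_of_dvd hpt' hdvd'⟩

end Cfsg.Agent.Block
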