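import Cfsg.Agent.Lib.Block.SubsectionSmall
import Cfsg.Agent.Lib.Block.CentralQuotientBlock
import Cfsg.Agent.Lib.Block.MajorTwo
import Cfsg.Agent.Lib.Block.DefectDeficiency

/-!
# The number of characters of a block is bounded by its defect
-/

set_option autoImplicit false

open Cfsg Cfsg.Agent.Char
open scoped ComplexConjugate

namespace Cfsg.Agent.Block

universe u

local notation "CG(" y ")" => Subgroup.centralizer ({y} : Set _)

variable {G : Type u} [Group G] [Finite G] {M : Ideal AlgInt} {p : ℕ}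

/-- `k₀(B) (k₀(B) + p ^ 2 k'(B)) ≤ p ^ (2 d) l(b)` for a major subsection. -/
theorem height_zero_mul_weight_le (hM : IsPModular p M) {B : Set (IrrCharacter G)} (hB : IsPBlock M B)
    {y : G} (hy : ∃ k : ℕ, orderOf y = p ^ k)
    {b : Set (IrrCharacter (CG(y)))} (hind : IsInducedBlock M (CG(y)) b B)
    (hd : blockDefect p b = blockDefect p B) [Fintype (IrrCharacter G)] :
    (B.toFinite.toFinset.filter fun χ : IrrCharacter G => blockHeight p B (χ : G → ℂ) = 0).card *
        ∑ ψ ∈ B.toFinite.toFinset, (p ^ blockHeight p B (ψ : G → ℂ)) ^ 2 ≤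
      p ^ blockDefect p B * (p ^ blockDefect p B * blockRank p b) := by
  classical
  haveI := prime_of_isPModular hM
  haveI := Fintype.ofFinite G
  obtain ⟨hK, hint, -, -⟩ := subMat_props hM hy hind
  obtain ⟨hrow, htr⟩ := subMat_row hM hB hy hind
  obtain ⟨hdiv, hexact, -⟩ := subMat_major_props hM hB hy hind hd
  rw [hd] at hrow htr
  set N := Nat.card G with hN
  haveI : NeZero N := ⟨Nat.card_pos.ne'⟩
  set D : ℕ := p ^ blockDefect p B with hD
  set S := B.toFinite.toFinset
  have hdeg : (0 : ℚ) < (Module.finrank ℚ (cycF N) : ℚ) := by exact_mod_cast Module.finrank_pos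
  set α : IrrCharacter G → cycF N := fun χ => ⟨subMat p y b χ χ, hK χ χ⟩
  have hrow' : ∀ χ, ∑ ψ ∈ S, subMat p y b χ ψ * conj (subMat p y b χ ψ) = (((D : ℚ) • α χ : cycF N) : ℂ) := by
    intro χ
    simp only [conj_subMat]
    rw [hrow χ χ]
    simp [α, Algebra.smul_def, hD]
  set W := ∑ ψ ∈ S, (p ^ blockHeight p B (ψ : G → ℂ)) ^ 2 with hW
  set S0 := S.filter fun χ : IrrCharacter G => blockHeight p B (χ : G → ℂ) = 0
  have hnn : ∀ χ, 0 ≤ (D : ℚ) * Algebra.trace ℚ (cycF N) (α χ) := fun χ => by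
    have h := card_mul_finrank_le_trace (S.filter fun ψ => subMat p y b χ ψ ≠ 0) (fun ψ => subMat p y b χ ψ)
      (fun ψ _ => hK χ ψ) (fun ψ _ => hint χ ψ) (fun ψ h => (Finset.mem_filter.1 h).2) ((D : ℚ) • α χ) (by
        rw [Finset.sum_filter_of_ne (p := fun ψ => subMat p y b χ ψ ≠ 0) fun ψ _ h e => h (by rw [e, zero_mul])]
        exact hrow' χ)
    rw [map_smul, smul_eq_mul] at h
    exact le_trans (by positivity) h
  have hlow : ∀ χ ∈ S0, (W : ℚ) * (Module.finrank ℚ (cycF N) : ℚ) ≤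
      (D : ℚ) * Algebra.trace ℚ (cycF N) (α χ) := by
    intro χ hχ
    obtain ⟨hχS, h0⟩ := Finset.mem_filter.1 hχ
    have hχB := B.toFinite.mem_toFinset.1 hχS
    have h := weight_mul_finrank_le S (fun ψ => p ^ blockHeight p B (ψ : G → ℂ)) (fun ψ => subMat p y b χ ψ)
      (fun ψ _ => hK χ ψ) (fun ψ hψ => hdiv χ ψ (B.toFinite.mem_toFinset.1 hψ))
      (fun ψ hψ h => hexact χ ψ hχB h0 (B.toFinite.mem_toFinset.1 hψ) (by rw [h, zero_div]; exact memLocalIdeal_zero))
      (fun ψ _ => pow_pos hM.1.pos _) ((D : ℚ) • α χ) (hrow' χ)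
    rwa [map_smul, smul_eq_mul] at h
  have hsum : ∑ χ ∈ S, (D : ℚ) * Algebra.trace ℚ (cycF N) (α χ) =
      ((D * (D * blockRank p b) : ℕ) : ℚ) * (Module.finrank ℚ (cycF N) : ℚ) := by
    rw [← Finset.mul_sum, ← map_sum]
    have e : ∑ χ ∈ S, α χ = algebraMap ℚ (cycF N) ((D * blockRank p b : ℕ) : ℚ) := by
      refine Subtype.ext ?_
      rw [show ((∑ χ ∈ S, α χ : cycF N) : ℂ) = ∑ χ ∈ S, (α χ : ℂ) from map_sum (cycF N).val _ _, map_natCast]
      simpa [α, hD, S] using htr
    rw [e, Algebra.trace_algebraMap, nsmul_eq_mul]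
    push_cast
    ring
  have h1 : ((S0.card * W : ℕ) : ℚ) * (Module.finrank ℚ (cycF N) : ℚ) ≤
      ((D * (D * blockRank p b) : ℕ) : ℚ) * (Module.finrank ℚ (cycF N) : ℚ) := by
    rw [← hsum]
    refine le_trans ?_ (Finset.sum_le_sum_of_subset_of_nonneg (Finset.filter_subset (fun χ : IrrCharacter G => blockHeight p B (χ : G → ℂ) = 0) S) fun χ _ _ => hnn χ)
    refine le_trans ?_ (Finset.card_nsmul_le_sum S0 _ _ hlow)
    rw [nsmul_eq_mul, Nat.cast_mul, mul_assoc]
  exact_mod_cast le_of_mul_le_mul_right h1 hdeg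

/-- A central element of order `p` of a defect group gives a major subsection. -/
theorem exists_major_subsection (hM : IsPModular p M) {B : Set (IrrCharacter G)} (hB : IsPBlock M B)
    (hpos : 0 < blockDefect p B) :
    ∃ (z : G) (b : Set (IrrCharacter (CG(z)))), orderOf z = p ∧ IsInducedBlock M (CG(z)) b B ∧
      blockDefect p b = blockDefect p B := by
  haveI := prime_of_isPModular hM
  haveI : Fact p.Prime := ⟨hM.1⟩
  obtain ⟨D, hD⟩ := exists_isDefectGroup (p := p) hB
  obtain ⟨e, he⟩ := exists_pairOf_defectGroup hM hB hD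
  have hDp : IsPGroup p D := he.1.1
  have hc := card_defectGroup hM hB hD
  haveI : Nontrivial D := by
    rw [← Finite.one_lt_card_iff_nontrivial, hc]
    exact Nat.one_lt_pow hpos.ne' hM.1.one_lt
  haveI := hDp.center_nontrivial
  obtain ⟨k, hk0, hk⟩ := (hDp.to_subgroup (Subgroup.center D)).nontrivial_iff_card.1 inferInstance
  obtain ⟨z, hz⟩ := exists_prime_orderOf_dvd_card' (G := Subgroup.center D) p
    (hk ▸ dvd_pow_self p hk0.ne')
  have hzo : orderOf ((z : D) : G) = p := by rw [Subgroup.orderOf_coe, Subgroup.orderOf_coe, hz]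
  refine ⟨((z : D) : G), ?_⟩
  have hQP : Subgroup.zpowers ((z : D) : G) ≤ D := Subgroup.zpowers_le.2 (z : D).2
  obtain ⟨f, hle, -⟩ := existsUnique_subpair hM D e he.1 _ hQP
  have hpairQ := (SubpairLE.pairOf_iff hM hle B).1 he
  suffices h : ∀ C : Subgroup G, (Subgroup.centralizer ((Subgroup.zpowers ((z : D) : G) : Subgroup G) : Set G)) = C →
      ∃ b : Set (IrrCharacter C), IsInducedBlock M C b B ∧ blockDefect p b = blockDefect p B by
    obtain ⟨b, hb⟩ := h _ (centralizer_zpowers _)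
    exact ⟨b, hzo, hb⟩
  rintro C rfl
  have hind : IsInducedBlock M (Subgroup.centralizer ((Subgroup.zpowers ((z : D) : G) : Subgroup G) : Set G)) f B :=
    (isInducedBlock_iff_brauerOmega hM (isPGroup_zpowers_of_orderOf ⟨1, by rw [hzo, pow_one]⟩)
      (zpowers_le_centralizer_zpowers _) hB hpairQ.1.2).2 hpairQ.2.2
  refine ⟨f, hind, le_antisymm (blockDefect_le_of_induced hM hind) ?_⟩
  obtain ⟨D', hD', hle'⟩ := exists_defectGroup_centralizer hM he.1 hpairQ.1.2 hle
  have hDC : D ≤ (Subgroup.centralizer ((Subgroup.zpowers ((z : D) : G) : Subgroup G) : Set G)) := fun d hd => by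
    rw [centralizer_zpowers, mem_centralizer_singleton]
    exact (congrArg Subtype.val (Subgroup.mem_center_iff.1 z.2 ⟨d, hd⟩)).symm
  have h1 : Nat.card D ≤ Nat.card D' := by
    refine le_trans ?_ (Subgroup.card_le_of_le hle')
    rw [inf_eq_left.2 hDC, Nat.card_congr (Subgroup.subgroupOfEquivOfLe hDC).toEquiv]
  rw [hc, card_defectGroup hM hpairQ.1.2 hD'] at h1
  exact (Nat.pow_le_pow_iff_right hM.1.one_lt).1 h1

/-- `k(B) ≤ p ^ d` for `d ≤ 2` and `k(B) ≤ p ^ (2 d - 2)` otherwise. -/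
theorem card_block_le_pow (hM : IsPModular p M) : ∀ (d : ℕ) (G : Type u) [Group G] [Finite G]
    (B : Set (IrrCharacter G)), IsPBlock M B → blockDefect p B = d →
      (d ≤ 2 → Nat.card B ≤ p ^ d) ∧ (3 ≤ d → Nat.card B ≤ p ^ (2 * d - 2)) := by
  intro d
  induction d using Nat.strong_induction_on with
  | _ d IH =>
    intro G _ _ B hB hd
    classical
    haveI := prime_of_isPModular hM
    haveI := Fintype.ofFinite G
    rcases Nat.eq_zero_or_pos d with rfl | hd0
    · refine ⟨fun _ => ?_, fun h => absurd h (by norm_num)⟩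
      have h := brauer_feit hM hB
      rw [hd, mul_zero, pow_zero] at h
      rw [pow_zero]
      omega
    obtain ⟨z, b, hz, hind, hdb⟩ := exists_major_subsection hM hB (hd ▸ hd0)
    have hzk : ∃ k : ℕ, orderOf z = p ^ k := ⟨1, by rw [hz, pow_one]⟩
    set zc : CG(z) := ⟨z, mem_centralizer_singleton.2 (Commute.refl z)⟩
    have hzc : ∀ c, zc * c = c * zc := fun c => Subtype.ext (mem_centralizer_singleton.1 c.2).eq
    have hzo : orderOf zc = p := by rw [← Subgroup.orderOf_coe]; exact hz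
    refine ⟨fun h2 => hd ▸ card_block_le_of_small hM hB hzk hind (hd ▸ h2) hdb.le fun _ => ⟨zc, hzc, hzo⟩,
      fun h3 => ?_⟩
    obtain ⟨Q, _, _, B', hB', hd', hl⟩ := exists_quotient_block hM hind.1 hzc hzo
    rw [hdb, hd] at hd'
    have hp2 := hM.1.two_le
    have hkQ : Nat.card B' ≤ p ^ (2 * d - 4) := by
      obtain ⟨hs, hb'⟩ := IH (blockDefect p B') (by omega) Q B' hB' rfl
      rcases Nat.lt_or_ge (blockDefect p B') 3 with h | h
      · exact (hs (by omega)).trans (Nat.pow_le_pow_right hM.1.pos (by omega))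
      · exact (hb' h).trans (Nat.pow_le_pow_right hM.1.pos (by omega))
    haveI := Fintype.ofFinite (IrrCharacter G)
    have hmain := height_zero_mul_weight_le hM hB hzk hind hdb
    obtain ⟨χ₀, hχ₀, h00⟩ := exists_height_zero p (isPBlock_nonempty hB)
    have hBF := sum_pow_height_le hM hB hχ₀ h00
    rw [hd] at hmain hBF
    rw [Nat.card_eq_card_finite_toFinset B.toFinite]
    set S := B.toFinite.toFinset
    have hχS : χ₀ ∈ S := B.toFinite.mem_toFinset.2 hχ₀
    set F := S.filter fun χ : IrrCharacter G => blockHeight p B (χ : G → ℂ) = 0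
    set R := S.filter fun χ : IrrCharacter G => ¬ blockHeight p B (χ : G → ℂ) = 0
    have hFR : F.card + R.card = S.card := Finset.card_filter_add_card_filter_not _
    have hWW : F.card + p ^ 2 * R.card ≤ ∑ ψ ∈ S, (p ^ blockHeight p B (ψ : G → ℂ)) ^ 2 := by
      rw [← Finset.sum_filter_add_sum_filter_not S (fun χ : IrrCharacter G => blockHeight p B (χ : G → ℂ) = 0)]
      refine add_le_add ?_ ?_
      · rw [Finset.card_eq_sum_ones]
        exact Finset.sum_le_sum fun ψ _ => Nat.one_le_pow _ _ (pow_pos hM.1.pos _)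
      · rw [mul_comm, ← smul_eq_mul, ← Finset.sum_const]
        exact Finset.sum_le_sum fun ψ hψ => Nat.pow_le_pow_left
          (Nat.le_self_pow (Finset.mem_filter.1 hψ).2 p) 2
    have herase : ∑ ψ ∈ S, (p ^ blockHeight p B (ψ : G → ℂ)) ^ 2 =
        (∑ ψ ∈ S.erase χ₀, p ^ (2 * blockHeight p B (ψ : G → ℂ))) + 1 := by
      rw [← Finset.sum_erase_add _ _ hχS, h00]
      simp only [← pow_mul, mul_comm _ 2, mul_zero, pow_zero, one_pow]
    set n := p ^ (2 * d - 4) with hn
    set N' := p ^ (2 * d - 2) with hN'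
    have eD : p ^ d * (p ^ d * n) = N' * N' := by
      rw [hn, hN', ← pow_add, ← pow_add, ← pow_add]; congr 1; omega
    have eM : p ^ (2 * d) = N' * p ^ 2 := by rw [hN', ← pow_add]; congr 1; omega
    have hp4 : 4 ≤ p ^ 2 := by nlinarith
    have hN4 : 16 ≤ N' := le_trans (by norm_num : (16 : ℕ) ≤ 2 ^ 4)
      (le_trans (Nat.pow_le_pow_left hp2 4) (Nat.pow_le_pow_right hM.1.pos (by omega)))
    have h1 : F.card * (F.card + p ^ 2 * R.card) ≤ N' * N' := by
      refine le_trans (Nat.mul_le_mul_left _ hWW) (hmain.trans ?_)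
      rw [← eD]
      exact Nat.mul_le_mul_left _ (Nat.mul_le_mul_left _ (hl.trans hkQ))
    have h2 : 4 * (F.card + p ^ 2 * R.card) ≤ N' * p ^ 2 + 4 := by
      rw [← eM]
      have := le_trans (Nat.mul_le_mul_left 4 hWW) (le_of_eq (congrArg (4 * ·) herase))
      omega
    rcases Nat.lt_or_ge (2 * F.card) R.card with h | h
    · have hF1 : 1 ≤ F.card := Finset.card_pos.2 ⟨χ₀, Finset.mem_filter.2 ⟨hχS, h00⟩⟩
      nlinarith
    · have h5 : S.card ^ 2 ≤ N' ^ 2 := by
        rw [← hFR]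
        nlinarith [Nat.mul_le_mul_right (F.card * R.card) hp4, Nat.mul_le_mul_left R.card h]
      exact (Nat.pow_le_pow_iff_left two_ne_zero).1 h5

end Cfsg.Agent.Block
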