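import Cfsg.Agent.Lib.Block.SubsectionMatrix
import Cfsg.Agent.Lib.Block.Columns

/-!
# The matrix of a major subsection

If `b` and `B` have the same defect, the entries in the column of a character of height `h` are
divisible by `p ^ h`, and exactly so in the rows of the characters of height zero.
-/

set_option autoImplicit false

open Cfsg Cfsg.Agent.Char
open scoped ComplexConjugate

namespace Cfsg.Agent.Block

universe u

local notation "CG(" y ")" => Subgroup.centralizer ({y} : Set _)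

variable {G : Type u} [Group G] [Finite G] {M : Ideal AlgInt} {p : ℕ}

/-- The class sum form of the matrix. -/
noncomputable def subMajor (p : ℕ) (y : G) (b : Set (IrrCharacter (CG(y))))
    (χ ψ : IrrCharacter G) : ℂ :=
  haveI := Fintype.ofFinite (ConjClasses CG(y))
  ∑ K : ConjClasses CG(y), if p ∣ orderOf K.out then 0 else
    blockPart b (fun k : CG(y) => (χ : G → ℂ) (y * (k : G))) K.out *
      centralChar (ψ : G → ℂ) (y * (K.out : G))⁻¹

theorem sum_eq_sum_classes' {H : Type u} [Group H] [Fintype H] [Fintype (ConjClasses H)] {f : H → ℂ}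
    (hf : ∀ a b : H, IsConj a b → f a = f b) :
    ∑ h : H, f h = ∑ K : ConjClasses H,
      ((Subgroup.centralizer ({K.out} : Set H)).index : ℂ) * f K.out := by
  classical
  rw [← Finset.sum_fiberwise Finset.univ (fun h : H => ConjClasses.mk h) f]
  refine Finset.sum_congr rfl fun K _ => ?_
  have hK : ∀ h : H, ConjClasses.mk h = K ↔ IsConj K.out h := fun h => by
    conv_lhs => rw [← Quotient.out_eq K]
    exact ConjClasses.mk_eq_mk_iff_isConj.trans ⟨IsConj.symm, IsConj.symm⟩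
  rw [Finset.sum_congr rfl (g := fun _ => f K.out) fun h hh =>
    hf _ _ ((hK h).1 (Finset.mem_filter.1 hh).2).symm, Finset.sum_const, nsmul_eq_mul,
    ← card_filter_isConj]
  congr 2
  congr 1
  ext h
  simp [hK h]

theorem subMat_major (hM : IsPModular p M) {B : Set (IrrCharacter G)}
    {y : G} (hy : ∃ k : ℕ, orderOf y = p ^ k)
    {b : Set (IrrCharacter (CG(y)))}
    (hind : IsInducedBlock M (CG(y)) b B) (χ ψ : IrrCharacter G) :
    subMat p y b χ ψ = ((p ^ blockDefect p b : ℕ) : ℂ) * (ψ : G → ℂ) 1 / (Nat.card G : ℂ) *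
      subMajor p y b χ ψ := by
  classical
  haveI := prime_of_isPModular hM
  haveI := Fintype.ofFinite CG(y)
  haveI := Fintype.ofFinite (ConjClasses CG(y))
  haveI := Fintype.ofFinite (IrrCharacter CG(y))
  set θ : IrrCharacter G → CG(y) → ℂ := fun φ k => (φ : G → ℂ) (y * (k : G)) with hθ
  have hcl : ∀ φ : IrrCharacter G, IsClassFunction CG(y) (θ φ) := fun φ =>
    isClassFunction_translate (IsCharacter.isClassFunction (IsIrrCharacter.isCharacter φ.2))
  -- replace the block part of `ψ` by `ψ`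
  have hsym : ∑ c : CG(y), (if p ∣ orderOf c then 0 else blockPart b (θ χ) c * conj (blockPart b (θ ψ) c)) =
      ∑ c : CG(y), if p ∣ orderOf c then 0 else blockPart b (θ χ) c * conj (θ ψ c) := by
    have e : ∀ (f : CG(y) → ℂ) (c : CG(y)), ¬ p ∣ orderOf c → blockPart b f c =
        (Nat.card CG(y) : ℂ)⁻¹ * ∑ d, (if p ∣ orderOf d then 0 else f d) * blockKernel b c d := by
      intro f c hc
      have h := blockPart_regular (p := p) hM hind.1 f c
      rw [if_neg hc] at h
      rw [← h, blockPart_eq_sum]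
    calc _ = ∑ c : CG(y), ∑ d : CG(y), (Nat.card CG(y) : ℂ)⁻¹ *
          (if p ∣ orderOf c then 0 else if p ∣ orderOf d then 0 else
            blockPart b (θ χ) c * conj (θ ψ d) * blockKernel b d c) := by
          refine Finset.sum_congr rfl fun c _ => ?_
          by_cases hc : p ∣ orderOf c
          · simp [hc]
          rw [if_neg hc, e (θ ψ) c hc, map_mul, map_inv₀, Complex.conj_natCast, map_sum,
            Finset.mul_sum, Finset.mul_sum]
          refine Finset.sum_congr rfl fun d _ => ?_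
          by_cases hd : p ∣ orderOf d
          · simp [hd]
          simp only [hc, hd, if_false, map_mul, blockKernel_conj]
          ring
      _ = _ := by
          rw [Finset.sum_comm]
          refine Finset.sum_congr rfl fun d _ => ?_
          by_cases hd : p ∣ orderOf d
          · simp [hd]
          rw [if_neg hd]
          have h2 : ∀ c : CG(y), (if p ∣ orderOf c then (0 : ℂ) else blockPart b (θ χ) c * blockKernel b d c) =
              blockPart b (θ χ) c * blockKernel b d c := by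
            intro c
            split
            next h => rw [blockKernel_eq_zero hM hind.1 (g := d) (y := c) (fun e => hd (e.2 h)), mul_zero]
            · rfl
          have h3 : ∑ c : CG(y), blockPart b (θ χ) c * blockKernel b d c =
              (Nat.card CG(y) : ℂ) * blockPart b (θ χ) d := by
            simp only [hθ, blockPart_translate_eq_sum, Finset.sum_mul, Finset.mul_sum, mul_assoc]
            rw [Finset.sum_comm]
            refine Finset.sum_congr rfl fun ξ hξ => ?_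
            rw [← Finset.mul_sum, sum_mul_blockKernel b ξ d, if_pos (b.toFinite.mem_toFinset.1 hξ)]
            ring
          rw [Finset.sum_congr rfl (g := fun c : CG(y) => (Nat.card CG(y) : ℂ)⁻¹ * conj (θ ψ d) *
            (blockPart b (θ χ) c * blockKernel b d c)) fun c _ => by
              rw [← h2 c]
              by_cases hc : p ∣ orderOf c
              · simp [hc]
              · simp only [hc, hd, if_false]; ring, ← Finset.mul_sum, h3]
          have : (Nat.card CG(y) : ℂ) ≠ 0 := Nat.cast_ne_zero.2 Nat.card_pos.ne'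
          field_simp
  rw [subMat_eq]
  simp only [hθ] at hsym
  rw [hsym]
  rw [sum_eq_sum_classes' (f := fun c : CG(y) => if p ∣ orderOf c then 0 else
    blockPart b (θ χ) c * conj (θ ψ c)) fun a b' hab => ?_]
  · simp only [subMajor, Finset.mul_sum]
    refine Finset.sum_congr (Finset.ext fun _ => by simp) fun K _ => ?_
    by_cases hK : p ∣ orderOf K.out
    · simp [hK]
    simp only [hK, if_false, hθ]
    have hi : Subgroup.centralizer ({(y * (K.out : G))⁻¹} : Set G) = Subgroup.centralizer ({y * (K.out : G)} : Set G) := by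
      ext t
      rw [mem_centralizer_singleton, mem_centralizer_singleton]
      exact ⟨fun h => inv_inv (y * (K.out : G)) ▸ h.inv_left, fun h => h.inv_left⟩
    rw [centralChar, hi, IsCharacter.map_inv (IsIrrCharacter.isCharacter ψ.2)]
    have e1 := Subgroup.card_mul_index (Subgroup.centralizer ({K.out} : Set CG(y)))
    have e2 := Subgroup.card_mul_index (Subgroup.centralizer ({y * (K.out : G)} : Set G))
    have e3 := card_centralizer_translate hM hy hK
    have h1 : (ψ : G → ℂ) 1 ≠ 0 := IsIrrCharacter.apply_one_ne_zero ψ.2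
    rw [← e1, ← e2, e3]
    have n1 : (Nat.card (Subgroup.centralizer ({K.out} : Set CG(y))) : ℂ) ≠ 0 :=
      Nat.cast_ne_zero.2 Nat.card_pos.ne'
    have n2 : ((Subgroup.centralizer ({y * (K.out : G)} : Set G)).index : ℂ) ≠ 0 :=
      Nat.cast_ne_zero.2 Subgroup.index_ne_zero_of_finite
    have n3 : ((Subgroup.centralizer ({K.out} : Set CG(y))).index : ℂ) ≠ 0 :=
      Nat.cast_ne_zero.2 Subgroup.index_ne_zero_of_finite
    push_cast
    field_simp
  · show (if p ∣ orderOf a then 0 else blockPart b (θ χ) a * conj (θ ψ a)) =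
      if p ∣ orderOf b' then 0 else blockPart b (θ χ) b' * conj (θ ψ b')
    obtain ⟨t, rfl⟩ := isConj_iff.1 hab
    rw [orderOf_conj_eq, hcl ψ a t]
    congr 2
    simp only [hθ, blockPart_translate_eq_sum]
    exact Finset.sum_congr rfl fun ξ _ => by rw [IsIrrCharacter.apply_isConj ξ.2 hab]

theorem subMajor_props (hM : IsPModular p M) {B : Set (IrrCharacter G)} (hB : IsPBlock M B)
    {y : G} (hy : ∃ k : ℕ, orderOf y = p ^ k)
    {b : Set (IrrCharacter (CG(y)))} :
    (∀ χ ψ, IsIntegral ℤ (subMajor p y b χ ψ)) ∧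
    ∀ χ : IrrCharacter G, ∀ ψ ∈ B, ∀ ψ' ∈ B,
      MemLocalIdeal M (subMajor p y b χ ψ - subMajor p y b χ ψ') := by
  classical
  haveI := prime_of_isPModular hM
  haveI := Fintype.ofFinite CG(y)
  haveI := Fintype.ofFinite (ConjClasses CG(y))
  have hX : ∀ (χ : IrrCharacter G) (c : CG(y)),
      IsIntegral ℤ (blockPart b (fun k : CG(y) => (χ : G → ℂ) (y * (k : G))) c) := by
    intro χ c
    rw [blockPart_translate_eq_sum]
    refine IsIntegral.sum _ fun ξ _ => ?_
    obtain ⟨n, s, -, hs, hsi, -⟩ := exists_subCoeff_eq hM hy χ ξ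
    rw [hs]
    exact (hsi.mul (isIntegral_natCast _)).mul
      (Cfsg.Agent.Char.IsCharacter.isIntegral (IsIrrCharacter.isCharacter ξ.2) c)
  refine ⟨fun χ ψ => IsIntegral.sum _ fun K _ => ?_, fun χ ψ hψ ψ' hψ' => ?_⟩
  · split
    · exact isIntegral_zero
    · exact (hX χ _).mul (Block.isIntegral_centralChar ψ _)
  · simp only [subMajor, ← Finset.sum_sub_distrib]
    refine memLocalIdeal_sum _ _ fun K _ => ?_
    split
    · rw [sub_self]; exact memLocalIdeal_zero
    · rw [← mul_sub]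
      exact memLocalIdeal_mul_left (isIntegral_mem_locRing (hX χ _))
        (isPBlock_sameBlock hB hψ hψ' _)

/-- Exact divisibility in a major subsection. -/
theorem subMat_major_props (hM : IsPModular p M) {B : Set (IrrCharacter G)} (hB : IsPBlock M B)
    {y : G} (hy : ∃ k : ℕ, orderOf y = p ^ k)
    {b : Set (IrrCharacter (CG(y)))}
    (hind : IsInducedBlock M (CG(y)) b B) (hd : blockDefect p b = blockDefect p B) :
    (∀ χ, ∀ ψ ∈ B, IsIntegral ℤ (subMat p y b χ ψ / ((p ^ blockHeight p B (ψ : G → ℂ) : ℕ) : ℂ))) ∧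
    (∀ χ ψ : IrrCharacter G, χ ∈ B → blockHeight p B (χ : G → ℂ) = 0 → ψ ∈ B →
      ¬ MemLocalIdeal M (subMat p y b χ ψ / ((p ^ blockHeight p B (ψ : G → ℂ) : ℕ) : ℂ))) ∧
    (∀ ψ ∈ B, blockHeight p B (ψ : G → ℂ) ≠ 0 →
      MemLocalIdeal M (subMat p y b ψ ψ / ((p ^ blockHeight p B (ψ : G → ℂ) : ℕ) : ℂ))) := by
  classical
  haveI := prime_of_isPModular hM
  obtain ⟨-, hint, hunit, -⟩ := subMat_props hM hy hind
  obtain ⟨hV, hVc⟩ := subMajor_props hM hB hy (b := b)
  set a := (Nat.card G).factorization p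
  set m' := Nat.card G / p ^ a
  have hm'd : ¬ p ∣ m' := Nat.not_dvd_ordCompl hM.1 Nat.card_pos.ne'
  have hm0 : (m' : ℂ) ≠ 0 := Nat.cast_ne_zero.2 fun h => hm'd (by rw [h]; exact dvd_zero p)
  have hform : ∀ χ, ∀ ψ ∈ B, ∃ n : ℕ, ¬ p ∣ n ∧
      subMat p y b χ ψ = ((p ^ blockHeight p B (ψ : G → ℂ) : ℕ) : ℂ) *
        ((n : ℂ) * (m' : ℂ)⁻¹ * subMajor p y b χ ψ) := by
    intro χ ψ hψ
    refine ⟨charDegree (ψ : G → ℂ) / p ^ (charDegree (ψ : G → ℂ)).factorization p,
      Nat.not_dvd_ordCompl hM.1 (charDegree_pos ψ.2).ne', ?_⟩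
    set v := (charDegree (ψ : G → ℂ)).factorization p
    set h := blockHeight p B (ψ : G → ℂ)
    have e : blockDefect p B + v = h + a := by
      have h1 := minVal_add_height (p := p) hψ
      have h2 := degree_factorization_le p ψ
      rw [blockDefect_eq]
      omega
    rw [subMat_major hM hy hind, hd, ← charDegree_cast (IsIrrCharacter.isCharacter ψ.2)]
    rw [show (Nat.card G : ℂ) = ((p ^ a : ℕ) : ℂ) * (m' : ℂ) by
      rw [← Nat.cast_mul, Nat.ordProj_mul_ordCompl_eq_self]]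
    rw [show (charDegree (ψ : G → ℂ) : ℂ) =
      ((p ^ v : ℕ) : ℂ) * ((charDegree (ψ : G → ℂ) / p ^ v : ℕ) : ℂ) by
        rw [← Nat.cast_mul, Nat.ordProj_mul_ordCompl_eq_self]]
    have hp0 : (p : ℂ) ≠ 0 := Nat.cast_ne_zero.2 hM.1.ne_zero
    push_cast
    field_simp
    have e' : (p : ℂ) ^ blockDefect p B * (p : ℂ) ^ v = (p : ℂ) ^ h * (p : ℂ) ^ a := by
      rw [← pow_add, ← pow_add, e]
    linear_combination ((charDegree (ψ : G → ℂ) / p ^ v : ℕ) : ℂ) * subMajor p y b χ ψ * e'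
  have hq : ∀ h : ℕ, ((p ^ h : ℕ) : ℂ) ≠ 0 := fun h => Nat.cast_ne_zero.2 (pow_ne_zero h hM.1.ne_zero)
  have hdiv : ∀ χ, ∀ ψ ∈ B, ∃ n : ℕ, ¬ p ∣ n ∧
      subMat p y b χ ψ / ((p ^ blockHeight p B (ψ : G → ℂ) : ℕ) : ℂ) =
        (n : ℂ) * (m' : ℂ)⁻¹ * subMajor p y b χ ψ := fun χ ψ hψ => by
    obtain ⟨n, hn, e⟩ := hform χ ψ hψ
    exact ⟨n, hn, by rw [e, mul_div_cancel_left₀ _ (hq _)]⟩
  have hintd : ∀ χ, ∀ ψ ∈ B,
      IsIntegral ℤ (subMat p y b χ ψ / ((p ^ blockHeight p B (ψ : G → ℂ) : ℕ) : ℂ)) := by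
    intro χ ψ hψ
    obtain ⟨n, -, e⟩ := hdiv χ ψ hψ
    have hcop : Nat.Coprime m' (p ^ blockHeight p B (ψ : G → ℂ)) :=
      (((hM.1.coprime_iff_not_dvd).2 hm'd).pow_left _).symm
    obtain ⟨x, z, hxz⟩ := (Nat.isCoprime_iff_coprime.2 hcop)
    have h1 : subMat p y b χ ψ / ((p ^ blockHeight p B (ψ : G → ℂ) : ℕ) : ℂ) =
        (x : ℂ) * ((n : ℂ) * subMajor p y b χ ψ) + (z : ℂ) * subMat p y b χ ψ := by
      have h2 : (x : ℂ) * (m' : ℂ) + (z : ℂ) * ((p ^ blockHeight p B (ψ : G → ℂ) : ℕ) : ℂ) = 1 := by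
        have := congrArg (fun t : ℤ => (t : ℂ)) hxz
        simpa using this
      conv_rhs => rw [show subMat p y b χ ψ = ((p ^ blockHeight p B (ψ : G → ℂ) : ℕ) : ℂ) *
        (subMat p y b χ ψ / ((p ^ blockHeight p B (ψ : G → ℂ) : ℕ) : ℂ)) from
          (mul_div_cancel₀ _ (hq _)).symm]
      rw [e, show (n : ℂ) * subMajor p y b χ ψ = (m' : ℂ) * ((n : ℂ) * (m' : ℂ)⁻¹ * subMajor p y b χ ψ) by
        field_simp]
      linear_combination (-(n : ℂ) * (m' : ℂ)⁻¹ * subMajor p y b χ ψ) * h2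
    rw [h1]
    exact ((isIntegral_intCast _).mul ((isIntegral_natCast _).mul (hV χ ψ))).add
      ((isIntegral_intCast _).mul (hint χ ψ))
  have hloc : ∀ χ ψ, subMajor p y b χ ψ ∈ locRing M := fun χ ψ => isIntegral_mem_locRing (hV χ ψ)
  have hu : ∀ n : ℕ, ¬ p ∣ n → (n : ℂ) * (m' : ℂ)⁻¹ ∈ locRing M ∧
      ∀ x : ℂ, (MemLocalIdeal M ((n : ℂ) * (m' : ℂ)⁻¹ * x) ↔ MemLocalIdeal M x) := fun n hn => by
    have hn0 : (n : ℂ) ≠ 0 := Nat.cast_ne_zero.2 fun h => hn (by rw [h]; exact dvd_zero p)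
    have hmem : (n : ℂ) * (m' : ℂ)⁻¹ ∈ locRing M :=
      mul_mem (natCast_mem _ _) (inv_natCast_mem_locRing hM.1 hM.2.2 hm'd)
    exact ⟨hmem, fun x => memLocalIdeal_unit_mul_iff hmem
      (by rw [mul_inv, inv_inv]; exact mul_mem (inv_natCast_mem_locRing hM.1 hM.2.2 hn) (natCast_mem _ _))
      (mul_ne_zero hn0 (inv_ne_zero hm0))⟩
  refine ⟨hintd, fun χ ψ hχ h0 hψ h => ?_, fun ψ hψ hne => ?_⟩
  · obtain ⟨n, hn, e⟩ := hdiv χ ψ hψ
    rw [e, (hu n hn).2] at h
    obtain ⟨ψ₀, hψ₀, h00⟩ := exists_height_zero p (isPBlock_nonempty hB)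
    obtain ⟨n₀, hn₀, e₀⟩ := hform χ ψ₀ hψ₀
    refine hunit χ ψ₀ ⟨hχ, h0⟩ ⟨hψ₀, h00⟩ ?_
    rw [e₀, h00, pow_zero, Nat.cast_one, one_mul, (hu n₀ hn₀).2]
    simpa using memLocalIdeal_sub h (hVc χ ψ hψ ψ₀ hψ₀)
  · obtain ⟨n, hn, e⟩ := hdiv ψ ψ hψ
    rw [e, (hu n hn).2]
    obtain ⟨χ₀, hχ₀, h00⟩ := exists_height_zero p (isPBlock_nonempty hB)
    obtain ⟨n₀, hn₀, e₀⟩ := hform ψ χ₀ hχ₀
    have h1 : MemLocalIdeal M (subMat p y b ψ χ₀) := by
      rw [← conj_subMat, show subMat p y b χ₀ ψ = ((p ^ blockHeight p B (ψ : G → ℂ) : ℕ) : ℂ) *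
        (subMat p y b χ₀ ψ / ((p ^ blockHeight p B (ψ : G → ℂ) : ℕ) : ℂ)) from (mul_div_cancel₀ _ (hq _)).symm,
        map_mul, map_natCast]
      exact memLocalIdeal_mul_right (isIntegral_mem_locRing
        (IsIntegral.map (RingHom.toIntAlgHom (starRingEnd ℂ)) (hintd χ₀ ψ hψ)))
        ((memLocalIdeal_natCast_iff hM.1 hM.2.2 _).2 (dvd_pow_self p hne))
    rw [e₀, h00, pow_zero, Nat.cast_one, one_mul, (hu n₀ hn₀).2] at h1
    simpa using memLocalIdeal_add (hVc ψ ψ hψ χ₀ hχ₀) h1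

end Cfsg.Agent.Block
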