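import Cfsg.Agent.Lib.Block.CoverPPower
import Cfsg.Agent.Lib.Block.SubsectionMajor
import Cfsg.Agent.Lib.Block.DefectBound
import Cfsg.Agent.Lib.Block.CorePrimeBlock
import Cfsg.Agent.Lib.Char.Gallagher
import Cfsg.Agent.Lib.Char.Extension2
import Mathlib.GroupTheory.FiniteAbelian.Duality

/-!
# Blocks with abelian defect group over a normal subgroup of `p`-power index

The characters of such a block restrict irreducibly: a major subsection at a defect element
outside a normal subgroup forces every character of the block to be nonzero outside it.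
-/

set_option autoImplicit false
set_option linter.style.haveILetI false
set_option linter.unusedSectionVars false

open Cfsg.Agent.Char
open scoped ComplexConjugate

namespace Cfsg.Agent.Block

universe u

local notation "CG(" y ")" => Subgroup.centralizer ({y} : Set _)

variable {G : Type u} [Group G] [Finite G] {M : Ideal AlgInt} {p : ℕ} [Fact p.Prime] [M.IsPrime]

/-- A central element of a defect group lies in a major subsection. -/
theorem exists_major_at (hM : IsPModular p M) {B : Set (IrrCharacter G)} (hB : IsPBlock M B)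
    {D : Subgroup G} (hD : IsDefectGroup p M B D) {y : G} (hy : y ∈ D)
    (hc : ∀ d ∈ D, d * y = y * d) :
    ∃ b : Set (IrrCharacter (CG(y))), IsInducedBlock M (CG(y)) b B ∧
      blockDefect p b = blockDefect p B := by
  obtain ⟨e, he⟩ := exists_pairOf_defectGroup hM hB hD
  have hDp : IsPGroup p D := he.1.1
  have hQP : Subgroup.zpowers y ≤ D := Subgroup.zpowers_le.2 hy
  obtain ⟨f, hle, -⟩ := existsUnique_subpair hM D e he.1 _ hQP
  have hpairQ := (SubpairLE.pairOf_iff hM hle B).1 he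
  suffices h : ∀ C : Subgroup G, (Subgroup.centralizer ((Subgroup.zpowers y : Subgroup G) : Set G)) = C →
      ∃ b : Set (IrrCharacter C), IsInducedBlock M C b B ∧ blockDefect p b = blockDefect p B from
    h _ (centralizer_zpowers _)
  rintro C rfl
  have hind : IsInducedBlock M (Subgroup.centralizer ((Subgroup.zpowers y : Subgroup G) : Set G)) f B :=
    (isInducedBlock_iff_brauerOmega hM (hDp.to_le hQP) (zpowers_le_centralizer_zpowers _) hB
      hpairQ.1.2).2 hpairQ.2.2
  refine ⟨f, hind, le_antisymm (blockDefect_le_of_induced hM hind) ?_⟩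
  obtain ⟨D', hD', hle'⟩ := exists_defectGroup_centralizer hM he.1 hpairQ.1.2 hle
  have hDC : D ≤ (Subgroup.centralizer ((Subgroup.zpowers y : Subgroup G) : Set G)) := fun d hd => by
    rw [centralizer_zpowers, mem_centralizer_singleton]
    exact (hc d hd).symm
  have h1 : Nat.card D ≤ Nat.card D' := by
    refine le_trans ?_ (Subgroup.card_le_of_le hle')
    rw [inf_eq_left.2 hDC, Nat.card_congr (Subgroup.subgroupOfEquivOfLe hDC).toEquiv]
  rw [card_defectGroup hM hB hD, card_defectGroup hM hpairQ.1.2 hD'] at h1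
  exact (Nat.pow_le_pow_iff_right hM.1.one_lt).1 h1

/-- Every character of a block is nonzero on the section of a major subsection. -/
theorem exists_ne_zero_major (hM : IsPModular p M) {B : Set (IrrCharacter G)} (hB : IsPBlock M B)
    {y : G} (hy : ∃ k : ℕ, orderOf y = p ^ k) {b : Set (IrrCharacter (CG(y)))}
    (hind : IsInducedBlock M (CG(y)) b B) (hd : blockDefect p b = blockDefect p B)
    {ψ : IrrCharacter G} (hψ : ψ ∈ B) :
    ∃ c : CG(y), ¬ p ∣ orderOf c ∧ (ψ : G → ℂ) (y * (c : G)) ≠ 0 := by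
  classical
  haveI := Fintype.ofFinite CG(y)
  by_contra hno
  push Not at hno
  obtain ⟨χ₀, hχ₀, h00⟩ := exists_height_zero p (isPBlock_nonempty hB)
  refine (subMat_major_props hM hB hy hind hd).2.1 χ₀ ψ hχ₀ h00 hψ ?_
  have hzero : ∀ c : CG(y), ¬ p ∣ orderOf c →
      blockPart b (fun k : CG(y) => (ψ : G → ℂ) (y * (k : G))) c = 0 := by
    intro c hc
    have h := blockPart_regular (p := p) hM hind.1 (fun k : CG(y) => (ψ : G → ℂ) (y * (k : G))) c
    rw [if_neg hc] at h
    rw [← h, blockPart_eq_sum]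
    simp only [Finset.mul_sum]
    refine Finset.sum_eq_zero fun k _ => ?_
    by_cases hk : p ∣ orderOf k
    · simp [hk]
    · simp [hk, hno k hk]
  have h0 : subMat p y b χ₀ ψ = 0 := by
    rw [subMat_eq, Finset.sum_eq_zero fun c _ => ?_, mul_zero]
    by_cases hc : p ∣ orderOf c
    · rw [if_pos hc]
    · rw [if_neg hc, hzero c hc, map_zero, mul_zero]
  rw [h0, zero_div]
  exact memLocalIdeal_zero

theorem twist_irr (l : G →* ℂˣ) (χ : IrrCharacter G) :
    IsIrrCharacter G (fun g => (l g : ℂ) * (χ : G → ℂ) g) :=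
  let ⟨_, hd⟩ := IsCharacter.exists_degree (IsIrrCharacter.isCharacter χ.2)
  (exists_twist_character l χ.2 hd).1

variable {N : Subgroup G} [N.Normal]

/-- The regular elements lie in every normal subgroup of `p`-power index. -/
theorem mem_of_regular_of_index (hidx : ∃ k : ℕ, N.index = p ^ k) {x : G} (hx : ¬ p ∣ orderOf x) :
    x ∈ N := by
  obtain ⟨k, hk⟩ := hidx
  rw [← QuotientGroup.eq_one_iff, ← orderOf_eq_one_iff]
  have h1 : orderOf (QuotientGroup.mk x : G ⧸ N) ∣ orderOf x := orderOf_map_dvd (QuotientGroup.mk' N) x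
  have h2 : orderOf (QuotientGroup.mk x : G ⧸ N) ∣ p ^ k := hk ▸ orderOf_dvd_natCard _
  exact Nat.dvd_one.1 (((((Fact.out : p.Prime).coprime_iff_not_dvd.2 hx).symm.pow_right k).gcd_eq_one) ▸
    Nat.dvd_gcd h1 h2)

theorem linear_eq_of_twist (hM : IsPModular p M) (hidx : ∃ k : ℕ, N.index = p ^ k)
    {B : Set (IrrCharacter G)} (hB : IsPBlock M B) {P : Subgroup G} (hPD : IsDefectGroup p M B P)
    (hPab : ∀ x ∈ P, ∀ y ∈ P, x * y = y * x) (hNP : N ⊔ P = ⊤) {ψ : IrrCharacter G} (hψ : ψ ∈ B)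
    (l : G →* ℂˣ) (hl : ∀ n : N, l n = 1)
    (he : ∀ g, (l g : ℂ) * (ψ : G → ℂ) g = (ψ : G → ℂ) g) : l = 1 := by
  by_contra hne
  obtain ⟨y, hyP, hy⟩ : ∃ y ∈ P, l y ≠ 1 := by
    by_contra hh
    push Not at hh
    refine hne (MonoidHom.ext fun g => ?_)
    obtain ⟨a, ha, b, hb, rfl⟩ := Subgroup.mem_sup_of_normal_left.1 (hNP ▸ Subgroup.mem_top g : g ∈ N ⊔ P)
    rw [map_mul, hl ⟨a, ha⟩, hh b hb, one_mul]
    rfl
  obtain ⟨b, hind, hd⟩ := exists_major_at hM hB hPD hyP fun d hdm => hPab d hdm y hyP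
  have hyk : ∃ k : ℕ, orderOf y = p ^ k := by
    obtain ⟨k, hk⟩ := IsPGroup.iff_orderOf.1 (isPGroup_of_isDefectGroup hPD) ⟨y, hyP⟩
    exact ⟨k, by rw [← hk]; exact (Subgroup.orderOf_coe (⟨y, hyP⟩ : P))⟩
  obtain ⟨c, hc, hne0⟩ := exists_ne_zero_major hM hB hyk hind hd hψ
  have hcN : (c : G) ∈ N := mem_of_regular_of_index hidx (by rwa [Subgroup.orderOf_coe])
  have h := he (y * (c : G))
  rw [map_mul, hl ⟨_, hcN⟩, mul_one] at h
  exact hy (Units.ext ((mul_eq_right₀ hne0).1 h))

/-- Conclusions of Koshitani and Külshammer. -/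
theorem abelian_pPower_index [Fintype G] [Fintype N] (hM : IsPModular p M)
    (hidx : ∃ k : ℕ, N.index = p ^ k) {b : Set (IrrCharacter N)} (hb : IsPBlock M b)
    (hst : ∀ g : G, conjBlk (mem_normalizer_of_normal (N := N) g) b = b)
    {B : Set (IrrCharacter G)} (hB : IsPBlock M B) (hcov : Covers B b) {P : Subgroup G}
    (hPD : IsDefectGroup p M B P) (hPab : ∀ x ∈ P, ∀ y ∈ P, x * y = y * x) :
    N ⊔ P = ⊤ ∧ IsDefectGroup p M b ((P ⊓ N).subgroupOf N) ∧
      (∀ χ ∈ B, ∃ θ ∈ b, ∀ n : N, (χ : G → ℂ) n = (θ : N → ℂ) n) ∧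
      (∀ θ ∈ b, Nat.card {χ : IrrCharacter G // χ ∈ B ∧ ∀ n : N, (χ : G → ℂ) n = (θ : N → ℂ) n} =
        N.index) ∧
      Nat.card B = N.index * Nat.card b ∧ blockRank p B = blockRank p b := by
  classical
  obtain ⟨hNP, hbD⟩ := defectGroup_of_stable hM hidx hb hst hB hcov hPD
  refine ⟨hNP, hbD, ?_⟩
  -- the quotient is commutative
  have hqab : ∀ a c : G ⧸ N, a * c = c * a := by
    intro a c
    obtain ⟨a, rfl⟩ := QuotientGroup.mk'_surjective N a
    obtain ⟨c, rfl⟩ := QuotientGroup.mk'_surjective N c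
    obtain ⟨a1, ha1, a2, ha2, rfl⟩ :=
      Subgroup.mem_sup_of_normal_left.1 (hNP ▸ Subgroup.mem_top a : a ∈ N ⊔ P)
    obtain ⟨c1, hc1, c2, hc2, rfl⟩ :=
      Subgroup.mem_sup_of_normal_left.1 (hNP ▸ Subgroup.mem_top c : c ∈ N ⊔ P)
    have e : ∀ {n : G}, n ∈ N → QuotientGroup.mk' N n = 1 := fun hn => (QuotientGroup.eq_one_iff _).2 hn
    rw [map_mul, map_mul, e ha1, e hc1, one_mul, one_mul, ← map_mul, ← map_mul, hPab a2 ha2 c2 hc2]
  letI : CommGroup (G ⧸ N) := { (inferInstance : Group (G ⧸ N)) with mul_comm := hqab }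
  let lift : ((G ⧸ N) →* ℂˣ) → (G →* ℂˣ) := fun μ => μ.comp (QuotientGroup.mk' N)
  have hliftN : ∀ μ (n : N), lift μ n = 1 := fun μ n => by
    show μ (QuotientGroup.mk' N n) = 1
    rw [show QuotientGroup.mk' N (n : G) = 1 from (QuotientGroup.eq_one_iff _).2 n.2, map_one]
  have hliftinj : Function.Injective lift := fun μ ν h => MonoidHom.ext fun q => by
    obtain ⟨g, rfl⟩ := QuotientGroup.mk'_surjective N q
    exact DFunLike.congr_fun h g
  have hcardl : Nat.card ((G ⧸ N) →* ℂˣ) = N.index := by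
    rw [CommGroup.card_monoidHom_of_hasEnoughRootsOfUnity (G ⧸ N) ℂ]; rfl
  haveI : Finite ((G ⧸ N) →* ℂˣ) :=
    Nat.finite_of_card_ne_zero (hcardl ▸ Subgroup.index_ne_zero_of_finite)
  haveI := Fintype.ofFinite ((G ⧸ N) →* ℂˣ)
  haveI := Fintype.ofFinite (G ⧸ N)
  -- restrictions are irreducible
  have hirr : ∀ χ ∈ B, IsIrrCharacter N (fun n : N => (χ : G → ℂ) n) := by
    intro χ hχ
    have hχc := IsIrrCharacter.isCharacter χ.2
    refine isIrrCharacter_iff.2 ⟨IsCharacter.restrict hχc N, ?_⟩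
    have hne0 : ∀ μ : (G ⧸ N) →* ℂˣ, μ ≠ 1 →
        classInner (fun g => (lift μ g : ℂ) * (χ : G → ℂ) g) (χ : G → ℂ) = 0 := by
      intro μ hμ
      obtain ⟨χ', hχ'⟩ : ∃ χ' : IrrCharacter G, (χ' : G → ℂ) = fun g => (lift μ g : ℂ) * (χ : G → ℂ) g :=
        ⟨⟨_, twist_irr (lift μ) χ⟩, rfl⟩
      rw [← hχ']
      refine IsIrrCharacter.classInner_eq_zero χ'.2 χ.2 fun e => hμ (hliftinj ?_)
      refine (linear_eq_of_twist hM hidx hB hPD hPab hNP hχ (lift μ) (hliftN μ) fun g => ?_).trans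
        (MonoidHom.ext fun g => rfl)
      exact (congrFun (hχ'.symm.trans e) g)
    have hsum : ∀ g : G, ∑ μ : (G ⧸ N) →* ℂˣ, (lift μ g : ℂ) =
        if g ∈ N then (N.index : ℂ) else 0 := by
      intro g
      split
      · next hg =>
        rw [Finset.sum_congr rfl fun μ _ => show (lift μ g : ℂ) = 1 by rw [hliftN μ ⟨g, hg⟩]; rfl,
          Finset.sum_const, Finset.card_univ, nsmul_eq_mul, mul_one, ← Nat.card_eq_fintype_card, hcardl]
      · next hg =>
        obtain ⟨φ, hφ⟩ := CommGroup.exists_apply_ne_one_of_hasEnoughRootsOfUnity (G ⧸ N) ℂ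
          (a := QuotientGroup.mk' N g) fun h => hg ((QuotientGroup.eq_one_iff _).1 h)
        have e : (lift φ g : ℂ) * ∑ μ : (G ⧸ N) →* ℂˣ, (lift μ g : ℂ) =
            1 * ∑ μ : (G ⧸ N) →* ℂˣ, (lift μ g : ℂ) := by
          rw [one_mul, Finset.mul_sum]
          exact Fintype.sum_equiv (Equiv.mulLeft φ) _ _ fun μ => by simp [lift]
        by_contra hne
        exact hφ (Units.ext (mul_right_cancel₀ hne e))
    have h1 : ∑ μ : (G ⧸ N) →* ℂˣ, classInner (fun g => (lift μ g : ℂ) * (χ : G → ℂ) g) (χ : G → ℂ) = 1 := by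
      rw [Finset.sum_eq_single (1 : (G ⧸ N) →* ℂˣ) (fun μ _ hμ => hne0 μ hμ)
        (fun h => absurd (Finset.mem_univ _) h),
        show (fun g => (lift 1 g : ℂ) * (χ : G → ℂ) g) = (χ : G → ℂ) from funext fun g => by simp [lift],
        IsIrrCharacter.classInner_self χ.2]
    simp only [classInner] at h1 ⊢
    rw [← Finset.mul_sum, Finset.sum_comm] at h1
    simp only [mul_assoc, ← Finset.sum_mul, hsum, ite_mul, zero_mul] at h1
    rw [← Finset.sum_filter, ← Finset.mul_sum,
      Finset.sum_subtype (Finset.univ.filter fun g => g ∈ N) (p := fun g => g ∈ N) (by simp),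
      ← N.index_mul_card, Nat.cast_mul, mul_inv, mul_assoc] at h1
    rw [← h1]
    have hi : (N.index : ℂ) ≠ 0 := Nat.cast_ne_zero.2 Subgroup.index_ne_zero_of_finite
    field_simp
  have hres : ∀ χ ∈ B, ∃ θ ∈ b, ∀ n : N, (χ : G → ℂ) n = (θ : N → ℂ) n := by
    intro χ hχ
    obtain ⟨χ₀, hχ₀, θ₀, hθ₀, hc₀⟩ := hcov
    obtain ⟨θ', hθ', h'⟩ := exists_constituent_of_sameBlock hb (isPBlock_sameBlock hB hχ₀ hχ) hθ₀ hc₀
    suffices h : (fun n : N => (χ : G → ℂ) n) = (θ' : N → ℂ) from ⟨θ', hθ', fun n => congrFun h n⟩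
    by_contra hne
    exact h' (IsIrrCharacter.classInner_eq_zero (hirr χ hχ) θ'.2 hne)
  -- the fibres
  have hfib : ∀ θ ∈ b, Nat.card {χ : IrrCharacter G // χ ∈ B ∧ ∀ n : N, (χ : G → ℂ) n = (θ : N → ℂ) n} =
      N.index := by
    intro θ hθ
    obtain ⟨χ, hχ, hc⟩ := exists_constituent_of_covers hM hB hb hcov hθ
    have hresf : (fun n : N => (χ : G → ℂ) n) = (θ : N → ℂ) := by
      by_contra hne
      exact hc (IsIrrCharacter.classInner_eq_zero (hirr χ hχ) θ.2 hne)
    have hmem : ∀ μ : (G ⧸ N) →* ℂˣ,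
        (⟨_, twist_irr (lift μ) χ⟩ : IrrCharacter G) ∈ B := by
      intro μ
      refine (isPBlock_mem_iff hB hχ).2 (mem_blockOf.2 fun g => ?_)
      show MemLocalIdeal M (centralChar (χ : G → ℂ) g -
        centralChar (fun g => (lift μ g : ℂ) * (χ : G → ℂ) g) g)
      have e : centralChar (fun g => (lift μ g : ℂ) * (χ : G → ℂ) g) g =
          (lift μ g : ℂ) * centralChar (χ : G → ℂ) g := by
        simp only [centralChar, map_one, Units.val_one, one_mul]
        ring
      obtain ⟨k, hk⟩ := hidx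
      have hpow : (lift μ g : ℂ) ^ p ^ k = 1 := by
        rw [← hk, ← Units.val_pow_eq_pow_val, ← map_pow, hliftN μ ⟨_, Subgroup.pow_index_mem N g⟩, Units.val_one]
      rw [e]
      have h := memLocalIdeal_neg (memLocalIdeal_mul_right (centralChar_mem_locRing (M := M) χ g)
        (sub_one_memLocalIdeal_of_pow hM hpow))
      convert h using 1
      ring
    rw [← hcardl]
    refine (Nat.card_congr (Equiv.ofBijective (fun μ : (G ⧸ N) →* ℂˣ =>
      (⟨⟨_, twist_irr (lift μ) χ⟩, hmem μ, fun n => ?_⟩ :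
        {χ : IrrCharacter G // χ ∈ B ∧ ∀ n : N, (χ : G → ℂ) n = (θ : N → ℂ) n})) ⟨?_, ?_⟩)).symm
    · show (lift μ n : ℂ) * (χ : G → ℂ) n = (θ : N → ℂ) n
      rw [hliftN μ n, Units.val_one, one_mul]
      exact congrFun hresf n
    · intro μ ν h
      have hfun : (fun g => (lift μ g : ℂ) * (χ : G → ℂ) g) = fun g => (lift ν g : ℂ) * (χ : G → ℂ) g :=
        congrArg (fun z : {χ : IrrCharacter G // χ ∈ B ∧ ∀ n : N, (χ : G → ℂ) n = (θ : N → ℂ) n} =>
          ((z.1 : IrrCharacter G) : G → ℂ)) h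
      have h1 := linear_eq_of_twist hM hidx hB hPD hPab hNP hχ (lift (ν⁻¹ * μ)) (hliftN _) fun g => by
        have := congrFun hfun g
        show ((((ν⁻¹ : (G ⧸ N) →* ℂˣ) * μ) (QuotientGroup.mk' N g) : ℂˣ) : ℂ) * (χ : G → ℂ) g = _
        rw [MonoidHom.mul_apply, MonoidHom.inv_apply, Units.val_mul, mul_assoc,
          show ((μ (QuotientGroup.mk' N g) : ℂˣ) : ℂ) * (χ : G → ℂ) g =
            ((ν (QuotientGroup.mk' N g) : ℂˣ) : ℂ) * (χ : G → ℂ) g from this, ← mul_assoc,
          Units.inv_mul, one_mul]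
      exact (inv_mul_eq_one.1 (hliftinj (h1.trans (MonoidHom.ext fun g => rfl) :
        lift (ν⁻¹ * μ) = lift 1))).symm
    · rintro ⟨χ', hχ'B, hres'⟩
      have hθirr := hirr χ hχ
      have hinv : ∀ g, Cfsg.Agent.Char.conjChar N g (fun n : N => (χ : G → ℂ) n) =
          fun n : N => (χ : G → ℂ) n := fun g => by
        funext n
        exact IsCharacter.isClassFunction (IsIrrCharacter.isCharacter χ.2) (n : G) g
      have honep : ((1 : N → ℂ) * fun n : N => (χ : G → ℂ) n) = fun n : N => (χ : G → ℂ) n := one_mul _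
      have hbij := gallagher N isIrrCharacter_one (fun g => rfl) hinv (honep.symm ▸ hθirr) χ.2 (fun n => rfl)
      rw [honep] at hbij
      have hm : classInner (indFun N (fun n : N => (χ : G → ℂ) n)) (χ' : G → ℂ) ≠ 0 := by
        rw [classInner_indFun N _ (IsCharacter.isClassFunction (IsIrrCharacter.isCharacter χ'.2)),
          show (fun n : N => (χ' : G → ℂ) n) = fun n : N => (χ : G → ℂ) n from
            funext fun n => (hres' n).trans (congrFun hresf n).symm, IsIrrCharacter.classInner_self hθirr]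
        exact one_ne_zero
      obtain ⟨β, ⟨hβ, hβne⟩, hβe⟩ := hbij.surjOn ⟨χ'.2, hm⟩
      dsimp only at hβe
      have hβ1 : β 1 = 1 := by
        have h := congrFun hβe 1
        rw [Pi.mul_apply, show (χ' : G → ℂ) 1 = (χ : G → ℂ) 1 from
          (hres' 1).trans (congrFun hresf 1).symm] at h
        exact (mul_eq_right₀ (IsIrrCharacter.apply_one_ne_zero χ.2)).1 h
      obtain ⟨l, hl⟩ := IsCharacter.exists_monoidHom (IsIrrCharacter.isCharacter hβ) hβ1
      have hlN : N ≤ l.ker := fun n hn => MonoidHom.mem_ker.2 (Units.ext (by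
        have := apply_mul_eq_of_over_one N hβ hβne ⟨n, hn⟩ 1
        rw [mul_one, hβ1, hl] at this
        exact this))
      refine ⟨QuotientGroup.lift N l hlN, Subtype.ext (Subtype.ext ?_)⟩
      show (fun g => (lift (QuotientGroup.lift N l hlN) g : ℂ) * (χ : G → ℂ) g) = (χ' : G → ℂ)
      rw [← hβe]
      funext g
      rw [Pi.mul_apply, hl]
      rfl
  choose f hf hfres using hres
  refine ⟨fun χ hχ => ⟨f χ hχ, hf χ hχ, hfres χ hχ⟩, hfib, ?_, ?_⟩
  · haveI := Fintype.ofFinite b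
    have e : B ≃ Σ θ : b, {χ : IrrCharacter G // χ ∈ B ∧ ∀ n : N, (χ : G → ℂ) n = ((θ : IrrCharacter N) : N → ℂ) n} :=
      { toFun := fun χ => ⟨⟨f χ.1 χ.2, hf χ.1 χ.2⟩, χ.1, χ.2, hfres χ.1 χ.2⟩
        invFun := fun z => ⟨z.2.1, z.2.2.1⟩
        left_inv := fun χ => rfl
        right_inv := fun z => by
          obtain ⟨⟨θ, hθ⟩, χ, hχ, hr⟩ := z
          have e : f χ hχ = θ := Subtype.ext (funext fun n => (hfres χ hχ n).symm.trans (hr n))
          subst e
          rfl }
    rw [Nat.card_congr e, Nat.card_sigma, Finset.sum_congr rfl fun θ _ => hfib θ.1 θ.2, Finset.sum_const,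
      Finset.card_univ, smul_eq_mul, Nat.card_eq_fintype_card, mul_comm]
  · -- restriction identifies the spans on regular elements
    let R : (G → ℂ) →ₗ[ℂ] (N → ℂ) := LinearMap.funLeft ℂ ℂ (Subtype.val : N → G)
    let S := Submodule.span ℂ ((fun χ : IrrCharacter G => pRegularPart p (χ : G → ℂ)) '' B)
    have hR : ∀ χ ∈ B, ∀ θ : IrrCharacter N, (∀ n : N, (χ : G → ℂ) n = (θ : N → ℂ) n) →
        R (pRegularPart p (χ : G → ℂ)) = pRegularPart p (θ : N → ℂ) := fun χ _ θ hr => funext fun n => by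
      simp only [R, LinearMap.funLeft_apply, pRegularPart, IsPRegular, Subgroup.orderOf_coe, hr n]
      split_ifs <;> simp_all
    have hmap : S.map R = Submodule.span ℂ ((fun θ : IrrCharacter N => pRegularPart p (θ : N → ℂ)) '' b) := by
      rw [Submodule.map_span]
      congr 1
      ext v
      constructor
      · rintro ⟨_, ⟨χ, hχ, rfl⟩, rfl⟩
        exact ⟨f χ hχ, hf χ hχ, (hR χ hχ _ (hfres χ hχ)).symm⟩
      · rintro ⟨θ, hθ, rfl⟩
        haveI : Nonempty {χ : IrrCharacter G // χ ∈ B ∧ ∀ n : N, (χ : G → ℂ) n = (θ : N → ℂ) n} := by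
          refine (Nat.card_pos_iff.1 ?_).1
          rw [hfib θ hθ]
          exact Nat.pos_of_ne_zero Subgroup.index_ne_zero_of_finite
        obtain ⟨χ, hχ, hr⟩ := Classical.arbitrary
          {χ : IrrCharacter G // χ ∈ B ∧ ∀ n : N, (χ : G → ℂ) n = (θ : N → ℂ) n}
        exact ⟨_, ⟨χ, hχ, rfl⟩, hR χ hχ θ hr⟩
    have hker : ∀ v ∈ S, ∀ g : G, g ∉ N → v g = 0 := by
      intro v hv g hg
      induction hv using Submodule.span_induction with
      | mem w hw =>
        obtain ⟨χ, -, rfl⟩ := hw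
        simp only [pRegularPart]
        exact if_neg fun hc => hg (mem_of_regular_of_index hidx hc)
      | zero => rfl
      | add w w' _ _ h h' => rw [Pi.add_apply, h, h', add_zero]
      | smul c w _ h => rw [Pi.smul_apply, h, smul_zero]
    unfold blockRank
    rw [← hmap]
    refine (LinearEquiv.finrank_eq (LinearEquiv.ofBijective (R.submoduleMap S) ⟨?_, ?_⟩))
    · intro v w h
      apply Subtype.ext
      funext g
      by_cases hg : g ∈ N
      · exact congrFun (congrArg Subtype.val h) ⟨g, hg⟩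
      · rw [hker _ v.2 g hg, hker _ w.2 g hg]
    · exact LinearMap.submoduleMap_surjective R S

end Cfsg.Agent.Block
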