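import Cfsg.Agent.Lib.Block.Columns
import Cfsg.Agent.Lib.Solv.NormalPComplement

/-!
The principal block when the regular elements form a normal subgroup.
-/

namespace Cfsg.Agent.Block

open Cfsg Cfsg.Agent.Char
open scoped Classical ComplexConjugate

set_option linter.style.haveILetI false

universe u

variable {G : Type u} [Group G] [Finite G] {p : ℕ} {M : Ideal AlgInt}

theorem sum_central_apply [Fintype G] {a : MonoidAlgebra ℂ G} (ha : IsCentralElt a)
    (χ : IrrCharacter G) (t : G) :
    ∑ y, a.coeff y * (χ : G → ℂ) (y * t) = omega (χ : G → ℂ) a * (χ : G → ℂ) t := by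
  have h := sum_mul_central_apply χ 1 ha t
  rw [one_mul] at h
  rw [h, Finset.sum_eq_single (1 : G)]
  · simp [MonoidAlgebra.one_def]
  · intro g _ hg; simp [MonoidAlgebra.one_def, Finsupp.single_apply, Ne.symm hg]
  · simp

theorem natCard_regular_eq {K : Subgroup G} (hK : ∀ x, x ∈ K ↔ ¬ p ∣ orderOf x) :
    Nat.card {y : G // ¬ p ∣ orderOf y} = Nat.card K :=
  Nat.card_congr (Equiv.subtypeEquivRight fun y => (hK y).symm)

/-- A character of the principal block is trivial on a subgroup consisting of all regular elements. -/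
theorem principal_apply_of_regular [Fintype G] (hM : IsPModular p M) {K : Subgroup G}
    (hK : ∀ x, x ∈ K ↔ ¬ p ∣ orderOf x) {χ : IrrCharacter G} (hχ : χ ∈ principalBlock M G) {k : G}
    (hk : k ∈ K) : (χ : G → ℂ) k = (χ : G → ℂ) 1 := by
  haveI := prime_of_isPModular hM
  have hne : omega (χ : G → ℂ) (regSum p G) ≠ 0 := by
    intro h0
    have h := omega_regSum_congr hM χ
    rw [if_pos hχ, h0, mul_one, zero_sub] at h
    have h' := memLocalIdeal_sub (memLocalIdeal_zero (M := M)) h
    rw [sub_neg_eq_add, zero_add] at h'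
    exact not_dvd_card_regular hM ((memLocalIdeal_natCast_iff hM.1 hM.2.2 _).1 h')
  refine mul_left_cancel₀ hne ?_
  rw [← sum_central_apply isCentralElt_regSum, ← sum_central_apply isCentralElt_regSum]
  refine Fintype.sum_equiv (Equiv.mulRight k) _ _ fun y => ?_
  simp only [regSum, coeff_mkA, Equiv.coe_mulRight, mul_one]
  congr 1
  have hiff : y * k ∈ K ↔ y ∈ K := K.mul_mem_cancel_right hk
  rw [hK, hK] at hiff
  by_cases h : p ∣ orderOf y
  · rw [if_pos h, if_pos (by by_contra hn; exact (hiff.1 hn) h)]
  · rw [if_neg h, if_neg (hiff.2 h)]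

theorem blockPart_principal_one [Fintype G] (hM : IsPModular p M) (g : G) :
    blockPart (principalBlock M G) (fun _ : G => (1 : ℂ)) g = 1 := by
  haveI := prime_of_isPModular hM
  let one : IrrCharacter G := ⟨fun _ => 1, isIrrCharacter_one⟩
  rw [blockPart_eq_sum]
  have h := sum_mul_blockKernel (principalBlock M G) one g
  simp only [one, one_mul] at h
  simp only [one_mul]
  rw [h, if_pos (show (⟨fun _ => 1, isIrrCharacter_one⟩ : IrrCharacter G) ∈ principalBlock M G from sameBlock_refl _), mul_one,
    inv_mul_cancel₀ (Nat.cast_ne_zero.2 Nat.card_pos.ne')]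

/-- The principal block column when the regular elements form a subgroup. -/
theorem card_mul_blockKernel_principal [Fintype G] (hM : IsPModular p M) {K : Subgroup G}
    (hK : ∀ x, x ∈ K ↔ ¬ p ∣ orderOf x) {y : G} (hy : y ∈ K) :
    (Nat.card K : ℂ) * blockKernel (principalBlock M G) y y = (Nat.card G : ℂ) := by
  haveI := prime_of_isPModular hM
  have hB : IsPBlock M (principalBlock M G) := ⟨⟨fun _ => 1, isIrrCharacter_one⟩, rfl⟩
  have hyreg : ¬ p ∣ orderOf y := (hK y).1 hy
  have h := blockPart_regular (p := p) hM hB (fun _ : G => (1 : ℂ)) y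
  rw [if_neg hyreg, blockPart_principal_one hM, blockPart_eq_sum] at h
  have hc : ∀ x, (if p ∣ orderOf x then (0 : ℂ) else 1) * blockKernel (principalBlock M G) y x =
      if p ∣ orderOf x then 0 else blockKernel (principalBlock M G) y y := by
    intro x
    split
    · exact zero_mul _
    next hx =>
      rw [one_mul]
      simp only [blockKernel]
      refine finsum_congr fun χ => finsum_congr fun hχ => ?_
      rw [principal_apply_of_regular hM hK hχ ((hK x).2 hx), principal_apply_of_regular hM hK hχ hy]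
  simp only [hc] at h
  rw [inv_mul_eq_iff_eq_mul₀ (Nat.cast_ne_zero.2 Nat.card_pos.ne'), mul_one] at h
  rw [← h, ← natCard_regular_eq hK, Nat.card_eq_fintype_card, Fintype.card_subtype,
    Finset.natCast_card_filter, Finset.sum_mul]
  exact Finset.sum_congr rfl fun x _ => by by_cases hx : p ∣ orderOf x <;> simp [hx]

theorem regular_iff_mem_pPrimeCore [Fact p.Prime] {X : Type u} [Group X] [Finite X]
    (h : ∃ k : ℕ, (pPrimeCore p X).index = p ^ k) (x : X) :
    x ∈ pPrimeCore p X ↔ ¬ p ∣ orderOf x := by
  rw [Solv.mem_pPrimeCore_iff (Solv.hasNormalPComplement_iff_index.mpr h), Nat.coprime_comm,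
    (Fact.out : p.Prime).coprime_iff_not_dvd]

theorem index_eq_ordProj_of_regular [Fact p.Prime] {X : Type u} [Group X] [Finite X]
    (h : ∃ k : ℕ, (pPrimeCore p X).index = p ^ k) :
    (pPrimeCore p X).index = p ^ (Nat.card X).factorization p := by
  obtain ⟨k, hk⟩ := h
  have hp := (Fact.out : p.Prime)
  have hn := Solv.card_pPrimeCore_coprime p X
  rw [hk, ← (pPrimeCore p X).card_mul_index, hk,
    Nat.factorization_mul Nat.card_pos.ne' (pow_ne_zero _ hp.ne_zero), Finsupp.add_apply,
    Nat.factorization_eq_zero_of_not_dvd (hp.coprime_iff_not_dvd.1 hn.symm), zero_add,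
    hp.factorization_pow, Finsupp.single_eq_same]

end Cfsg.Agent.Block

namespace Cfsg.Agent.Block

open Cfsg Cfsg.Agent.Char

universe v

variable {G : Type v} [Group G] [Finite G] {p : ℕ} {M : Ideal AlgInt}

theorem blockRank_principal_eq_one (hM : IsPModular p M) {K : Subgroup G}
    (hK : ∀ x, x ∈ K ↔ ¬ p ∣ orderOf x) : blockRank p (principalBlock M G) = 1 := by
  classical
  haveI := Fintype.ofFinite G
  haveI := prime_of_isPModular hM
  have h := card_mul_blockRank hM (B := principalBlock M G) ⟨⟨fun _ => 1, isIrrCharacter_one⟩, rfl⟩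
  refine Nat.cast_injective (R := ℂ) (mul_left_cancel₀ (Nat.cast_ne_zero.2 (Nat.card_pos (α := K)).ne') ?_)
  refine mul_left_cancel₀ (Nat.cast_ne_zero.2 (Nat.card_pos (α := G)).ne') ?_
  rw [mul_left_comm, h, Finset.mul_sum]
  have hterm : ∀ x : G, (Nat.card K : ℂ) * (if p ∣ orderOf x then 0 else blockKernel (principalBlock M G) x x) =
      if p ∣ orderOf x then 0 else (Nat.card G : ℂ) := by
    intro x
    split
    · exact mul_zero _
    next hx => exact card_mul_blockKernel_principal hM hK ((hK x).2 hx)
  rw [Finset.sum_congr rfl fun x _ => hterm x, ← natCard_regular_eq hK, Nat.card_eq_fintype_card (α := {y : G // _}),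
    Fintype.card_subtype, Finset.natCast_card_filter, Nat.cast_one, mul_one, Finset.mul_sum]
  exact Finset.sum_congr rfl fun x _ => by by_cases hx : p ∣ orderOf x <;> simp [hx]

theorem sum_localBlocks_one (hM : IsPModular p M) {B : Set (IrrCharacter G)} (hB : IsPBlock M B) :
    ∑ b ∈ localBlocks M (1 : G) B, blockRank p b = blockRank p B := by
  classical
  haveI := Fintype.ofFinite G
  have h1 := sectionDiag_eq hM hB (z := (1 : G)) ⟨0, by simp⟩
  have hC : Nat.card (Subgroup.centralizer ({1} : Set G)) = Nat.card G := by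
    rw [show Subgroup.centralizer ({1} : Set G) = ⊤ from
      eq_top_iff.2 fun x _ => mem_centralizer_singleton.2 (Commute.one_left x), Subgroup.card_top]
  have h2 : sectionDiag p B (1 : G) = (Nat.card G : ℂ) * (blockRank p B : ℂ) := by
    rw [card_mul_blockRank hM hB, sectionDiag]
    refine Finset.sum_congr rfl fun g _ => ?_
    have hiff : IsPPart p g 1 ↔ ¬ p ∣ orderOf g :=
      ⟨fun ⟨y, h, _, _, hy⟩ => by rwa [← h, one_mul], fun h =>
        ⟨g, one_mul g, Commute.one_left g, ⟨0, by simp⟩, h⟩⟩
    by_cases hg : p ∣ orderOf g <;> simp [hiff, hg]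
  rw [h2, hC, ← Nat.cast_sum] at h1
  exact_mod_cast (mul_left_cancel₀ (Nat.cast_ne_zero.2 (Nat.card_pos (α := G)).ne') h1).symm

end Cfsg.Agent.Block
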