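import Cfsg.Agent.Lib.Block.Vanish
import Cfsg.Agent.Lib.Char.Central

/-!
# Weak block orthogonality

For a `p`-regular `x` and a `p`-singular `y` the sum of `χ x * conj (χ y)` over a block is `0`.
The operator `v ↦ x v y` of the ideal cut out by the block idempotent has trace `0`, since the
right multiplication by the `p`-part of `y` permutes the group elements freely.
-/

set_option autoImplicit false

open Finset Cfsg.Agent.Char
open scoped ComplexConjugate

namespace Cfsg.Agent.Block

universe u

variable {G : Type u} [Group G]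

/-- A labelling of the group elements along the right cosets of a nontrivial `p`-element. -/
theorem exists_mul_label [Finite G] {p : ℕ} (z : G) (hz : p ∣ orderOf z) :
    ∃ c : G → ZMod p, ∀ g, c (g * z) = c g + 1 := by
  classical
  let r : G → G := fun g => ((g : G ⧸ Subgroup.zpowers z)).out
  have hmem : ∀ g, ∃ m : ℤ, g = r g * z ^ m := fun g => by
    obtain ⟨⟨_, m, rfl⟩, hm⟩ := QuotientGroup.mk_out_eq_mul (Subgroup.zpowers z) g
    refine ⟨-m, ?_⟩
    show g = r g * _
    simp only [r, hm]
    simp [zpow_neg]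
  choose m hm using hmem
  refine ⟨fun g => (m g : ZMod p), fun g => ?_⟩
  have hr : r (g * z) = r g :=
    congrArg Quotient.out (QuotientGroup.mk_mul_of_mem g (Subgroup.mem_zpowers z))
  have h1 := hm (g * z)
  rw [hr] at h1
  conv_lhs at h1 => rw [hm g]
  rw [mul_assoc, mul_right_inj, ← zpow_add_one, zpow_eq_zpow_iff_modEq] at h1
  have h2 : (m g + 1 : ℤ) ≡ m (g * z) [ZMOD (p : ℤ)] := h1.of_dvd (Int.natCast_dvd_natCast.2 hz)
  have := (ZMod.intCast_eq_intCast_iff _ _ p).2 h2
  push_cast at this
  exact this.symm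

section abstract

variable {R : Type*} [CommRing R] [IsDomain R] [IsLocalRing R] {p : ℕ}

/-- The trace of `v ↦ x v (w z)` on the ideal of a central idempotent vanishes. -/
theorem sum_conj_eq_zero_of_central [Finite G] [Fintype G] [IsBezout R]
    [CharP (IsLocalRing.ResidueField R) p]
    (hroot : ∀ f : Polynomial R, f.Monic → 0 < f.natDegree → ∃ r, f.IsRoot r)
    (hp : p.Prime) (z w x : G) (hz : p ∣ orderOf z) (hwz : Commute w z)
    {n : ℕ} (hn : IsUnit (n : R)) (hx : x ^ n = 1) (hw : w ^ n = 1)
    (e : MonoidAlgebra R G) (he : e * e = e) (hec : ∀ b, Commute e b) :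
    ∑ h : G, (e * MonoidAlgebra.single x (1 : R)).coeff (h * (w * z)⁻¹ * h⁻¹) = 0 := by
  classical
  haveI : NeZero p := ⟨hp.ne_zero⟩
  obtain ⟨c, hc⟩ := exists_mul_label (p := p) z hz
  have hci : ∀ (i : ℕ) g, c (g * z ^ i) = c g + (i : ZMod p) := by
    intro i
    induction i with
    | zero => simp
    | succ i ih => intro g; rw [pow_succ, ← mul_assoc, hc, ih]; push_cast; ring
  set E := LinearMap.mulLeft R e with hE
  set U := LinearMap.range E with hU
  haveI : Module.Finite R (MonoidAlgebra R G) := Module.Finite.of_basis groupBasis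
  haveI : Module.Free R (MonoidAlgebra R G) := Module.Free.of_basis groupBasis
  haveI : Module.Free R U := free_of_isBezout_of_torsionFree
  have hmemU : ∀ {v}, v ∈ U ↔ e * v = v := fun {v} => by
    constructor
    · rintro ⟨t, rfl⟩; simp [hE, ← mul_assoc, he]
    · intro h; exact ⟨v, h⟩
  let opL : MonoidAlgebra R G → Module.End R U := fun b =>
    (LinearMap.mulLeft R b).restrict (fun v hv => hmemU.2 (by
      rw [LinearMap.mulLeft_apply, ← mul_assoc, (hec b).eq, mul_assoc, hmemU.1 hv]))
  let opR : MonoidAlgebra R G → Module.End R U := fun b =>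
    (LinearMap.mulRight R b).restrict (fun v hv => hmemU.2 (by
      rw [LinearMap.mulRight_apply, ← mul_assoc, hmemU.1 hv]))
  have L_apply : ∀ b (v : U), ((opL b v : U) : MonoidAlgebra R G) = b * (v : MonoidAlgebra R G) :=
    fun _ _ => rfl
  have R_apply : ∀ b (v : U), ((opR b v : U) : MonoidAlgebra R G) = (v : MonoidAlgebra R G) * b :=
    fun _ _ => rfl
  have opExt : ∀ {b c : Module.End R U}, (∀ v : U, ((b v : U) : MonoidAlgebra R G) = c v) → b = c :=
    fun h => LinearMap.ext fun v => Subtype.ext (h v)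
  have Lpow : ∀ b (m : ℕ) (v : U), (((opL b) ^ m) v : MonoidAlgebra R G) = b ^ m * v := by
    intro b m
    induction m with
    | zero => simp
    | succ m ih => intro v; simp only [pow_succ, Module.End.mul_apply, ih, L_apply, mul_assoc]
  have Rpow : ∀ b (m : ℕ) (v : U), (((opR b) ^ m) v : MonoidAlgebra R G) = v * b ^ m := by
    intro b m
    induction m with
    | zero => simp
    | succ m ih =>
      intro v; simp only [pow_succ' b, pow_succ, Module.End.mul_apply, ih, R_apply, mul_assoc]
  set Z : MonoidAlgebra R G := MonoidAlgebra.single z 1 with hZ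
  set Z' : MonoidAlgebra R G := MonoidAlgebra.single z⁻¹ 1 with hZ'
  set W : MonoidAlgebra R G := MonoidAlgebra.single w 1 with hW
  set X : MonoidAlgebra R G := MonoidAlgebra.single x 1 with hX
  have hzz' : Z * Z' = 1 := by simp [hZ, hZ', MonoidAlgebra.one_def]
  have hz'z : Z' * Z = 1 := by simp [hZ, hZ', MonoidAlgebra.one_def]
  have hWZ : W * Z = Z * W := by simp [hW, hZ, hwz.eq]
  have hWZ' : W * Z' = Z' * W := by simp [hW, hZ', hwz.inv_right.eq]
  -- projection to a system of coset representatives modulo `z ^ p`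
  let P : Module.End R (MonoidAlgebra R G) :=
    groupBasis.constr R fun g => if c g = 0 then MonoidAlgebra.single g 1 else 0
  have hP : ∀ g, P (MonoidAlgebra.single g 1) = if c g = 0 then MonoidAlgebra.single g 1 else 0 := by
    intro g
    have : (MonoidAlgebra.single g (1 : R)) = groupBasis g := rfl
    rw [this]
    exact Module.Basis.constr_basis _ _ _ g
  have hPsum : ∀ v : MonoidAlgebra R G, ∑ i ∈ range p, P (v * Z' ^ i) * Z ^ i = v := by
    intro v
    induction v using MonoidAlgebra.induction_linear with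
    | zero => simp
    | add a b ha hb => simp only [add_mul, map_add, Finset.sum_add_distrib, ha, hb]
    | single g r =>
      rw [show MonoidAlgebra.single g r = r • MonoidAlgebra.single g (1 : R) by simp]
      simp only [smul_mul_assoc, map_smul, ← Finset.smul_sum]
      congr 1
      have e1 : ∀ i : ℕ, P (MonoidAlgebra.single g 1 * Z' ^ i) * Z ^ i =
          if c g = (i : ZMod p) then MonoidAlgebra.single g 1 else 0 := fun i => by
        have hcg : c g = c (g * z⁻¹ ^ i) + (i : ZMod p) := by
          have := hci i (g * z⁻¹ ^ i)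
          rwa [inv_pow, inv_mul_cancel_right, ← inv_pow] at this
        have hsingle : MonoidAlgebra.single g (1 : R) * Z' ^ i =
            MonoidAlgebra.single (g * z⁻¹ ^ i) 1 := by simp [hZ']
        rw [hsingle, hP]
        by_cases h : c (g * z⁻¹ ^ i) = 0
        · rw [if_pos h, if_pos (by rw [hcg, h, zero_add])]
          simp [hZ]
        · rw [if_neg h, if_neg (fun h' => h (by rw [hcg] at h'; simpa using h')), zero_mul]
      simp only [e1]
      rw [Finset.sum_eq_single (c g).val]
      · simp
      · intro i hi hne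
        rw [if_neg]
        intro h
        exact hne (by rw [h, ZMod.val_natCast, Nat.mod_eq_of_lt (Finset.mem_range.1 hi)])
      · intro h; exact absurd (Finset.mem_range.2 (ZMod.val_lt _)) h
  have hPzp : ∀ v, P (v * Z ^ p) = P v * Z ^ p := by
    intro v
    induction v using MonoidAlgebra.induction_linear with
    | zero => simp
    | add a b ha hb => simp only [add_mul, map_add, ha, hb]
    | single g r =>
      rw [show MonoidAlgebra.single g r = r • MonoidAlgebra.single g (1 : R) by simp]
      simp only [smul_mul_assoc, map_smul]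
      congr 1
      rw [show MonoidAlgebra.single g (1 : R) * Z ^ p = MonoidAlgebra.single (g * z ^ p) 1 by simp [hZ],
        hP, hP, hci, ZMod.natCast_self, add_zero]
      split <;> simp [hZ]
  let a : Module.End R U := ((E ∘ₗ P).restrict (fun v _ => hmemU.2 (by simp [hE, ← mul_assoc, he])))
  have a_apply : ∀ v : U, ((a v : U) : MonoidAlgebra R G) = e * P (v : MonoidAlgebra R G) := fun _ => rfl
  have haz : Commute (opR Z ^ p) a := opExt fun v => by
    simp only [Module.End.mul_apply, Rpow, a_apply, hPzp, mul_assoc]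
  have hasum : ∑ i ∈ range p, opR Z ^ i * a * opR Z' ^ i = 1 := opExt fun v => by
    simp only [LinearMap.coe_sum, Finset.sum_apply, Module.End.mul_apply, Submodule.coe_sum, Rpow,
      a_apply, mul_assoc, ← Finset.mul_sum, hPsum, Module.End.one_apply]
    exact hmemU.1 v.2
  set y := opL X * opR W with hy
  have hy_apply : ∀ v : U, ((y v : U) : MonoidAlgebra R G) = X * ((v : MonoidAlgebra R G) * W) :=
    fun _ => rfl
  have hyn : y ^ n = 1 := by
    have hc : Commute (opL X) (opR W) := opExt fun v => by simp [L_apply, R_apply, mul_assoc]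
    refine opExt fun v => ?_
    rw [hy, hc.mul_pow]
    simp [Lpow, Rpow, hX, hW, hx, hw, ← MonoidAlgebra.one_def]
  obtain ⟨b, hyb, hzb, hbsum, -⟩ := exists_avg (p := p) hn (opR Z) (opR Z') y a hyn
    (opExt fun v => by simp only [Module.End.mul_apply, hy_apply, R_apply, mul_assoc, hWZ])
    (opExt fun v => by simp only [Module.End.mul_apply, hy_apply, R_apply, mul_assoc, hWZ'])
    haz hasum
  have key := trace_mul_eq_zero_of_relProj (R := R) (U := U) (p := p) hroot hp
    (opR Z) (opR Z') y b
    (opExt fun v => by simp [R_apply, mul_assoc, hz'z])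
    (opExt fun v => by simp [R_apply, mul_assoc, hzz'])
    (opExt fun v => by simp only [Module.End.mul_apply, hy_apply, R_apply, mul_assoc, hWZ])
    hyb hzb (orderOf_pos z)
    (opExt fun v => by simp [Rpow, hZ, MonoidAlgebra.one_def.symm]) hbsum
  set F : Module.End R (MonoidAlgebra R G) :=
    (LinearMap.mulRight R (W * Z)) ∘ₗ LinearMap.mulLeft R (e * X) with hF
  have hFU : LinearMap.trace R U (opR Z * y) = LinearMap.trace R _ F := by
    have : F = (U.subtype ∘ₗ (opR Z * y)) ∘ₗ E.rangeRestrict := by
      refine LinearMap.ext fun v => ?_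
      simp only [hF, LinearMap.comp_apply, LinearMap.mulLeft_apply, LinearMap.mulRight_apply,
        Submodule.subtype_apply, Module.End.mul_apply, R_apply, hy_apply]
      show _ = X * ((e * v) * W) * Z
      rw [(hec X).eq]; simp only [mul_assoc]
    rw [this, LinearMap.trace_comp_comm', ← LinearMap.comp_assoc]
    congr 1
    refine LinearMap.ext fun v => Subtype.ext ?_
    show _ = e * _
    exact (hmemU.1 (Subtype.coe_prop _)).symm
  rw [hFU, LinearMap.trace_eq_matrix_trace R (groupBasis (R := R) (G := G))] at key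
  rw [← key, Matrix.trace]
  refine Finset.sum_congr rfl fun h _ => ?_
  have hF1 : F (MonoidAlgebra.single h 1) = e * X * MonoidAlgebra.single (h * (w * z)) 1 := by
    simp [hF, hW, hZ, mul_assoc]
  rw [Matrix.diag_apply, LinearMap.toMatrix_apply]
  show _ = (F (MonoidAlgebra.single h 1)).coeff h
  rw [hF1, MonoidAlgebra.coeff_mul_single_apply (e * X), mul_one]
  congr 1
  group

end abstract

/-! ## Characters -/

/-- Averaging a product over a conjugacy class. -/
theorem sum_conj_mul_apply [Fintype G] {χ : G → ℂ} (hχ : IsIrrCharacter G χ) (a b : G) :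
    χ 1 * ∑ h : G, χ (h * a * h⁻¹ * b) = (Nat.card G : ℂ) * χ a * χ b := by
  obtain ⟨n, ρ, hρ, rfl⟩ := hχ
  haveI := hρ
  have hcomm : ∀ x : G, (∑ h : G, ρ (h * a * h⁻¹)) * ρ x = ρ x * ∑ h : G, ρ (h * a * h⁻¹) := fun x => by
    rw [Finset.sum_mul, Finset.mul_sum]
    refine (Fintype.sum_equiv (Equiv.mulLeft x) _ _ fun h => ?_).symm
    rw [← map_mul, ← map_mul]
    congr 1
    simp [mul_assoc]
  let T : Representation.IntertwiningMap ρ ρ := ⟨∑ h : G, ρ (h * a * h⁻¹), fun x => hcomm x⟩
  obtain ⟨c, hc⟩ :=
    (Representation.IsIrreducible.algebraMap_intertwiningMap_bijective_of_isAlgClosed (ρ := ρ)).2 T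
  have hT : (∑ h : G, ρ (h * a * h⁻¹)) = c • (1 : Module.End ℂ (Fin n → ℂ)) := by
    have := congrArg Representation.IntertwiningMap.toLinearMap hc
    simp only [T] at this
    rw [← this, Algebra.algebraMap_eq_smul_one]
    rfl
  have h1 : ∀ g, ρ.character g = LinearMap.trace ℂ _ (ρ g) := fun _ => rfl
  have h2 : ∀ t, ∑ h : G, ρ.character (h * a * h⁻¹ * t) = c * ρ.character t := fun t => by
    simp only [h1, map_mul ρ (_ * a * _), ← map_sum, ← Finset.sum_mul, hT, smul_mul_assoc, one_mul,
      map_smul, smul_eq_mul]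
  have h3 := h2 1
  simp only [mul_one, Representation.char_conj] at h3
  rw [Finset.sum_const, Finset.card_univ, nsmul_eq_mul, ← Nat.card_eq_fintype_card] at h3
  rw [h2 b, ← mul_assoc, h3]
  ring

variable {M : Ideal AlgInt}

theorem not_dvd_orderOf_natCast_unit [hMp : M.IsPrime] [Finite G] {p : ℕ} (hp : p.Prime)
    (hpM : (p : AlgInt) ∈ M) {n : ℕ} (hn : ¬ p ∣ n) : IsUnit ((n : ℕ) : locRing M) := by
  by_contra h
  have := (mem_maximalIdeal_locRing _).1 ((IsLocalRing.mem_maximalIdeal _).2 h)
  exact hn ((memLocalIdeal_natCast_iff hp hpM _).1 (by simpa using this))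

/-- Weak block orthogonality, without complex conjugation. -/
theorem weak_orthogonality' [Finite G] {p : ℕ} (hM : IsPModular p M)
    {B : Set (IrrCharacter G)} (hB : IsPBlock M B) {x y : G} (hx : ¬ p ∣ orderOf x)
    (hy : p ∣ orderOf y) : ∑ᶠ χ ∈ B, (χ : G → ℂ) x * (χ : G → ℂ) y = 0 := by
  classical
  haveI := prime_of_isPModular hM
  haveI := Fintype.ofFinite G
  obtain ⟨hp, -, hpM⟩ := hM
  haveI := locRing_isBezout hp hpM
  haveI := locRing_charP hp hpM
  -- decompose `y`
  obtain ⟨k, m, hm, hord⟩ := Nat.exists_eq_pow_mul_and_not_dvd (orderOf_pos y).ne' p hp.ne_one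
  have hk : k ≠ 0 := fun h => hm (by rw [hord, h, pow_zero, one_mul] at hy; exact hy)
  have hcop : IsCoprime ((p : ℤ) ^ k) (m : ℤ) :=
    ((Nat.prime_iff_prime_int.1 hp).coprime_iff_not_dvd.2 (by exact_mod_cast hm)).pow_left
  obtain ⟨α, β, hab⟩ := hcop
  set z := y ^ (β * m) with hz
  set w := y ^ (α * (p : ℤ) ^ k) with hw
  have hwz : w * z = y := by rw [hw, hz, ← zpow_add, hab, zpow_one]
  have hcomm : Commute w z := (Commute.refl y).zpow_zpow _ _
  have hwm : w ^ m = 1 := by
    rw [hw, ← zpow_natCast, ← zpow_mul, mul_assoc, mul_comm, zpow_mul,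
      show (p : ℤ) ^ k * (m : ℤ) = ((orderOf y : ℕ) : ℤ) by rw [hord]; push_cast; ring,
      zpow_natCast, pow_orderOf_eq_one, one_zpow]
  have hzp : p ∣ orderOf z := by
    by_contra h
    have h1 : orderOf z ∣ p ^ k := by
      refine orderOf_dvd_of_pow_eq_one ?_
      rw [hz, ← zpow_natCast, ← zpow_mul, mul_assoc, mul_comm, zpow_mul,
        show (m : ℤ) * ((p ^ k : ℕ) : ℤ) = ((orderOf y : ℕ) : ℤ) by rw [hord]; push_cast; ring,
        zpow_natCast, pow_orderOf_eq_one, one_zpow]
    have h2 : orderOf z = 1 := by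
      obtain ⟨j, _, hj⟩ := (Nat.dvd_prime_pow hp).1 h1
      rcases j with _ | j
      · simpa using hj
      · exact absurd ⟨p ^ j, by rw [hj, pow_succ']⟩ h
    have h3 : orderOf y ∣ m := orderOf_dvd_of_pow_eq_one (by
      rw [← hwz, orderOf_eq_one_iff.1 h2, mul_one, hwm])
    exact hm ((dvd_pow_self p hk).trans ((Dvd.intro m hord.symm).trans h3))
  have hn : IsUnit (((orderOf x * m : ℕ)) : locRing M) :=
    not_dvd_orderOf_natCast_unit (G := G) hp hpM fun h => (hp.dvd_mul.1 h).elim hx hm
  set e' := toLoc (isLocElt_blockIdem hB) with he'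
  have he : e' * e' = e' := by
    refine MonoidAlgebra.ext (Finsupp.ext fun g => Subtype.ext ?_)
    have := congrArg (fun b => b.coeff g) (blockIdem_mul_self B)
    simp only [MonoidAlgebra.coeff_mul_apply_left] at this ⊢
    rw [Finsupp.sum_fintype _ _ (by simp)] at this ⊢
    simpa [he', coe_toLoc] using this
  have hec : ∀ b, Commute e' b := fun b => by
    induction b using MonoidAlgebra.induction_linear with
    | zero => simp
    | add u v hu hv => exact hu.add_right hv
    | single g c =>
      refine MonoidAlgebra.ext (Finsupp.ext fun t => Subtype.ext ?_)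
      rw [MonoidAlgebra.coeff_single_mul_apply, MonoidAlgebra.coeff_mul_single_apply]
      have := isCentralElt_blockIdem B (g⁻¹ * t) g
      simp only [mul_assoc, mul_inv_cancel_left] at this
      simp [he', coe_toLoc, this, mul_comm]
  have key := sum_conj_eq_zero_of_central (p := p) (fun f hf hd => exists_root_locRing f hf hd) hp
    z w x hzp hcomm hn (by rw [pow_mul, pow_orderOf_eq_one, one_pow])
    (by rw [mul_comm, pow_mul, hwm, one_pow]) e' he hec
  have key2 := congrArg (fun t : locRing M => (t : ℂ)) key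
  simp only [hwz, MonoidAlgebra.coeff_mul_single_apply, mul_one, AddSubmonoidClass.coe_finsetSum,
    he', coe_toLoc, blockIdem, coeff_mkA, ZeroMemClass.coe_zero] at key2
  -- rewrite in characters
  haveI := Fintype.ofFinite (IrrCharacter G)
  rw [finsum_mem_eq_finite_toFinset_sum _ B.toFinite]
  simp only [blockCoeff, finsum_mem_eq_finite_toFinset_sum _ B.toFinite, Finset.mul_sum] at key2
  rw [Finset.sum_comm] at key2
  rw [← key2]
  refine Finset.sum_congr rfl fun χ _ => ?_
  have h1 := IsIrrCharacter.apply_one_ne_zero χ.2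
  have hG : (Nat.card G : ℂ) ≠ 0 := by simp [Nat.card_eq_fintype_card]
  have h2 := sum_conj_mul_apply (IsIrrCharacter.conj χ.2) y⁻¹ x⁻¹
  simp only [IsCharacter.map_inv (IsIrrCharacter.isCharacter χ.2), conj_irr_one, Complex.conj_conj] at h2
  rw [← Finset.mul_sum, ← Finset.mul_sum, h2, mul_assoc, inv_mul_cancel_left₀ hG, mul_comm]

/-- Weak block orthogonality. -/
theorem weak_orthogonality [Finite G] {p : ℕ} (hM : IsPModular p M)
    {B : Set (IrrCharacter G)} (hB : IsPBlock M B) {x y : G} (hx : ¬ p ∣ orderOf x)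
    (hy : p ∣ orderOf y) : ∑ᶠ χ ∈ B, (χ : G → ℂ) x * conj ((χ : G → ℂ) y) = 0 := by
  rw [← weak_orthogonality' hM hB hx (show p ∣ orderOf y⁻¹ by rwa [orderOf_inv])]
  refine finsum_congr fun χ => finsum_congr fun _ => ?_
  rw [IsCharacter.map_inv (IsIrrCharacter.isCharacter χ.2)]

end Cfsg.Agent.Block
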