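import Cfsg.Agent.Lib.Block.PrincipalColumns
import Cfsg.Agent.Lib.Block.PrincipalKernel
import Cfsg.Agent.Lib.Block.NormalComplement
import Cfsg.Agent.Lib.Block.WeakOrth
import Cfsg.Agent.Lib.Char.Linear
import Cfsg.Agent.Lib.Solv.NormalPComplement
import Mathlib.GroupTheory.Transfer

/-!
# The principal block for an abelian Sylow subgroup with fixed-point-free automizer

`P` is an abelian Sylow `p`-subgroup such that every non-identity element of `P` is centralised in
`N(P)` by `C(P)` only.  The columns of the principal block at the elements of `P` form an integral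
matrix with Gram matrix `I + mJ`, which gives the exceptional characters.
-/

set_option autoImplicit false
set_option linter.style.haveILetI false
set_option linter.unusedSectionVars false
set_option linter.unusedVariables false

namespace Cfsg.Agent.Block.AbTI

open Cfsg Cfsg.Agent.Char Cfsg.Agent.Block
open scoped Classical ComplexConjugate

universe u v w

section Combinatorics

variable {ι : Type u} {κ : Type v} [Fintype ι] [Fintype κ]

theorem two_support (deg : κ → ℤ) (hdeg : ∀ x, 0 < deg x) (f : κ → ℤ) (h2 : ∑ x, f x * f x = 2)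
    (h0 : ∑ x, deg x * f x = 0) :
    ∃ a b, a ≠ b ∧ ∀ x, f x = (if x = a then 1 else 0) - (if x = b then 1 else 0) := by
  have hb : ∀ x, f x = 1 ∨ f x = -1 ∨ f x = 0 := fun x => by
    have h := Finset.single_le_sum (fun y _ => mul_self_nonneg (f y)) (Finset.mem_univ x)
    rw [h2] at h
    have h1 : f x ≤ 1 := by nlinarith
    have h1' : -1 ≤ f x := by nlinarith
    omega
  obtain ⟨a, ha⟩ : ∃ a, f a = 1 := by
    by_contra hn
    push Not at hn
    have hle : ∀ x, f x ≤ 0 := fun x => by rcases hb x with h | h | h <;> first | exact absurd h (hn x) | omega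
    have hz := (Finset.sum_eq_zero_iff_of_nonpos
      fun x _ => mul_nonpos_of_nonneg_of_nonpos (hdeg x).le (hle x)).1 h0
    have : ∀ x, f x = 0 := fun x => (mul_eq_zero.1 (hz x (Finset.mem_univ x))).resolve_left (hdeg x).ne'
    simp [this] at h2
  obtain ⟨b, hb'⟩ : ∃ b, f b = -1 := by
    by_contra hn
    push Not at hn
    have hle : ∀ x, 0 ≤ f x := fun x => by rcases hb x with h | h | h <;> first | exact absurd h (hn x) | omega
    have hz := (Finset.sum_eq_zero_iff_of_nonneg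
      fun x _ => mul_nonneg (hdeg x).le (hle x)).1 h0 a (Finset.mem_univ a)
    rw [ha, mul_one] at hz
    exact (hdeg a).ne' hz
  have hab : a ≠ b := fun e => by rw [e, hb'] at ha; omega
  refine ⟨a, b, hab, fun x => ?_⟩
  by_cases hxa : x = a
  · rw [hxa, ha, if_pos rfl, if_neg hab, sub_zero]
  by_cases hxb : x = b
  · rw [hxb, hb', if_neg hab.symm, if_pos rfl, zero_sub]
  rw [if_neg hxa, if_neg hxb, sub_zero]
  by_contra hne
  have hsub : ∑ y ∈ ({a, b, x} : Finset κ), f y * f y ≤ ∑ y, f y * f y :=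
    Finset.sum_le_univ_sum_of_nonneg (fun y => mul_self_nonneg (f y))
  rw [Finset.sum_insert (by simp [hab, Ne.symm hxa]), Finset.sum_insert (by simp [Ne.symm hxb]),
    Finset.sum_singleton, ha, hb', h2] at hsub
  nlinarith [mul_self_pos.mpr hne]

theorem pair_type {a b c e : κ} (hab : a ≠ b) (hce : c ≠ e)
    (h : ∑ x, ((if x = a then (1 : ℤ) else 0) - (if x = b then 1 else 0)) *
      ((if x = c then (1 : ℤ) else 0) - (if x = e then 1 else 0)) = 1) :
    (a = c ∧ b ≠ e) ∨ (b = e ∧ a ≠ c) := by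
  simp only [sub_mul, mul_sub, ite_mul, one_mul, zero_mul, Finset.sum_sub_distrib, Finset.sum_ite_eq',
    Finset.mem_univ, if_true] at h
  by_cases hac : a = c
  · left
    refine ⟨hac, fun hbe => ?_⟩
    subst hac hbe
    simp [hab, hab.symm] at h
  · right
    refine ⟨?_, hac⟩
    by_contra hbe
    simp [hac, hbe] at h
    split_ifs at h <;> omega

/-- Integral solutions of the Gram equations `I + mJ`. -/
theorem exceptional [Nontrivial ι] (deg : κ → ℤ) (hdeg : ∀ x, 0 < deg x) (u : κ → ι → ℤ) (m : ℤ)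
    (hE : ∀ i j, ∑ x, u x i * u x j = (if i = j then 1 else 0) + m)
    (h0 : ∀ i, ∑ x, deg x * u x i = 0) :
    ∃ (η : ι → κ) (δ d : ℤ) (c : κ → ℤ), Function.Injective η ∧ (δ = 1 ∨ δ = -1) ∧
      (∀ x i, u x i = c x + δ * (if x = η i then 1 else 0)) ∧ (∀ i, c (η i) = d) ∧
      ∑ x, c x * c x + 2 * δ * d = m := by
  obtain ⟨i₀, j₀, hij₀⟩ := exists_pair_ne ι
  have hv2 : ∀ j, j ≠ i₀ → ∑ x, (u x i₀ - u x j) * (u x i₀ - u x j) = 2 := fun j hj => by
    simp only [sub_mul, mul_sub, Finset.sum_sub_distrib, hE]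
    simp [hj, hj.symm]
  have hv0 : ∀ j, ∑ x, deg x * (u x i₀ - u x j) = 0 := fun j => by
    simp only [mul_sub, Finset.sum_sub_distrib, h0, sub_zero]
  have hv1 : ∀ j k, j ≠ i₀ → k ≠ i₀ → j ≠ k →
      ∑ x, (u x i₀ - u x j) * (u x i₀ - u x k) = 1 := fun j k hj hk hjk => by
    simp only [sub_mul, mul_sub, Finset.sum_sub_distrib, hE]
    simp [hj, hk.symm, hjk]
  choose A B hAB hval using fun j : {j // j ≠ i₀} =>
    two_support deg hdeg (fun x => u x i₀ - u x j.1) (hv2 j j.2) (hv0 j)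
  have hpair : ∀ j k, j ≠ k → (A j = A k ∧ B j ≠ B k) ∨ (B j = B k ∧ A j ≠ A k) := fun j k hjk => by
    refine pair_type (hAB j) (hAB k) ?_
    have := hv1 j k j.2 k.2 fun e => hjk (Subtype.ext e)
    simp only [hval] at this
    exact this
  obtain ⟨δ, a, b, hδ, hb, hbinj, hv⟩ : ∃ (δ : ℤ) (a : κ) (b : {j // j ≠ i₀} → κ),
      (δ = 1 ∨ δ = -1) ∧ (∀ j, b j ≠ a) ∧ Function.Injective b ∧
      ∀ j x, u x i₀ - u x j.1 = δ * ((if x = a then 1 else 0) - (if x = b j then 1 else 0)) := by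
    let k₀ : {j // j ≠ i₀} := ⟨j₀, hij₀.symm⟩
    by_cases hA : ∀ j k, A j = A k
    · refine ⟨1, A k₀, B, Or.inl rfl, fun j => hA j k₀ ▸ (hAB j).symm, fun j k e => ?_, fun j x => ?_⟩
      · by_contra hne
        rcases hpair j k hne with h | h
        exacts [h.2 e, h.2 (hA j k)]
      · rw [one_mul, ← hA j k₀]; exact hval j x
    · obtain ⟨j, hj⟩ := not_forall.1 hA
      obtain ⟨k, hjk⟩ := not_forall.1 hj
      have hBjk : B j = B k := ((hpair j k fun e => hjk (e ▸ rfl)).resolve_left fun h => hjk h.1).1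
      have hall : ∀ l, B l = B j := fun l => by
        by_cases hlj : l = j
        · rw [hlj]
        rcases hpair l j hlj with h | h
        · by_cases hlk : l = k
          · rw [hlk, hBjk]
          rcases hpair l k hlk with h' | h'
          · exact absurd (h.1.symm.trans h'.1) hjk
          · rw [h'.1, hBjk]
        · exact h.1
      refine ⟨-1, B j, A, Or.inr rfl, fun l => hall l ▸ hAB l, fun l l' e => ?_, fun l x => ?_⟩
      · by_contra hne
        rcases hpair l l' hne with h | h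
        exacts [h.2 ((hall l).trans (hall l').symm), h.2 e]
      · rw [← hall l, neg_one_mul, neg_sub]; exact hval l x
  let η : ι → κ := fun i => if h : i = i₀ then a else b ⟨i, h⟩
  let c : κ → ℤ := fun x => u x i₀ - δ * (if x = a then 1 else 0)
  have hu : ∀ x i, u x i = c x + δ * (if x = η i then 1 else 0) := fun x i => by
    by_cases h : i = i₀
    · subst h; simp [η, c]
    · have := hv ⟨i, h⟩ x
      simp only [η, c, dif_neg h]
      linear_combination -this
  have hη : Function.Injective η := fun i j e => by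
    by_cases hi : i = i₀ <;> by_cases hj : j = i₀
    · rw [hi, hj]
    · simp only [η, dif_pos hi, dif_neg hj] at e; exact absurd e.symm (hb _)
    · simp only [η, dif_neg hi, dif_pos hj] at e; exact absurd e (hb _)
    · simp only [η, dif_neg hi, dif_neg hj] at e; exact congrArg Subtype.val (hbinj e)
  have hsq : δ * δ = 1 := by rcases hδ with rfl | rfl <;> norm_num
  have hEE : ∀ i j, ∑ x, c x * c x + δ * c (η i) + δ * c (η j) = m := fun i j => by
    have h := hE i j
    have e : ∀ x, u x i * u x j = c x * c x + δ * (if x = η i then c x else 0) +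
        δ * (if x = η j then c x else 0) + (if x = η i then (if η i = η j then 1 else 0) else 0) := by
      intro x
      rw [hu x i, hu x j]
      by_cases h1 : x = η i
      · by_cases h2 : x = η j
        · rw [if_pos h1, if_pos h1, if_pos h2, if_pos h2, if_pos h1, if_pos (h1.symm.trans h2)]
          linear_combination hsq
        · rw [if_pos h1, if_pos h1, if_neg h2, if_neg h2, if_pos h1, if_neg (fun e => h2 (h1.trans e))]
          ring
      · rw [if_neg h1, if_neg h1, if_neg h1]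
        split_ifs <;> ring
    rw [Finset.sum_congr rfl fun x _ => e x] at h
    simp only [Finset.sum_add_distrib, ← Finset.mul_sum, Finset.sum_ite_eq', Finset.mem_univ,
      if_true, hη.eq_iff] at h
    linear_combination h
  refine ⟨η, δ, c (η i₀), c, hη, hδ, hu, fun i => ?_, ?_⟩
  · have h1 := hEE i i
    have h2 := hEE i₀ i₀
    rcases hδ with rfl | rfl <;> linarith
  · have := hEE i₀ i₀
    linear_combination this

end Combinatorics

section Columns

variable {G : Type w} [Group G] [Finite G] {p : ℕ} [Fact p.Prime] {M : Ideal AlgInt} (P : Sylow p G)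

/-- The conjugation by an element of the normaliser. -/
noncomputable def phi (n : Subgroup.normalizer ((P : Subgroup G) : Set G)) :
    (P : Subgroup G) →* (P : Subgroup G) where
  toFun x := ⟨(n : G) * x * (n : G)⁻¹, (Subgroup.mem_normalizer_iff.1 n.2 x).1 x.2⟩
  map_one' := Subtype.ext (by simp)
  map_mul' x y := Subtype.ext (by simp [mul_assoc])

theorem phi_coe (n : Subgroup.normalizer ((P : Subgroup G) : Set G)) (x : (P : Subgroup G)) :
    (phi P n x : G) = (n : G) * x * (n : G)⁻¹ := rfl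

/-- The twist of a linear character. -/
noncomputable def tw (n : Subgroup.normalizer ((P : Subgroup G) : Set G))
    (ψ : (P : Subgroup G) →* ℂˣ) : (P : Subgroup G) →* ℂˣ := ψ.comp (phi P n)

/-- Conjugate linear characters, in the form of the statements. -/
def Twist (ψ ψ' : (P : Subgroup G) →* ℂˣ) : Prop :=
  ∃ n : G, n ∈ Subgroup.normalizer ((P : Subgroup G) : Set G) ∧
    ∀ w w' : (P : Subgroup G), (w' : G) = n * w * n⁻¹ → ψ' w' = ψ w

theorem twist_iff (ψ ψ' : (P : Subgroup G) →* ℂˣ) : Twist P ψ ψ' ↔ ∃ n, tw P n ψ' = ψ := by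
  constructor
  · rintro ⟨n, hn, h⟩
    exact ⟨⟨n, hn⟩, MonoidHom.ext fun x => h x (phi P ⟨n, hn⟩ x) rfl⟩
  · rintro ⟨n, rfl⟩
    exact ⟨n, n.2, fun x y hy => congrArg ψ' (Subtype.ext hy)⟩

theorem tw_mul (n n' : Subgroup.normalizer ((P : Subgroup G) : Set G))
    (ψ : (P : Subgroup G) →* ℂˣ) : tw P (n * n') ψ = tw P n' (tw P n ψ) :=
  MonoidHom.ext fun x => congrArg ψ (Subtype.ext (by simp [phi_coe, mul_assoc]))

theorem tw_one (ψ : (P : Subgroup G) →* ℂˣ) : tw P 1 ψ = ψ :=
  MonoidHom.ext fun x => congrArg ψ (Subtype.ext (by simp [phi_coe]))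

theorem one_tw (n : Subgroup.normalizer ((P : Subgroup G) : Set G)) : tw P n 1 = 1 := rfl

theorem tw_ne_one {n : Subgroup.normalizer ((P : Subgroup G) : Set G)} {ψ : (P : Subgroup G) →* ℂˣ}
    (h : ψ ≠ 1) : tw P n ψ ≠ 1 := fun e => h (by
  have h2 := tw_mul P n n⁻¹ ψ
  rw [mul_inv_cancel, tw_one, e] at h2
  rw [h2]; rfl)

theorem Twist.refl (ψ : (P : Subgroup G) →* ℂˣ) : Twist P ψ ψ := (twist_iff P ψ ψ).2 ⟨1, tw_one P ψ⟩

theorem Twist.symm {ψ ψ' : (P : Subgroup G) →* ℂˣ} (h : Twist P ψ ψ') : Twist P ψ' ψ := by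
  rw [twist_iff] at h ⊢
  obtain ⟨n, rfl⟩ := h
  exact ⟨n⁻¹, by rw [← tw_mul, mul_inv_cancel, tw_one]⟩

theorem Twist.trans {ψ ψ' ψ'' : (P : Subgroup G) →* ℂˣ} (h : Twist P ψ ψ') (h' : Twist P ψ' ψ'') :
    Twist P ψ ψ'' := by
  rw [twist_iff] at h h' ⊢
  obtain ⟨n, rfl⟩ := h
  obtain ⟨n', rfl⟩ := h'
  exact ⟨n' * n, tw_mul P n' n _⟩

/-- The hypotheses on the automizer. -/
structure Hyp (m : ℕ) : Prop where
  comm : ∀ a b : (P : Subgroup G), a * b = b * a
  card : (Subgroup.centralizer ((P : Subgroup G) : Set G)).relIndex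
    (Subgroup.normalizer ((P : Subgroup G) : Set G)) = m
  free : ∀ y : G, y ∈ (P : Subgroup G) → y ≠ 1 →
    Subgroup.centralizer ({y} : Set G) ⊓ Subgroup.normalizer ((P : Subgroup G) : Set G) =
      Subgroup.centralizer ((P : Subgroup G) : Set G)

variable {P} {m : ℕ}

theorem Hyp.centralizer_le (h : Hyp P m) :
    Subgroup.centralizer ((P : Subgroup G) : Set G) ≤ Subgroup.normalizer ((P : Subgroup G) : Set G) :=
  Subgroup.centralizer_le_normalizer _

theorem Hyp.le_centralizer_singleton (h : Hyp P m) {y : G} (hy : y ∈ (P : Subgroup G)) :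
    (P : Subgroup G) ≤ Subgroup.centralizer ({y} : Set G) := fun x hx =>
  mem_centralizer_singleton.2 (congrArg Subtype.val (h.comm ⟨y, hy⟩ ⟨x, hx⟩))

theorem Hyp.card_normalizer (h : Hyp P m) :
    Nat.card (Subgroup.normalizer ((P : Subgroup G) : Set G)) =
      m * Nat.card (Subgroup.centralizer ((P : Subgroup G) : Set G)) := by
  rw [← h.card, Subgroup.relIndex, ← Subgroup.index_mul_card
    ((Subgroup.centralizer ((P : Subgroup G) : Set G)).subgroupOf (Subgroup.normalizer ((P : Subgroup G) : Set G))),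
    Nat.card_congr (Subgroup.subgroupOfEquivOfLe h.centralizer_le).toEquiv]

theorem Hyp.phi_bijective (h : Hyp P m) (n : Subgroup.normalizer ((P : Subgroup G) : Set G)) :
    Function.Bijective (phi P n) :=
  Finite.injective_iff_bijective.1 fun x y e => Subtype.ext (mul_left_cancel
    (mul_right_cancel (congrArg Subtype.val e : (n : G) * x * (n : G)⁻¹ = (n : G) * y * (n : G)⁻¹)))

theorem Hyp.mem_of_tw_eq (h : Hyp P m) {n : Subgroup.normalizer ((P : Subgroup G) : Set G)}
    {ψ : (P : Subgroup G) →* ℂˣ} (hψ : ψ ≠ 1) (he : tw P n ψ = ψ) :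
    (n : G) ∈ Subgroup.centralizer ((P : Subgroup G) : Set G) := by
  by_contra hn
  apply hψ
  have hinj : Function.Injective fun x : (P : Subgroup G) => phi P n x * x⁻¹ := by
    intro x y hxy
    have hxy' : phi P n (y⁻¹ * x) = y⁻¹ * x := by
      rw [map_mul, map_inv]
      have : phi P n x * x⁻¹ = phi P n y * y⁻¹ := hxy
      rw [mul_inv_eq_iff_eq_mul] at this
      rw [this, h.comm (phi P n y) y⁻¹, ← mul_assoc, ← mul_assoc, h.comm (phi P n y)⁻¹ y⁻¹,
        mul_assoc y⁻¹ (phi P n y)⁻¹ (phi P n y), inv_mul_cancel, mul_one]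
    by_contra hne
    have hne' : ((y⁻¹ * x : (P : Subgroup G)) : G) ≠ 1 := fun e =>
      hne (inv_mul_eq_one.1 (Subtype.ext e : y⁻¹ * x = 1)).symm
    refine hn ?_
    rw [← h.free _ (y⁻¹ * x).2 hne']
    refine Subgroup.mem_inf.2 ⟨mem_centralizer_singleton.2 ?_, n.2⟩
    have := congrArg Subtype.val hxy'
    rw [phi_coe, mul_inv_eq_iff_eq_mul] at this
    exact this.symm
  refine MonoidHom.ext fun z => ?_
  obtain ⟨x, rfl⟩ := (Finite.injective_iff_surjective.1 hinj) z
  rw [map_mul, map_inv, ← MonoidHom.comp_apply]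
  show (tw P n ψ) x * (ψ x)⁻¹ = 1
  rw [he, mul_inv_cancel]

theorem Hyp.card_tw_eq (h : Hyp P m) {ψ ψ' : (P : Subgroup G) →* ℂˣ} (hψ' : ψ' ≠ 1) :
    Nat.card {n : Subgroup.normalizer ((P : Subgroup G) : Set G) // tw P n ψ' = ψ} =
      if Twist P ψ ψ' then Nat.card (Subgroup.centralizer ((P : Subgroup G) : Set G)) else 0 := by
  split_ifs with ht
  · obtain ⟨n₀, hn₀⟩ := (twist_iff P ψ ψ').1 ht
    have key : ∀ c : Subgroup.normalizer ((P : Subgroup G) : Set G),
        (c : G) ∈ Subgroup.centralizer ((P : Subgroup G) : Set G) → ∀ φ, tw P c φ = φ := fun c hc φ =>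
      MonoidHom.ext fun x => congrArg φ (Subtype.ext (by
        rw [phi_coe]; exact mul_inv_eq_iff_eq_mul.2 (Subgroup.mem_centralizer_iff.1 hc x x.2).symm))
    refine Nat.card_congr
      { toFun := fun n => ⟨((n.1 * n₀⁻¹ : Subgroup.normalizer ((P : Subgroup G) : Set G)) : G), ?_⟩
        invFun := fun c => ⟨⟨c, h.centralizer_le c.2⟩ * n₀, ?_⟩
        left_inv := fun n => Subtype.ext (Subtype.ext (by simp))
        right_inv := fun c => Subtype.ext (by simp) }
    · refine h.mem_of_tw_eq hψ' ?_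
      rw [tw_mul, n.2, ← hn₀, ← tw_mul, mul_inv_cancel, tw_one]
    · rw [tw_mul, key ⟨c, h.centralizer_le c.2⟩ c.2]
      exact hn₀
  · haveI : IsEmpty {n : Subgroup.normalizer ((P : Subgroup G) : Set G) // tw P n ψ' = ψ} :=
      ⟨fun n => ht ((twist_iff P ψ ψ').2 ⟨n.1, n.2⟩)⟩
    exact Nat.card_of_isEmpty

theorem Hyp.index_core (h : Hyp P m) {y : G} (hy : y ∈ (P : Subgroup G)) (hy1 : y ≠ 1) :
    ∃ k : ℕ, (pPrimeCore p (Subgroup.centralizer ({y} : Set G))).index = p ^ k := by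
  have hPC := h.le_centralizer_singleton hy
  let R := P.subtype hPC
  have hN : Subgroup.normalizer (SetLike.coe (R : Subgroup (Subgroup.centralizer ({y} : Set G)))) ≤
      Subgroup.centralizer (SetLike.coe (R : Subgroup (Subgroup.centralizer ({y} : Set G)))) := by
    intro g hg
    have hgN : (g : G) ∈ Subgroup.normalizer ((P : Subgroup G) : Set G) :=
      Subgroup.mem_normalizer_iff.2 fun a => by
        constructor
        · intro ha
          exact (Subgroup.mem_normalizer_iff.1 hg ⟨a, hPC ha⟩).1 ha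
        · intro ha
          have h1 := (Subgroup.mem_normalizer_iff.1 (inv_mem hg)
            ⟨(g : G) * a * (g : G)⁻¹, hPC ha⟩).1 ha
          have h2 : (((g : G)⁻¹ * ((g : G) * a * (g : G)⁻¹) * ((g : G)⁻¹)⁻¹) : G) ∈ (P : Subgroup G) := h1
          simpa [mul_assoc] using h2
    have hgC : (g : G) ∈ Subgroup.centralizer ((P : Subgroup G) : Set G) := by
      rw [← h.free y hy hy1]; exact ⟨g.2, hgN⟩
    exact Subgroup.mem_centralizer_iff.2 fun a ha =>
      Subtype.ext (Subgroup.mem_centralizer_iff.1 hgC a ha)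
  refine Solv.hasNormalPComplement_iff_index.mp ⟨R, (MonoidHom.transferSylow R hN).ker, inferInstance, ?_⟩
  exact MonoidHom.ker_transferSylow_isComplement' R hN

theorem Hyp.sq_sum_centralizer (h : Hyp P m) (hM : IsPModular p M) {y : G} (hy : y ∈ (P : Subgroup G))
    (hy1 : y ≠ 1) :
    blockKernel (principalBlock M (Subgroup.centralizer ({y} : Set G))) 1 1 = (Nat.card P : ℂ) := by
  haveI := Fintype.ofFinite (Subgroup.centralizer ({y} : Set G))
  have hidx := h.index_core hy hy1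
  have h2 := card_mul_blockKernel_principal hM (regular_iff_mem_pPrimeCore hidx) (one_mem _)
  rw [← Subgroup.card_mul_index (pPrimeCore p (Subgroup.centralizer ({y} : Set G))), Nat.cast_mul,
    index_eq_ordProj_of_regular hidx] at h2
  rw [mul_left_cancel₀ (Nat.cast_ne_zero.2 Nat.card_pos.ne') h2,
    ← (P.subtype (h.le_centralizer_singleton hy)).card_eq_multiplicity]
  exact_mod_cast Nat.card_congr (Subgroup.subgroupOfEquivOfLe (h.le_centralizer_singleton hy)).toEquiv

theorem pow_orderOf_of_mem {x : G} (hx : x ∈ (P : Subgroup G)) : ∃ k : ℕ, orderOf x = p ^ k := by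
  obtain ⟨k, hk⟩ := IsPGroup.iff_orderOf.1 P.2 ⟨x, hx⟩
  exact ⟨k, by rw [← Subgroup.orderOf_mk x hx, hk]⟩

theorem dvd_orderOf_of_mem {x : G} (hx : x ∈ (P : Subgroup G)) (hx1 : x ≠ 1) : p ∣ orderOf x := by
  obtain ⟨k, hk⟩ := pow_orderOf_of_mem hx
  rcases k with _ | k
  · exact absurd (orderOf_eq_one_iff.1 (by simpa using hk)) hx1
  · rw [hk]; exact dvd_pow_self p k.succ_ne_zero

theorem Hyp.kernel (h : Hyp P m) (hM : IsPModular p M) {a b : G} (ha : a ∈ (P : Subgroup G))
    (ha1 : a ≠ 1) (hb : b ∈ (P : Subgroup G)) :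
    blockKernel (principalBlock M G) a b = if IsConj a b then (Nat.card P : ℂ) else 0 := by
  rw [blockKernel_principal_pElement hM (pow_orderOf_of_mem ha) (pow_orderOf_of_mem hb),
    ← h.sq_sum_centralizer hM ha ha1]
  split_ifs with hc
  · rw [blockKernel, finsum_mem_eq_finite_toFinset_sum _ (Set.toFinite _),
      finsum_mem_eq_finite_toFinset_sum _ (Set.toFinite _), Nat.cast_sum]
    refine Finset.sum_congr rfl fun ψ _ => ?_
    rw [← charDegree_cast (IsIrrCharacter.isCharacter ψ.2), Complex.conj_natCast, sq, Nat.cast_mul]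
  · rfl

theorem Hyp.apply_section (h : Hyp P m) (hM : IsPModular p M) {χ : IrrCharacter G}
    (hχ : χ ∈ principalBlock M G) {z y : G} (hz : IsPPart p z y) (hy : y ∈ (P : Subgroup G))
    (hy1 : y ≠ 1) : (χ : G → ℂ) z = (χ : G → ℂ) y := by
  obtain ⟨c, rfl, hc, hk, hco⟩ := hz
  haveI := Fintype.ofFinite (Subgroup.centralizer ({y} : Set G))
  haveI := prime_of_isPModular hM
  let c' : Subgroup.centralizer ({y} : Set G) := ⟨c, mem_centralizer_singleton.2 hc⟩
  have hB : IsPBlock M (principalBlock M G) := ⟨⟨fun _ => 1, isIrrCharacter_one⟩, rfl⟩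
  have hidx := h.index_core hy hy1
  have hc' : ¬ p ∣ orderOf c' := by rwa [← Subgroup.orderOf_coe]
  have hcO := (regular_iff_mem_pPrimeCore hidx c').2 hc'
  have hcore : ¬ p ∣ Nat.card (pPrimeCore p (Subgroup.centralizer ({y} : Set G))) := by
    intro hd
    obtain ⟨x, hx⟩ := exists_prime_orderOf_dvd_card' p hd
    exact (regular_iff_mem_pPrimeCore hidx (x : Subgroup.centralizer ({y} : Set G))).1 x.2
      (by rw [Subgroup.orderOf_coe, hx])
  set b := principalBlock M (Subgroup.centralizer ({y} : Set G)) with hb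
  have hone : ¬ p ∣ orderOf (1 : Subgroup.centralizer ({y} : Set G)) := by
    rw [orderOf_one]; exact (Fact.out : p.Prime).not_dvd_one
  have key : ∀ e e' : Subgroup.centralizer ({y} : Set G), (e = 1 ∨ e = c') → (e' = 1 ∨ e' = c') →
      blockKernel (principalBlock M G) (y * (e : G)) (y * (e' : G)) = blockKernel b 1 1 := by
    intro e e' he he'
    rw [blockKernel_section hM hk hB (by rcases he with rfl | rfl <;> assumption)
      (by rcases he' with rfl | rfl <;> assumption), localBlocks_principal hM hk, Finset.sum_singleton]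
    refine finsum_mem_congr rfl fun ψ hψ => ?_
    have hv : ∀ e : Subgroup.centralizer ({y} : Set G), (e = 1 ∨ e = c') →
        (ψ : Subgroup.centralizer ({y} : Set G) → ℂ) e = (ψ : Subgroup.centralizer ({y} : Set G) → ℂ) 1 := by
      rintro e (rfl | rfl)
      · rfl
      · exact apply_eq_one_of_mem_principal hM _ hcore hψ hcO
    rw [hv e he, hv e' he']
  have hsum : ∑ χ ∈ (principalBlock M G).toFinite.toFinset,
      Complex.normSq ((χ : G → ℂ) (y * c) - (χ : G → ℂ) y) = 0 := by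
    refine Complex.ofReal_injective ?_
    push_cast
    have e1 := key c' c' (Or.inr rfl) (Or.inr rfl)
    have e2 := key c' 1 (Or.inr rfl) (Or.inl rfl)
    have e3 := key 1 c' (Or.inl rfl) (Or.inr rfl)
    have e4 := key 1 1 (Or.inl rfl) (Or.inl rfl)
    simp only [OneMemClass.coe_one, mul_one, blockKernel,
      finsum_mem_eq_finite_toFinset_sum _ (principalBlock M G).toFinite] at e1 e2 e3 e4
    simp only [← Complex.mul_conj, map_sub, sub_mul, mul_sub, Finset.sum_sub_distrib]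
    simp only [c'] at e1 e2 e3
    linear_combination e1 - e2 - e3 + e4
  have := (Finset.sum_eq_zero_iff_of_nonneg fun ψ _ => Complex.normSq_nonneg _).1 hsum χ
    ((principalBlock M G).toFinite.mem_toFinset.2 hχ)
  exact sub_eq_zero.1 (Complex.normSq_eq_zero.1 this)

theorem Hyp.isConj_iff_exists (h : Hyp P m) {a b : G} (ha : a ∈ (P : Subgroup G)) (hb : b ∈ (P : Subgroup G)) :
    IsConj a b ↔ ∃ n : Subgroup.normalizer ((P : Subgroup G) : Set G), (n : G) * a * (n : G)⁻¹ = b := by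
  constructor
  · intro hab
    obtain ⟨g, hg⟩ := isConj_iff.1 hab
    haveI : IsMulCommutative (P : Subgroup G) := ⟨⟨h.comm⟩⟩
    obtain ⟨n, hn, hn'⟩ := P.conj_eq_normalizer_conj_of_mem a g⁻¹ ha (by rwa [inv_inv, hg])
    rw [inv_inv, hg] at hn'
    exact ⟨⟨n⁻¹, inv_mem hn⟩, by simp [hn']⟩
  · rintro ⟨n, rfl⟩
    exact isConj_iff.2 ⟨n, rfl⟩

/-- The function `x ↦ conj ψ(x) - 1`. -/
noncomputable def af (ψ : (P : Subgroup G) →* ℂˣ) (x : (P : Subgroup G)) : ℂ := conj (ψ x : ℂ) - 1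

theorem af_one (ψ : (P : Subgroup G) →* ℂˣ) : af ψ 1 = 0 := by simp [af]

variable [Fintype (P : Subgroup G)]

theorem sum_hom_eq (ψ : (P : Subgroup G) →* ℂˣ) :
    ∑ x, (ψ x : ℂ) = if ψ = 1 then (Nat.card P : ℂ) else 0 := by
  split_ifs with h
  · simp [h, Nat.card_eq_fintype_card]
  · obtain ⟨x₀, hx₀⟩ : ∃ x₀, ψ x₀ ≠ 1 := by
      by_contra hn; push Not at hn; exact h (MonoidHom.ext hn)
    have e : (ψ x₀ : ℂ) * ∑ x, (ψ x : ℂ) = 1 * ∑ x, (ψ x : ℂ) := by
      rw [one_mul, Finset.mul_sum]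
      exact Fintype.sum_equiv (Equiv.mulLeft x₀) _ _ fun x => by simp
    by_contra hne
    exact hx₀ (Units.ext (mul_right_cancel₀ hne e))

theorem conj_hom (ψ : (P : Subgroup G) →* ℂˣ) (x : (P : Subgroup G)) :
    conj (ψ x : ℂ) = ((ψ⁻¹ : (P : Subgroup G) →* ℂˣ) x : ℂ) := by
  have := IsCharacter.map_inv (IsIrrCharacter.isCharacter (isIrrCharacter_monoidHom ψ)) x
  rw [← this, MonoidHom.inv_apply, map_inv]

theorem sum_af_mul {ψ φ : (P : Subgroup G) →* ℂˣ} (hψ : ψ ≠ 1) (hφ : φ ≠ 1) :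
    ∑ x, af ψ x * conj (af φ x) = (if φ = ψ then (Nat.card P : ℂ) else 0) + Nat.card P := by
  have hψ' : ψ⁻¹ ≠ 1 := fun e => hψ (MonoidHom.ext fun x => by simpa using DFunLike.congr_fun e x)
  have hm : ∀ x, ((ψ⁻¹ : (P : Subgroup G) →* ℂˣ) x : ℂ) * (φ x : ℂ) =
      ((ψ⁻¹ * φ : (P : Subgroup G) →* ℂˣ) x : ℂ) := fun x => by simp
  simp only [af, map_sub, map_one, Complex.conj_conj, conj_hom ψ, sub_mul, mul_sub, one_mul, mul_one,
    Finset.sum_sub_distrib, hm, sum_hom_eq, if_neg hψ', if_neg hφ, Finset.sum_const, Finset.card_univ,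
    nsmul_eq_mul, mul_one, ← Nat.card_eq_fintype_card]
  by_cases he : φ = ψ
  · rw [if_pos (MonoidHom.ext fun x => by simp [he] : ψ⁻¹ * φ = 1), if_pos he]; ring
  · rw [if_neg (fun e => he (MonoidHom.ext fun x => by
      exact (inv_mul_eq_one.1 (by simpa using DFunLike.congr_fun e x)).symm) : ¬ ψ⁻¹ * φ = 1), if_neg he]; ring

theorem sum_dual (hcomm : ∀ a b : (P : Subgroup G), a * b = b * a)
    [Fintype ((P : Subgroup G) →* ℂˣ)] (z : (P : Subgroup G)) :
    ∑ ψ : (P : Subgroup G) →* ℂˣ, (ψ z : ℂ) = if z = 1 then (Nat.card P : ℂ) else 0 := by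
  letI : CommGroup (P : Subgroup G) := { (inferInstance : Group (P : Subgroup G)) with mul_comm := hcomm }
  split_ifs with hz
  · subst hz
    have hcard : Nat.card ((P : Subgroup G) →* ℂˣ) = Nat.card (P : Subgroup G) :=
      CommGroup.card_monoidHom_of_hasEnoughRootsOfUnity (P : Subgroup G) ℂ
    simp only [map_one, Units.val_one, Finset.sum_const, Finset.card_univ, nsmul_eq_mul, mul_one]
    rw [← Nat.card_eq_fintype_card, hcard]
  · obtain ⟨φ, hφ⟩ := CommGroup.exists_apply_ne_one_of_hasEnoughRootsOfUnity (P : Subgroup G) ℂ hz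
    have e : (φ z : ℂ) * ∑ ψ : (P : Subgroup G) →* ℂˣ, (ψ z : ℂ) = 1 * ∑ ψ : (P : Subgroup G) →* ℂˣ, (ψ z : ℂ) := by
      rw [one_mul, Finset.mul_sum]
      exact Fintype.sum_equiv (Equiv.mulLeft φ) _ _ fun ψ => by simp
    by_contra hne
    exact hφ (Units.ext (mul_right_cancel₀ hne e))

theorem exists_coeff (χ : IrrCharacter G) (ψ : (P : Subgroup G) →* ℂˣ) :
    ∃ z : ℤ, ∑ x : (P : Subgroup G), (χ : G → ℂ) x * af ψ x = (Nat.card P : ℂ) * z := by
  obtain ⟨a, ha⟩ := classInner_natCast_of_isCharacter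
    (IsCharacter.restrict (IsIrrCharacter.isCharacter χ.2) (P : Subgroup G))
    (IsIrrCharacter.isCharacter (isIrrCharacter_monoidHom ψ))
  obtain ⟨b, hb⟩ := classInner_natCast_of_isCharacter
    (IsCharacter.restrict (IsIrrCharacter.isCharacter χ.2) (P : Subgroup G))
    (IsIrrCharacter.isCharacter (isIrrCharacter_monoidHom (1 : (P : Subgroup G) →* ℂˣ)))
  rw [classInner, inv_mul_eq_iff_eq_mul₀ (Nat.cast_ne_zero.2 Nat.card_pos.ne')] at ha hb
  simp only [MonoidHom.one_apply, Units.val_one, map_one, mul_one] at hb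
  refine ⟨(a : ℤ) - b, ?_⟩
  simp only [af, mul_sub, mul_one, Finset.sum_sub_distrib, ha, hb]
  push_cast
  ring

/-- The coefficient of `ψ` minus the coefficient of the trivial character. -/
noncomputable def coef (χ : IrrCharacter G) (ψ : (P : Subgroup G) →* ℂˣ) : ℤ := (exists_coeff χ ψ).choose

theorem coef_spec (χ : IrrCharacter G) (ψ : (P : Subgroup G) →* ℂˣ) :
    ∑ x : (P : Subgroup G), (χ : G → ℂ) x * af ψ x = (Nat.card P : ℂ) * coef χ ψ :=
  (exists_coeff χ ψ).choose_spec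

theorem coef_one_hom (χ : IrrCharacter G) : coef χ (1 : (P : Subgroup G) →* ℂˣ) = 0 := by
  have h := coef_spec χ (1 : (P : Subgroup G) →* ℂˣ)
  simpa [af, Nat.card_pos.ne'] using h.symm

theorem coef_twist (h : Hyp P m) (χ : IrrCharacter G) {ψ ψ' : (P : Subgroup G) →* ℂˣ}
    (ht : Twist P ψ ψ') : coef χ ψ = coef χ ψ' := by
  obtain ⟨n, rfl⟩ := (twist_iff P ψ ψ').1 ht
  refine Int.cast_injective (α := ℂ) (mul_left_cancel₀ (Nat.cast_ne_zero.2 (Nat.card_pos (α := P)).ne') ?_)
  rw [← coef_spec, ← coef_spec]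
  refine Fintype.sum_equiv (Equiv.ofBijective _ (h.phi_bijective n)) _ _ fun x => ?_
  show (χ : G → ℂ) x * af (tw P n ψ') x = (χ : G → ℂ) (phi P n x : G) * af ψ' (phi P n x)
  rw [IsIrrCharacter.apply_isConj χ.2 (show IsConj (x : G) (phi P n x : G) from isConj_iff.2 ⟨n, rfl⟩)]
  rfl

theorem coef_trivial (χ : IrrCharacter G) (hχ : (χ : G → ℂ) = fun _ => 1) {ψ : (P : Subgroup G) →* ℂˣ}
    (hψ : ψ ≠ 1) : coef χ ψ = -1 := by
  have h := coef_spec χ ψ
  have hψ' : ψ⁻¹ ≠ 1 := fun e => hψ (MonoidHom.ext fun x => by simpa using DFunLike.congr_fun e x)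
  simp only [hχ, one_mul, af, conj_hom, Finset.sum_sub_distrib, sum_hom_eq, if_neg hψ', Finset.sum_const,
    Finset.card_univ, nsmul_eq_mul, mul_one, zero_sub, ← Nat.card_eq_fintype_card] at h
  refine Int.cast_injective (α := ℂ) (mul_left_cancel₀ (Nat.cast_ne_zero.2 (Nat.card_pos (α := P)).ne') ?_)
  rw [← h]; push_cast; ring

theorem apply_eq_sum_coef (hcomm : ∀ a b : (P : Subgroup G), a * b = b * a)
    [Fintype ((P : Subgroup G) →* ℂˣ)] (χ : IrrCharacter G) {y : (P : Subgroup G)} (hy : y ≠ 1) :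
    (χ : G → ℂ) y = ∑ ψ : (P : Subgroup G) →* ℂˣ, (coef χ ψ : ℂ) * (ψ y : ℂ) := by
  refine mul_left_cancel₀ (Nat.cast_ne_zero.2 (Nat.card_pos (α := P)).ne') ?_
  rw [Finset.mul_sum]
  simp only [← mul_assoc, ← coef_spec, Finset.sum_mul]
  rw [Finset.sum_comm]
  have e : ∀ x : (P : Subgroup G), ∑ ψ : (P : Subgroup G) →* ℂˣ, (χ : G → ℂ) x * af ψ x * (ψ y : ℂ) =
      if x = y then (Nat.card P : ℂ) * (χ : G → ℂ) x else 0 := by
    intro x
    have hh : ∀ ψ : (P : Subgroup G) →* ℂˣ, af ψ x * (ψ y : ℂ) = (ψ (x⁻¹ * y) : ℂ) - (ψ y : ℂ) := fun ψ => by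
      rw [af, sub_mul, one_mul, conj_hom, MonoidHom.inv_apply, map_mul, map_inv, Units.val_mul]
    simp only [mul_assoc, hh, ← Finset.mul_sum, Finset.sum_sub_distrib, sum_dual hcomm, if_neg hy,
      sub_zero, inv_mul_eq_one]
    split_ifs <;> ring
  rw [Finset.sum_congr rfl fun x _ => e x, Finset.sum_ite_eq', if_pos (Finset.mem_univ _)]

theorem sum_apply_coef (hM : IsPModular p M) (ψ : (P : Subgroup G) →* ℂˣ) {g : G} (hg : ¬ p ∣ orderOf g) :
    ∑ᶠ χ ∈ principalBlock M G, (χ : G → ℂ) g * (coef χ ψ : ℂ) = 0 := by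
  haveI := prime_of_isPModular hM
  have hB : IsPBlock M (principalBlock M G) := ⟨⟨fun _ => 1, isIrrCharacter_one⟩, rfl⟩
  refine mul_left_cancel₀ (Nat.cast_ne_zero.2 (Nat.card_pos (α := P)).ne') ?_
  simp only [finsum_mem_eq_finite_toFinset_sum _ (principalBlock M G).toFinite, Finset.mul_sum, mul_zero,
    mul_left_comm ((Nat.card P : ℂ)), ← coef_spec]
  rw [Finset.sum_comm]
  refine Finset.sum_eq_zero fun x _ => ?_
  by_cases hx : x = 1
  · simp [hx, af_one]
  have := weak_orthogonality' hM hB hg (dvd_orderOf_of_mem x.2 fun e => hx (Subtype.ext e))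
  rw [finsum_mem_eq_finite_toFinset_sum _ (principalBlock M G).toFinite] at this
  simp only [← mul_assoc, ← Finset.sum_mul, this, zero_mul]

theorem gram_expand (ψ ψ' : (P : Subgroup G) →* ℂˣ) :
    (Nat.card P : ℂ) * (Nat.card P : ℂ) *
        ((∑ χ ∈ (principalBlock M G).toFinite.toFinset, coef χ ψ * coef χ ψ' : ℤ) : ℂ) =
      ∑ x : (P : Subgroup G), af ψ x * ∑ x' : (P : Subgroup G),
        blockKernel (principalBlock M G) x x' * conj (af ψ' x') := by
  set q : ℂ := (Nat.card P : ℂ) with hq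
  simp only [blockKernel, finsum_mem_eq_finite_toFinset_sum _ (principalBlock M G).toFinite,
    Finset.sum_mul, Finset.mul_sum, Int.cast_sum, Int.cast_mul]
  rw [Finset.sum_congr rfl fun x _ => Finset.sum_comm, Finset.sum_comm]
  refine Finset.sum_congr rfl fun χ _ => ?_
  have e : q * q * ((coef χ ψ : ℂ) * (coef χ ψ' : ℂ)) = (q * coef χ ψ) * conj (q * (coef χ ψ' : ℂ)) := by
    rw [map_mul, map_intCast, hq, Complex.conj_natCast]; ring
  rw [e, hq, ← coef_spec, ← coef_spec, map_sum, Finset.sum_mul]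
  refine Finset.sum_congr rfl fun x _ => ?_
  rw [Finset.mul_sum]
  refine Finset.sum_congr rfl fun x' _ => ?_
  rw [map_mul]; ring

theorem Hyp.gram_row (h : Hyp P m) (hM : IsPModular p M)
    [Fintype (Subgroup.normalizer ((P : Subgroup G) : Set G))] (ψ ψ' : (P : Subgroup G) →* ℂˣ)
    (x : (P : Subgroup G)) :
    (Nat.card (Subgroup.centralizer ((P : Subgroup G) : Set G)) : ℂ) *
        (af ψ x * ∑ x' : (P : Subgroup G), blockKernel (principalBlock M G) x x' * conj (af ψ' x')) =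
      (Nat.card P : ℂ) * ∑ n : Subgroup.normalizer ((P : Subgroup G) : Set G),
        af ψ x * conj (af ψ' (phi P n x)) := by
  haveI := Fintype.ofFinite G
  set q : ℂ := (Nat.card P : ℂ) with hq
  set c : ℂ := (Nat.card (Subgroup.centralizer ((P : Subgroup G) : Set G)) : ℂ) with hc
  by_cases hx : x = 1
  · simp [hx, af_one]
  have hx' : (x : G) ≠ 1 := fun e => hx (Subtype.ext e)
  set F : G → ℂ := fun g => if hg : g ∈ (P : Subgroup G) then conj (af ψ' ⟨g, hg⟩) else 0 with hF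
  have hFc : ∀ x' : (P : Subgroup G), F x' = conj (af ψ' x') := fun x' => by simp [hF]
  have hsum := sum_conj_eq (Subgroup.normalizer ((P : Subgroup G) : Set G)) (x : G) F
  rw [inf_comm, h.free _ x.2 hx', ← hc, ← Finset.mul_sum] at hsum
  have hn : ∀ n : Subgroup.normalizer ((P : Subgroup G) : Set G),
      F ((n : G) * x * (n : G)⁻¹) = conj (af ψ' (phi P n x)) := fun n => hFc (phi P n x)
  have hset : ∑ x' : (P : Subgroup G), blockKernel (principalBlock M G) x x' * conj (af ψ' x') =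
      q * ∑ b ∈ Finset.univ.image (fun n : Subgroup.normalizer ((P : Subgroup G) : Set G) =>
        (n : G) * x * (n : G)⁻¹), F b := by
    simp only [h.kernel hM x.2 hx' (Subtype.mem _), ite_mul, zero_mul, ← Finset.sum_filter,
      ← Finset.mul_sum, hq]
    congr 1
    refine Finset.sum_bij (fun x' _ => (x' : G)) ?_ ?_ ?_ ?_
    · intro x' hx'
      obtain ⟨n, hn⟩ := (h.isConj_iff_exists x.2 x'.2).1 (Finset.mem_filter.1 hx').2
      exact Finset.mem_image.2 ⟨n, Finset.mem_univ _, hn⟩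
    · intro a _ b _ e; exact Subtype.ext e
    · intro b hb
      obtain ⟨n, -, rfl⟩ := Finset.mem_image.1 hb
      exact ⟨phi P n x, Finset.mem_filter.2 ⟨Finset.mem_univ _, isConj_iff.2 ⟨n, rfl⟩⟩, rfl⟩
    · intro x' _; exact (hFc x').symm
  rw [Finset.sum_congr rfl fun n _ => hn n] at hsum
  rw [hset, ← Finset.mul_sum (a := af ψ x), hsum]
  ring

theorem Hyp.gram (h : Hyp P m) (hM : IsPModular p M) {ψ ψ' : (P : Subgroup G) →* ℂˣ} (hψ : ψ ≠ 1)
    (hψ' : ψ' ≠ 1) :
    ∑ χ ∈ (principalBlock M G).toFinite.toFinset, coef χ ψ * coef χ ψ' =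
      (if Twist P ψ ψ' then 1 else 0) + (m : ℤ) := by
  haveI := Fintype.ofFinite G
  haveI := Fintype.ofFinite (Subgroup.normalizer ((P : Subgroup G) : Set G))
  set q : ℂ := (Nat.card P : ℂ) with hq
  have hq0 : q ≠ 0 := Nat.cast_ne_zero.2 (Nat.card_pos (α := P)).ne'
  set c : ℂ := (Nat.card (Subgroup.centralizer ((P : Subgroup G) : Set G)) : ℂ) with hc
  have hc0 : c ≠ 0 := Nat.cast_ne_zero.2 Nat.card_pos.ne'
  have step1 := gram_expand (M := M) ψ ψ'
  have step2 := h.gram_row hM ψ ψ'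
  rw [← hq] at step1 step2
  rw [← hc] at step2
  have step3 : c * (q * q * ((∑ χ ∈ (principalBlock M G).toFinite.toFinset, coef χ ψ * coef χ ψ' : ℤ) : ℂ)) =
      q * q * (((Nat.card {n : Subgroup.normalizer ((P : Subgroup G) : Set G) // tw P n ψ' = ψ} : ℕ) : ℂ) +
        (Nat.card (Subgroup.normalizer ((P : Subgroup G) : Set G)) : ℂ)) := by
    rw [step1, Finset.mul_sum, Finset.sum_congr rfl fun x _ => step2 x, ← Finset.mul_sum, Finset.sum_comm]
    have e : ∀ n : Subgroup.normalizer ((P : Subgroup G) : Set G),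
        ∑ x : (P : Subgroup G), af ψ x * conj (af ψ' (phi P n x)) =
          (if tw P n ψ' = ψ then q else 0) + q := fun n => by
      have hx : ∀ x, af ψ' (phi P n x) = af (tw P n ψ') x := fun x => by
        simp only [af, tw, MonoidHom.comp_apply]
      simp only [hx]
      rw [sum_af_mul hψ (tw_ne_one P hψ'), hq]
    simp only [e, Finset.sum_add_distrib, ← Finset.sum_filter, Finset.sum_const, nsmul_eq_mul,
      Finset.card_univ, ← Fintype.card_subtype, ← Nat.card_eq_fintype_card]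
    ring
  rw [h.card_tw_eq hψ', h.card_normalizer, Nat.cast_ite, Nat.cast_mul, Nat.cast_zero, ← hc] at step3
  refine Int.cast_injective (α := ℂ) (mul_left_cancel₀ (mul_ne_zero hc0 (mul_ne_zero hq0 hq0)) ?_)
  rw [mul_assoc, step3]
  split_ifs <;> push_cast <;> ring

theorem Hyp.card_orbit (h : Hyp P m) {ψ : (P : Subgroup G) →* ℂˣ} (hψ : ψ ≠ 1) :
    Nat.card {φ : (P : Subgroup G) →* ℂˣ // Twist P ψ φ} = m := by
  have hne : ∀ φ, Twist P ψ φ → φ ≠ 1 := fun φ ht e => hψ (by
    obtain ⟨n, hn⟩ := (twist_iff P ψ φ).1 ht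
    rw [← hn, e, one_tw])
  have e : (Σ φ : {φ : (P : Subgroup G) →* ℂˣ // Twist P ψ φ},
      {n : Subgroup.normalizer ((P : Subgroup G) : Set G) // tw P n φ.1 = ψ}) ≃
      Subgroup.normalizer ((P : Subgroup G) : Set G) :=
    { toFun := fun z => z.2.1
      invFun := fun n => ⟨⟨tw P n⁻¹ ψ, (twist_iff P ψ _).2 ⟨n, by rw [← tw_mul, inv_mul_cancel, tw_one]⟩⟩,
        n, by rw [← tw_mul, inv_mul_cancel, tw_one]⟩
      left_inv := fun z => by
        obtain ⟨⟨φ, hφ⟩, n, hn⟩ := z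
        dsimp only at hn ⊢
        subst hn
        have : tw P n⁻¹ (tw P n φ) = φ := by rw [← tw_mul, mul_inv_cancel, tw_one]
        congr 1
        · exact Subtype.ext this
        · exact Subtype.heq_iff_coe_eq (by simp [this]) |>.2 rfl
      right_inv := fun n => rfl }
  haveI : Finite ((P : Subgroup G) →* ℂˣ) := by
    refine Nat.finite_of_card_ne_zero ?_
    rw [card_monoidHom_units]
    exact Subgroup.index_ne_zero_of_finite
  haveI := Fintype.ofFinite {φ : (P : Subgroup G) →* ℂˣ // Twist P ψ φ}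
  have hcard := Nat.card_congr e
  rw [Nat.card_sigma, Finset.sum_congr rfl (g := fun _ => Nat.card (Subgroup.centralizer ((P : Subgroup G) : Set G)))
    fun φ _ => by rw [h.card_tw_eq (hne φ.1 φ.2), if_pos φ.2], Finset.sum_const, smul_eq_mul,
    Finset.card_univ, ← Nat.card_eq_fintype_card, h.card_normalizer] at hcard
  exact Nat.eq_of_mul_eq_mul_right Nat.card_pos hcard

/-- The exceptional characters `ζ`, their sign, the common value and the remaining coefficients. -/
structure IsData (B : Set (IrrCharacter G)) (m : ℕ) (ζ : ((P : Subgroup G) →* ℂˣ) → IrrCharacter G)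
    (δ d : ℤ) (c : IrrCharacter G → ℤ) : Prop where
  sign : δ = 1 ∨ δ = -1
  mem : ∀ ψ, ψ ≠ 1 → ζ ψ ∈ B
  eq_iff : ∀ ψ ψ', ψ ≠ 1 → ψ' ≠ 1 → (ζ ψ = ζ ψ' ↔ Twist P ψ ψ')
  coef_eq : ∀ χ ∈ B, ∀ ψ, ψ ≠ 1 → coef χ ψ = c χ + δ * (if χ = ζ ψ then 1 else 0)
  coef_zeta : ∀ ψ, ψ ≠ 1 → c (ζ ψ) = d
  norm : ∑ χ ∈ B.toFinite.toFinset, c χ * c χ + 2 * δ * d = m

theorem Hyp.exists_data (h : Hyp P m) (hM : IsPModular p M) (hm2 : m + 1 < Nat.card P) :
    ∃ ζ δ d c, IsData (P := P) (principalBlock M G) m ζ δ d c := by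
  haveI : Finite ((P : Subgroup G) →* ℂˣ) := by
    refine Nat.finite_of_card_ne_zero ?_
    rw [card_monoidHom_units]
    exact Subgroup.index_ne_zero_of_finite
  letI sd : Setoid {ψ : (P : Subgroup G) →* ℂˣ // ψ ≠ 1} :=
    ⟨fun a b => Twist P a.1 b.1, fun a => Twist.refl P a.1, fun e => Twist.symm P e, fun e e' => Twist.trans P e e'⟩
  have hcard : Nat.card ((P : Subgroup G) →* ℂˣ) = Nat.card (P : Subgroup G) := by
    letI : CommGroup (P : Subgroup G) := { (inferInstance : Group (P : Subgroup G)) with mul_comm := h.comm }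
    exact CommGroup.card_monoidHom_of_hasEnoughRootsOfUnity (P : Subgroup G) ℂ
  haveI := Fintype.ofFinite ((P : Subgroup G) →* ℂˣ)
  haveI := Fintype.ofFinite (Quotient sd)
  haveI : Nontrivial (Quotient sd) := by
    by_contra hn
    rw [not_nontrivial_iff_subsingleton] at hn
    have hne : Nonempty {ψ : (P : Subgroup G) →* ℂˣ // ψ ≠ 1} := by
      by_contra he
      rw [not_nonempty_iff] at he
      have : ∀ ψ : (P : Subgroup G) →* ℂˣ, ψ = 1 := fun ψ => by
        by_contra hψ; exact he.false ⟨ψ, hψ⟩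
      haveI : Subsingleton ((P : Subgroup G) →* ℂˣ) := ⟨fun a b => by rw [this a, this b]⟩
      rw [Nat.card_of_subsingleton (1 : (P : Subgroup G) →* ℂˣ)] at hcard
      omega
    obtain ⟨ψ₀⟩ := hne
    have hsub : (Finset.univ.erase (1 : (P : Subgroup G) →* ℂˣ)).card ≤
        Nat.card {φ : (P : Subgroup G) →* ℂˣ // Twist P ψ₀.1 φ} := by
      rw [Nat.card_eq_fintype_card, Fintype.card_subtype]
      refine Finset.card_le_card fun φ hφ => Finset.mem_filter.2 ⟨Finset.mem_univ _, ?_⟩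
      exact Quotient.exact (Subsingleton.elim (Quotient.mk sd ψ₀)
        (Quotient.mk sd ⟨φ, Finset.ne_of_mem_erase hφ⟩))
    rw [Finset.card_erase_of_mem (Finset.mem_univ _), Finset.card_univ, ← Nat.card_eq_fintype_card,
      hcard, h.card_orbit ψ₀.2] at hsub
    omega
  haveI := prime_of_isPModular hM
  have hsum : ∀ i : Quotient sd,
      ∑ χ ∈ (principalBlock M G).toFinite.toFinset,
        (charDegree (χ : G → ℂ) : ℤ) * coef χ i.out.1 = 0 := fun i => by
    have := sum_apply_coef hM i.out.1 (g := (1 : G)) (by rw [orderOf_one]; exact (Fact.out : p.Prime).not_dvd_one)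
    rw [finsum_mem_eq_finite_toFinset_sum _ (principalBlock M G).toFinite] at this
    refine Int.cast_injective (α := ℂ) ?_
    push_cast
    refine (Finset.sum_congr rfl fun χ _ => ?_).trans this
    rw [← charDegree_cast (IsIrrCharacter.isCharacter χ.2)]
  obtain ⟨η, δ, d, c, hη, hδ, hu, hd, hn⟩ := exceptional
    (κ := {χ // χ ∈ (principalBlock M G).toFinite.toFinset}) (fun χ => (charDegree (χ.1 : G → ℂ) : ℤ))
    (fun χ => by exact_mod_cast charDegree_pos χ.1.2) (fun χ (i : Quotient sd) => coef χ.1 i.out.1) m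
    (fun i j => by
      show ∑ χ : {χ // χ ∈ (principalBlock M G).toFinite.toFinset},
        coef χ.1 i.out.1 * coef χ.1 j.out.1 = _
      rw [Finset.sum_coe_sort _ fun χ => coef χ i.out.1 * coef χ j.out.1, h.gram hM i.out.2 j.out.2]
      congr 1
      by_cases e : i = j
      · rw [if_pos e, if_pos (e ▸ Twist.refl P _)]
      · rw [if_neg e, if_neg fun ht => e (by rw [← Quotient.out_eq i, ← Quotient.out_eq j]; exact Quotient.sound ht)])
    (fun i => by rw [Finset.sum_coe_sort _ fun χ : IrrCharacter G => (charDegree (χ : G → ℂ) : ℤ) * coef χ i.out.1, hsum i])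
  let q : ∀ ψ : (P : Subgroup G) →* ℂˣ, ψ ≠ 1 → Quotient sd := fun ψ hψ => Quotient.mk sd ⟨ψ, hψ⟩
  have hq : ∀ ψ hψ χ, coef χ ψ = coef χ (q ψ hψ).out.1 := fun ψ hψ χ =>
    coef_twist h χ (Twist.symm P (Quotient.mk_out (s := sd) ⟨ψ, hψ⟩))
  refine ⟨fun ψ => if hψ : ψ = 1 then ⟨fun _ => 1, isIrrCharacter_one⟩ else (η (q ψ hψ)).1, δ, d,
    fun χ => if hχ : χ ∈ (principalBlock M G).toFinite.toFinset then c ⟨χ, hχ⟩ else 0,
    ⟨hδ, fun ψ hψ => ?_, fun ψ ψ' hψ hψ' => ?_, fun χ hχ ψ hψ => ?_, fun ψ hψ => ?_, ?_⟩⟩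
  · simp only [dif_neg hψ]
    exact (principalBlock M G).toFinite.mem_toFinset.1 (η (q ψ hψ)).2
  · simp only [dif_neg hψ, dif_neg hψ']
    constructor
    · intro e; exact Quotient.exact (hη (Subtype.ext e))
    · intro e; rw [show q ψ hψ = q ψ' hψ' from Quotient.sound e]
  · have hχ' := (principalBlock M G).toFinite.mem_toFinset.2 hχ
    simp only [dif_neg hψ, dif_pos hχ']
    rw [hq ψ hψ χ, hu ⟨χ, hχ'⟩]
    congr 2
    by_cases e : χ = (η (q ψ hψ)).1
    · rw [if_pos e, if_pos (Subtype.ext e)]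
    · rw [if_neg e, if_neg fun e' => e (congrArg Subtype.val e')]
  · simp only [dif_neg hψ, dif_pos (η (q ψ hψ)).2, Subtype.coe_eta, hd]
  · rw [← Finset.sum_coe_sort]
    refine Eq.trans ?_ hn
    congr 1
    exact Finset.sum_congr rfl fun χ _ => by simp only [dif_pos χ.2, Subtype.coe_eta]

variable {B : Set (IrrCharacter G)} {ζ : ((P : Subgroup G) →* ℂˣ) → IrrCharacter G} {δ d : ℤ}
  {c : IrrCharacter G → ℤ}

theorem IsData.apply_eq (hD : IsData (P := P) B m ζ δ d c) (hcomm : ∀ a b : (P : Subgroup G), a * b = b * a)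
    [Fintype ((P : Subgroup G) →* ℂˣ)] {χ : IrrCharacter G} (hχ : χ ∈ B) {y : (P : Subgroup G)} (hy : y ≠ 1) :
    (χ : G → ℂ) y = -(c χ : ℂ) + (δ : ℂ) *
      ∑ ψ ∈ Finset.univ.filter (fun ψ : (P : Subgroup G) →* ℂˣ => ψ ≠ 1 ∧ ζ ψ = χ), (ψ y : ℂ) := by
  rw [apply_eq_sum_coef hcomm χ hy, ← Finset.add_sum_erase _ _ (Finset.mem_univ (1 : (P : Subgroup G) →* ℂˣ)),
    coef_one_hom, Int.cast_zero, zero_mul, zero_add]
  have e : ∀ ψ ∈ Finset.univ.erase (1 : (P : Subgroup G) →* ℂˣ), (coef χ ψ : ℂ) * (ψ y : ℂ) =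
      (c χ : ℂ) * (ψ y : ℂ) + (δ : ℂ) * if ψ ≠ 1 ∧ ζ ψ = χ then (ψ y : ℂ) else 0 := fun ψ hψ => by
    rw [hD.coef_eq χ hχ ψ (Finset.ne_of_mem_erase hψ)]
    by_cases he : χ = ζ ψ
    · rw [if_pos he, if_pos ⟨Finset.ne_of_mem_erase hψ, he.symm⟩]; push_cast; ring
    · rw [if_neg he, if_neg fun hh => he hh.2.symm]; push_cast; ring
  rw [Finset.sum_congr rfl e, Finset.sum_add_distrib, ← Finset.mul_sum, ← Finset.mul_sum]
  have h1 : ∑ ψ ∈ Finset.univ.erase (1 : (P : Subgroup G) →* ℂˣ), (ψ y : ℂ) = -1 := by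
    have := sum_dual hcomm y
    rw [if_neg hy, ← Finset.add_sum_erase _ _ (Finset.mem_univ (1 : (P : Subgroup G) →* ℂˣ))] at this
    simp only [MonoidHom.one_apply, Units.val_one] at this
    linear_combination this
  rw [h1, Finset.sum_erase _ (by simp), Finset.sum_filter]
  ring

theorem IsData.relation (hD : IsData (P := P) (principalBlock M G) m ζ δ d c) (hM : IsPModular p M)
    {ψ : (P : Subgroup G) →* ℂˣ} (hψ : ψ ≠ 1) {g : G} (hg : ¬ p ∣ orderOf g) :
    ∑ χ ∈ (principalBlock M G).toFinite.toFinset, (c χ : ℂ) * (χ : G → ℂ) g +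
      (δ : ℂ) * (ζ ψ : G → ℂ) g = 0 := by
  have h := sum_apply_coef hM ψ hg
  rw [finsum_mem_eq_finite_toFinset_sum _ (principalBlock M G).toFinite,
    Finset.sum_congr rfl fun (χ : IrrCharacter G) hχ => show (χ : G → ℂ) g * (coef χ ψ : ℂ) =
      (c χ : ℂ) * (χ : G → ℂ) g + (δ : ℂ) * (if χ = ζ ψ then (χ : G → ℂ) g else 0) by
      rw [hD.coef_eq χ ((principalBlock M G).toFinite.mem_toFinset.1 hχ) ψ hψ]
      split_ifs <;> push_cast <;> ring,
    Finset.sum_add_distrib, ← Finset.mul_sum, Finset.sum_ite_eq',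
    if_pos ((principalBlock M G).toFinite.mem_toFinset.2 (hD.mem ψ hψ))] at h
  exact h

theorem IsData.exists_other (hD : IsData (P := P) B m ζ δ d c) (h : Hyp P m) (hm2 : m + 1 < Nat.card P)
    {ψ : (P : Subgroup G) →* ℂˣ} (hψ : ψ ≠ 1) : ∃ ψ', ψ' ≠ 1 ∧ ζ ψ' ≠ ζ ψ := by
  by_contra hn
  push Not at hn
  haveI : Finite ((P : Subgroup G) →* ℂˣ) := by
    refine Nat.finite_of_card_ne_zero ?_
    rw [card_monoidHom_units]
    exact Subgroup.index_ne_zero_of_finite
  haveI := Fintype.ofFinite ((P : Subgroup G) →* ℂˣ)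
  have hcard : Nat.card ((P : Subgroup G) →* ℂˣ) = Nat.card (P : Subgroup G) := by
    letI : CommGroup (P : Subgroup G) := { (inferInstance : Group (P : Subgroup G)) with mul_comm := h.comm }
    exact CommGroup.card_monoidHom_of_hasEnoughRootsOfUnity (P : Subgroup G) ℂ
  have hsub : (Finset.univ.erase (1 : (P : Subgroup G) →* ℂˣ)).card ≤
      Nat.card {φ : (P : Subgroup G) →* ℂˣ // Twist P ψ φ} := by
    rw [Nat.card_eq_fintype_card, Fintype.card_subtype]
    exact Finset.card_le_card fun φ hφ => Finset.mem_filter.2 ⟨Finset.mem_univ _,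
      (hD.eq_iff ψ φ hψ (Finset.ne_of_mem_erase hφ)).1 (hn φ (Finset.ne_of_mem_erase hφ)).symm⟩
  rw [Finset.card_erase_of_mem (Finset.mem_univ _), Finset.card_univ, ← Nat.card_eq_fintype_card,
    hcard, h.card_orbit hψ] at hsub
  omega

theorem IsData.trivial_apply (hD : IsData (P := P) (principalBlock M G) m ζ δ d c) (h : Hyp P m)
    (hm2 : m + 1 < Nat.card P) {one : IrrCharacter G} (hone : (one : G → ℂ) = fun _ => 1)
    (hmem : one ∈ principalBlock M G) :
    c one = -1 ∧ ∀ ψ, ψ ≠ 1 → ζ ψ ≠ one := by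
  have key : ∀ ψ, ψ ≠ 1 → ζ ψ ≠ one := fun ψ hψ e => by
    obtain ⟨ψ', hψ', hne⟩ := hD.exists_other h hm2 hψ
    have h1 := hD.coef_eq one hmem ψ hψ
    have h2 := hD.coef_eq one hmem ψ' hψ'
    rw [coef_trivial one hone hψ, if_pos e.symm] at h1
    rw [coef_trivial one hone hψ', if_neg fun e' => hne (e'.symm.trans e.symm)] at h2
    rcases hD.sign with rfl | rfl <;> omega
  refine ⟨?_, key⟩
  obtain ⟨ψ, hψ⟩ : ∃ ψ : (P : Subgroup G) →* ℂˣ, ψ ≠ 1 := by
    letI : CommGroup (P : Subgroup G) := { (inferInstance : Group (P : Subgroup G)) with mul_comm := h.comm }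
    haveI : Nontrivial (P : Subgroup G) := Finite.one_lt_card_iff_nontrivial.1 (by omega)
    obtain ⟨x, hx⟩ := exists_ne (1 : (P : Subgroup G))
    obtain ⟨φ, hφ⟩ := CommGroup.exists_apply_ne_one_of_hasEnoughRootsOfUnity (P : Subgroup G) ℂ hx
    exact ⟨φ, fun e => hφ (by rw [e]; rfl)⟩
  have h1 := hD.coef_eq one hmem ψ hψ
  rw [coef_trivial one hone hψ, if_neg (Ne.symm (key ψ hψ))] at h1
  omega

theorem IsData.coeff_ne_zero (hD : IsData (P := P) (principalBlock M G) m ζ δ d c) (h : Hyp P m)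
    (hM : IsPModular p M) (hm2 : m + 1 < Nat.card P) {χ : IrrCharacter G} (hχ : χ ∈ principalBlock M G)
    (hY : ∀ ψ, ψ ≠ 1 → ζ ψ ≠ χ) : c χ ≠ 0 := by
  intro h0
  haveI := prime_of_isPModular hM
  haveI : Finite ((P : Subgroup G) →* ℂˣ) := by
    refine Nat.finite_of_card_ne_zero ?_
    rw [card_monoidHom_units]
    exact Subgroup.index_ne_zero_of_finite
  haveI := Fintype.ofFinite ((P : Subgroup G) →* ℂˣ)
  have hz : ∀ y : (P : Subgroup G), y ≠ 1 → (χ : G → ℂ) y = 0 := fun y hy => by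
    rw [hD.apply_eq h.comm hχ hy, h0, Int.cast_zero, neg_zero, zero_add,
      Finset.sum_eq_zero fun ψ hψ => absurd (Finset.mem_filter.1 hψ).2.2 (hY ψ (Finset.mem_filter.1 hψ).2.1), mul_zero]
  obtain ⟨n, hn⟩ := classInner_natCast_of_isCharacter
    (IsCharacter.restrict (IsIrrCharacter.isCharacter χ.2) (P : Subgroup G))
    (IsIrrCharacter.isCharacter (isIrrCharacter_monoidHom (1 : (P : Subgroup G) →* ℂˣ)))
  rw [classInner, inv_mul_eq_iff_eq_mul₀ (Nat.cast_ne_zero.2 Nat.card_pos.ne'),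
    Finset.sum_eq_single (1 : (P : Subgroup G)) (fun y _ hy => by rw [hz y hy, zero_mul])
      (fun e => absurd (Finset.mem_univ _) e)] at hn
  simp only [OneMemClass.coe_one, map_one, Units.val_one, mul_one,
    ← charDegree_cast (IsIrrCharacter.isCharacter χ.2), ← Nat.cast_mul, Nat.cast_inj] at hn
  obtain ⟨k, hk⟩ := charDegree_dvd_card χ.2
  have hidx : n * k = (P : Subgroup G).index := by
    refine Nat.eq_of_mul_eq_mul_left (Nat.card_pos (α := P)) ?_
    rw [← mul_assoc, ← hn, Subgroup.card_mul_index, hk]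
  have hsing := blockOf_eq_singleton hM χ (by
    rw [hk, Nat.mul_div_cancel_left _ (charDegree_pos χ.2)]
    exact fun hd => P.not_dvd_index (hidx ▸ dvd_mul_of_dvd_right hd n))
  have hB : IsPBlock M (principalBlock M G) := ⟨⟨fun _ => 1, isIrrCharacter_one⟩, rfl⟩
  let one : IrrCharacter G := ⟨fun _ => 1, isIrrCharacter_one⟩
  have h1 : one ∈ principalBlock M G := sameBlock_refl _
  have h2 := (hD.trivial_apply h hm2 (one := one) rfl h1).1
  rw [isPBlock_eq_of_mem hB (isPBlock_blockOf χ) hχ (self_mem_blockOf χ), hsing,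
    Set.mem_singleton_iff] at h1
  rw [h1, h0] at h2
  omega

theorem IsData.card_image (hD : IsData (P := P) B m ζ δ d c) (h : Hyp P m)
    [Fintype ((P : Subgroup G) →* ℂˣ)] :
    ((Finset.univ.erase (1 : (P : Subgroup G) →* ℂˣ)).image ζ).card * m = Nat.card P - 1 := by
  have hcard : Nat.card ((P : Subgroup G) →* ℂˣ) = Nat.card (P : Subgroup G) := by
    letI : CommGroup (P : Subgroup G) := { (inferInstance : Group (P : Subgroup G)) with mul_comm := h.comm }
    exact CommGroup.card_monoidHom_of_hasEnoughRootsOfUnity (P : Subgroup G) ℂ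
  have e := Finset.card_eq_sum_card_image ζ (Finset.univ.erase (1 : (P : Subgroup G) →* ℂˣ))
  rw [Finset.card_erase_of_mem (Finset.mem_univ _), Finset.card_univ, ← Nat.card_eq_fintype_card, hcard] at e
  rw [e, ← smul_eq_mul, ← Finset.sum_const]
  refine Finset.sum_congr rfl fun η hη => ?_
  obtain ⟨ψ, hψ, rfl⟩ := Finset.mem_image.1 hη
  rw [← h.card_orbit (Finset.ne_of_mem_erase hψ), Nat.card_eq_fintype_card, Fintype.card_subtype]
  congr 1
  ext φ
  simp only [Finset.mem_filter, Finset.mem_univ, true_and, Finset.mem_erase, and_true]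
  constructor
  · intro ht
    have hφ : φ ≠ 1 := fun e' => Finset.ne_of_mem_erase hψ (by
      obtain ⟨n, hn⟩ := (twist_iff P ψ φ).1 ht
      rw [← hn, e', one_tw])
    exact ⟨hφ, ((hD.eq_iff ψ φ (Finset.ne_of_mem_erase hψ) hφ).2 ht).symm⟩
  · rintro ⟨hφ, he⟩
    exact (hD.eq_iff ψ φ (Finset.ne_of_mem_erase hψ) hφ).1 he.symm

theorem IsData.fibre_eq (hD : IsData (P := P) B m ζ δ d c) [Fintype ((P : Subgroup G) →* ℂˣ)]
    {ψ : (P : Subgroup G) →* ℂˣ} (hψ : ψ ≠ 1) :
    {φ : (P : Subgroup G) →* ℂˣ | Twist P ψ φ} =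
      ↑(Finset.univ.filter fun φ : (P : Subgroup G) →* ℂˣ => φ ≠ 1 ∧ ζ φ = ζ ψ) := by
  ext φ
  simp only [Finset.coe_filter, Finset.mem_univ, true_and, Set.mem_setOf_eq]
  constructor
  · intro ht
    have hφ : φ ≠ 1 := fun e' => hψ (by
      obtain ⟨n, hn⟩ := (twist_iff P ψ φ).1 ht
      rw [← hn, e', one_tw])
    exact ⟨hφ, ((hD.eq_iff ψ φ hψ hφ).2 ht).symm⟩
  · rintro ⟨hφ, he⟩
    exact (hD.eq_iff ψ φ hψ hφ).1 he.symm

end Columns

end Cfsg.Agent.Block.AbTI
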