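import Cfsg.Agent.Lib.Char.Integral
import Cfsg.Agent.Lib.Char.Induction
import Mathlib.Analysis.SpecialFunctions.Log.Basic

/-!
# A lower bound for sums of squares of algebraic integers

If non-zero algebraic integers `z i` in a cyclotomic field have rational sum of `z i * conj (z i)`,
that sum is at least their number.
-/

set_option autoImplicit false

open Cfsg Cfsg.Agent.Char
open scoped ComplexConjugate

namespace Cfsg.Agent.Block

/-- The field generated by the `N`-th roots of unity. -/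
noncomputable def cycF (N : ℕ) : IntermediateField ℚ ℂ :=
  IntermediateField.adjoin ℚ {r : ℂ | r ^ N = 1}

theorem root_mem_cycF {N : ℕ} {r : ℂ} (h : r ^ N = 1) : r ∈ cycF N :=
  IntermediateField.subset_adjoin ℚ _ h

theorem conj_mem_cycF {N : ℕ} {v : ℂ} (hv : v ∈ cycF N) : conj v ∈ cycF N := by
  induction hv using IntermediateField.adjoin_induction with
  | mem x hx => exact root_mem_cycF (by rw [← map_pow, show x ^ N = 1 from hx, map_one])
  | algebraMap q => simpa using IntermediateField.algebraMap_mem (cycF N) q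
  | add x y _ _ h h' => rw [map_add]; exact add_mem h h'
  | inv x _ h => rw [map_inv₀]; exact inv_mem h
  | mul x y _ _ h h' => rw [map_mul]; exact mul_mem h h'

theorem alghom_conj {N : ℕ} (hN : N ≠ 0) (σ : cycF N →ₐ[ℚ] ℂ) {v : ℂ} (hv : v ∈ cycF N) :
    σ ⟨conj v, conj_mem_cycF hv⟩ = conj (σ ⟨v, hv⟩) := by
  induction hv using IntermediateField.adjoin_induction with
  | mem x hx =>
    have hx1 : x ^ N = 1 := hx
    have hxn : ‖x‖ = 1 := Complex.norm_eq_one_of_pow_eq_one hx1 hN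
    set a : cycF N := ⟨x, root_mem_cycF hx1⟩
    have ha : a ^ N = 1 := Subtype.ext (by simpa using hx1)
    have hσn : ‖σ a‖ = 1 := Complex.norm_eq_one_of_pow_eq_one (by rw [← map_pow, ha, map_one]) hN
    have e : (⟨conj x, conj_mem_cycF (root_mem_cycF hx1)⟩ : cycF N) = a⁻¹ :=
      Subtype.ext (by simp only [a, IntermediateField.coe_inv]; exact (Complex.inv_eq_conj hxn).symm)
    rw [e, map_inv₀]
    exact Complex.inv_eq_conj hσn
  | algebraMap q =>
    have e1 : ∀ (w : ℂ) (h1 : w ∈ cycF N), w = algebraMap ℚ ℂ q → σ ⟨w, h1⟩ = algebraMap ℚ ℂ q := by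
      rintro _ h1 rfl
      exact σ.commutes q
    refine (e1 _ _ (by simp)).trans ?_
    refine Eq.trans ?_ (congrArg conj (e1 _ _ rfl)).symm
    simp
  | add x y hx hy h h' =>
    have e : ∀ h1 h2, σ ⟨conj (x + y), h1⟩ = σ ⟨conj x, conj_mem_cycF hx⟩ + σ ⟨conj y, h2⟩ := fun h1 h2 => by
      rw [← map_add]; congr 1; exact Subtype.ext (map_add _ _ _)
    rw [e _ (conj_mem_cycF hy), h, h', ← map_add, ← map_add]
    rfl
  | inv x hx h =>
    rw [show (⟨conj x⁻¹, _⟩ : cycF N) = (⟨conj x, conj_mem_cycF hx⟩ : cycF N)⁻¹ from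
      Subtype.ext (map_inv₀ _ _), map_inv₀, h,
      show (⟨x⁻¹, _⟩ : cycF N) = (⟨x, hx⟩ : cycF N)⁻¹ from Subtype.ext rfl, map_inv₀, map_inv₀]
  | mul x y hx hy h h' =>
    have e : ∀ h1 h2, σ ⟨conj (x * y), h1⟩ = σ ⟨conj x, conj_mem_cycF hx⟩ * σ ⟨conj y, h2⟩ := fun h1 h2 => by
      rw [← map_mul]; congr 1; exact Subtype.ext (map_mul _ _ _)
    rw [e _ (conj_mem_cycF hy), h, h', ← map_mul, ← map_mul]
    rfl

theorem exists_alghom_one_le_norm {N : ℕ} (hN : N ≠ 0) (α : cycF N) (hint : IsIntegral ℤ (α : ℂ))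
    (hne : α ≠ 0) : ∃ σ : cycF N →ₐ[ℚ] ℂ, 1 ≤ ‖σ α‖ := by
  classical
  let K := cycF N
  haveI : Algebra.IsAlgebraic ℚ K := IntermediateField.isAlgebraic_adjoin fun r (hr : r ^ N = 1) =>
    ⟨Polynomial.X ^ N - Polynomial.C 1, Polynomial.monic_X_pow_sub_C 1 hN, by simp [hr]⟩
  by_contra hcon
  push Not at hcon
  have hintK : IsIntegral ℤ α :=
    (isIntegral_algebraMap_iff (A := K) (B := ℂ) (algebraMap K ℂ).injective).mp hint
  let p := minpoly ℤ α
  have hpQ : minpoly ℚ α = p.map (algebraMap ℤ ℚ) :=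
    minpoly.isIntegrallyClosed_eq_field_fractions' ℚ hintK
  let P := p.map (algebraMap ℤ ℂ)
  have hP : P = (minpoly ℚ α).map (algebraMap ℚ ℂ) := by
    rw [hpQ, Polynomial.map_map]; congr 1
  have hmonic : P.Monic := (minpoly.monic hintK).map _
  have hrange := Algebra.IsAlgebraic.range_eval_eq_rootSet_minpoly (F := ℚ) (K := K) ℂ α
  have hroot : ∀ β ∈ P.roots, ‖β‖ < 1 := by
    intro β hβ
    have hmem : β ∈ (minpoly ℚ α).rootSet ℂ := by
      rw [Polynomial.rootSet_def, Polynomial.aroots_def, ← hP]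
      simpa using hβ
    rw [← hrange] at hmem
    obtain ⟨σ, rfl⟩ := hmem
    exact hcon σ
  have hαmem : (α : ℂ) ∈ P.roots := by
    rw [Polynomial.mem_roots hmonic.ne_zero, hP, Polynomial.IsRoot, Polynomial.eval_map,
      ← Polynomial.aeval_def, show (α : ℂ) = algebraMap K ℂ α from rfl,
      Polynomial.aeval_algebraMap_apply, minpoly.aeval, map_zero]
  have hc := (IsAlgClosed.splits P).coeff_zero_eq_prod_roots_of_monic hmonic
  have hnorm : ‖P.coeff 0‖ < 1 := by
    rw [hc, norm_mul, norm_pow, norm_neg, norm_one, one_pow, one_mul,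
      ← Multiset.cons_erase hαmem, Multiset.prod_cons, norm_mul]
    have hrest : ‖(P.roots.erase (α : ℂ)).prod‖ ≤ 1 := by
      have h' : ∀ β ∈ P.roots.erase (α : ℂ), ‖β‖ ≤ 1 :=
        fun β hβ => (hroot β (Multiset.mem_of_mem_erase hβ)).le
      revert h'
      generalize P.roots.erase (α : ℂ) = s'
      intro h'
      induction s' using Multiset.induction_on with
      | empty => simp
      | cons a t ih =>
        rw [Multiset.prod_cons, norm_mul]
        exact mul_le_one₀ (h' a (Multiset.mem_cons_self a t)) (norm_nonneg _)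
          (ih fun β hβ => h' β (Multiset.mem_cons_of_mem hβ))
    calc ‖(α : ℂ)‖ * ‖(P.roots.erase (α : ℂ)).prod‖ ≤ ‖(α : ℂ)‖ * 1 :=
          mul_le_mul_of_nonneg_left hrest (norm_nonneg _)
      _ < 1 := by rw [mul_one]; exact hroot _ hαmem
  have h0' : p.coeff 0 = 0 := by
    rw [Polynomial.coeff_map] at hnorm
    simp at hnorm
    exact Int.abs_lt_one_iff.mp (by exact_mod_cast hnorm)
  have hQ0 : (minpoly ℚ α).coeff 0 = 0 := by rw [hpQ, Polynomial.coeff_map, h0', map_zero]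
  exact hne ((minpoly.coeff_zero_eq_zero (Algebra.IsIntegral.isIntegral α)).mp hQ0)

theorem card_le_of_sum_mul_conj {ι : Type*} {N : ℕ} (hN : N ≠ 0) (s : Finset ι) (z : ι → ℂ)
    (hz : ∀ i ∈ s, z i ∈ cycF N) (hint : ∀ i ∈ s, IsIntegral ℤ (z i)) (hne : ∀ i ∈ s, z i ≠ 0)
    {T : ℚ} (hT : ∑ i ∈ s, z i * conj (z i) = (T : ℂ)) : (s.card : ℚ) ≤ T := by
  classical
  let w : s → cycF N := fun i => ⟨z i.1, hz i.1 i.2⟩
  have hP : IsIntegral ℤ ((∏ i, w i : cycF N) : ℂ) := by
    rw [show ((∏ i, w i : cycF N) : ℂ) = ∏ i : s, z i.1 from map_prod (cycF N).val w Finset.univ]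
    exact IsIntegral.prod _ fun i _ => hint i.1 i.2
  have hP0 : (∏ i, w i : cycF N) ≠ 0 := Finset.prod_ne_zero_iff.2 fun i _ h =>
    hne i.1 i.2 (congrArg Subtype.val h)
  obtain ⟨σ, hσ⟩ := exists_alghom_one_le_norm hN _ hP hP0
  have hsum : ∑ i : s, ‖σ (w i)‖ ^ 2 = (T : ℝ) := by
    apply Complex.ofReal_injective
    have e : ∀ i : s, (((‖σ (w i)‖ ^ 2 : ℝ)) : ℂ) =
        σ (w i * ⟨conj (z i.1), conj_mem_cycF (hz i.1 i.2)⟩) := fun i => by
      rw [map_mul, alghom_conj hN σ (hz i.1 i.2), Complex.mul_conj, Complex.normSq_eq_norm_sq]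
    rw [Complex.ofReal_sum, Finset.sum_congr rfl fun i _ => e i, ← map_sum]
    have e2 : (∑ i : s, w i * ⟨conj (z i.1), conj_mem_cycF (hz i.1 i.2)⟩) = algebraMap ℚ (cycF N) T := by
      refine Subtype.ext ?_
      rw [show ((∑ i : s, w i * ⟨conj (z i.1), conj_mem_cycF (hz i.1 i.2)⟩ : cycF N) : ℂ) =
        ∑ i : s, ((w i * ⟨conj (z i.1), conj_mem_cycF (hz i.1 i.2)⟩ : cycF N) : ℂ) from
          map_sum (cycF N).val _ Finset.univ]
      simp only [IntermediateField.coe_mul, w]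
      rw [Finset.sum_coe_sort s (fun i => z i * conj (z i)), hT]
      simp
    rw [e2, AlgHom.commutes]
    simp
  have hpos : ∀ i : s, 0 < ‖σ (w i)‖ := fun i => norm_pos_iff.2 fun h => hne i.1 i.2
    (congrArg Subtype.val ((map_eq_zero σ).1 h))
  have key : (Fintype.card s : ℝ) ≤ ∑ i : s, ‖σ (w i)‖ ^ 2 := by
    have h1 : (0 : ℝ) ≤ ∑ i : s, Real.log (‖σ (w i)‖ ^ 2) := by
      rw [← Real.log_prod fun i _ => (pow_pos (hpos i) 2).ne', Finset.prod_pow,
        ← norm_prod, ← map_prod]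
      exact Real.log_nonneg (one_le_pow₀ hσ)
    have h2 : ∑ i : s, Real.log (‖σ (w i)‖ ^ 2) ≤ ∑ i : s, (‖σ (w i)‖ ^ 2 - 1) :=
      Finset.sum_le_sum fun i _ => Real.log_le_sub_one_of_pos (pow_pos (hpos i) 2)
    rw [Finset.sum_sub_distrib, Finset.sum_const, nsmul_eq_mul, mul_one, Finset.card_univ] at h2
    linarith
  rw [hsum, Fintype.card_coe] at key
  exact_mod_cast key

universe u

variable {G : Type u} [Group G] [Finite G]

theorem character_mem_cycF {χ : G → ℂ} (hχ : IsCharacter G χ) {N : ℕ} {g : G} (hg : g ^ N = 1) :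
    χ g ∈ cycF N := by
  obtain ⟨n, ρ, rfl⟩ := hχ
  rw [← sum_eigenvalues]
  exact multiset_sum_mem _ fun r hr => root_mem_cycF (pow_eigenvalue_eq_one ρ g hr hg)

end Cfsg.Agent.Block
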