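import Cfsg.Agent.Lib.Block.CorePrimeBlock
import Cfsg.Agent.Lib.Char.Gallagher
import Cfsg.Agent.Lib.Char.Zero

/-!
# Restriction of principal blocks to a normal subgroup covering a Sylow centralizer
-/

set_option autoImplicit false
set_option linter.style.haveILetI false
set_option linter.unusedSectionVars false

open Cfsg.Agent.Char
open scoped ComplexConjugate

namespace Cfsg.Agent.Block

universe u

variable {G : Type u} [Group G] [Fintype G]

/-- A character with nonnegative values, none zero, and of mean one has degree one. -/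
theorem apply_one_eq_one_of_nonvanishing {Φ : G → ℂ} (hΦ : IsCharacter G Φ) (f : G → ℝ)
    (hf : ∀ g, Φ g = f g) (hpos : ∀ g, 0 < f g) (hsum : ∑ g, f g = Nat.card G) (h1 : 1 ≤ f 1) :
    f 1 = 1 := by
  classical
  by_contra hne
  have h1' : 1 < f 1 := lt_of_le_of_ne h1 (Ne.symm hne)
  have hfib : ∀ C ∈ Finset.univ.image (Subgroup.zpowers : G → Subgroup G),
      ((Finset.univ.filter fun x => Subgroup.zpowers x = C).card : ℝ) ≤
        ∑ x ∈ Finset.univ.filter (fun x => Subgroup.zpowers x = C), f x := by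
    intro C hC
    obtain ⟨g, -, rfl⟩ := Finset.mem_image.mp hC
    obtain ⟨z, hz⟩ := prod_generators_int hΦ g
    have hp0 : 0 < ∏ x ∈ Finset.univ.filter (fun x => Subgroup.zpowers x = Subgroup.zpowers g), f x :=
      Finset.prod_pos fun x _ => hpos x
    have hz' : (∏ x ∈ Finset.univ.filter (fun x => Subgroup.zpowers x = Subgroup.zpowers g), f x) = (z : ℝ) := by
      apply Complex.ofReal_injective
      push_cast
      rw [← hz]
      exact Finset.prod_congr rfl fun x _ => (hf x).symm
    rw [hz'] at hp0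
    have hp : (1 : ℝ) ≤ ∏ x ∈ Finset.univ.filter (fun x => Subgroup.zpowers x = Subgroup.zpowers g),
        f x := by
      rw [hz']
      exact_mod_cast (by exact_mod_cast hp0 : (0 : ℤ) < z)
    have hlog : (0 : ℝ) ≤ ∑ x ∈ Finset.univ.filter
        (fun x => Subgroup.zpowers x = Subgroup.zpowers g), Real.log (f x) := by
      rw [← Real.log_prod fun x _ => (hpos x).ne']
      exact Real.log_nonneg hp
    have := Finset.sum_le_sum (s := Finset.univ.filter
      (fun x => Subgroup.zpowers x = Subgroup.zpowers g))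
      (fun x _ => Real.log_le_sub_one_of_pos (hpos x))
    rw [Finset.sum_sub_distrib, Finset.sum_const, nsmul_eq_mul, mul_one] at this
    linarith
  have hone : Finset.univ.filter (fun x : G => Subgroup.zpowers x = Subgroup.zpowers (1 : G)) =
      {1} := by
    ext x
    simp
  rw [← Finset.sum_fiberwise_of_maps_to (g := (Subgroup.zpowers : G → Subgroup G))
    (t := Finset.univ.image (Subgroup.zpowers : G → Subgroup G))
    (fun x _ => Finset.mem_image_of_mem _ (Finset.mem_univ x))] at hsum
  have hlt : ∑ C ∈ Finset.univ.image (Subgroup.zpowers : G → Subgroup G),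
      ((Finset.univ.filter fun x => Subgroup.zpowers x = C).card : ℝ) <
      ∑ C ∈ Finset.univ.image (Subgroup.zpowers : G → Subgroup G),
        ∑ x ∈ Finset.univ.filter (fun x => Subgroup.zpowers x = C), f x := by
    refine Finset.sum_lt_sum hfib
      ⟨Subgroup.zpowers 1, Finset.mem_image_of_mem _ (Finset.mem_univ _), ?_⟩
    rw [hone, Finset.card_singleton, Finset.sum_singleton]
    exact_mod_cast h1'
  have htc := Finset.card_eq_sum_card_fiberwise (s := (Finset.univ : Finset G))
    (f := (Subgroup.zpowers : G → Subgroup G))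
    (t := Finset.univ.image (Subgroup.zpowers : G → Subgroup G))
    (fun x _ => Finset.mem_image_of_mem _ (Finset.mem_univ x))
  rw [hsum, ← Nat.cast_sum, ← htc, Finset.card_univ, Nat.card_eq_fintype_card] at hlt
  exact lt_irrefl _ hlt

variable {M : Ideal AlgInt} {p : ℕ}

/-- Roots of unity of order prime to `p` are separated by `M`. -/
theorem eq_one_of_memLocalIdeal_sub_one [M.IsPrime] (hM : IsPModular p M) {n : ℕ} (hn : ¬ p ∣ n)
    {z : ℂ} (hzl : z ∈ locRing M) (hz : z ^ n = 1) (h : MemLocalIdeal M (z - 1)) : z = 1 := by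
  by_contra hne
  have hs : ∑ i ∈ Finset.range n, z ^ i = 0 := by
    have := geom_sum_mul z n
    rw [hz, sub_self, mul_eq_zero] at this
    exact this.resolve_right (sub_ne_zero.2 hne)
  have hi : ∀ i ∈ Finset.range n, MemLocalIdeal M (z ^ i - 1) := fun i _ => by
    rw [← geom_sum_mul z i]
    exact memLocalIdeal_mul_left (Subring.sum_mem _ fun j _ => Subring.pow_mem _ hzl j) h
  have hm := memLocalIdeal_sum (M := M) _ _ hi
  rw [Finset.sum_sub_distrib, hs, Finset.sum_const, Finset.card_range, nsmul_eq_mul, mul_one] at hm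
  have hm' := memLocalIdeal_neg hm
  rw [zero_sub, neg_neg] at hm'
  exact hn ((memLocalIdeal_natCast_iff hM.1 hM.2.2 n).1 hm')

variable [Fact p.Prime] [M.IsPrime]

/-- Principal block characters at elements centralizing a Sylow subgroup. -/
theorem centralChar_principal (hM : IsPModular p M) (P : Sylow p G) {c : G}
    (hc : c ∈ Subgroup.centralizer ((P : Subgroup G) : Set G)) {χ : IrrCharacter G}
    (hχ : χ ∈ principalBlock M G) :
    ¬ MemLocalIdeal M (((Subgroup.centralizer ({c} : Set G)).index : ℂ)) ∧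
      MemLocalIdeal M (centralChar (χ : G → ℂ) c - ((Subgroup.centralizer ({c} : Set G)).index : ℂ)) ∧
      (χ : G → ℂ) c ≠ 0 := by
  have h1 : ¬ MemLocalIdeal M (((Subgroup.centralizer ({c} : Set G)).index : ℂ)) := by
    rw [memLocalIdeal_natCast_iff hM.1 hM.2.2]
    have hle : (P : Subgroup G) ≤ Subgroup.centralizer ({c} : Set G) := fun a ha =>
      Subgroup.mem_centralizer_singleton_iff.2 (Subgroup.mem_centralizer_iff.1 hc a ha)
    exact fun h => P.not_dvd_index (h.trans (Subgroup.index_dvd_of_le hle))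
  have h2 : MemLocalIdeal M (centralChar (χ : G → ℂ) c - ((Subgroup.centralizer ({c} : Set G)).index : ℂ)) := by
    have := memLocalIdeal_neg (hχ c)
    simpa [centralChar] using this
  refine ⟨h1, h2, fun h0 => h1 ?_⟩
  have h3 : centralChar (χ : G → ℂ) c = 0 := by simp [centralChar, h0]
  rw [h3, zero_sub] at h2
  simpa using memLocalIdeal_neg h2

variable (N : Subgroup G) [N.Normal] [Fintype N]

theorem restrict_irr_principal (hM : IsPModular p M) (P : Sylow p G)
    (hsup : N ⊔ Subgroup.centralizer ((P : Subgroup G) : Set G) = ⊤) {χ : IrrCharacter G}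
    (hχ : χ ∈ principalBlock M G) : IsIrrCharacter N (fun n : N => (χ : G → ℂ) n) := by
  classical
  haveI := Fintype.ofFinite (IrrCharacter G)
  have hχc := IsIrrCharacter.isCharacter χ.2
  have hcf := IsCharacter.isClassFunction hχc
  set F := cosetAverage N (χ : G → ℂ) (χ : G → ℂ) with hF
  have hFcf : IsClassFunction G F := isClassFunction_cosetAverage N hcf hcf
  have hFc : IsCharacter G F := isCharacter_of_classInner_nat hFcf fun β hβ => by
    by_cases ht : ∀ n : N, β n = β 1
    · rw [hF, classInner_cosetAverage_trivial N (apply_mul_eq_of_over_one N hβ (mem_over_one_of_trivial N hβ ht))]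
      exact classInner_natCast_of_isCharacter hχc (isCharacter_mul (IsIrrCharacter.isCharacter hβ) hχc)
    · push Not at ht
      exact ⟨0, by rw [hF, classInner_cosetAverage_nontrivial N hβ ht, Nat.cast_zero]⟩
  let f : G → ℝ := fun g => (Nat.card N : ℝ)⁻¹ * ∑ n : N, Complex.normSq ((χ : G → ℂ) ((n : G) * g))
  have hf : ∀ g, F g = f g := fun g => by
    simp only [hF, cosetAverage, f]
    push_cast
    simp only [Complex.mul_conj]
  have hNpos : (0 : ℝ) < Nat.card N := Nat.cast_pos.2 Nat.card_pos
  have hpos : ∀ g, 0 < f g := fun g => by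
    have hg : g ∈ N ⊔ Subgroup.centralizer ((P : Subgroup G) : Set G) := by rw [hsup]; trivial
    obtain ⟨a, ha, c, hc, rfl⟩ := Subgroup.mem_sup_of_normal_left.1 hg
    refine mul_pos (inv_pos.2 hNpos) (Finset.sum_pos' (fun n _ => Complex.normSq_nonneg _)
      ⟨⟨a⁻¹, N.inv_mem ha⟩, Finset.mem_univ _, ?_⟩)
    rw [show a⁻¹ * (a * c) = c by group]
    exact Complex.normSq_pos.2 (centralChar_principal hM P hc hχ).2.2
  have hsum : ∑ g, f g = Nat.card G := by
    have h2 := IsIrrCharacter.classInner_self χ.2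
    simp only [classInner, Complex.mul_conj] at h2
    rw [inv_mul_eq_div, div_eq_one_iff_eq (Nat.cast_ne_zero.mpr Nat.card_pos.ne'),
      ← Complex.ofReal_sum] at h2
    have h3 : ∑ g : G, Complex.normSq ((χ : G → ℂ) g) = Nat.card G := by exact_mod_cast h2
    simp only [f]
    rw [← Finset.mul_sum, Finset.sum_comm]
    have key : ∀ n : N, ∑ g : G, Complex.normSq ((χ : G → ℂ) ((n : G) * g)) = Nat.card G := fun n => by
      rw [← h3]
      exact Fintype.sum_equiv (Equiv.mulLeft (n : G)) _ _ fun g => rfl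
    rw [Finset.sum_congr rfl fun n _ => key n, Finset.sum_const, Finset.card_univ, nsmul_eq_mul,
      ← Nat.card_eq_fintype_card, ← mul_assoc, inv_mul_cancel₀ hNpos.ne', one_mul]
  have hres := isCharacter_comp hχc N.subtype
  have h11 : classInner (fun n : N => (χ : G → ℂ) n) (fun n : N => (χ : G → ℂ) n) = F 1 := by
    simp [classInner, hF, cosetAverage]
  obtain ⟨k, hk⟩ := classInner_natCast_of_isCharacter hres hres
  change classInner (fun n : N => (χ : G → ℂ) n) (fun n : N => (χ : G → ℂ) n) = (k : ℂ) at hk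
  have hfk : f 1 = (k : ℝ) := by
    have := (hf 1).symm.trans (h11.symm.trans hk)
    exact_mod_cast this
  have hk1 : 1 ≤ k := by
    have := hpos 1
    rw [hfk] at this
    exact_mod_cast this
  have hk' := apply_one_eq_one_of_nonvanishing hFc f hf hpos hsum (by rw [hfk]; exact_mod_cast hk1)
  refine isIrrCharacter_iff.2 ⟨hres, ?_⟩
  rw [h11, hf 1, hk']
  norm_num

/-- The Alperin–Dade restriction theorem for principal blocks. -/
theorem principal_restriction (hM : IsPModular p M) (hidx : ¬ p ∣ N.index) (P : Sylow p G)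
    (hsup : N ⊔ Subgroup.centralizer ((P : Subgroup G) : Set G) = ⊤) :
    (∀ χ ∈ principalBlock M G, ∃ θ ∈ principalBlock M N, ∀ n : N, (χ : G → ℂ) n = (θ : N → ℂ) n) ∧
      ∀ θ ∈ principalBlock M N, ∃! χ : IrrCharacter G,
        χ ∈ principalBlock M G ∧ ∀ n : N, (χ : G → ℂ) n = (θ : N → ℂ) n := by
  classical
  let oneN : IrrCharacter N := ⟨1, isIrrCharacter_one⟩
  let oneG : IrrCharacter G := ⟨1, isIrrCharacter_one⟩
  have hb : IsPBlock M (principalBlock M N) := ⟨oneN, rfl⟩
  have hB : IsPBlock M (principalBlock M G) := ⟨oneG, rfl⟩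
  have hone : oneN ∈ principalBlock M N := self_mem_blockOf oneN
  have hc1 : classInner (fun n : N => (oneG : G → ℂ) n) (oneN : N → ℂ) ≠ 0 := by
    show classInner (oneN : N → ℂ) (oneN : N → ℂ) ≠ 0
    rw [IsIrrCharacter.classInner_self oneN.2]
    exact one_ne_zero
  have hcov : Covers (principalBlock M G) (principalBlock M N) :=
    ⟨oneG, self_mem_blockOf oneG, oneN, hone, hc1⟩
  refine ⟨fun χ hχ => ?_, fun θ hθ => ?_⟩
  · have hirr := restrict_irr_principal N hM P hsup hχ
    obtain ⟨θ', hθ', h'⟩ := exists_constituent_of_sameBlock hb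
      (isPBlock_sameBlock hB (self_mem_blockOf oneG) hχ) hone hc1
    suffices h : (fun n : N => (χ : G → ℂ) n) = (θ' : N → ℂ) from ⟨θ', hθ', fun n => congrFun h n⟩
    by_contra hne
    exact h' (IsIrrCharacter.classInner_eq_zero hirr θ'.2 hne)
  obtain ⟨χ, hχ, hc⟩ := exists_constituent_of_covers hM hB hb hcov hθ
  have hresf : (fun n : N => (χ : G → ℂ) n) = (θ : N → ℂ) := by
    by_contra hne
    exact hc (IsIrrCharacter.classInner_eq_zero (restrict_irr_principal N hM P hsup hχ) θ.2 hne)
  have hres : ∀ n : N, (χ : G → ℂ) n = (θ : N → ℂ) n := fun n => congrFun hresf n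
  refine ⟨χ, ⟨hχ, hres⟩, fun χ' hχ' => ?_⟩
  obtain ⟨hχ'B, hres'⟩ := hχ'
  have hirr := restrict_irr_principal N hM P hsup hχ
  have hinv : ∀ g, Cfsg.Agent.Char.conjChar N g (fun n : N => (χ : G → ℂ) n) = fun n : N => (χ : G → ℂ) n := fun g => by
    funext n
    exact IsCharacter.isClassFunction (IsIrrCharacter.isCharacter χ.2) (n : G) g
  have honep : ((1 : N → ℂ) * fun n : N => (χ : G → ℂ) n) = fun n : N => (χ : G → ℂ) n := one_mul _
  have hbij := gallagher N isIrrCharacter_one (fun g => rfl) hinv (honep.symm ▸ hirr) χ.2 (fun n => rfl)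
  rw [honep] at hbij
  have hmem : classInner (indFun N (fun n : N => (χ : G → ℂ) n)) (χ' : G → ℂ) ≠ 0 := by
    rw [classInner_indFun N _ (IsCharacter.isClassFunction (IsIrrCharacter.isCharacter χ'.2))]
    rw [show (fun n : N => (χ' : G → ℂ) n) = fun n : N => (χ : G → ℂ) n from
      funext fun n => (hres' n).trans (hres n).symm, IsIrrCharacter.classInner_self hirr]
    exact one_ne_zero
  obtain ⟨β, ⟨hβ, hβne⟩, hβe⟩ := hbij.surjOn ⟨χ'.2, hmem⟩
  dsimp only at hβe
  have hβ1 : β 1 = 1 := by
    have h := congrFun hβe 1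
    rw [Pi.mul_apply, show (χ' : G → ℂ) 1 = (χ : G → ℂ) 1 from
      (hres' 1).trans (hres 1).symm] at h
    exact (mul_eq_right₀ (IsIrrCharacter.apply_one_ne_zero χ.2)).1 h
  obtain ⟨l, hl⟩ := IsCharacter.exists_monoidHom (IsIrrCharacter.isCharacter hβ) hβ1
  have htriv : ∀ n : N, β n = 1 := fun n => by
    have := apply_mul_eq_of_over_one N hβ hβne n 1
    rw [mul_one, hβ1] at this
    exact this
  have hβc : ∀ c ∈ Subgroup.centralizer ((P : Subgroup G) : Set G), β c = 1 := fun c hc' => by
    obtain ⟨hu, hcong, -⟩ := centralChar_principal hM P hc' hχ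
    obtain ⟨-, hcong', -⟩ := centralChar_principal hM P hc' hχ'B
    have he : centralChar (χ' : G → ℂ) c = β c * centralChar (χ : G → ℂ) c := by
      rw [← hβe]
      simp only [centralChar, Pi.mul_apply, hβ1]
      ring
    rw [he] at hcong'
    have hβl : β c ∈ locRing M := character_mem_locRing (IsIrrCharacter.isCharacter hβ) c
    have h3 : MemLocalIdeal M ((β c - 1) * ((Subgroup.centralizer ({c} : Set G)).index : ℂ)) := by
      have := memLocalIdeal_sub hcong' (memLocalIdeal_mul_left hβl hcong)
      convert this using 1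
      ring
    refine eq_one_of_memLocalIdeal_sub_one hM hidx hβl ?_ ((memLocalIdeal_of_mul
      (sub_mem hβl (Subring.one_mem _)) (natCast_mem _ _) h3).resolve_right hu)
    have hpow : c ^ N.index ∈ N := Subgroup.pow_index_mem N c
    have := htriv ⟨_, hpow⟩
    rw [hl] at this ⊢
    simpa [map_pow] using this
  apply Subtype.ext
  rw [← hβe]
  funext g
  have hg : g ∈ N ⊔ Subgroup.centralizer ((P : Subgroup G) : Set G) := by rw [hsup]; trivial
  obtain ⟨a, ha, c, hc', rfl⟩ := Subgroup.mem_sup_of_normal_left.1 hg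
  rw [Pi.mul_apply, apply_mul_eq_of_over_one N hβ hβne ⟨a, ha⟩ c, hβc c hc', one_mul]

end Cfsg.Agent.Block
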