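import Cfsg.Agent.Lib.Block.Omega

/-!
# Blocks: block idempotents have local integral coefficients
-/

set_option autoImplicit false

open scoped ComplexConjugate
open Cfsg.Agent.Char

namespace Cfsg.Agent.Block

universe u

variable {G : Type u} [Group G] {M : Ideal AlgInt} [hMp : M.IsPrime]

theorem prime_of_isPModular {p : ℕ} {M : Ideal AlgInt} (hM : IsPModular p M) : M.IsPrime :=
  hM.2.1.isPrime

/-! ## The local ideal -/

theorem memLocalIdeal_zero : MemLocalIdeal M 0 := ⟨0, 1, M.zero_mem, one_notMem, by simp⟩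

theorem mem_locRing_of_memLocalIdeal {z : ℂ} (h : MemLocalIdeal M z) : z ∈ locRing M :=
  (memLocalIdeal_iff.1 h).1

theorem memLocalIdeal_add {x y : ℂ} (hx : MemLocalIdeal M x) (hy : MemLocalIdeal M y) :
    MemLocalIdeal M (x + y) := by
  have hxm := mem_locRing_of_memLocalIdeal hx
  have hym := mem_locRing_of_memLocalIdeal hy
  have := Ideal.add_mem _ ((mem_maximalIdeal_locRing ⟨x, hxm⟩).2 hx)
    ((mem_maximalIdeal_locRing ⟨y, hym⟩).2 hy)
  exact (mem_maximalIdeal_locRing _).1 this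

theorem memLocalIdeal_neg {x : ℂ} (hx : MemLocalIdeal M x) : MemLocalIdeal M (-x) := by
  obtain ⟨a, b, ha, hb, rfl⟩ := hx
  exact ⟨-a, b, M.neg_mem ha, hb, by push_cast; ring⟩

theorem memLocalIdeal_sub {x y : ℂ} (hx : MemLocalIdeal M x) (hy : MemLocalIdeal M y) :
    MemLocalIdeal M (x - y) := by
  rw [sub_eq_add_neg]; exact memLocalIdeal_add hx (memLocalIdeal_neg hy)

theorem memLocalIdeal_mul_left {r x : ℂ} (hr : r ∈ locRing M) (hx : MemLocalIdeal M x) :
    MemLocalIdeal M (r * x) := by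
  obtain ⟨a, b, hb, rfl⟩ := hr
  obtain ⟨c, d, hc, hd, rfl⟩ := hx
  exact ⟨a * c, b * d, M.mul_mem_left a hc, fun h => (hMp.mem_or_mem h).elim hb hd,
    by push_cast; rw [div_mul_div_comm]⟩

theorem memLocalIdeal_mul_right {r x : ℂ} (hr : r ∈ locRing M) (hx : MemLocalIdeal M x) :
    MemLocalIdeal M (x * r) := mul_comm r x ▸ memLocalIdeal_mul_left hr hx

theorem memLocalIdeal_sum {ι : Type*} (s : Finset ι) (f : ι → ℂ)
    (h : ∀ i ∈ s, MemLocalIdeal M (f i)) : MemLocalIdeal M (∑ i ∈ s, f i) :=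
  Finset.sum_induction f (MemLocalIdeal M) (fun _ _ => memLocalIdeal_add) memLocalIdeal_zero h

theorem not_memLocalIdeal_one : ¬ MemLocalIdeal M (1 : ℂ) := by
  rw [show (1 : ℂ) = ((1 : AlgInt) : ℂ) from rfl, memLocalIdeal_algInt_iff]
  exact one_notMem

theorem memLocalIdeal_of_mul {x y : ℂ} (hx : x ∈ locRing M) (hy : y ∈ locRing M)
    (h : MemLocalIdeal M (x * y)) : MemLocalIdeal M x ∨ MemLocalIdeal M y := by
  obtain ⟨a, b, hb, rfl⟩ := hx
  obtain ⟨c, d, hd, rfl⟩ := hy
  rw [div_mul_div_comm] at h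
  have h2 : MemLocalIdeal M ((a * c : AlgInt) : ℂ) := by
    have := memLocalIdeal_mul_left (algInt_mem_locRing (M := M) (b * d)) h
    push_cast at this ⊢
    rwa [mul_div_cancel₀ _ (mul_ne_zero (coe_ne_zero_of_notMem hb) (coe_ne_zero_of_notMem hd))] at this
  rcases hMp.mem_or_mem ((memLocalIdeal_algInt_iff _).1 h2) with h | h
  · exact Or.inl ⟨a, b, h, hb, rfl⟩
  · exact Or.inr ⟨c, d, h, hd, rfl⟩

theorem inv_mem_locRing {x : ℂ} (hx : x ∈ locRing M) (h : ¬ MemLocalIdeal M x) :
    x⁻¹ ∈ locRing M := by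
  obtain ⟨a, b, hb, rfl⟩ := hx
  rw [inv_div]
  exact ⟨b, a, fun ha => h ⟨a, b, ha, hb, rfl⟩, rfl⟩

theorem not_memLocalIdeal_congr {x y : ℂ} (h : MemLocalIdeal M (x - y))
    (hy : ¬ MemLocalIdeal M y) : ¬ MemLocalIdeal M x := fun hx =>
  hy (by simpa using memLocalIdeal_sub hx h)

theorem memLocalIdeal_mul_sub_mul {a b c d : ℂ} (hb : b ∈ locRing M) (hc : c ∈ locRing M)
    (hac : MemLocalIdeal M (a - c)) (hbd : MemLocalIdeal M (b - d)) :
    MemLocalIdeal M (a * b - c * d) := by
  rw [show a * b - c * d = (a - c) * b + c * (b - d) by ring]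
  exact memLocalIdeal_add (memLocalIdeal_mul_right hb hac) (memLocalIdeal_mul_left hc hbd)

/-! ## Elements with local integral coefficients -/

/-- All coefficients are local integers. -/
def IsLocElt (M : Ideal AlgInt) (a : MonoidAlgebra ℂ G) : Prop :=
  ∀ g, MemLocalRing M (a.coeff g)

theorem IsLocElt.one : IsLocElt M (1 : MonoidAlgebra ℂ G) := by
  classical
  intro g
  rw [← mem_locRing, MonoidAlgebra.one_def, MonoidAlgebra.coeff_single, Finsupp.single_apply]
  split <;> simp

theorem IsLocElt.zero : IsLocElt M (0 : MonoidAlgebra ℂ G) := fun g => by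
  rw [← mem_locRing]; simp

theorem IsLocElt.add {a b : MonoidAlgebra ℂ G} (ha : IsLocElt M a) (hb : IsLocElt M b) :
    IsLocElt M (a + b) := fun g => by
  rw [← mem_locRing, MonoidAlgebra.coeff_add]; exact add_mem (ha g) (hb g)

theorem IsLocElt.smul {a : MonoidAlgebra ℂ G} (ha : IsLocElt M a) {c : ℂ} (hc : c ∈ locRing M) :
    IsLocElt M (c • a) := fun g => by
  rw [← mem_locRing, MonoidAlgebra.coeff_smul]; exact mul_mem hc (ha g)

theorem IsLocElt.sub {a b : MonoidAlgebra ℂ G} (ha : IsLocElt M a) (hb : IsLocElt M b) :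
    IsLocElt M (a - b) := fun g => by
  rw [← mem_locRing, MonoidAlgebra.coeff_sub]; exact sub_mem (ha g) (hb g)

theorem IsLocElt.mul [Finite G] {a b : MonoidAlgebra ℂ G} (ha : IsLocElt M a) (hb : IsLocElt M b) :
    IsLocElt M (a * b) := fun g => by
  rw [← mem_locRing, MonoidAlgebra.coeff_mul_apply_left]
  exact Subring.sum_mem _ fun x _ => mul_mem (ha x) (hb _)

theorem IsLocElt.sum {ι : Type*} (s : Finset ι) (f : ι → MonoidAlgebra ℂ G)
    (h : ∀ i ∈ s, IsLocElt M (f i)) : IsLocElt M (∑ i ∈ s, f i) :=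
  Finset.sum_induction f (IsLocElt M) (fun _ _ => IsLocElt.add) IsLocElt.zero h

theorem isLocElt_classSum [Finite G] (g : G) : IsLocElt M (classSum g) := fun x => by
  classical
  rw [← mem_locRing, classSum, coeff_mkA]
  split
  · exact one_mem _
  · exact zero_mem _

/-- A representative of a conjugacy class. -/
noncomputable def classRep (C : ConjClasses G) : G := C.exists_rep.choose

theorem mk_classRep (C : ConjClasses G) : ConjClasses.mk (classRep C) = C := C.exists_rep.choose_spec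

theorem isConj_classRep_mk (g : G) : IsConj g (classRep (ConjClasses.mk g)) :=
  (ConjClasses.mk_eq_mk_iff_isConj.1 (mk_classRep _)).symm

theorem eq_sum_classSum [Finite G] [Fintype (ConjClasses G)] {a : MonoidAlgebra ℂ G}
    (ha : IsCentralElt a) : a = ∑ C : ConjClasses G, a.coeff (classRep C) • classSum (classRep C) := by
  classical
  refine MonoidAlgebra.ext (Finsupp.ext fun g => ?_)
  simp only [MonoidAlgebra.coeff_sum, Finsupp.finsetSum_apply, MonoidAlgebra.coeff_smul,
    Finsupp.smul_apply, classSum, coeff_mkA, smul_eq_mul, mul_ite, mul_one, mul_zero]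
  rw [Finset.sum_eq_single (ConjClasses.mk g), if_pos (isConj_classRep_mk g).symm]
  · exact IsClassFunction.apply_isConj ha (isConj_classRep_mk g)
  · intro C _ hC
    rw [if_neg]
    intro h
    exact hC (by rw [← mk_classRep C, ConjClasses.mk_eq_mk_iff_isConj.2 h])
  · simp

theorem omega_eq_sum_classes [Finite G] [Fintype (ConjClasses G)] (χ : IrrCharacter G)
    {a : MonoidAlgebra ℂ G} (ha : IsCentralElt a) :
    omega (χ : G → ℂ) a =
      ∑ C : ConjClasses G, a.coeff (classRep C) * centralChar (χ : G → ℂ) (classRep C) := by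
  conv_lhs => rw [eq_sum_classSum ha]
  simp [omega_sum, omega_smul, omega_classSum]

theorem centralChar_mem_locRing [Finite G] (χ : IrrCharacter G) (g : G) :
    centralChar (χ : G → ℂ) g ∈ locRing M := isIntegral_mem_locRing (isIntegral_centralChar χ g)

theorem character_mem_locRing [Finite G] {χ : G → ℂ} (hχ : IsCharacter G χ) (g : G) :
    χ g ∈ locRing M := isIntegral_mem_locRing (isIntegral_character hχ g)

theorem irr_mem_locRing [Finite G] (χ : IrrCharacter G) (g : G) : (χ : G → ℂ) g ∈ locRing M :=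
  character_mem_locRing (IsIrrCharacter.isCharacter χ.2) g

theorem omega_mem_locRing [Finite G] (χ : IrrCharacter G) {a : MonoidAlgebra ℂ G}
    (ha : IsCentralElt a) (hl : IsLocElt M a) : omega (χ : G → ℂ) a ∈ locRing M := by
  haveI := Fintype.ofFinite (ConjClasses G)
  rw [omega_eq_sum_classes χ ha]
  exact Subring.sum_mem _ fun C _ => mul_mem (hl _) (centralChar_mem_locRing χ _)

/-! ## The block relation -/

theorem sameBlock_refl (χ : G → ℂ) : SameBlock M χ χ := fun g => by
  rw [sub_self]; exact memLocalIdeal_zero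

theorem sameBlock_symm {χ ψ : G → ℂ} (h : SameBlock M χ ψ) : SameBlock M ψ χ := fun g => by
  rw [← neg_sub]; exact memLocalIdeal_neg (h g)

theorem sameBlock_trans {χ ψ φ : G → ℂ} (h : SameBlock M χ ψ) (h' : SameBlock M ψ φ) :
    SameBlock M χ φ := fun g => by
  simpa using memLocalIdeal_add (h g) (h' g)

theorem mem_blockOf {χ : G → ℂ} {ψ : IrrCharacter G} :
    ψ ∈ blockOf M χ ↔ SameBlock M χ (ψ : G → ℂ) := Iff.rfl

theorem self_mem_blockOf (χ : IrrCharacter G) : χ ∈ blockOf M (χ : G → ℂ) := sameBlock_refl _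

theorem blockOf_eq_of_mem {χ : G → ℂ} {ψ : IrrCharacter G} (h : ψ ∈ blockOf M χ) :
    blockOf M (ψ : G → ℂ) = blockOf M χ := by
  ext φ
  exact ⟨fun h' => sameBlock_trans h h', fun h' => sameBlock_trans (sameBlock_symm h) h'⟩

theorem isPBlock_eq_blockOf {B : Set (IrrCharacter G)} (hB : IsPBlock M B) {χ : IrrCharacter G}
    (hχ : χ ∈ B) : B = blockOf M (χ : G → ℂ) := by
  obtain ⟨ψ, rfl⟩ := hB
  exact (blockOf_eq_of_mem hχ).symm

theorem isPBlock_nonempty {B : Set (IrrCharacter G)} (hB : IsPBlock M B) : B.Nonempty := by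
  obtain ⟨ψ, rfl⟩ := hB
  exact ⟨ψ, self_mem_blockOf ψ⟩

theorem isPBlock_sameBlock {B : Set (IrrCharacter G)} (hB : IsPBlock M B) {χ ψ : IrrCharacter G}
    (hχ : χ ∈ B) (hψ : ψ ∈ B) : SameBlock M (χ : G → ℂ) (ψ : G → ℂ) := by
  rw [(isPBlock_eq_blockOf hB) hχ] at hψ; exact hψ

theorem isPBlock_mem_iff {B : Set (IrrCharacter G)} (hB : IsPBlock M B) {χ ψ : IrrCharacter G}
    (hχ : χ ∈ B) : ψ ∈ B ↔ SameBlock M (χ : G → ℂ) (ψ : G → ℂ) := by
  rw [(isPBlock_eq_blockOf hB) hχ]; rfl

theorem isPBlock_blockOf (χ : IrrCharacter G) : IsPBlock M (blockOf M (χ : G → ℂ)) := ⟨χ, rfl⟩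

theorem isPBlock_eq_of_mem {B B' : Set (IrrCharacter G)} (hB : IsPBlock M B) (hB' : IsPBlock M B')
    {χ : IrrCharacter G} (h : χ ∈ B) (h' : χ ∈ B') : B = B' := by
  rw [isPBlock_eq_blockOf hB h, isPBlock_eq_blockOf hB' h']

theorem omega_congr [Finite G] {χ ψ : IrrCharacter G}
    (h : SameBlock M (χ : G → ℂ) (ψ : G → ℂ)) {a : MonoidAlgebra ℂ G}
    (ha : IsCentralElt a) (hl : IsLocElt M a) :
    MemLocalIdeal M (omega (χ : G → ℂ) a - omega (ψ : G → ℂ) a) := by
  haveI := Fintype.ofFinite (ConjClasses G)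
  rw [omega_eq_sum_classes χ ha, omega_eq_sum_classes ψ ha, ← Finset.sum_sub_distrib]
  refine memLocalIdeal_sum _ _ fun C _ => ?_
  rw [← mul_sub]
  exact memLocalIdeal_mul_left (hl _) (h _)

/-! ## Block idempotents -/

theorem exists_separating [Finite G] {B : Set (IrrCharacter G)} (hB : IsPBlock M B)
    (s : Finset (IrrCharacter G)) (hs : ∀ ψ ∈ s, ψ ∉ B) :
    ∃ u : MonoidAlgebra ℂ G, IsCentralElt u ∧ IsLocElt M u ∧
      (∀ ψ ∈ s, omega (ψ : G → ℂ) u = 0) ∧
      ∀ χ ∈ B, ¬ MemLocalIdeal M (omega (χ : G → ℂ) u) := by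
  classical
  induction s using Finset.induction_on with
  | empty =>
    refine ⟨1, IsCentralElt.one, IsLocElt.one, by simp, fun χ _ => ?_⟩
    rw [omega_one (IsIrrCharacter.apply_one_ne_zero χ.2)]
    exact not_memLocalIdeal_one
  | insert ψ s hψs ih =>
    obtain ⟨u, hu, hul, hus, huB⟩ := ih fun φ hφ => hs φ (Finset.mem_insert_of_mem hφ)
    obtain ⟨χ₀, hχ₀⟩ := (isPBlock_nonempty hB)
    have hψ : ψ ∉ B := hs ψ (Finset.mem_insert_self _ _)
    rw [(isPBlock_mem_iff hB) hχ₀, SameBlock, not_forall] at hψ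
    obtain ⟨g, hg⟩ := hψ
    set v := classSum g - centralChar (ψ : G → ℂ) g • (1 : MonoidAlgebra ℂ G)
    have hv : IsCentralElt v := (isCentralElt_classSum g).sub (IsCentralElt.one.smul _)
    have hvl : IsLocElt M v :=
      (isLocElt_classSum g).sub (IsLocElt.one.smul (centralChar_mem_locRing ψ g))
    have hom : ∀ φ : IrrCharacter G, omega (φ : G → ℂ) v =
        centralChar (φ : G → ℂ) g - centralChar (ψ : G → ℂ) g := fun φ => by
      simp [v, omega_sub, omega_smul, omega_classSum, omega_one (IsIrrCharacter.apply_one_ne_zero φ.2)]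
    refine ⟨u * v, hu.mul hv, hul.mul hvl, fun φ hφ => ?_, fun χ hχ => ?_⟩
    · rw [omega_mul φ hu hv]
      rcases Finset.mem_insert.1 hφ with rfl | h
      · rw [hom, sub_self, mul_zero]
      · rw [hus φ h, zero_mul]
    · rw [omega_mul χ hu hv, hom]
      intro h
      rcases memLocalIdeal_of_mul (omega_mem_locRing χ hu hul)
        (sub_mem (centralChar_mem_locRing χ g) (centralChar_mem_locRing ψ g)) h with h | h
      · exact huB χ hχ h
      · exact hg (by simpa using memLocalIdeal_add ((isPBlock_sameBlock hB) hχ₀ hχ g) h)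

/-- Osima: the idempotent of a block has local integral coefficients. -/
theorem isLocElt_blockIdem [Finite G] {B : Set (IrrCharacter G)} (hB : IsPBlock M B) :
    IsLocElt M (blockIdem B) := by
  classical
  haveI := Fintype.ofFinite (IrrCharacter G)
  obtain ⟨u, hu, hul, hu0, huB⟩ := exists_separating hB (Finset.univ.filter (· ∉ B))
    fun ψ hψ => (Finset.mem_filter.1 hψ).2
  suffices h : ∀ t : Finset (IrrCharacter G), (∀ χ ∈ t, χ ∈ B) →
      ∃ e : MonoidAlgebra ℂ G, IsCentralElt e ∧ IsLocElt M e ∧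
        (∀ χ ∈ t, omega (χ : G → ℂ) e = 1) ∧ ∀ ψ, ψ ∉ B → omega (ψ : G → ℂ) e = 0 by
    obtain ⟨e, he, hel, he1, he0⟩ := h (Finset.univ.filter (· ∈ B)) fun χ hχ => (Finset.mem_filter.1 hχ).2
    have : blockIdem B = e := eq_of_omega_eq (isCentralElt_blockIdem B) he fun χ => by
      rw [omega_blockIdem]
      split
      next h => rw [he1 χ (by simp [h])]
      next h => rw [he0 χ h]
    rwa [this]
  intro t
  induction t using Finset.induction_on with
  | empty => exact fun _ => ⟨0, IsCentralElt.zero, IsLocElt.zero, by simp, fun _ _ => omega_zero _⟩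
  | insert χ t hχt ih =>
    intro ht
    obtain ⟨e, he, hel, he1, he0⟩ := ih fun φ hφ => ht φ (Finset.mem_insert_of_mem hφ)
    have hc := inv_mem_locRing (omega_mem_locRing χ hu hul) (huB χ (ht χ (Finset.mem_insert_self _ _)))
    have hc0 : omega (χ : G → ℂ) u ≠ 0 := fun h =>
      huB χ (ht χ (Finset.mem_insert_self _ _)) (h ▸ memLocalIdeal_zero)
    set f := (omega (χ : G → ℂ) u)⁻¹ • u
    have hf : IsCentralElt f := hu.smul _
    have hfl : IsLocElt M f := hul.smul hc
    have hom : ∀ φ : IrrCharacter G, omega (φ : G → ℂ) (e + f - e * f) =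
        1 - (1 - omega (φ : G → ℂ) e) * (1 - omega (φ : G → ℂ) f) := fun φ => by
      rw [omega_sub, omega_add, omega_mul φ he hf]; ring
    refine ⟨e + f - e * f, (he.add hf).sub (he.mul hf), (hel.add hfl).sub (hel.mul hfl),
      fun φ hφ => ?_, fun φ hφ => ?_⟩
    · rw [hom]
      rcases Finset.mem_insert.1 hφ with rfl | h
      · rw [show omega (φ : G → ℂ) f = 1 by rw [omega_smul, inv_mul_cancel₀ hc0]]; ring
      · rw [he1 φ h]; ring
    · rw [hom, he0 φ hφ, omega_smul, hu0 φ (by simp [hφ])]; ring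

theorem blockCoeff_mem_locRing [Finite G] {B : Set (IrrCharacter G)} (hB : IsPBlock M B) (g : G) :
    blockCoeff B g ∈ locRing M := by
  have := isLocElt_blockIdem hB g
  simp only [blockIdem, coeff_mkA] at this
  exact this

/-- A set of characters whose idempotent is locally integral is a union of blocks. -/
theorem mem_of_sameBlock_of_isLocElt [Finite G] {A : Set (IrrCharacter G)}
    (hA : IsLocElt M (blockIdem A)) {χ ψ : IrrCharacter G} (hχ : χ ∈ A)
    (h : SameBlock M (χ : G → ℂ) (ψ : G → ℂ)) : ψ ∈ A := by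
  classical
  by_contra hψ
  have := omega_congr h (isCentralElt_blockIdem A) hA
  rw [omega_blockIdem, omega_blockIdem, if_pos hχ, if_neg hψ, sub_zero] at this
  exact not_memLocalIdeal_one this

theorem centralChar_unit_congr {B : Set (IrrCharacter G)} (hB : IsPBlock M B) {χ ψ : IrrCharacter G}
    (hχ : χ ∈ B) (hψ : ψ ∈ B) {g : G} (h : ¬ MemLocalIdeal M (centralChar (χ : G → ℂ) g)) :
    ¬ MemLocalIdeal M (centralChar (ψ : G → ℂ) g) :=
  not_memLocalIdeal_congr ((isPBlock_sameBlock hB) hψ hχ g) h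

theorem exists_isDefectClass [Finite G] {B : Set (IrrCharacter G)} (hB : IsPBlock M B) :
    ∃ g, IsDefectClass M B g := by
  classical
  haveI := Fintype.ofFinite (ConjClasses G)
  obtain ⟨χ, hχ⟩ := (isPBlock_nonempty hB)
  have h1 : omega (χ : G → ℂ) (blockIdem B) = 1 := by rw [omega_blockIdem, if_pos hχ]
  rw [omega_eq_sum_classes χ (isCentralElt_blockIdem B)] at h1
  obtain ⟨C, hC⟩ : ∃ C : ConjClasses G,
      ¬ MemLocalIdeal M ((blockIdem B).coeff (classRep C) * centralChar (χ : G → ℂ) (classRep C)) := by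
    by_contra! h
    exact not_memLocalIdeal_one (M := M) (h1 ▸ memLocalIdeal_sum _ _ fun C _ => h C)
  simp only [blockIdem, coeff_mkA] at hC
  refine ⟨classRep C, blockCoeff_mem_locRing hB _, fun h => hC ?_, fun ψ hψ => ?_⟩
  · exact memLocalIdeal_mul_right (centralChar_mem_locRing χ _) h
  · exact centralChar_unit_congr hB hχ hψ fun h =>
      hC (memLocalIdeal_mul_left (blockCoeff_mem_locRing hB _) h)

end Cfsg.Agent.Block
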