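import Cfsg.Agent.Lib.Block.BlockSaturation
import Cfsg.Agent.Lib.Fusion.Alperin

/-!
# Nilpotent blocks and their fusion systems
-/

set_option autoImplicit false

open Cfsg.Agent.Char
open scoped ComplexConjugate Pointwise

namespace Cfsg.Agent.Block

universe u

local notation "CG(" P ")" => Subgroup.centralizer (SetLike.coe P)

variable {G : Type u} [Group G] [Finite G] {M : Ideal AlgInt} [hMp : M.IsPrime] {p : ℕ}
  [Fact p.Prime] {B : Set (IrrCharacter G)} {P Q : Subgroup G}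
  {e : Set (IrrCharacter (Subgroup.centralizer (P : Set G)))}
  {f : Set (IrrCharacter (Subgroup.centralizer (Q : Set G)))} {F : FusionSystem P}

omit [Finite G] hMp [Fact p.Prime] in
theorem stabAct_eq_one_iff {T : Subgroup G} {hTN : T ≤ Subgroup.normalizer (Q : Set G)} (t : T) :
    stabAct Q T hTN t = 1 ↔ (t : G) ∈ Subgroup.centralizer (Q : Set G) := by
  rw [Subgroup.mem_centralizer_iff]
  constructor
  · intro h q hq
    have h2 := congrArg (fun a : MulAut Q => ((a ⟨q, hq⟩ : Q) : G)) h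
    change (t : G) * q * (t : G)⁻¹ = q at h2
    conv_lhs => rw [← h2]
    group
  · intro h
    refine MulEquiv.ext fun q => Subtype.ext ?_
    show (t : G) * (q : G) * (t : G)⁻¹ = (q : G)
    rw [← h q q.2, mul_inv_cancel_right]

theorem isPGroup_autGroup_of_nilpotent (hM : IsPModular p M) (hmax : IsMaximalBrauerPair p M B P e)
    (hF : IsBlockFusionSystemOn p M B P e F) (hnil : IsNilpotentBlock p M B) (hQ : Q ≤ P) :
    IsPGroup p (F.autGroup Q) := by
  obtain ⟨f, hle, -⟩ := existsUnique_subpair hM P e hmax.1.1 Q hQ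
  have hpair := (SubpairLE.pairOf_iff hM hle B).1 hmax.1
  obtain ⟨T, hT⟩ := stab_exists hpair.1.2
  rw [autGroup_blockSystem hM hmax hF hle hT]
  rintro ⟨_, t, rfl⟩
  refine ⟨(orderOf t).factorization p, Subtype.ext ?_⟩
  show (stabAct Q T hT.le_normalizer t) ^ (p ^ (orderOf t).factorization p) = 1
  rw [← map_pow, stabAct_eq_one_iff]
  set u := t ^ (p ^ (orderOf t).factorization p)
  refine hnil.2 Q f hpair (u : G) (hT.le_normalizer u.2) ((hT _).1 u.2).2 ?_
  rw [IsPRegular, Subgroup.orderOf_coe,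
    orderOf_pow_of_dvd (pow_ne_zero _ (Fact.out : p.Prime).ne_zero) (Nat.ordProj_dvd _ _)]
  exact Nat.not_dvd_ordCompl Fact.out (orderOf_pos t).ne'

theorem nilpotent_of_isPGroup_autGroup (hM : IsPModular p M) (hmax : IsMaximalBrauerPair p M B P e)
    (hF : IsBlockFusionSystemOn p M B P e F)
    (h : ∀ Q : Subgroup G, Q ≤ P → IsPGroup p (F.autGroup Q)) : IsNilpotentBlock p M B := by
  refine ⟨hmax.1.2.1, fun Q f hQf g hgN hgst hreg => ?_⟩
  obtain ⟨x, hx⟩ := exists_conj_le_maximal hM hmax hQf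
  obtain ⟨T, hT⟩ := stab_exists hQf.1.2
  have hT' := hT.map hQf.1.2 x
  have hgT : g ∈ T := (hT g).2 ⟨hgN, hgst⟩
  set y : T.map (MulAut.conj x).toMonoidHom := ⟨x * g * x⁻¹, g, hgT, rfl⟩ with hy
  have hA := h _ (SubpairLE.le hx)
  rw [autGroup_blockSystem hM hmax hF hx hT'] at hA
  have h1 : stabAct _ _ hT'.le_normalizer y = 1 := by
    obtain ⟨k, hk⟩ := IsPGroup.iff_orderOf.1 hA ⟨_, y, rfl⟩
    replace hk : orderOf (stabAct _ _ hT'.le_normalizer y) = p ^ k := by
      rw [← hk]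
      exact Subgroup.orderOf_coe (⟨_, y, rfl⟩ : (stabAct _ _ hT'.le_normalizer).range)
    have hord : orderOf y = orderOf g := by
      rw [← Subgroup.orderOf_coe y]
      exact orderOf_injective (MulAut.conj x).toMonoidHom (MulAut.conj x).injective g
    have hdvd := orderOf_map_dvd (stabAct _ _ hT'.le_normalizer) y
    rw [hk, hord] at hdvd
    rcases k with _ | k
    · rw [pow_zero] at hk
      exact orderOf_eq_one_iff.1 hk
    · exact absurd ((dvd_pow_self p k.succ_ne_zero).trans hdvd) hreg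
  rw [stabAct_eq_one_iff] at h1
  have h2 := (centConj Q x ⟨_, h1⟩).2
  change x⁻¹ * (x * g * x⁻¹) * x ∈ Subgroup.centralizer (Q : Set G) at h2
  rwa [show x⁻¹ * (x * g * x⁻¹) * x = g by group] at h2

theorem isPGroup_autGroup_inner (hP : IsPGroup p P) (hQ : Q ≤ P) :
    IsPGroup p ((innerFusionSystem P).autGroup Q) := by
  refine (Cfsg.Agent.Fusion.isPGroup_autInducedBy hP Q).to_le ((Subgroup.closure_le _).2 ?_)
  rintro α ⟨-, g, hg, hx⟩
  exact Subgroup.subset_closure ⟨g, hg, hx⟩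

/-- In an abelian defect group all maps come from the inertial quotient. -/
theorem autGroup_trivial_of_abelian (hM : IsPModular p M) (hmax : IsMaximalBrauerPair p M B P e)
    (hF : IsBlockFusionSystemOn p M B P e F) (hab : ∀ x ∈ P, ∀ y ∈ P, x * y = y * x)
    (h : ∀ x : G, x ∈ Subgroup.normalizer (P : Set G) → StabilizesBlock CG(P) e x →
      x ∈ Subgroup.centralizer (P : Set G)) (hQ : Q ≤ P) : F.autGroup Q = ⊥ := by
  have hS := hmax.1.1.1
  have hsat := blockSystem_isSaturated hM hmax hF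
  have hC : ∀ R ≤ P, P ≤ FusionSystem.centralizerIn P R := fun R hR a ha =>
    ⟨ha, Subgroup.mem_centralizer_iff.2 fun b hb => hab b (hR hb) a ha⟩
  have hfc : F.IsFullyCentralized Q := ⟨hQ, fun R hR => Subgroup.card_le_of_le
    (Cfsg.Agent.Fusion.centralizerIn_le.trans (hC Q hQ))⟩
  have hrec := Cfsg.Agent.Fusion.fullyCentralized_receptive hS hsat hfc
  rw [eq_bot_iff]
  intro α hα
  obtain ⟨f', hf', he⟩ := Cfsg.Agent.Fusion.exists_extension_centralizer hrec
    (Cfsg.Agent.Fusion.isIso_autFun hQ hα)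
  have hf'' := hf'.restrict ((hC Q hQ).trans le_sup_right)
  have hi := hf''.isIso_self fun x hx => hf''.mem hx
  obtain ⟨T, hT⟩ := stab_exists hmax.1.1.2
  obtain ⟨t, ht⟩ : Cfsg.Agent.Fusion.autOf hi ∈ (stabAct P T hT.le_normalizer).range := by
    rw [← autGroup_blockSystem hM hmax hF (show SubpairLE p M P e P e from Relation.ReflTransGen.refl) hT]
    exact Cfsg.Agent.Fusion.autOf_mem hi
  rw [(stabAct_eq_one_iff t).2 (h _ (hT.le_normalizer t.2) ((hT _).1 t.2).2)] at ht
  refine Subgroup.mem_bot.2 (MulEquiv.ext fun q => Subtype.ext ?_)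
  have h3 := congrArg (fun a : MulAut P => ((a ⟨q, hQ q.2⟩ : P) : G)) ht
  rw [Cfsg.Agent.Fusion.autOf_apply] at h3
  change (q : G) = f' q at h3
  rw [he _ q.2, Cfsg.Agent.Fusion.autFun_coe] at h3
  exact h3.symm

/-- A nilpotent block with abelian defect group has trivial inertial quotient. -/
theorem inertial_trivial_of_nilpotent (hM : IsPModular p M) (hmax : IsMaximalBrauerPair p M B P e)
    (hab : ∀ x ∈ P, ∀ y ∈ P, x * y = y * x) (hnil : IsNilpotentBlock p M B) {x : G}
    (hN : x ∈ Subgroup.normalizer (P : Set G)) (hst : StabilizesBlock CG(P) e x) :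
    x ∈ Subgroup.centralizer (P : Set G) := by
  obtain ⟨T, hT⟩ := stab_exists hmax.1.1.2
  have hxT : x ∈ T := (hT x).2 ⟨hN, hst⟩
  obtain ⟨a, ha⟩ : ∃ a : ℕ, a = (orderOf x).factorization p := ⟨_, rfl⟩
  have hx0 := (orderOf_pos x).ne'
  have hcop : Nat.Coprime (p ^ a) (ordCompl[p] (orderOf x)) :=
    ((Nat.Prime.coprime_iff_not_dvd Fact.out).2 (Nat.not_dvd_ordCompl Fact.out hx0)).pow_left a
  have hsplit := Nat.ordProj_mul_ordCompl_eq_self (orderOf x) p
  have h1 : x ^ (p ^ a) ∈ CG(P) := by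
    refine hnil.2 P e hmax.1 _ (pow_mem hN _) ((hT _).1 (pow_mem hxT _)).2 ?_
    rw [IsPRegular, ha, orderOf_pow_of_dvd (pow_ne_zero _ (Fact.out : p.Prime).ne_zero) (Nat.ordProj_dvd _ _)]
    exact Nat.not_dvd_ordCompl Fact.out hx0
  have h2 : x ^ (ordCompl[p] (orderOf x)) ∈ CG(P) := by
    have hp' : ∃ j : ℕ, orderOf (x ^ (ordCompl[p] (orderOf x))) = p ^ j := by
      have hpos : ordCompl[p] (orderOf x) ≠ 0 := fun h0 =>
        Nat.not_dvd_ordCompl (Fact.out : p.Prime) hx0 (h0 ▸ dvd_zero p)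
      refine ⟨(orderOf x).factorization p, ?_⟩
      rw [orderOf_pow_of_dvd hpos ⟨_, ((mul_comm _ _).trans hsplit).symm⟩]
      exact Nat.div_eq_of_eq_mul_left (Nat.pos_of_ne_zero hpos) hsplit.symm
    have := mem_sup_of_maximal hM hmax (pow_mem hN _) ((hT _).1 (pow_mem hxT _)).2 hp'
    rw [sup_of_le_right (show P ≤ CG(P) from fun q hq =>
      Subgroup.mem_centralizer_iff.2 fun r hr => hab r hr q hq)] at this
    exact this
  obtain ⟨s, t, hst'⟩ := (Nat.isCoprime_iff_coprime.2 hcop :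
    IsCoprime ((p ^ a : ℕ) : ℤ) ((ordCompl[p] (orderOf x) : ℕ) : ℤ))
  have : x = (x ^ (p ^ a)) ^ s * (x ^ (ordCompl[p] (orderOf x))) ^ t := by
    rw [← zpow_natCast x (p ^ a), ← zpow_natCast x (ordCompl[p] (orderOf x)), ← zpow_mul, ← zpow_mul,
      ← zpow_add, mul_comm _ s, mul_comm _ t, hst', zpow_one]
  rw [this]
  exact mul_mem (zpow_mem h1 s) (zpow_mem h2 t)

end Cfsg.Agent.Block
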