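import Cfsg.Agent.Lib.Block.PairDefect
import Cfsg.Agent.Lib.Block.CentralExtDefect
import Cfsg.Agent.Lib.Block.Columns

/-!
# A criterion for maximal Brauer pairs
-/

set_option autoImplicit false

open Cfsg.Agent.Char
open scoped ComplexConjugate

namespace Cfsg.Agent.Block

universe u

local notation "CG(" P ")" => Subgroup.centralizer (SetLike.coe P)

variable {G : Type u} [Group G] [Finite G] {M : Ideal AlgInt} [hMp : M.IsPrime] {p : ℕ} [Fact p.Prime]

omit [Finite G] in
/-- A `p`-element with a `p'`-power in a coset of a normal subgroup lies in it. -/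
theorem mem_of_coset_pow_mem {L T : Subgroup G} (hLT : L ≤ T)
    (hTN : T ≤ Subgroup.normalizer (L : Set G)) {g h : G} (hgT : g ∈ T) (hh : h ∈ L) {m k : ℕ}
    (hm : ¬ p ∣ m) (hg : orderOf g = p ^ k) (hpow : (h * g) ^ m ∈ L) : g ∈ L := by
  haveI : (L.subgroupOf T).Normal := (Subgroup.normal_subgroupOf_iff_le_normalizer hLT).2 hTN
  have hq0 : (QuotientGroup.mk (⟨h * g, mul_mem (hLT hh) hgT⟩ : T) : T ⧸ L.subgroupOf T) =
      QuotientGroup.mk (⟨g, hgT⟩ : T) := by
    rw [show (⟨h * g, mul_mem (hLT hh) hgT⟩ : T) = ⟨h, hLT hh⟩ * ⟨g, hgT⟩ from rfl,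
      QuotientGroup.mk_mul, (QuotientGroup.eq_one_iff _).2
        (show ((⟨h, hLT hh⟩ : T)) ∈ L.subgroupOf T from hh), one_mul]
  have h3 : (QuotientGroup.mk (⟨g, hgT⟩ : T) : T ⧸ L.subgroupOf T) ^ m = 1 := by
    rw [← hq0, ← QuotientGroup.mk_pow, QuotientGroup.eq_one_iff]
    exact hpow
  have h4 : (QuotientGroup.mk (⟨g, hgT⟩ : T) : T ⧸ L.subgroupOf T) ^ (p ^ k) = 1 := by
    rw [← QuotientGroup.mk_pow, show (⟨g, hgT⟩ : T) ^ (p ^ k) = 1 from
      Subtype.ext (by rw [SubmonoidClass.coe_pow, ← hg, pow_orderOf_eq_one]; rfl)]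
    rfl
  have h5 : orderOf (QuotientGroup.mk (⟨g, hgT⟩ : T) : T ⧸ L.subgroupOf T) = 1 := by
    refine Nat.eq_one_of_dvd_one ?_
    rw [← ((Nat.Prime.coprime_iff_not_dvd Fact.out).2 hm).pow_left k]
    exact Nat.dvd_gcd (orderOf_dvd_of_pow_eq_one h4) (orderOf_dvd_of_pow_eq_one h3)
  rw [orderOf_eq_one_iff, QuotientGroup.eq_one_iff] at h5
  exact h5

variable {Q : Subgroup G} {e : Set (IrrCharacter (Subgroup.centralizer (Q : Set G)))}

omit hMp [Fact p.Prime] [Finite G] in
theorem zc_le_center {x : CG(Q)} (hx : x ∈ (Q ⊓ CG(Q)).subgroupOf CG(Q)) (y : CG(Q)) :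
    x * y = y * x :=
  Subtype.ext (Subgroup.mem_centralizer_iff.1 y.2 (x : G) hx.1)

omit hMp [Fact p.Prime] [Finite G] in
theorem zc_sup_centralizer :
    (Q ⊓ CG(Q)).subgroupOf CG(Q) ⊔ Subgroup.centralizer
      (((Q ⊓ CG(Q)).subgroupOf CG(Q) : Subgroup CG(Q)) : Set CG(Q)) = ⊤ := by
  rw [eq_top_iff]
  exact fun y _ => Subgroup.mem_sup_right (Subgroup.mem_centralizer_iff.2 fun x hx => zc_le_center hx y)

omit hMp [Fact p.Prime] in
theorem zc_normal : ((Q ⊓ CG(Q)).subgroupOf CG(Q)).Normal :=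
  normal_of_sup_centralizer zc_sup_centralizer

/-- The defect group of `e` can be adjoined to the pair. -/
theorem defectGroup_eq_of_maximal (hM : IsPModular p M) {B : Set (IrrCharacter G)}
    (hmax : IsMaximalBrauerPair p M B Q e) {D : Subgroup CG(Q)} (hD : IsDefectGroup p M e D) :
    D = (Q ⊓ CG(Q)).subgroupOf CG(Q) := by
  haveI := zc_normal (Q := Q)
  obtain ⟨hpair, hmax⟩ := hmax
  have hQp := hpair.1.1
  have he := hpair.1.2
  refine le_antisymm (fun d hd => ?_)
    (pCore_le_defectGroup hM he hD _ ((hQp.to_le inf_le_left).comap_subtype))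
  obtain ⟨g, hg, S, hS⟩ := id hD
  have hDG : D.map CG(Q).subtype ≤ CG(Q) := Subgroup.map_subtype_le D
  have hRp : IsPGroup p (Q ⊔ D.map CG(Q).subtype : Subgroup G) :=
    hQp.to_sup_of_normal_left' ((isPGroup_of_isDefectGroup hD).map _)
      (hDG.trans (centralizer_le_normalizer' Q))
  have hRN : Q ⊔ D.map CG(Q).subtype ≤ Subgroup.normalizer (Q : Set G) :=
    sup_le Subgroup.le_normalizer (hDG.trans (centralizer_le_normalizer' Q))
  have hne : brFun M (Q ⊔ D.map CG(Q).subtype) (embH CG(Q) (blockIdem e)) ≠ 0 := fun h0 => by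
    have hy : (g : G) ∈ Subgroup.centralizer ((Q ⊔ D.map CG(Q).subtype : Subgroup G) : Set G) := by
      refine mem_centralizer_subgroup.2 (sup_le (mem_centralizer_subgroup.1 g.2) ?_)
      rintro _ ⟨d, hd, rfl⟩
      rw [mem_centralizer_singleton]
      exact (mem_centralizer_singleton.1 (sylowImage_le S (hS.le hd))).map CG(Q).subtype
    have h1 := (brFun_eq_zero_iff (isLocElt_embH _ (isLocElt_blockIdem he))).1 h0 _ hy
    rw [coeff_embH] at h1
    exact hg.2.1 (by simpa [blockIdem] using h1)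
  obtain ⟨g', hg'⟩ := exists_extension hM hpair.1 hRp le_sup_left hRN
    (fun q hq => conjBlk_of_mem_sup (sup_le_sup_left hDG Q hq)) hne
  have hR := hmax _ g' ((IsNormalSubpair.pairOf_iff hM hg' B).2 hpair)
    (Relation.ReflTransGen.single (show NormalSubpairRel p M ⟨Q, e⟩ ⟨_, g'⟩ from hg'))
  exact ⟨hR.le (Subgroup.mem_sup_right ⟨d, hd, rfl⟩), d.2⟩

/-- A maximal pair has inertial index prime to `p`. -/
theorem mem_sup_of_maximal (hM : IsPModular p M) {B : Set (IrrCharacter G)}
    (hmax : IsMaximalBrauerPair p M B Q e) {t : G} (htN : t ∈ Subgroup.normalizer (Q : Set G))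
    (hst : StabilizesBlock CG(Q) e t) (htp : ∃ k : ℕ, orderOf t = p ^ k) :
    t ∈ Q ⊔ CG(Q) := by
  classical
  obtain ⟨hpair, hmax⟩ := hmax
  have hQp := hpair.1.1
  have he := hpair.1.2
  by_contra htL
  obtain ⟨θ, hθ⟩ := isPBlock_nonempty he
  obtain ⟨htC, htfix⟩ := (stabilizesBlock_iff he).1 hst
  -- the stabiliser
  let T : Subgroup G :=
    { carrier := {q | q ∈ Subgroup.normalizer (Q : Set G) ∧
        ∃ hq : q ∈ Subgroup.normalizer (CG(Q) : Set G), conjBlk hq e = e}
      mul_mem' := fun ⟨a1, a2, a3⟩ ⟨b1, b2, b3⟩ =>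
        ⟨mul_mem a1 b1, mul_mem a2 b2, by rw [conjBlk_mul a2 b2, b3, a3]⟩
      one_mem' := ⟨one_mem _, one_mem _, conjBlk_one _ _⟩
      inv_mem' := fun ⟨a1, a2, a3⟩ => ⟨inv_mem a1, inv_mem a2, by
        have h := conjBlk_inv_cancel (inv_mem a2) e
        conv_lhs => rw [← a3]
        rw [← conjBlk_mul]
        convert conjBlk_one (one_mem _) e
        exact inv_mul_cancel _⟩ }
  have hLT : Q ⊔ CG(Q) ≤ T := fun q hq =>
    ⟨sup_le Subgroup.le_normalizer (centralizer_le_normalizer' Q) hq, conjBlk_of_mem_sup hq⟩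
  have hTN : T ≤ Subgroup.normalizer ((Q ⊔ CG(Q) : Subgroup G) : Set G) :=
    fun q hq => normalizer_le_normalizer_sup Q hq.1
  have htT : t ∈ T := ⟨htN, htC, htfix⟩
  haveI := Fintype.ofFinite (ConjClasses CG(Q))
  have hzT : Subgroup.zpowers t ≤ T := Subgroup.zpowers_le.2 htT
  let cf : Subgroup.zpowers t → (CG(Q) ≃* CG(Q)) := fun s => normConj (hzT s.2).2.1
  letI : MulAction (Subgroup.zpowers t) (ConjClasses CG(Q)) :=
    { smul := fun s => ConjClasses.map (cf s⁻¹).toMonoidHom
      one_smul := fun C => by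
        induction C using Quotient.inductionOn with
        | h y => exact congrArg ConjClasses.mk (Subtype.ext (by simp [cf]))
      mul_smul := fun s r C => by
        induction C using Quotient.inductionOn with
        | h y => exact congrArg ConjClasses.mk (Subtype.ext (by simp [cf, mul_assoc])) }
  have hsmul : ∀ (s : Subgroup.zpowers t) (y : CG(Q)),
      s • ConjClasses.mk y = ConjClasses.mk (cf s⁻¹ y) := fun _ _ => rfl
  let z : ConjClasses CG(Q) → ℂ :=
    fun C => (blockIdem e).coeff (classRep C) * centralChar (θ : CG(Q) → ℂ) (classRep C)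
  have hecl := CL.blockIdem he
  have hzl : ∀ C, z C ∈ locRing M := fun C => mul_mem (hecl.2 _) (centralChar_mem_locRing θ _)
  let sec : ResK M → ℂ := fun r => ((Function.surjInv IsLocalRing.residue_surjective r : locRing M) : ℂ)
  have hsec : ∀ r, resC M (sec r) = r := fun r => by
    rw [resC_of_mem (SetLike.coe_mem _)]
    exact Function.surjInv_eq IsLocalRing.residue_surjective r
  have hcc : ∀ y y' : CG(Q), IsConj y y' →
      centralChar (θ : CG(Q) → ℂ) y = centralChar (θ : CG(Q) → ℂ) y' := fun y y' h => by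
    rw [← omega_classSum, ← omega_classSum]
    congr 1
    refine MonoidAlgebra.ext (Finsupp.ext fun x => ?_)
    simp only [classSum, coeff_mkA]
    exact if_congr ⟨fun h' => h.symm.trans h', fun h' => h.trans h'⟩ rfl rfl
  have hzinv : ∀ (s : Subgroup.zpowers t) (C : ConjClasses CG(Q)),
      resC M (z (s • C)) = resC M (z C) := by
    intro s C
    obtain ⟨-, hs, hsfix⟩ := hzT (inv_mem s.2)
    have e1 : s • C = ConjClasses.mk (cf s⁻¹ (classRep C)) := by
      rw [← hsmul s, mk_classRep]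
    have hc' : IsConj (classRep (s • C)) (cf s⁻¹ (classRep C)) := by
      rw [e1]; exact (isConj_classRep_mk _).symm
    have ha' : (blockIdem e).coeff (classRep (s • C)) = (blockIdem e).coeff (classRep C) := by
      rw [IsClassFunction.apply_isConj hecl.1 hc']
      simp only [blockIdem, coeff_mkA]
      conv_rhs => rw [← hsfix, blockCoeff_conjBlk]
    have hcz : MemLocalIdeal M (centralChar (θ : CG(Q) → ℂ) (classRep (s • C)) -
        centralChar (θ : CG(Q) → ℂ) (classRep C)) := by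
      rw [hcc _ _ hc']
      have hmem : conjIrr hs θ ∈ e := by
        have h := (mem_conjBlk_iff hs e θ).2 hθ
        rwa [hsfix] at h
      have h2 := isPBlock_sameBlock he hmem hθ (classRep C)
      have h3 : centralChar ((conjIrr hs θ : IrrCharacter CG(Q)) : CG(Q) → ℂ) (classRep C) =
          centralChar (θ : CG(Q) → ℂ) (cf s⁻¹ (classRep C)) := by
        rw [← centralChar_comp_mulEquiv (cf s⁻¹)]
        rfl
      rw [h3] at h2
      exact h2
    refine (resC_eq_iff (hzl _) (hzl _)).2 ?_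
    show MemLocalIdeal M (_ * _ - _ * _)
    rw [ha', ← mul_sub]
    exact memLocalIdeal_mul_left (hecl.2 _) hcz
  obtain ⟨k, hk⟩ := htp
  have hnofix : ∀ C : ConjClasses CG(Q), (∀ s : Subgroup.zpowers t, s • C = C) →
      resC M (z C) = 0 := by
    intro C hC
    by_contra hne
    have hcu : ¬ MemLocalIdeal M ((blockIdem e).coeff (classRep C)) := fun h =>
      hne (resC_eq_zero_of_memLocalIdeal (memLocalIdeal_mul_right (centralChar_mem_locRing θ _) h))
    have h1 := hC ⟨t, Subgroup.mem_zpowers t⟩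
    rw [show C = ConjClasses.mk (classRep C) from (mk_classRep C).symm, hsmul] at h1
    obtain ⟨h, hh⟩ := isConj_iff.1 (ConjClasses.mk_eq_mk_iff_isConj.1 h1)
    have hh' : (h : G) * (t * ((classRep C : CG(Q)) : G) * t⁻¹) * (h : G)⁻¹ =
        ((classRep C : CG(Q)) : G) := by
      have := congrArg (fun v : CG(Q) => (v : G)) hh
      simpa [cf] using this
    have hhL : (h : G) ∈ Q ⊔ CG(Q) := Subgroup.mem_sup_right h.2
    have huT : (h : G) * t ∈ T := mul_mem (hLT hhL) htT
    have huc : Commute ((h : G) * t) ((classRep C : CG(Q)) : G) := by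
      show (h : G) * t * ((classRep C : CG(Q)) : G) = ((classRep C : CG(Q)) : G) * ((h : G) * t)
      conv_rhs => rw [← hh']
      group
    have hne0 := (orderOf_pos ((h : G) * t)).ne'
    have hdecomp := Nat.ordProj_mul_ordCompl_eq_self (orderOf ((h : G) * t)) p
    set m := ordCompl[p] (orderOf ((h : G) * t)) with hm'
    have hm : ¬ p ∣ m := Nat.not_dvd_ordCompl Fact.out hne0
    have hvT : ((h : G) * t) ^ m ∈ T := pow_mem huT m
    have hvord : ∃ j : ℕ, orderOf (((h : G) * t) ^ m) = p ^ j := by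
      refine ⟨(orderOf ((h : G) * t)).factorization p, ?_⟩
      rw [orderOf_pow_of_dvd (fun (h0 : m = 0) => hm (h0 ▸ dvd_zero p))
        ⟨_, (mul_comm _ _).trans hdecomp |>.symm⟩]
      exact Nat.div_eq_of_eq_mul_left (Nat.pos_of_ne_zero fun h0 => hm (h0 ▸ dvd_zero p)) hdecomp.symm
    have hvN : Subgroup.zpowers (((h : G) * t) ^ m) ≤ Subgroup.normalizer (Q : Set G) :=
      Subgroup.zpowers_le.2 hvT.1
    have hRp : IsPGroup p (Q ⊔ Subgroup.zpowers (((h : G) * t) ^ m) : Subgroup G) :=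
      hQp.to_sup_of_normal_left' (isPGroup_zpowers_of_orderOf hvord) hvN
    have hRT : Q ⊔ Subgroup.zpowers (((h : G) * t) ^ m) ≤ T :=
      sup_le (le_sup_left.trans hLT) (Subgroup.zpowers_le.2 hvT)
    have hne' : brFun M (Q ⊔ Subgroup.zpowers (((h : G) * t) ^ m))
        (embH CG(Q) (blockIdem e)) ≠ 0 := fun h0 => by
      have hy : ((classRep C : CG(Q)) : G) ∈ Subgroup.centralizer
          ((Q ⊔ Subgroup.zpowers (((h : G) * t) ^ m) : Subgroup G) : Set G) :=
        mem_centralizer_subgroup.2 (sup_le (mem_centralizer_subgroup.1 (classRep C).2)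
          (Subgroup.zpowers_le.2 (mem_centralizer_singleton.2 (huc.pow_left m).symm)))
      have h2 := (brFun_eq_zero_iff (isLocElt_embH _ (isLocElt_blockIdem he))).1 h0 _ hy
      rw [coeff_embH] at h2
      exact hcu h2
    obtain ⟨g', hg'⟩ := exists_extension hM hpair.1 hRp le_sup_left
      (sup_le Subgroup.le_normalizer hvN) (fun q hq => (hRT hq).2) hne'
    have hR := hmax _ g' ((IsNormalSubpair.pairOf_iff hM hg' B).2 hpair)
      (Relation.ReflTransGen.single (show NormalSubpairRel p M ⟨Q, e⟩ ⟨_, g'⟩ from hg'))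
    exact htL (mem_of_coset_pow_mem hLT hTN htT hhL hm hk
      (Subgroup.mem_sup_left (hR.le (Subgroup.mem_sup_right (Subgroup.mem_zpowers _)))))
  have hsum := sum_congr_fixed hM (isPGroup_zpowers_of_orderOf ⟨k, hk⟩) (fun C => sec (resC M (z C)))
    (fun s C => by rw [hzinv]) fun C => SetLike.coe_mem _
  have h0 : resC M (∑ C, sec (resC M (z C))) = 0 := by
    refine resC_eq_zero_of_memLocalIdeal ?_
    have : MemLocalIdeal M
        (∑ C, if (∀ s : Subgroup.zpowers t, s • C = C) then sec (resC M (z C)) else 0) :=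
      memLocalIdeal_sum _ _ fun C _ => by
        split
        next h => exact (resC_eq_zero_iff (SetLike.coe_mem _)).1 (by rw [hsec, hnofix C h])
        · exact memLocalIdeal_zero
    simpa using memLocalIdeal_add hsum this
  have h1 : ro M θ (blockIdem e) = 0 := by
    rw [ro, omega_eq_sum_classes θ hecl.1, resC_sum _ _ fun C _ => hzl C]
    rw [resC_sum _ _ fun C _ => SetLike.coe_mem _] at h0
    rw [Finset.sum_congr rfl fun C _ => hsec (resC M (z C))] at h0
    exact h0
  rw [ro_blockIdem_mem hθ] at h1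
  exact one_ne_zero h1

/-- A character of defect zero modulo a normal `p`-subgroup with `G = P C(P)` has defect group `P`. -/
theorem isDefectGroup_of_coreChar [Fintype G] (hM : IsPModular p M) {P : Subgroup G} (hP : IsPGroup p P)
    (hG : P ⊔ Subgroup.centralizer (P : Set G) = ⊤) {B : Set (IrrCharacter G)} (hB : IsPBlock M B)
    {θ : IrrCharacter G} (hθ : θ ∈ B) (hc : CoreChar p P θ) : IsDefectGroup p M B P := by
  haveI := normal_of_sup_centralizer hG
  have hnorm := sum_regular_norm_core hM hP hG hc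
  set n := charDegree (θ : G → ℂ) with hn
  have hθ1 : (θ : G → ℂ) 1 = (n : ℂ) := (charDegree_cast (IsIrrCharacter.isCharacter θ.2)).symm
  have hn0 : n ≠ 0 := (charDegree_pos θ.2).ne'
  set v := n.factorization p with hv
  -- rewrite the norm with central characters
  haveI := Fintype.ofFinite (ConjClasses G)
  let a : MonoidAlgebra ℂ G := mkA fun y => if p ∣ orderOf y then 0 else conj ((θ : G → ℂ) y)
  have hacl : CL M a := by
    refine ⟨fun x y => ?_, fun x => ?_⟩
    · simp only [a, coeff_mkA]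
      rw [show orderOf (y * x * y⁻¹) = orderOf x from orderOf_conj_eq x y,
        IsCharacter.isClassFunction (IsIrrCharacter.isCharacter θ.2) x y]
    · simp only [a, coeff_mkA]
      split
      · exact zero_mem (locRing M)
      · rw [← IsCharacter.map_inv (IsIrrCharacter.isCharacter θ.2)]
        exact irr_mem_locRing θ _
  have hom : (n : ℂ) * omega (θ : G → ℂ) a = (P.index : ℂ) := by
    rw [omega_eq_sum, hθ1, mul_div_cancel₀ _ (Nat.cast_ne_zero.2 hn0)]
    apply mul_left_cancel₀ (Nat.cast_ne_zero.2 (Nat.card_pos (α := P)).ne' : (Nat.card P : ℂ) ≠ 0)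
    rw [← Nat.cast_mul, P.card_mul_index, ← hnorm]
    congr 1
    refine Finset.sum_congr rfl fun y _ => ?_
    simp only [a, coeff_mkA]
    split <;> ring
  have hunit : ¬ MemLocalIdeal M (omega (θ : G → ℂ) a) := by
    intro h
    set m' := ordCompl[p] P.index
    have e1 : ((p ^ v : ℕ) : ℂ) * (((n / p ^ v : ℕ) : ℂ) * omega (θ : G → ℂ) a) =
        ((p ^ v : ℕ) : ℂ) * (m' : ℂ) := by
      rw [← mul_assoc, ← Nat.cast_mul, Nat.ordProj_mul_ordCompl_eq_self, hom, ← Nat.cast_mul,
        hv, hn, hc.deg, Nat.ordProj_mul_ordCompl_eq_self]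
    have e2 := mul_left_cancel₀ (Nat.cast_ne_zero.2 (pow_ne_zero _ hM.1.ne_zero)) e1
    have e3 : MemLocalIdeal M (m' : ℂ) :=
      e2 ▸ memLocalIdeal_mul_left (natCast_mem (locRing M) (n / p ^ v)) h
    exact Nat.not_dvd_ordCompl hM.1 Subgroup.index_ne_zero_of_finite
      ((memLocalIdeal_natCast_iff hM.1 hM.2.2 _).1 e3)
  rw [omega_eq_sum_classes θ hacl.1] at hunit
  obtain ⟨C, hC⟩ : ∃ C : ConjClasses G,
      ¬ MemLocalIdeal M (a.coeff (classRep C) * centralChar (θ : G → ℂ) (classRep C)) := by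
    by_contra! h
    exact hunit (memLocalIdeal_sum _ _ fun C _ => h C)
  have hω : ¬ MemLocalIdeal M (centralChar (θ : G → ℂ) (classRep C)) := fun h =>
    hC (memLocalIdeal_mul_left (hacl.2 _) h)
  have hval : ¬ MemLocalIdeal M ((θ : G → ℂ) (classRep C)⁻¹) := fun h => by
    refine hC (memLocalIdeal_mul_right (centralChar_mem_locRing θ _) ?_)
    simp only [a, coeff_mkA]
    split
    · exact memLocalIdeal_zero
    · rwa [← IsCharacter.map_inv (IsIrrCharacter.isCharacter θ.2)]
  have h1 := classExp_le_minVal hM hB hθ hω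
  have h2 : v ≤ classExp p (classRep C) := by
    by_contra h
    refine hval (memLocalIdeal_apply_of_lt hM θ _ ?_)
    rw [classExp_inv]
    rwa [← hn, ← hv, ← not_le]
  obtain ⟨D, hD⟩ := exists_isDefectGroup (p := p) hB
  have hle := pCore_le_defectGroup hM hB hD P hP
  suffices h : P = D by rwa [h]
  refine Subgroup.eq_of_le_of_card_ge hle ?_
  obtain ⟨j, hj⟩ := IsPGroup.iff_card.1 hP
  have hsum : (Nat.card G).factorization p = j + P.index.factorization p := by
    rw [← P.card_mul_index, hj, Nat.factorization_mul (pow_ne_zero _ hM.1.ne_zero)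
      Subgroup.index_ne_zero_of_finite, Finsupp.add_apply, hM.1.factorization_pow,
      Finsupp.single_eq_same]
  rw [card_defectGroup hM hB hD, hj, blockDefect_eq]
  refine Nat.pow_le_pow_right hM.1.pos ?_
  have := hc.deg
  rw [← hn, ← hv] at this
  omega

theorem maximal_of_criterion (hM : IsPModular p M) {B : Set (IrrCharacter G)}
    (hpair : IsBrauerPairOf p M B Q e) (hD : IsDefectGroup p M e ((Q ⊓ CG(Q)).subgroupOf CG(Q)))
    (hT : ∀ g : G, g ∈ Subgroup.normalizer (Q : Set G) → StabilizesBlock CG(Q) e g →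
      (∃ k : ℕ, orderOf g = p ^ k) → g ∈ Q ⊔ CG(Q)) : IsMaximalBrauerPair p M B Q e := by
  have hQp := hpair.1.1
  haveI := zc_normal (Q := Q)
  have hstep : ∀ (R : Subgroup G) (g : Set (IrrCharacter CG(R))),
      IsNormalSubpair p M Q e R g → R = Q := by
    intro R g hn
    have hRp := hn.2.1.1
    have hRL : R ≤ Q ⊔ CG(Q) := fun r hr => by
      obtain ⟨k, hk⟩ := IsPGroup.iff_orderOf.1 hRp ⟨r, hr⟩
      exact hT r (hn.2.2.2.1 hr) (hn.2.2.2.2.1 r hr) ⟨k, by rw [← hk, Subgroup.orderOf_mk]⟩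
    obtain ⟨η, hη⟩ := isPBlock_nonempty hn.2.1.2
    have hne : brFun M R (embH CG(Q) (blockIdem e)) ≠ 0 := fun h0 => by
      have h1 := IsNormalSubpair.lam_eq_one hn hη
      rw [lam, Factors.of_le_centralizer le_rfl η _
        (cl_resH (ps_embH (CL.blockIdem hpair.1.2) (centralizer_le_of_le hn.2.2.1)))
        (by rw [brFun_embH_resH le_rfl, h0])] at h1
      exact zero_ne_one h1
    obtain ⟨y, hy, hyu⟩ :=
      exists_unit_coeff_of_brFun_ne_zero (isLocElt_embH _ (isLocElt_blockIdem hpair.1.2)) hne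
    have hyC : y ∈ CG(Q) := centralizer_le_of_le hn.2.2.1 hy
    rw [show y = ((⟨y, hyC⟩ : CG(Q)) : G) from rfl, coeff_embH] at hyu
    obtain ⟨z, hz⟩ := defectLE_of_coeff_unit hM hpair.1.2 hD (by simpa [blockIdem] using hyu)
      ((R ⊓ CG(Q)).subgroupOf CG(Q)) ((hRp.to_le inf_le_left).comap_subtype) (fun q hq => by
        rw [mem_centralizer_singleton]
        exact Subtype.ext (Subgroup.mem_centralizer_iff.1 hy (q : G) hq.1).symm)
    refine le_antisymm (fun r hr => ?_) hn.2.2.1
    have hr' := hRL hr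
    rw [← SetLike.mem_coe,
      Subgroup.coe_mul_of_right_le_normalizer_left Q _ (centralizer_le_normalizer' Q)] at hr'
    obtain ⟨q, hq, c, hc, rfl⟩ := hr'
    have hcR : c ∈ R := by
      have := mul_mem (inv_mem (hn.2.2.1 hq)) hr
      rwa [inv_mul_cancel_left] at this
    have h2 : z * (⟨c, hc⟩ : CG(Q)) * z⁻¹ ∈ (Q ⊓ CG(Q)).subgroupOf CG(Q) :=
      hz ⟨⟨c, hc⟩, ⟨hcR, hc⟩, rfl⟩
    have h3 := (zc_normal (Q := Q)).conj_mem _ h2 z⁻¹
    refine mul_mem hq ?_
    simp only [mul_assoc, inv_inv, inv_mul_cancel, mul_one, inv_mul_cancel_left] at h3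
    exact h3.1
  refine ⟨hpair, fun R g _ hle => ?_⟩
  suffices h : ∀ b : BrauerPairIdx G, Relation.ReflTransGen (NormalSubpairRel p M) ⟨Q, e⟩ b →
      b = ⟨Q, e⟩ by
    exact (Sigma.mk.inj_iff.1 (h ⟨R, g⟩ hle)).1
  intro b hb
  induction hb with
  | refl => rfl
  | @tail c d _ hn ih =>
    subst ih
    obtain ⟨R', g'⟩ := d
    obtain rfl : R' = Q := hstep R' g' hn
    obtain rfl : e = g' := IsNormalSubpair.eq_of_self hM hn
    rfl

end Cfsg.Agent.Block
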