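import Cfsg.Agent.Lib.Block.StabPair
import Cfsg.Agent.Lib.Block.PairCriterion

/-!
# Defect groups of blocks of stabilisers cover a Sylow subgroup of the automiser
-/

set_option autoImplicit false

open Cfsg.Agent.Char
open scoped ComplexConjugate Pointwise

namespace Cfsg.Agent.Block

universe u

local notation "CG(" P ")" => Subgroup.centralizer (SetLike.coe P)

variable {G : Type u} [Group G] [Finite G] {M : Ideal AlgInt} [hMp : M.IsPrime] {p : ℕ}
  [Fact p.Prime] {Q : Subgroup G} {f : Set (IrrCharacter (Subgroup.centralizer (Q : Set G)))}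

/-- A `p`-group fixing a block fixes a class in its support. -/
theorem exists_fixed_class (hM : IsPModular p M) {S : Subgroup G} (hS : IsPGroup p S)
    (hf : IsPBlock M f)
    (hfix : ∀ t ∈ S, ∃ ht : t ∈ Subgroup.normalizer (Subgroup.centralizer (Q : Set G) : Set G),
      conjBlk ht f = f) :
    ∃ y : Subgroup.centralizer (Q : Set G), ¬ MemLocalIdeal M ((blockIdem f).coeff y) ∧
      ∀ s ∈ S, ∃ h ∈ Subgroup.centralizer (Q : Set G), Commute (h * s) (y : G) := by
  classical
  obtain ⟨θ, hθ⟩ := isPBlock_nonempty hf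
  haveI := Fintype.ofFinite (ConjClasses CG(Q))
  let cf : S → (CG(Q) ≃* CG(Q)) := fun s => normConj (hfix s s.2).1
  letI : MulAction S (ConjClasses CG(Q)) :=
    { smul := fun s => ConjClasses.map (cf s⁻¹).toMonoidHom
      one_smul := fun C => by
        induction C using Quotient.inductionOn with
        | h y => exact congrArg ConjClasses.mk (Subtype.ext (by simp [cf]))
      mul_smul := fun s r C => by
        induction C using Quotient.inductionOn with
        | h y => exact congrArg ConjClasses.mk (Subtype.ext (by simp [cf, mul_assoc])) }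
  have hsmul : ∀ (s : S) (y : CG(Q)), s • ConjClasses.mk y = ConjClasses.mk (cf s⁻¹ y) :=
    fun _ _ => rfl
  let z : ConjClasses CG(Q) → ℂ :=
    fun C => (blockIdem f).coeff (classRep C) * centralChar (θ : CG(Q) → ℂ) (classRep C)
  have hecl := CL.blockIdem hf
  have hzl : ∀ C, z C ∈ locRing M := fun C => mul_mem (hecl.2 _) (centralChar_mem_locRing θ _)
  let sec : ResK M → ℂ := fun r => ((Function.surjInv IsLocalRing.residue_surjective r : locRing M) : ℂ)
  have hsec : ∀ r, resC M (sec r) = r := fun r => by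
    rw [resC_of_mem (SetLike.coe_mem _)]
    exact Function.surjInv_eq IsLocalRing.residue_surjective r
  have hcc : ∀ y y' : CG(Q), IsConj y y' →
      centralChar (θ : CG(Q) → ℂ) y = centralChar (θ : CG(Q) → ℂ) y' := fun y y' h => by
    rw [← omega_classSum, ← omega_classSum]
    congr 1
    refine MonoidAlgebra.ext (Finsupp.ext fun x => ?_)
    simp only [classSum, coeff_mkA]
    exact if_congr ⟨fun h' => h.symm.trans h', fun h' => h.trans h'⟩ rfl rfl
  have hzinv : ∀ (s : S) (C : ConjClasses CG(Q)), resC M (z (s • C)) = resC M (z C) := by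
    intro s C
    obtain ⟨hs, hsfix⟩ := hfix _ (s⁻¹).2
    have e1 : s • C = ConjClasses.mk (cf s⁻¹ (classRep C)) := by
      rw [← hsmul s, mk_classRep]
    have hc' : IsConj (classRep (s • C)) (cf s⁻¹ (classRep C)) := by
      rw [e1]; exact (isConj_classRep_mk _).symm
    have ha' : (blockIdem f).coeff (classRep (s • C)) = (blockIdem f).coeff (classRep C) := by
      rw [IsClassFunction.apply_isConj hecl.1 hc']
      simp only [blockIdem, coeff_mkA]
      conv_rhs => rw [← hsfix, blockCoeff_conjBlk]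
    have hcz : MemLocalIdeal M (centralChar (θ : CG(Q) → ℂ) (classRep (s • C)) -
        centralChar (θ : CG(Q) → ℂ) (classRep C)) := by
      rw [hcc _ _ hc']
      have hmem : conjIrr hs θ ∈ f := by
        have h := (mem_conjBlk_iff hs f θ).2 hθ
        rwa [hsfix] at h
      have h2 := isPBlock_sameBlock hf hmem hθ (classRep C)
      have h3 : centralChar ((conjIrr hs θ : IrrCharacter CG(Q)) : CG(Q) → ℂ) (classRep C) =
          centralChar (θ : CG(Q) → ℂ) (cf s⁻¹ (classRep C)) := by
        rw [← centralChar_comp_mulEquiv (cf s⁻¹)]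
        rfl
      rw [h3] at h2
      exact h2
    refine (resC_eq_iff (hzl _) (hzl _)).2 ?_
    show MemLocalIdeal M (_ * _ - _ * _)
    rw [ha', ← mul_sub]
    exact memLocalIdeal_mul_left (hecl.2 _) hcz
  have hsum := sum_congr_fixed hM hS (fun C => sec (resC M (z C)))
    (fun s C => by rw [hzinv]) fun C => SetLike.coe_mem _
  obtain ⟨C, hfixC, hC⟩ : ∃ C : ConjClasses CG(Q), (∀ s : S, s • C = C) ∧ resC M (z C) ≠ 0 := by
    by_contra! hnofix
    have h0 : resC M (∑ C, sec (resC M (z C))) = 0 := by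
      refine resC_eq_zero_of_memLocalIdeal ?_
      have : MemLocalIdeal M
          (∑ C, if (∀ s : S, s • C = C) then sec (resC M (z C)) else 0) :=
        memLocalIdeal_sum _ _ fun C _ => by
          split
          next h => exact (resC_eq_zero_iff (SetLike.coe_mem _)).1 (by rw [hsec, hnofix C h])
          · exact memLocalIdeal_zero
      simpa using memLocalIdeal_add hsum this
    have h1 : ro M θ (blockIdem f) = 0 := by
      rw [ro, omega_eq_sum_classes θ hecl.1, resC_sum _ _ fun C _ => hzl C]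
      rw [resC_sum _ _ fun C _ => SetLike.coe_mem _] at h0
      rw [Finset.sum_congr rfl fun C _ => hsec (resC M (z C))] at h0
      exact h0
    rw [ro_blockIdem_mem hθ] at h1
    exact one_ne_zero h1
  refine ⟨classRep C, fun h =>
    hC (resC_eq_zero_of_memLocalIdeal (memLocalIdeal_mul_right (centralChar_mem_locRing θ _) h)),
    fun s hs => ?_⟩
  have h1 := hfixC ⟨s, hs⟩
  rw [show C = ConjClasses.mk (classRep C) from (mk_classRep C).symm, hsmul] at h1
  obtain ⟨h, hh⟩ := isConj_iff.1 (ConjClasses.mk_eq_mk_iff_isConj.1 h1)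
  have hh' : (h : G) * (s * ((classRep C : CG(Q)) : G) * s⁻¹) * (h : G)⁻¹ =
      ((classRep C : CG(Q)) : G) := by
    have := congrArg (fun v : CG(Q) => (v : G)) hh
    simpa [cf] using this
  refine ⟨h, h.2, ?_⟩
  show (h : G) * s * ((classRep C : CG(Q)) : G) = ((classRep C : CG(Q)) : G) * ((h : G) * s)
  conv_rhs => rw [← hh']
  group

/-- The action of a subgroup of `N(Q)` on `Q`. -/
def stabAct (Q T : Subgroup G) (hTN : T ≤ Subgroup.normalizer (Q : Set G)) : T →* MulAut Q :=
  Q.normalizerMonoidHom.comp (Subgroup.inclusion hTN)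

theorem not_dvd_relIndex_stabAct (hM : IsPModular p M) {T : Subgroup G} (hT : IsStab Q T f)
    (hf : IsPBlock M f) {F : Set (IrrCharacter T)} (hF : IsBlockOfStab M Q T f F) {D : Subgroup T}
    (hD : IsDefectGroup p M F D) :
    ¬ p ∣ (D.map (stabAct Q T hT.le_normalizer)).relIndex (stabAct Q T hT.le_normalizer).range := by
  set π := stabAct Q T hT.le_normalizer with hπ
  obtain ⟨S, hDS⟩ := (isPGroup_of_isDefectGroup hD).exists_le_sylow
  have hCT : CG(Q) ≤ T := le_sup_right.trans (hT.sup_le hf)
  have hker : ∀ c : T, (c : G) ∈ CG(Q) → π c = 1 := fun c hc => MulEquiv.ext fun q => Subtype.ext (by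
    show (c : G) * (q : G) * (c : G)⁻¹ = (q : G)
    rw [← Subgroup.mem_centralizer_iff.1 hc q q.2, mul_inv_cancel_right])
  obtain ⟨y, hyu, hy⟩ := exists_fixed_class hM ((S.isPGroup').map T.subtype) hf fun t ht => by
    obtain ⟨t', -, rfl⟩ := ht
    exact hT.fixed hf _ t'.2
  set yT : T := ⟨(y : G), hCT y.2⟩ with hyT
  have hyu' : ¬ MemLocalIdeal M (blockCoeff F yT) := by
    rw [hF.2, coe_subgroupBlockCoeff, hyT, coeff_embH]
    exact hyu
  -- a `p`-subgroup of the centraliser of `y` with the same image as `S`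
  let U : Subgroup T := Subgroup.centralizer ({yT} : Set T) ⊓ ((S : Subgroup T).map π).comap π
  let ψ : U →* ((S : Subgroup T).map π) :=
    (π.comp U.subtype).codRestrict _ fun u => u.2.2
  have hψ : Function.Surjective ψ := by
    rintro ⟨_, s, hs, rfl⟩
    obtain ⟨h, hh, hc⟩ := hy (s : G) ⟨s, hs, rfl⟩
    have himg : π (⟨h, hCT hh⟩ * s) = π s := by rw [map_mul, hker _ hh, one_mul]
    refine ⟨⟨⟨h, hCT hh⟩ * s, (mem_centralizer_singleton (g := yT)).2 (show Commute yT (⟨h, hCT hh⟩ * s) from Subtype.ext hc.symm.eq), ⟨s, hs, himg.symm⟩⟩, ?_⟩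
    exact Subtype.ext himg
  obtain ⟨R⟩ : Nonempty (Sylow p U) := inferInstance
  have hR : ((R.mapSurjective hψ : Sylow p _) : Subgroup ((S : Subgroup T).map π)) = ⊤ :=
    (R.mapSurjective hψ).3
      ((S.isPGroup'.map π).of_equiv Subgroup.topEquiv.symm) le_top |>.symm
  obtain ⟨z, hz⟩ := defectLE_of_coeff_unit hM hF.1 hD hyu' ((R : Subgroup U).map U.subtype)
    (R.isPGroup'.map _) (fun u ⟨u', _, hu⟩ => hu ▸ u'.2.1)
  have hle : (S : Subgroup T).map π ≤ (D.map (MulAut.conj z⁻¹).toMonoidHom).map π := by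
    intro a ha
    have h1 : (⟨a, ha⟩ : (S : Subgroup T).map π) ∈
        ((R.mapSurjective hψ : Sylow p _) : Subgroup ((S : Subgroup T).map π)) := by
      rw [hR]; trivial
    rw [Sylow.coe_mapSurjective] at h1
    obtain ⟨u, hu, hua⟩ := h1
    exact ⟨(u : T), (map_conj_le_iff _ _ z).1 hz ⟨u, hu, rfl⟩, congrArg Subtype.val hua⟩
  have hcard : Nat.card ((S : Subgroup T).map π) ≤ Nat.card (D.map π) := by
    refine (Subgroup.card_le_of_le hle).trans (le_of_eq ?_)
    rw [Subgroup.map_map, show π.comp (MulAut.conj z⁻¹).toMonoidHom =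
      (MulAut.conj (π z⁻¹)).toMonoidHom.comp π from MonoidHom.ext fun t => by simp, ← Subgroup.map_map]
    exact card_map_conj _ _
  have heq : D.map π = (S : Subgroup T).map π :=
    Subgroup.eq_of_le_of_card_ge (Subgroup.map_mono hDS) hcard
  rw [heq, Subgroup.relIndex]
  have h2 := (S.mapSurjective π.rangeRestrict_surjective).not_dvd_index
  rw [Sylow.coe_mapSurjective] at h2
  rwa [show ((S : Subgroup T).map π).subgroupOf π.range = (S : Subgroup T).map π.rangeRestrict from
    le_antisymm (by rintro ⟨_, _⟩ ⟨s, hs, rfl⟩; exact ⟨s, hs, rfl⟩)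
      (by rintro _ ⟨s, hs, rfl⟩; exact ⟨s, hs, rfl⟩)]

end Cfsg.Agent.Block
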