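import Cfsg.Agent.Lib.Block.BlockSystem
import Cfsg.Agent.Lib.Block.StabSylow
import Cfsg.Agent.Lib.Block.SubgroupPair
import Cfsg.Agent.Lib.Fusion.Saturation

/-!
# The fusion system of a block is saturated
-/

set_option autoImplicit false

open Cfsg.Agent.Char
open scoped ComplexConjugate Pointwise

namespace Cfsg.Agent.Block

universe u

local notation "CG(" P ")" => Subgroup.centralizer (SetLike.coe P)

variable {G : Type u} [Group G] [Finite G] {M : Ideal AlgInt} [hMp : M.IsPrime] {p : ℕ}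
  [Fact p.Prime] {B : Set (IrrCharacter G)} {P Q : Subgroup G}
  {e : Set (IrrCharacter (Subgroup.centralizer (P : Set G)))}
  {f : Set (IrrCharacter (Subgroup.centralizer (Q : Set G)))} {F : FusionSystem P}

omit [Fact p.Prime] in
theorem stab_exists (hf : IsPBlock M f) : ∃ T : Subgroup G, IsStab Q T f := by
  refine ⟨{ carrier := {y | y ∈ Subgroup.normalizer (Q : Set G) ∧ StabilizesBlock CG(Q) f y}
            mul_mem' := fun ⟨a1, a2⟩ ⟨b1, b2⟩ => ?_
            one_mem' := ⟨one_mem _, (stabilizesBlock_iff hf).2 ⟨one_mem _, conjBlk_one _ _⟩⟩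
            inv_mem' := fun ⟨a1, a2⟩ => ?_ }, fun y => Iff.rfl⟩
  · obtain ⟨a2, a3⟩ := (stabilizesBlock_iff hf).1 a2
    obtain ⟨b2, b3⟩ := (stabilizesBlock_iff hf).1 b2
    exact ⟨mul_mem a1 b1, (stabilizesBlock_iff hf).2
      ⟨mul_mem a2 b2, by rw [conjBlk_mul a2 b2, b3, a3]⟩⟩
  · obtain ⟨a2, a3⟩ := (stabilizesBlock_iff hf).1 a2
    refine ⟨inv_mem a1, (stabilizesBlock_iff hf).2 ⟨inv_mem a2, ?_⟩⟩
    conv_lhs => rw [← a3]
    rw [← conjBlk_mul]
    convert conjBlk_one (one_mem _) f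
    exact inv_mul_cancel _

omit [Finite G] [Fact p.Prime] hMp in
theorem exists_idx_eq (f : Set (IrrCharacter (Subgroup.centralizer (Q : Set G)))) {R : Subgroup G}
    (h : R = Q) : ∃ k, (⟨R, k⟩ : BrauerPairIdx G) = ⟨Q, f⟩ := by
  subst h
  exact ⟨f, rfl⟩

/-- A conjugate of a pair equal to it as a pair means that the block is fixed. -/
theorem fixed_of_conjBlock_eq {g : G} (hg : g ∈ Subgroup.normalizer (Q : Set G))
    (h : (⟨Q.map (MulAut.conj g).toMonoidHom, conjBlock Q g f⟩ : BrauerPairIdx G) = ⟨Q, f⟩) :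
    ∃ hq : g ∈ Subgroup.normalizer (Subgroup.centralizer (Q : Set G) : Set G), conjBlk hq f = f := by
  have hn := le_normalizer_centralizer le_rfl hg
  have hQ : Q.map (MulAut.conj g).toMonoidHom = Q := congrArg Sigma.fst h
  refine ⟨hn, ?_⟩
  have h2 : (⟨Q.map (MulAut.conj g).toMonoidHom, conjBlock Q g f⟩ : BrauerPairIdx G) =
      ⟨Q, conjBlk hn f⟩ := by
    refine pairIdx_ext hQ fun ξ ξ' hξ => ?_
    rw [mem_conjBlock_iff]
    have : ξ' = conjIrr hn (compIrr (centConj Q g).symm ξ) := Subtype.ext (funext fun c => by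
      rw [conjIrr_apply, compIrr_apply]
      exact ((irr_congr ξ (show g * (g⁻¹ * (c : G) * g) * g⁻¹ = (c : G) by group)).trans
        (hξ (c : G) (by rw [hQ]; exact c.2) c.2)).symm)
    rw [this, mem_conjBlk_iff]
  exact eq_of_heq (Sigma.mk.inj_iff.1 (h2.symm.trans h)).2

theorem autGroup_blockSystem (hM : IsPModular p M) (hmax : IsMaximalBrauerPair p M B P e)
    (hF : IsBlockFusionSystemOn p M B P e F) (hle : SubpairLE p M Q f P e) {T : Subgroup G}
    (hT : IsStab Q T f) : F.autGroup Q = (stabAct Q T hT.le_normalizer).range := by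
  have hf := ((SubpairLE.pairOf_iff hM hle B).1 hmax.1).1.2
  refine le_antisymm ((Subgroup.closure_le _).2 ?_) ?_
  · intro α hα
    obtain ⟨hQP, g, hg, hgP, f', hf', hgf⟩ := (hF.2 Q _).1 hα
    obtain rfl : f' = f := (existsUnique_subpair hM P e hmax.1.1 Q hQP).unique hf' hle
    have hx : ∀ u : Q, g * (u : G) * g⁻¹ = ((α u : Q) : G) := fun u => (hg u).symm
    have hmap : Q.map (MulAut.conj g).toMonoidHom = Q := by
      refine le_antisymm ?_ fun y hy => ?_
      · rintro _ ⟨u, hu, rfl⟩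
        show g * u * g⁻¹ ∈ Q
        rw [hx ⟨u, hu⟩]
        exact (α ⟨u, hu⟩).2
      · refine ⟨((α.symm ⟨y, hy⟩ : Q) : G), SetLike.coe_mem _, ?_⟩
        show g * _ * g⁻¹ = y
        rw [hx, MulEquiv.apply_symm_apply]
    have hgN : g ∈ Subgroup.normalizer (Q : Set G) := by
      rw [Subgroup.mem_normalizer_iff]
      intro y
      constructor
      · exact fun hy => hmap.le ⟨y, hy, rfl⟩
      · intro hy
        obtain ⟨u, hu, hu'⟩ := hmap.ge hy
        have : y = u := by
          have h' : g * u * g⁻¹ = g * y * g⁻¹ := hu'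
          exact (mul_left_cancel (mul_right_cancel h')).symm
        exact this ▸ hu
    have hidx : (⟨Q.map (MulAut.conj g).toMonoidHom, conjBlock Q g f'⟩ : BrauerPairIdx G) = ⟨Q, f'⟩ := by
      have hQ2 : Q.map (MulAut.conj g).toMonoidHom ≤ P := hmap.le.trans hQP
      obtain ⟨h', hh', hu⟩ := existsUnique_subpair hM P e hmax.1.1 _ hQ2
      have h1 : conjBlock Q g f' = h' := hu _ hgf
      subst h1
      obtain ⟨k, hk⟩ := exists_idx_eq f' hmap
      have hk' : SubpairLE p M (Q.map (MulAut.conj g).toMonoidHom) k P e := by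
        unfold SubpairLE
        rw [hk]
        exact hle
      rw [← hu k hk']
      exact hk
    exact ⟨⟨g, hT.mem_of_fixed hf hgN (fixed_of_conjBlock_eq hgN hidx)⟩,
      MulEquiv.ext fun u => Subtype.ext (hx u)⟩
  · rintro _ ⟨t, rfl⟩
    refine Subgroup.subset_closure ((hF.2 Q _).2 ⟨SubpairLE.le hle, (t : G), fun u => rfl, ?_, f, hle, ?_⟩)
    · rintro _ ⟨u, hu, rfl⟩
      exact SubpairLE.le hle ((Subgroup.mem_normalizer_iff.1 (hT.le_normalizer t.2) u).1 hu)
    · obtain ⟨hn, hfix⟩ := hT.fixed hf (t : G) t.2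
      have hN := hT.le_normalizer t.2
      have hidx : (⟨Q.map (MulAut.conj (t : G)).toMonoidHom, conjBlock Q (t : G) f⟩ : BrauerPairIdx G) =
          ⟨Q, f⟩ := by
        have hQ : Q.map (MulAut.conj (t : G)).toMonoidHom = Q := by
          ext y
          rw [mem_map_conj_iff]
          exact (Subgroup.mem_normalizer_iff''.1 hN y).symm
        refine pairIdx_ext hQ fun ξ ξ' hξ => ?_
        rw [mem_conjBlock_iff]
        conv_rhs => rw [← hfix]
        have : ξ' = conjIrr hn (compIrr (centConj Q (t : G)).symm ξ) := Subtype.ext (funext fun c => by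
          rw [conjIrr_apply, compIrr_apply]
          exact ((irr_congr ξ (show (t : G) * ((t : G)⁻¹ * (c : G) * (t : G)) * (t : G)⁻¹ = (c : G) by group)).trans
            (hξ (c : G) (by rw [hQ]; exact c.2) c.2)).symm)
        rw [this, mem_conjBlk_iff]
      unfold SubpairLE
      rw [hidx]
      exact hle

theorem fullyAutomized_of_card (hM : IsPModular p M) (hmax : IsMaximalBrauerPair p M B P e)
    (hF : IsBlockFusionSystemOn p M B P e F) (hle : SubpairLE p M Q f P e) {T : Subgroup G}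
    (hT : IsStab Q T f) {FT : Set (IrrCharacter T)} (hFT : IsBlockOfStab M Q T f FT)
    (hD : IsDefectGroup p M FT ((P ⊓ Subgroup.normalizer (Q : Set G)).subgroupOf T)) :
    F.IsFullyAutomized p Q := by
  have hPp := hmax.1.1.1
  rw [Cfsg.Agent.Fusion.isFullyAutomized_iff hPp (SubpairLE.le hle), autGroup_blockSystem hM hmax hF hle hT]
  have hR := (exists_defectGroup_normalizerIn hM hmax.1.1 hle hT hFT).1
  have := not_dvd_relIndex_stabAct hM hT (((SubpairLE.pairOf_iff hM hle B).1 hmax.1).1.2) hFT hD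
  convert this using 3
  ext α
  rw [Cfsg.Agent.Fusion.mem_autInducedBy]
  constructor
  · rintro ⟨g, hgP, hgN, hx⟩
    exact ⟨⟨g, hR ⟨hgP, hgN⟩⟩, ⟨hgP, hgN⟩, MulEquiv.ext fun u => Subtype.ext (hx u).symm⟩
  · rintro ⟨t, ht, rfl⟩
    exact ⟨(t : G), ht.1, ht.2, fun u => rfl⟩

theorem receptive_of_card (hM : IsPModular p M) (hmax : IsMaximalBrauerPair p M B P e)
    (hF : IsBlockFusionSystemOn p M B P e F) (hle : SubpairLE p M Q f P e) {T : Subgroup G}
    (hT : IsStab Q T f) {FT : Set (IrrCharacter T)} (hFT : IsBlockOfStab M Q T f FT)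
    (hD : IsDefectGroup p M FT ((P ⊓ Subgroup.normalizer (Q : Set G)).subgroupOf T)) :
    F.IsReceptive Q := by
  have hPe := hmax.1.1
  have hQP := SubpairLE.le hle
  have hQpair := ((SubpairLE.pairOf_iff hM hle B).1 hmax.1).1
  set D := P ⊓ Subgroup.normalizer (Q : Set G) with hDdef
  have hQD : Q ≤ D := le_inf hQP Subgroup.le_normalizer
  have hDT : D ≤ T := (exists_defectGroup_normalizerIn hM hPe hle hT hFT).1
  set K := D ⊔ CG(Q) with hKdef
  have hKT : K ≤ T := sup_le hDT (le_sup_right.trans (hT.sup_le hQpair.2))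
  have hQK : Q ≤ K := hQD.trans le_sup_left
  have hKN : K ≤ Subgroup.normalizer (Q : Set G) := hKT.trans hT.le_normalizer
  obtain ⟨FK, hFK, hFKco⟩ := exists_stab_block hM hQpair.1 hQK hKN le_sup_right hQpair.2
    fun t ht => hT.fixed hQpair.2 t (hKT ht)
  -- the pair on `D`
  obtain ⟨d, hd, -⟩ := existsUnique_subpair hM P e hPe D inf_le_left
  obtain ⟨f', hf', -⟩ := existsUnique_normalSubpair hM (isBrauerPair_of_le hd hPe) hQD inf_le_right
  obtain rfl : f' = f := (existsUnique_subpair hM P e hPe Q hQP).unique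
    (Relation.ReflTransGen.head (show NormalSubpairRel p M ⟨Q, f'⟩ ⟨D, d⟩ from hf') hd) hle
  have hDpair := IsNormalSubpair.restr_pairOf hf' (le_sup_left : D ≤ K) le_sup_right hFK hFKco
  obtain ⟨DK, hDK, hDle⟩ := exists_defectGroup_stab hM hf' le_sup_left le_sup_right hFK hFKco
  -- its defect group is not larger
  have hDmax : IsDefectGroup p M FK (D.subgroupOf K) := by
    have hDKK : DK.map K.subtype ≤ K := Subgroup.map_subtype_le DK
    have hQDK : Q ≤ DK.map K.subtype := fun q hq =>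
      ⟨⟨q, hQK hq⟩, hDle (show (⟨q, hQK hq⟩ : K) ∈ D.subgroupOf K from hQD hq), rfl⟩
    obtain ⟨g, hg, S, hS⟩ := id hDK
    have hne : brFun M (DK.map K.subtype) (embH CG(Q) (blockIdem f')) ≠ 0 := fun h0 => by
      have hy : (g : G) ∈ Subgroup.centralizer ((DK.map K.subtype : Subgroup G) : Set G) := by
        refine mem_centralizer_subgroup.2 ?_
        rintro _ ⟨u, hu, rfl⟩
        rw [mem_centralizer_singleton]
        exact (mem_centralizer_singleton.1 (sylowImage_le S (hS.le hu))).map K.subtype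
      have h1 := (brFun_eq_zero_iff (isLocElt_embH _ (isLocElt_blockIdem hQpair.2))).1 h0 _ hy
      rw [← coe_subgroupBlockCoeff, ← hFKco] at h1
      exact hg.2.1 h1
    obtain ⟨e', he'⟩ := exists_extension hM hQpair ((isPGroup_of_isDefectGroup hDK).map _) hQDK
      (hDKK.trans hKN) (fun q hq => hT.fixed hQpair.2 q (hKT (hDKK hq))) hne
    obtain ⟨D', hD', hle'⟩ := exists_defectGroup_stab hM he' (hDKK.trans hKT)
      (le_sup_right.trans hKT) hFT.1 hFT.2
    have hcard : Nat.card DK ≤ Nat.card (D.subgroupOf K) := by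
      rw [Nat.card_congr (Subgroup.subgroupOfEquivOfLe (le_sup_left : D ≤ K)).toEquiv,
        ← Nat.card_congr (Subgroup.subgroupOfEquivOfLe hDT).toEquiv,
        card_defectGroup hM hFT.1 hD, ← card_defectGroup hM hFT.1 hD',
        ← Subgroup.card_map_of_injective K.subtype_injective (K := DK),
        ← Nat.card_congr (Subgroup.subgroupOfEquivOfLe (hDKK.trans hKT)).toEquiv]
      exact Subgroup.card_le_of_le hle'
    rwa [Subgroup.eq_of_le_of_card_ge hDle hcard]
  have hDmax' := isMaximal_of_defectGroup hM hDpair hDmax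
  -- the extension
  refine Cfsg.Agent.Fusion.isReceptive_intro hQP fun R₀ N φ hφ hRN hcond => ?_
  obtain ⟨ψ, hψ, hψx⟩ := hφ.1
  obtain ⟨hR₀P, g, hg, -, f₀, hf₀, hgf₀⟩ := (hF.2 R₀ ψ).1 hψ
  have hgR : ∀ x ∈ R₀, φ x = g * x * g⁻¹ := fun x hx => (hψx ⟨x, hx⟩).symm.trans (hg ⟨x, hx⟩)
  have hmapR : R₀.map (MulAut.conj g).toMonoidHom = Q := by
    ext y
    constructor
    · rintro ⟨x, hx, rfl⟩
      show g * x * g⁻¹ ∈ Q
      rw [← hgR x hx]
      exact hφ.apply_mem hx
    · intro hy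
      obtain ⟨x, hx, rfl⟩ := hφ.exists_apply hy
      exact ⟨x, hx, (hgR x hx).symm⟩
  have hNP : N ≤ P := fun a ha => (hcond a ha).1
  have hNN : N ≤ Subgroup.normalizer (R₀ : Set G) := fun a ha => (hcond a ha).2.1
  obtain ⟨n, hn, -⟩ := existsUnique_subpair hM P e hPe N hNP
  obtain ⟨f₁, hf₁, -⟩ := existsUnique_normalSubpair hM (isBrauerPair_of_le hn hPe) hRN hNN
  obtain rfl : f₁ = f₀ := (existsUnique_subpair hM P e hPe R₀ hR₀P).unique
    (Relation.ReflTransGen.head (show NormalSubpairRel p M ⟨R₀, f₁⟩ ⟨N, n⟩ from hf₁) hn) hf₀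
  have hgidx : (⟨R₀.map (MulAut.conj g).toMonoidHom, conjBlock R₀ g f₁⟩ : BrauerPairIdx G) = ⟨Q, f'⟩ := by
    obtain ⟨k, hk⟩ := exists_idx_eq f' hmapR
    have hk' : SubpairLE p M (R₀.map (MulAut.conj g).toMonoidHom) k P e := by
      unfold SubpairLE
      rw [hk]
      exact hle
    rw [(existsUnique_subpair hM P e hPe _ (SubpairLE.le hgf₀)).unique hgf₀ hk']
    exact hk
  have hgN : IsNormalSubpair p M Q f' (N.map (MulAut.conj g).toMonoidHom) (conjBlock N g n) := by
    have h3 : NormalSubpairRel p M ⟨R₀.map (MulAut.conj g).toMonoidHom, conjBlock R₀ g f₁⟩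
        ⟨N.map (MulAut.conj g).toMonoidHom, conjBlock N g n⟩ := IsNormalSubpair.conj hf₁ g
    rw [hgidx] at h3
    exact h3
  have hgNK : N.map (MulAut.conj g).toMonoidHom ≤ K := by
    rintro _ ⟨a, ha, rfl⟩
    obtain ⟨-, han, h, hh, hx⟩ := hcond a ha
    have key : ∀ y ∈ Q, g * a * g⁻¹ * y * (g * a * g⁻¹)⁻¹ = h * y * h⁻¹ ∧ h * y * h⁻¹ ∈ Q := by
      intro y hy
      obtain ⟨x, hxR, rfl⟩ := hφ.exists_apply hy
      have hax := Cfsg.Agent.Fusion.conj_mem_of_mem_normalizer han hxR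
      refine ⟨?_, hx x hxR ▸ hφ.apply_mem hax⟩
      rw [← hx x hxR, hgR x hxR, hgR _ hax]; group
    have hhD : h ∈ D := ⟨hh, Cfsg.Agent.Fusion.mem_normalizer_of_conj_mem (S := ⊤) le_top fun y hy => (key y hy).2⟩
    show g * a * g⁻¹ ∈ K
    rw [show g * a * g⁻¹ = h * (h⁻¹ * (g * a * g⁻¹)) by group]
    refine mul_mem (Subgroup.mem_sup_left hhD) (Subgroup.mem_sup_right ?_)
    rw [Subgroup.mem_centralizer_iff]
    intro y hy
    calc y * (h⁻¹ * (g * a * g⁻¹)) = h⁻¹ * (h * y * h⁻¹) * (g * a * g⁻¹) := by group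
      _ = h⁻¹ * (g * a * g⁻¹) * y := by rw [← (key y hy).1]; group
  have hNpair := IsNormalSubpair.restr_pairOf hgN hgNK le_sup_right hFK hFKco
  obtain ⟨k, hk⟩ := exists_conj_le_maximal hM hDmax' hNpair
  -- back to the group
  set R := (N.map (MulAut.conj g).toMonoidHom).subgroupOf K with hRdef
  have hRC : CG((R.map K.subtype)) ≤ K := by
    rw [hRdef, Subgroup.map_subgroupOf_eq_of_le hgNK]
    exact (centralizer_le_of_le hgN.2.2.1).trans le_sup_right
  have hDC : CG(((D.subgroupOf K).map K.subtype)) ≤ K := by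
    rw [Subgroup.map_subgroupOf_eq_of_le le_sup_left]
    exact (centralizer_le_of_le hQD).trans le_sup_right
  have hRC' : CG(((R.map (MulAut.conj k).toMonoidHom).map K.subtype)) ≤ K := by
    refine (centralizer_le_of_le (fun q hq => ?_)).trans (le_sup_right : CG(Q) ≤ K)
    have hq' : (k : G)⁻¹ * q * (k : G) ∈ Q :=
      (Subgroup.mem_normalizer_iff''.1 (hKN k.2) q).1 hq
    exact ⟨k * ⟨_, hQK hq'⟩ * k⁻¹, ⟨⟨_, hQK hq'⟩, hgN.2.2.1 hq', rfl⟩, by simp [mul_assoc]⟩
  have h4 := subpairLE_lift hk hDC hRC'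
  rw [liftBlk_conjBlock R k hRC hRC', liftBlk_restrBlk D le_sup_left _ hDC] at h4
  have hidxR := liftBlk_restrBlk (N.map (MulAut.conj g).toMonoidHom) hgNK
    ((centralizer_le_of_le hgN.2.2.1).trans le_sup_right) hRC (conjBlock N g n)
  have h5 : SubpairLE p M ((N.map (MulAut.conj g).toMonoidHom).map (MulAut.conj (k : G)).toMonoidHom)
      (conjBlock _ (k : G) (conjBlock N g n)) P e := by
    refine Relation.ReflTransGen.trans ?_ hd
    have h6 := congrArg (fun a : BrauerPairIdx G =>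
      (⟨a.1.map (MulAut.conj (k : G)).toMonoidHom, conjBlock a.1 (k : G) a.2⟩ : BrauerPairIdx G)) hidxR
    exact h6 ▸ h4
  -- split `k`
  have hkK : (k : G) ∈ K := k.2
  rw [← SetLike.mem_coe, hKdef, Subgroup.coe_mul_of_left_le_normalizer_right D _
    (inf_le_right.trans (le_normalizer_centralizer le_rfl))] at hkK
  obtain ⟨δ, hδ, c, hc, hkc⟩ := hkK
  have h7 := subpairLE_conj_fixed hPe.2 h5 (x := δ⁻¹) (Subgroup.mem_sup_left (inv_mem hδ.1))
  have h8 : SubpairLE p M (N.map (MulAut.conj (c * g)).toMonoidHom) (conjBlock N (c * g) n) P e := by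
    unfold SubpairLE at h7 ⊢
    rw [conjBlock_conjBlock] at h7
    rw [show δ⁻¹ * (k : G) = c by rw [← hkc]; group, conjBlock_conjBlock] at h7
    exact h7
  refine ⟨fun x => c * g * x * (c * g)⁻¹, ⟨conjHom N (c * g),
    (hF.2 N _).2 ⟨hNP, c * g, fun _ => rfl, SubpairLE.le h8, n, hn, h8⟩, fun _ => rfl⟩, fun x hx => ?_⟩
  have h2 := Subgroup.mem_centralizer_iff.1 hc (φ x) (hφ.apply_mem hx)
  rw [hgR x hx] at h2 ⊢
  calc c * g * x * (c * g)⁻¹ = (c * (g * x * g⁻¹)) * c⁻¹ := by group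
    _ = (g * x * g⁻¹ * c) * c⁻¹ := by rw [← h2]
    _ = g * x * g⁻¹ := by group

theorem blockSystem_isSaturated (hM : IsPModular p M) (hmax : IsMaximalBrauerPair p M B P e)
    (hF : IsBlockFusionSystemOn p M B P e F) : F.IsSaturated p := by
  intro Q hQ
  obtain ⟨f, hle, -⟩ := existsUnique_subpair hM P e hmax.1.1 Q hQ
  have hQpair := ((SubpairLE.pairOf_iff hM hle B).1 hmax.1).1
  obtain ⟨T, hT⟩ := stab_exists hQpair.2
  obtain ⟨FT, hFT⟩ := hT.exists_block hM hQpair
  obtain ⟨D, hD⟩ := exists_isDefectGroup (p := p) hFT.1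
  obtain ⟨x, hx, hc⟩ := exists_card_normalizerIn_ge hM hmax hle hT hFT hD
  have hT' := hT.map hQpair.2 x
  obtain ⟨FT', hFT'⟩ := hT'.exists_block hM (IsBrauerPair.conj hQpair x)
  obtain ⟨-, D', hD', -⟩ := exists_defectGroup_normalizerIn hM hmax.1.1 hx hT' hFT'
  have hN := (isDefectGroup_normalizerIn_iff hM hmax.1.1 hx hT' hFT' hD').2 (by
    rw [card_defectGroup_stab_map hM x hFT hFT' hD hD']
    exact le_antisymm (card_normalizerIn_le hM hmax.1.1 hQpair hT hFT hD hx) hc)
  exact ⟨_, (isConj_iff_subpair hM hmax hF hle _).2 ⟨x, rfl, hx⟩,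
    fullyAutomized_of_card hM hmax hF hx hT' hFT' hN, receptive_of_card hM hmax hF hx hT' hFT' hN⟩

end Cfsg.Agent.Block
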