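import Cfsg.Agent.Lib.Block.StabPair

/-!
# The fusion system of a block exists
-/

set_option autoImplicit false

open Cfsg.Agent.Char
open scoped ComplexConjugate Pointwise

namespace Cfsg.Agent.Block

universe u

local notation "CG(" P ")" => Subgroup.centralizer (SetLike.coe P)

variable {G : Type u} [Group G] [Finite G] {M : Ideal AlgInt} {p : ℕ}
  {B : Set (IrrCharacter G)} {P : Subgroup G}
  {e : Set (IrrCharacter (Subgroup.centralizer (P : Set G)))}

theorem conjBlock_idx_one (Q : Subgroup G)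
    (f : Set (IrrCharacter (Subgroup.centralizer (Q : Set G)))) :
    (⟨Q.map (MulAut.conj (1 : G)).toMonoidHom, conjBlock Q 1 f⟩ : BrauerPairIdx G) = ⟨Q, f⟩ := by
  have hQ : Q.map (MulAut.conj (1 : G)).toMonoidHom = Q := by
    ext y
    rw [mem_map_conj_iff]
    simp
  refine pairIdx_ext hQ fun ξ ξ' h => ?_
  rw [mem_conjBlock_iff]
  have : compIrr (centConj Q 1).symm ξ = ξ' := Subtype.ext (funext fun c => by
    rw [compIrr_apply]
    exact (irr_congr ξ (show (1 : G) * (c : G) * 1⁻¹ = (c : G) by group)).trans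
      (h (c : G) (by rw [hQ]; exact c.2) c.2))
  rw [this]

theorem conjBlock_idx_inv (Q : Subgroup G) (x : G)
    (f : Set (IrrCharacter (Subgroup.centralizer (Q : Set G)))) :
    (⟨(Q.map (MulAut.conj x).toMonoidHom).map (MulAut.conj x⁻¹).toMonoidHom,
      conjBlock _ x⁻¹ (conjBlock Q x f)⟩ : BrauerPairIdx G) = ⟨Q, f⟩ := by
  rw [conjBlock_conjBlock, inv_mul_cancel]
  exact conjBlock_idx_one Q f

variable [hMp : M.IsPrime] [Fact p.Prime]

theorem conjBlock_idx_of_mem (hf : IsPBlock M e) {x : G} (hx : x ∈ P ⊔ Subgroup.centralizer (P : Set G)) :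
    (⟨P.map (MulAut.conj x).toMonoidHom, conjBlock P x e⟩ : BrauerPairIdx G) = ⟨P, e⟩ := by
  have hxN : x ∈ Subgroup.normalizer (P : Set G) := sup_centralizer_le_normalizer P hx
  have hP : P.map (MulAut.conj x).toMonoidHom = P := by
    ext y
    rw [mem_map_conj_iff]
    have := Subgroup.mem_normalizer_iff''.1 hxN y
    exact this.symm
  obtain ⟨hn, hfix⟩ := conjBlk_of_mem_sup (f := e) hx
  refine pairIdx_ext hP fun ξ ξ' h => ?_
  rw [mem_conjBlock_iff]
  conv_rhs => rw [← hfix]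
  have : ξ' = conjIrr hn (compIrr (centConj P x).symm ξ) := Subtype.ext (funext fun c => by
    rw [conjIrr_apply, compIrr_apply]
    exact ((irr_congr ξ (show x * (x⁻¹ * (c : G) * x) * x⁻¹ = (c : G) by group)).trans
      (h (c : G) (by rw [hP]; exact c.2) c.2)).symm)
  rw [this, mem_conjBlk_iff]

theorem subpairLE_conj_fixed (he : IsPBlock M e) {Q : Subgroup G}
    {f : Set (IrrCharacter (Subgroup.centralizer (Q : Set G)))} (h : SubpairLE p M Q f P e) {x : G}
    (hx : x ∈ P ⊔ Subgroup.centralizer (P : Set G)) :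
    SubpairLE p M (Q.map (MulAut.conj x).toMonoidHom) (conjBlock Q x f) P e := by
  have h' := SubpairLE.conj h x
  rwa [conjBlock_idx_of_mem he hx] at h'

/-- The maps of the fusion system of a block. -/
def blockHom (p : ℕ) (M : Ideal AlgInt) (P : Subgroup G)
    (e : Set (IrrCharacter (Subgroup.centralizer (P : Set G)))) (Q : Subgroup G) : Set (Q →* G) :=
  {φ | Q ≤ P ∧ ∃ g : G, (∀ u : Q, φ u = g * (u : G) * g⁻¹) ∧
    Q.map (MulAut.conj g).toMonoidHom ≤ P ∧
    ∃ f : Set (IrrCharacter (Subgroup.centralizer (Q : Set G))),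
      SubpairLE p M Q f P e ∧
        SubpairLE p M (Q.map (MulAut.conj g).toMonoidHom) (conjBlock Q g f) P e}

omit [Finite G] [Fact p.Prime] hMp in
theorem range_eq_map {Q : Subgroup G} {φ : Q →* G} {g : G}
    (hg : ∀ u : Q, φ u = g * (u : G) * g⁻¹) : φ.range = Q.map (MulAut.conj g).toMonoidHom := by
  ext y
  constructor
  · rintro ⟨x, rfl⟩
    exact ⟨x, x.2, (hg x).symm⟩
  · rintro ⟨x, hx, rfl⟩
    exact ⟨⟨x, hx⟩, hg ⟨x, hx⟩⟩

/-- The fusion system of a block on a maximal pair. -/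
def blockSystem (hM : IsPModular p M) (hmax : IsMaximalBrauerPair p M B P e) : FusionSystem P where
  Hom := blockHom p M P e
  le_of_mem := by
    rintro Q φ ⟨hQ, g, hg, hgP, -⟩
    exact ⟨hQ, fun x => hgP ⟨x, x.2, (hg x).symm⟩⟩
  injective_of_mem := by
    rintro Q φ ⟨-, g, hg, -⟩ a b hab
    rw [hg, hg] at hab
    exact Subtype.ext (mul_left_cancel (mul_right_cancel hab))
  conj_mem := by
    intro Q g hQ hg
    obtain ⟨f, hf, -⟩ := existsUnique_subpair hM P e hmax.1.1 Q hQ
    have h := subpairLE_conj_fixed hmax.1.1.2 hf (Subgroup.mem_sup_left hg)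
    exact ⟨hQ, g, fun _ => rfl, SubpairLE.le h, f, hf, h⟩
  comp_mem := by
    rintro Q R φ ψ ⟨hQ, g, hg, -, f, hf, hgf⟩ ⟨-, h, hh, -, r, hr, hhr⟩ hval
    have hgR : Q.map (MulAut.conj g).toMonoidHom ≤ R := by
      rintro _ ⟨x, hx, rfl⟩
      have := hval ⟨x, hx⟩
      rw [hg] at this
      exact this
    obtain ⟨f', hf', -⟩ :=
      existsUnique_subpair hM R r (isBrauerPair_of_le hr hmax.1.1) _ hgR
    obtain rfl : f' = conjBlock Q g f :=
      (existsUnique_subpair hM P e hmax.1.1 _ (SubpairLE.le hgf)).unique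
        (Relation.ReflTransGen.trans hf' hr) hgf
    have h2 := Relation.ReflTransGen.trans (SubpairLE.conj hf' h) hhr
    rw [conjBlock_conjBlock] at h2
    refine ⟨hQ, h * g, fun u => ?_, SubpairLE.le h2, f, hf, h2⟩
    show ψ (φ.codRestrict R hval u) = _
    rw [hh]
    show h * φ u * h⁻¹ = _
    rw [hg]
    group
  inv_mem := by
    rintro Q φ ⟨hQ, g, hg, hgP, f, hf, hgf⟩
    have hrange := range_eq_map hg
    refine ⟨conjHom φ.range g⁻¹, ?_, fun x => ?_⟩
    · rw [hrange]
      refine ⟨hgP, g⁻¹, fun _ => rfl, ?_, conjBlock Q g f, hgf, ?_⟩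
      · rintro _ ⟨_, ⟨x, hx, rfl⟩, rfl⟩
        simpa [mul_assoc] using hQ hx
      · unfold SubpairLE
        rw [conjBlock_idx_inv]
        exact hf
    · show g⁻¹ * φ x * g⁻¹⁻¹ = x
      rw [hg]
      group

theorem isBlockFusionSystemOn_blockSystem (hM : IsPModular p M)
    (hmax : IsMaximalBrauerPair p M B P e) :
    IsBlockFusionSystemOn p M B P e (blockSystem hM hmax) :=
  ⟨hmax, fun _ _ => Iff.rfl⟩

end Cfsg.Agent.Block
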