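import Cfsg.Agent.Lib.Block.Brauer
import Cfsg.Agent.Lib.Block.SecondMain

/-!
# The Brauer homomorphism, with values in the group algebra over the residue field
-/

set_option autoImplicit false

open Cfsg.Agent.Char
open scoped ComplexConjugate

namespace Cfsg.Agent.Block

universe u

variable {G : Type u} [Group G] {M : Ideal AlgInt} [hMp : M.IsPrime] {p : ℕ}

/-- The residue field at `M`. -/
abbrev ResK (M : Ideal AlgInt) [M.IsPrime] := IsLocalRing.ResidueField (locRing M)

/-- Reduction of a local integer. -/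
noncomputable def resC (M : Ideal AlgInt) [M.IsPrime] (z : ℂ) : ResK M := by
  classical exact if h : z ∈ locRing M then IsLocalRing.residue _ ⟨z, h⟩ else 0

theorem resC_of_mem {z : ℂ} (h : z ∈ locRing M) : resC M z = IsLocalRing.residue _ ⟨z, h⟩ := by
  simp [resC, h]

theorem resC_add {x y : ℂ} (hx : x ∈ locRing M) (hy : y ∈ locRing M) :
    resC M (x + y) = resC M x + resC M y := by
  rw [resC_of_mem hx, resC_of_mem hy, resC_of_mem (add_mem hx hy), ← map_add]; rfl

theorem resC_sub {x y : ℂ} (hx : x ∈ locRing M) (hy : y ∈ locRing M) :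
    resC M (x - y) = resC M x - resC M y := by
  rw [resC_of_mem hx, resC_of_mem hy, resC_of_mem (sub_mem hx hy), ← map_sub]; rfl

theorem resC_mul {x y : ℂ} (hx : x ∈ locRing M) (hy : y ∈ locRing M) :
    resC M (x * y) = resC M x * resC M y := by
  rw [resC_of_mem hx, resC_of_mem hy, resC_of_mem (mul_mem hx hy), ← map_mul]; rfl

@[simp] theorem resC_zero : resC M 0 = 0 := by
  rw [resC_of_mem (zero_mem _)]; exact map_zero _

@[simp] theorem resC_one : resC M 1 = 1 := by
  rw [resC_of_mem (one_mem _)]; exact map_one _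

theorem resC_eq_zero_iff {z : ℂ} (h : z ∈ locRing M) : resC M z = 0 ↔ MemLocalIdeal M z := by
  rw [resC_of_mem h, IsLocalRing.residue_eq_zero_iff, mem_maximalIdeal_locRing]

theorem resC_eq_zero_of_memLocalIdeal {z : ℂ} (h : MemLocalIdeal M z) : resC M z = 0 :=
  (resC_eq_zero_iff (mem_locRing_of_memLocalIdeal h)).2 h

theorem resC_eq_iff {x y : ℂ} (hx : x ∈ locRing M) (hy : y ∈ locRing M) :
    resC M x = resC M y ↔ MemLocalIdeal M (x - y) := by
  rw [← sub_eq_zero, ← resC_sub hx hy, resC_eq_zero_iff (sub_mem hx hy)]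

theorem resC_sum {ι : Type*} (s : Finset ι) (f : ι → ℂ) (h : ∀ i ∈ s, f i ∈ locRing M) :
    resC M (∑ i ∈ s, f i) = ∑ i ∈ s, resC M (f i) := by
  classical
  induction s using Finset.induction_on with
  | empty => simp
  | insert i s hi ih =>
    rw [Finset.sum_insert hi, Finset.sum_insert hi, resC_add (h i (Finset.mem_insert_self _ _))
      (Subring.sum_mem _ fun j hj => h j (Finset.mem_insert_of_mem hj)),
      ih fun j hj => h j (Finset.mem_insert_of_mem hj)]

/-! ## Elements fixed by a subgroup -/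

/-- Central elements with local integral coefficients. -/
def CL (M : Ideal AlgInt) (a : MonoidAlgebra ℂ G) : Prop := IsCentralElt a ∧ IsLocElt M a

theorem CL.one : CL M (1 : MonoidAlgebra ℂ G) := ⟨IsCentralElt.one, IsLocElt.one⟩

theorem CL.zero : CL M (0 : MonoidAlgebra ℂ G) := ⟨IsCentralElt.zero, IsLocElt.zero⟩

theorem CL.add {a b : MonoidAlgebra ℂ G} (ha : CL M a) (hb : CL M b) : CL M (a + b) :=
  ⟨ha.1.add hb.1, ha.2.add hb.2⟩

theorem CL.sub {a b : MonoidAlgebra ℂ G} (ha : CL M a) (hb : CL M b) : CL M (a - b) :=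
  ⟨ha.1.sub hb.1, ha.2.sub hb.2⟩

theorem CL.smul {a : MonoidAlgebra ℂ G} (ha : CL M a) {c : ℂ} (hc : c ∈ locRing M) : CL M (c • a) :=
  ⟨ha.1.smul c, ha.2.smul hc⟩

theorem CL.sum {ι : Type*} (s : Finset ι) (f : ι → MonoidAlgebra ℂ G) (h : ∀ i ∈ s, CL M (f i)) :
    CL M (∑ i ∈ s, f i) :=
  Finset.sum_induction f (CL M) (fun _ _ => CL.add) CL.zero h

theorem CL.mul [Finite G] {a b : MonoidAlgebra ℂ G} (ha : CL M a) (hb : CL M b) : CL M (a * b) :=
  ⟨ha.1.mul hb.1, ha.2.mul hb.2⟩

theorem CL.classSum [Finite G] (g : G) : CL M (classSum g) :=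
  ⟨isCentralElt_classSum g, isLocElt_classSum g⟩

theorem CL.blockIdem [Finite G] {B : Set (IrrCharacter G)} (hB : IsPBlock M B) :
    CL M (blockIdem B) :=
  ⟨isCentralElt_blockIdem B, isLocElt_blockIdem hB⟩

theorem CL.pow [Finite G] {a : MonoidAlgebra ℂ G} (ha : CL M a) (n : ℕ) : CL M (a ^ n) := by
  induction n with
  | zero => simpa using CL.one
  | succ n ih => rw [pow_succ]; exact ih.mul ha

/-- The coefficients are invariant under conjugation by the subgroup. -/
def PStable (P : Subgroup G) (a : MonoidAlgebra ℂ G) : Prop :=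
  ∀ q ∈ P, ∀ x, a.coeff (q * x * q⁻¹) = a.coeff x

theorem pStable_iff_commute (P : Subgroup G) (a : MonoidAlgebra ℂ G) :
    PStable P a ↔ ∀ q ∈ P, Commute (MonoidAlgebra.single q (1 : ℂ)) a := by
  constructor
  · intro h q hq
    refine MonoidAlgebra.ext (Finsupp.ext fun x => ?_)
    rw [MonoidAlgebra.coeff_single_mul_apply, MonoidAlgebra.coeff_mul_single_apply, one_mul, mul_one]
    have := h q hq (q⁻¹ * x)
    simp only [mul_inv_cancel_left] at this
    exact this.symm
  · intro h q hq x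
    have := congrArg (fun b => b.coeff (q * x)) (h q hq).eq
    simp only [MonoidAlgebra.coeff_single_mul_apply, MonoidAlgebra.coeff_mul_single_apply, one_mul,
      mul_one, inv_mul_cancel_left] at this
    exact this.symm

/-- Elements with local coefficients fixed by the subgroup. -/
def PS (M : Ideal AlgInt) (P : Subgroup G) (a : MonoidAlgebra ℂ G) : Prop :=
  IsLocElt M a ∧ PStable P a

theorem CL.ps {a : MonoidAlgebra ℂ G} (ha : CL M a) (P : Subgroup G) : PS M P a :=
  ⟨ha.2, fun q _ x => ha.1 x q⟩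

theorem PS.mono {P Q : Subgroup G} (h : Q ≤ P) {a : MonoidAlgebra ℂ G} (ha : PS M P a) : PS M Q a :=
  ⟨ha.1, fun q hq => ha.2 q (h hq)⟩

theorem PS.one (P : Subgroup G) : PS M P (1 : MonoidAlgebra ℂ G) := CL.one.ps P

theorem PS.add {P : Subgroup G} {a b : MonoidAlgebra ℂ G} (ha : PS M P a) (hb : PS M P b) :
    PS M P (a + b) :=
  ⟨ha.1.add hb.1, fun q hq x => by simp [ha.2 q hq x, hb.2 q hq x]⟩

theorem PS.sub {P : Subgroup G} {a b : MonoidAlgebra ℂ G} (ha : PS M P a) (hb : PS M P b) :
    PS M P (a - b) :=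
  ⟨ha.1.sub hb.1, fun q hq x => by simp [ha.2 q hq x, hb.2 q hq x]⟩

theorem PS.sum {P : Subgroup G} {ι : Type*} (s : Finset ι) (f : ι → MonoidAlgebra ℂ G)
    (h : ∀ i ∈ s, PS M P (f i)) : PS M P (∑ i ∈ s, f i) :=
  Finset.sum_induction f (PS M P) (fun _ _ => PS.add) (CL.zero.ps P) h

variable [Finite G]

theorem PS.mul {P : Subgroup G} {a b : MonoidAlgebra ℂ G} (ha : PS M P a) (hb : PS M P b) :
    PS M P (a * b) :=
  ⟨ha.1.mul hb.1, (pStable_iff_commute P _).2 fun q hq =>
    ((pStable_iff_commute P a).1 ha.2 q hq).mul_right ((pStable_iff_commute P b).1 hb.2 q hq)⟩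

/-- The Brauer map at `P`: truncation to the centraliser, reduced modulo `M`. -/
noncomputable def brFun (M : Ideal AlgInt) [M.IsPrime] (P : Subgroup G) (a : MonoidAlgebra ℂ G) :
    MonoidAlgebra (ResK M) G := by
  classical exact .ofCoeff (Finsupp.equivFunOnFinite.symm fun x =>
    if x ∈ Subgroup.centralizer (P : Set G) then resC M (a.coeff x) else 0)

theorem coeff_brFun_of_mem {P : Subgroup G} (a : MonoidAlgebra ℂ G) {x : G}
    (hx : x ∈ Subgroup.centralizer (P : Set G)) : (brFun M P a).coeff x = resC M (a.coeff x) := by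
  simp [brFun, hx]

theorem coeff_brFun_of_notMem {P : Subgroup G} (a : MonoidAlgebra ℂ G) {x : G}
    (hx : x ∉ Subgroup.centralizer (P : Set G)) : (brFun M P a).coeff x = 0 := by
  simp [brFun, hx]

theorem brFun_congr {P : Subgroup G} {a b : MonoidAlgebra ℂ G}
    (h : ∀ x ∈ Subgroup.centralizer (P : Set G), resC M (a.coeff x) = resC M (b.coeff x)) :
    brFun M P a = brFun M P b := by
  refine MonoidAlgebra.ext (Finsupp.ext fun x => ?_)
  by_cases hx : x ∈ Subgroup.centralizer (P : Set G)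
  · rw [coeff_brFun_of_mem a hx, coeff_brFun_of_mem b hx, h x hx]
  · rw [coeff_brFun_of_notMem a hx, coeff_brFun_of_notMem b hx]

theorem brFun_eq_zero_iff {P : Subgroup G} {a : MonoidAlgebra ℂ G} (ha : IsLocElt M a) :
    brFun M P a = 0 ↔ ∀ x ∈ Subgroup.centralizer (P : Set G), MemLocalIdeal M (a.coeff x) := by
  constructor
  · intro h x hx
    rw [← resC_eq_zero_iff (ha x), ← coeff_brFun_of_mem a hx, h]; rfl
  · intro h
    refine MonoidAlgebra.ext (Finsupp.ext fun x => ?_)
    by_cases hx : x ∈ Subgroup.centralizer (P : Set G)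
    · rw [coeff_brFun_of_mem a hx, resC_eq_zero_of_memLocalIdeal (h x hx)]; rfl
    · rw [coeff_brFun_of_notMem a hx]; rfl

theorem brFun_eq_iff {P : Subgroup G} {a b : MonoidAlgebra ℂ G} (ha : IsLocElt M a)
    (hb : IsLocElt M b) : brFun M P a = brFun M P b ↔
      ∀ x ∈ Subgroup.centralizer (P : Set G), MemLocalIdeal M (a.coeff x - b.coeff x) := by
  constructor
  · intro h x hx
    rw [← resC_eq_iff (ha x) (hb x), ← coeff_brFun_of_mem a hx, ← coeff_brFun_of_mem b hx, h]
  · exact fun h => brFun_congr fun x hx => (resC_eq_iff (ha x) (hb x)).2 (h x hx)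

theorem brFun_add {P : Subgroup G} {a b : MonoidAlgebra ℂ G} (ha : IsLocElt M a) (hb : IsLocElt M b) :
    brFun M P (a + b) = brFun M P a + brFun M P b := by
  refine MonoidAlgebra.ext (Finsupp.ext fun x => ?_)
  by_cases hx : x ∈ Subgroup.centralizer (P : Set G)
  · simp [coeff_brFun_of_mem _ hx, resC_add (ha x) (hb x)]
  · simp [coeff_brFun_of_notMem _ hx]

theorem brFun_sub {P : Subgroup G} {a b : MonoidAlgebra ℂ G} (ha : IsLocElt M a) (hb : IsLocElt M b) :
    brFun M P (a - b) = brFun M P a - brFun M P b := by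
  refine MonoidAlgebra.ext (Finsupp.ext fun x => ?_)
  by_cases hx : x ∈ Subgroup.centralizer (P : Set G)
  · simp [coeff_brFun_of_mem _ hx, resC_sub (ha x) (hb x)]
  · simp [coeff_brFun_of_notMem _ hx]

theorem brFun_zero (P : Subgroup G) : brFun M P (0 : MonoidAlgebra ℂ G) = 0 :=
  (brFun_eq_zero_iff IsLocElt.zero).2 fun x _ => by simpa using memLocalIdeal_zero (M := M)

theorem brFun_sum {P : Subgroup G} {ι : Type*} (s : Finset ι) (f : ι → MonoidAlgebra ℂ G)
    (h : ∀ i ∈ s, IsLocElt M (f i)) : brFun M P (∑ i ∈ s, f i) = ∑ i ∈ s, brFun M P (f i) := by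
  classical
  induction s using Finset.induction_on with
  | empty => simp [brFun_zero]
  | insert i s hi ih =>
    rw [Finset.sum_insert hi, Finset.sum_insert hi, brFun_add (h i (Finset.mem_insert_self _ _))
      (IsLocElt.sum _ _ fun j hj => h j (Finset.mem_insert_of_mem hj)),
      ih fun j hj => h j (Finset.mem_insert_of_mem hj)]

theorem brFun_one (P : Subgroup G) : brFun M P (1 : MonoidAlgebra ℂ G) = 1 := by
  classical
  refine MonoidAlgebra.ext (Finsupp.ext fun x => ?_)
  by_cases hx : x ∈ Subgroup.centralizer (P : Set G)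
  · rw [coeff_brFun_of_mem _ hx]
    simp only [MonoidAlgebra.one_def, MonoidAlgebra.coeff_single, Finsupp.single_apply]
    split <;> simp
  · rw [coeff_brFun_of_notMem _ hx]
    have : (1 : G) ≠ x := fun h => hx (h ▸ one_mem _)
    simp [MonoidAlgebra.one_def, Finsupp.single_apply, this]

theorem brFun_mul (hM : IsPModular p M) {P : Subgroup G} (hP : IsPGroup p P)
    {a b : MonoidAlgebra ℂ G} (ha : PS M P a) (hb : PS M P b) :
    brFun M P (a * b) = brFun M P a * brFun M P b := by
  classical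
  haveI := Fintype.ofFinite G
  refine MonoidAlgebra.ext (Finsupp.ext fun g => ?_)
  rw [MonoidAlgebra.coeff_mul_apply_left, Finsupp.sum_fintype _ _ (by simp)]
  by_cases hg : g ∈ Subgroup.centralizer (P : Set G)
  · have h := brauer_mul_congr hM.1 hM.2.2 P hP ha.1 hb.1 ha.2 hb.2 hg
    have hmem : ∀ x : G, (if x ∈ Subgroup.centralizer (P : Set G) then
        a.coeff x * b.coeff (x⁻¹ * g) else 0) ∈ locRing M := fun x => by
      split
      · exact mul_mem (ha.1 _) (hb.1 _)
      · exact zero_mem _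
    rw [coeff_brFun_of_mem _ hg, (resC_eq_iff ((ha.1.mul hb.1) g) (Subring.sum_mem _ fun x _ => hmem x)).2 h,
      resC_sum _ _ fun x _ => hmem x]
    refine Finset.sum_congr rfl fun x _ => ?_
    by_cases hx : x ∈ Subgroup.centralizer (P : Set G)
    · rw [if_pos hx, coeff_brFun_of_mem _ hx, coeff_brFun_of_mem _ (mul_mem (inv_mem hx) hg),
        resC_mul (ha.1 _) (hb.1 _)]
    · rw [if_neg hx, coeff_brFun_of_notMem _ hx, resC_zero, zero_mul]
  · rw [coeff_brFun_of_notMem _ hg, eq_comm]
    refine Finset.sum_eq_zero fun x _ => ?_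
    by_cases hx : x ∈ Subgroup.centralizer (P : Set G)
    · have : x⁻¹ * g ∉ Subgroup.centralizer (P : Set G) := fun h =>
        hg (by simpa using mul_mem hx h)
      rw [coeff_brFun_of_notMem _ this, mul_zero]
    · rw [coeff_brFun_of_notMem _ hx, zero_mul]

/-! ## Elements of subgroups -/

theorem ps_embH {H : Subgroup G} {a : MonoidAlgebra ℂ H} (ha : CL M a) {P : Subgroup G}
    (hP : P ≤ H) : PS M P (embH H a) :=
  ⟨isLocElt_embH H ha.2, (pStable_iff_commute P _).2 fun _ hq =>
    (commute_embH_single H ha.1 (hP hq)).symm⟩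

theorem ps_embH_centralizer {H : Subgroup G} {a : MonoidAlgebra ℂ H} (ha : IsLocElt M a)
    {P : Subgroup G} (hH : H ≤ Subgroup.centralizer (P : Set G)) : PS M P (embH H a) := by
  refine ⟨isLocElt_embH H ha, fun q hq x => ?_⟩
  by_cases hx : x ∈ H
  · rw [Subgroup.mem_centralizer_iff.1 (hH hx) q hq, mul_inv_cancel_right]
  · have hx' : q * x * q⁻¹ ∉ H := by
      intro h
      apply hx
      have h1 := Subgroup.mem_centralizer_iff.1 (hH h) q hq
      have : q * x * q⁻¹ = x := mul_left_cancel (h1.trans (inv_mul_cancel_right _ _))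
      rwa [this] at h
    rw [coeff_embH_of_notMem H a hx, coeff_embH_of_notMem H a hx']

theorem cl_resH {L : Subgroup G} {x : MonoidAlgebra ℂ G} (hx : PS M L x) : CL M (resH L x) :=
  ⟨fun h l => by simpa using hx.2 (l : G) l.2 (h : G), isLocElt_resH L hx.1⟩

theorem brFun_embH_resH {P H : Subgroup G} (hCH : Subgroup.centralizer (P : Set G) ≤ H)
    (x : MonoidAlgebra ℂ G) : brFun M P (embH H (resH H x)) = brFun M P x := by
  refine brFun_congr fun y hy => ?_
  rw [show (embH H (resH H x)).coeff y = x.coeff y from by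
    rw [show y = ((⟨y, hCH hy⟩ : H) : G) from rfl, coeff_embH, coeff_resH]]

/-- The Brauer map at `P` on a subgroup containing `P`. -/
theorem brFun_subgroupOf_eq_zero_iff {P H : Subgroup G} (hPH : P ≤ H) {a : MonoidAlgebra ℂ H}
    (ha : IsLocElt M a) : brFun M (P.subgroupOf H) a = 0 ↔ brFun M P (embH H a) = 0 := by
  rw [brFun_eq_zero_iff ha, brFun_eq_zero_iff (isLocElt_embH H ha)]
  constructor
  · intro h x hx
    by_cases hxH : x ∈ H
    · rw [show x = ((⟨x, hxH⟩ : H) : G) from rfl, coeff_embH]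
      exact h _ ((mem_centralizer_subgroupOf hPH _).2 hx)
    · rw [coeff_embH_of_notMem H a hxH]; exact memLocalIdeal_zero
  · intro h x hx
    rw [← coeff_embH H a x]
    exact h _ ((mem_centralizer_subgroupOf hPH x).1 hx)

end Cfsg.Agent.Block
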