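import Cfsg.Agent.Lib.Block.Transport
import Cfsg.Agent.Lib.Block.BrauerHom

/-!
# Conjugates of blocks of a subgroup under its normaliser
-/

set_option autoImplicit false

open Cfsg.Agent.Char
open scoped ComplexConjugate

namespace Cfsg.Agent.Block

universe u

variable {G : Type u} [Group G] [Finite G] {M : Ideal AlgInt} {K : Subgroup G}

@[simp] theorem coe_normConj {x : G} (hx : x ∈ Subgroup.normalizer (K : Set G)) (k : K) :
    ((normConj hx k : K) : G) = x⁻¹ * (k : G) * x := rfl

/-- The conjugate `k ↦ θ (x⁻¹ k x)` of an irreducible character. -/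
noncomputable def conjIrr {x : G} (hx : x ∈ Subgroup.normalizer (K : Set G)) (θ : IrrCharacter K) :
    IrrCharacter K :=
  ⟨fun k => (θ : K → ℂ) (normConj hx k), isIrrCharacter_comp_mulEquiv _ θ.2⟩

theorem conjIrr_apply {x : G} (hx : x ∈ Subgroup.normalizer (K : Set G)) (θ : IrrCharacter K) (k : K) :
    (conjIrr hx θ : K → ℂ) k = (θ : K → ℂ) (normConj hx k) := rfl

theorem conjIrr_mul {x y : G} (hx : x ∈ Subgroup.normalizer (K : Set G))
    (hy : y ∈ Subgroup.normalizer (K : Set G)) (θ : IrrCharacter K) :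
    conjIrr (mul_mem hx hy) θ = conjIrr hx (conjIrr hy θ) := by
  refine Subtype.ext (funext fun k => ?_)
  simp only [conjIrr_apply]
  exact congrArg (θ : K → ℂ) (Subtype.ext (by simp [mul_assoc]))

theorem conjIrr_one (h : (1 : G) ∈ Subgroup.normalizer (K : Set G)) (θ : IrrCharacter K) :
    conjIrr h θ = θ := by
  refine Subtype.ext (funext fun k => ?_)
  rw [conjIrr_apply]
  exact congrArg (θ : K → ℂ) (Subtype.ext (by simp))

theorem conjIrr_injective {x : G} (hx : x ∈ Subgroup.normalizer (K : Set G)) :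
    Function.Injective (conjIrr (K := K) hx) := by
  intro θ η h
  refine Subtype.ext (funext fun k => ?_)
  have := congrFun (congrArg Subtype.val h) ((normConj hx).symm k)
  simpa only [conjIrr_apply, MulEquiv.apply_symm_apply] using this

theorem isConjCharOf_iff_conjIrr {x : G} (hx : x ∈ Subgroup.normalizer (K : Set G))
    (θ θ' : IrrCharacter K) :
    IsConjCharOf K x (θ : K → ℂ) (θ' : K → ℂ) ↔ θ' = conjIrr hx θ := by
  constructor
  · intro h
    refine Subtype.ext (funext fun k' => ?_)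
    rw [conjIrr_apply]
    exact h (normConj hx k') k' (by simp [mul_assoc])
  · rintro rfl k k' hk
    rw [conjIrr_apply]
    exact congrArg (θ : K → ℂ) (Subtype.ext (by simp [hk, mul_assoc]))

/-- The conjugate of a set of irreducible characters. -/
noncomputable def conjBlk {x : G} (hx : x ∈ Subgroup.normalizer (K : Set G))
    (b : Set (IrrCharacter K)) : Set (IrrCharacter K) := conjIrr hx '' b

theorem conjBlk_mul {x y : G} (hx : x ∈ Subgroup.normalizer (K : Set G))
    (hy : y ∈ Subgroup.normalizer (K : Set G)) (b : Set (IrrCharacter K)) :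
    conjBlk (mul_mem hx hy) b = conjBlk hx (conjBlk hy b) := by
  rw [conjBlk, conjBlk, conjBlk, Set.image_image]
  exact Set.image_congr fun θ _ => conjIrr_mul hx hy θ

theorem conjBlk_one (h : (1 : G) ∈ Subgroup.normalizer (K : Set G)) (b : Set (IrrCharacter K)) :
    conjBlk h b = b := by
  rw [conjBlk, Set.image_congr fun θ _ => conjIrr_one h θ, Set.image_id']

theorem conjBlk_inv_cancel {x : G} (hx : x ∈ Subgroup.normalizer (K : Set G))
    (b : Set (IrrCharacter K)) : conjBlk hx (conjBlk (inv_mem hx) b) = b := by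
  rw [← conjBlk_mul]
  convert conjBlk_one (one_mem _) b
  exact mul_inv_cancel x

theorem mem_conjBlk_iff {x : G} (hx : x ∈ Subgroup.normalizer (K : Set G))
    (b : Set (IrrCharacter K)) (θ : IrrCharacter K) :
    conjIrr hx θ ∈ conjBlk hx b ↔ θ ∈ b := (conjIrr_injective hx).mem_set_image

theorem isPBlock_conjBlk {x : G} (hx : x ∈ Subgroup.normalizer (K : Set G))
    {b : Set (IrrCharacter K)} (hb : IsPBlock M b) : IsPBlock M (conjBlk hx b) := by
  obtain ⟨θ, rfl⟩ := hb
  refine ⟨conjIrr hx θ, Set.ext fun η => ?_⟩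
  constructor
  · rintro ⟨η, hη, rfl⟩
    exact sameBlock_comp_mulEquiv (normConj hx) hη
  · intro hη
    refine ⟨conjIrr (inv_mem hx) η, ?_, ?_⟩
    · have h1 := sameBlock_comp_mulEquiv (normConj (inv_mem hx)) hη
      have h2 : (fun k => (conjIrr hx θ : K → ℂ) (normConj (inv_mem hx) k)) = (θ : K → ℂ) :=
        funext fun k => by
          rw [conjIrr_apply]
          exact congrArg (θ : K → ℂ) (Subtype.ext (by simp [mul_assoc]))
      rw [h2] at h1
      exact h1
    · rw [← conjIrr_mul]
      convert conjIrr_one (one_mem _) η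
      exact mul_inv_cancel x

theorem stabilizesBlock_iff [M.IsPrime] {x : G} {b : Set (IrrCharacter K)} (hb : IsPBlock M b) :
    StabilizesBlock K b x ↔
      ∃ hx : x ∈ Subgroup.normalizer (K : Set G), conjBlk hx b = b := by
  constructor
  · rintro ⟨hx, h⟩
    refine ⟨hx, ?_⟩
    obtain ⟨θ, hθ⟩ := isPBlock_nonempty hb
    obtain ⟨θ', hθ', hc⟩ := h θ hθ
    rw [(isConjCharOf_iff_conjIrr hx θ θ').1 hc] at hθ'
    exact isPBlock_eq_of_mem (isPBlock_conjBlk hx hb) hb ((mem_conjBlk_iff hx b θ).2 hθ) hθ'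
  · rintro ⟨hx, h⟩
    exact ⟨hx, fun θ hθ => ⟨conjIrr hx θ, h ▸ (mem_conjBlk_iff hx b θ).2 hθ,
      (isConjCharOf_iff_conjIrr hx θ _).2 rfl⟩⟩

theorem blockCoeff_conjBlk {x : G} (hx : x ∈ Subgroup.normalizer (K : Set G))
    (b : Set (IrrCharacter K)) (k : K) :
    blockCoeff (conjBlk hx b) k = blockCoeff b (normConj hx k) := by
  rw [blockCoeff, blockCoeff, conjBlk, finsum_mem_image (conjIrr_injective hx).injOn]
  simp only [conjIrr_apply, map_one]

theorem coeff_embH_blockIdem_conj {x : G} (hx : x ∈ Subgroup.normalizer (K : Set G))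
    (b : Set (IrrCharacter K)) (g : G) :
    (embH K (blockIdem (conjBlk hx b))).coeff g = (embH K (blockIdem b)).coeff (x⁻¹ * g * x) := by
  by_cases hg : g ∈ K
  · rw [show g = ((⟨g, hg⟩ : K) : G) from rfl, coeff_embH, ← coe_normConj hx, coeff_embH]
    simp only [blockIdem, coeff_mkA, blockCoeff_conjBlk]
  · have : x⁻¹ * g * x ∉ K := fun h => hg (by
      simpa [mul_assoc] using (Subgroup.mem_normalizer_iff.1 hx _).1 h)
    rw [coeff_embH_of_notMem _ _ hg, coeff_embH_of_notMem _ _ this]

/-- A block fixed by a subgroup gives an element fixed by it. -/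
theorem ps_embH_blockIdem [M.IsPrime] {S : Subgroup G} {b : Set (IrrCharacter K)} (hb : IsPBlock M b)
    (h : ∀ q ∈ S, ∃ hq : q ∈ Subgroup.normalizer (K : Set G), conjBlk hq b = b) :
    PS M S (embH K (blockIdem b)) := by
  refine ⟨isLocElt_embH K (isLocElt_blockIdem hb), fun q hq g => ?_⟩
  obtain ⟨hqN, he⟩ := h q hq
  have := coeff_embH_blockIdem_conj hqN b (q * g * q⁻¹)
  rw [he] at this
  simpa [mul_assoc] using this

theorem ps_embH_resH [M.IsPrime] {S : Subgroup G} (hS : S ≤ Subgroup.normalizer (K : Set G))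
    {a : MonoidAlgebra ℂ G} (ha : PS M S a) : PS M S (embH K (resH K a)) := by
  refine ⟨isLocElt_embH K (isLocElt_resH K ha.1), fun q hq g => ?_⟩
  by_cases hg : g ∈ K
  · have hg' : q * g * q⁻¹ ∈ K := (Subgroup.mem_normalizer_iff.1 (hS hq) g).1 hg
    rw [show g = ((⟨g, hg⟩ : K) : G) from rfl,
      show q * ((⟨g, hg⟩ : K) : G) * q⁻¹ = ((⟨_, hg'⟩ : K) : G) from rfl, coeff_embH, coeff_embH,
      coeff_resH, coeff_resH]
    exact ha.2 q hq g
  · have hg' : q * g * q⁻¹ ∉ K := fun h => hg ((Subgroup.mem_normalizer_iff.1 (hS hq) g).2 h)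
    rw [coeff_embH_of_notMem _ _ hg, coeff_embH_of_notMem _ _ hg']

end Cfsg.Agent.Block
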