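import Cfsg.Agent.Lib.Block.ResHom
import Cfsg.Agent.Lib.Block.ConjBlock
import Cfsg.Agent.Lib.Block.Glauberman
import Cfsg.Prelude.Def_BrauerPairs
import Mathlib.GroupTheory.Nilpotent

/-!
# Brauer pairs and their inclusion
-/

set_option autoImplicit false

open Cfsg.Agent.Char
open scoped ComplexConjugate

namespace Cfsg.Agent.Block

universe u

local notation "CG(" P ")" => Subgroup.centralizer (SetLike.coe P)

variable {G : Type u} [Group G] [Finite G] {M : Ideal AlgInt} [hMp : M.IsPrime] {p : ℕ}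

theorem coe_subgroupBlockCoeff (H : Subgroup G) (f : Set (IrrCharacter H)) (g : G) :
    subgroupBlockCoeff H f g = (embH H (blockIdem f)).coeff g := by
  unfold subgroupBlockCoeff
  split
  next h => exact ((coeff_embH H (blockIdem f) ⟨g, h⟩).trans (by rw [blockIdem, coeff_mkA])).symm
  next h => rw [coeff_embH_of_notMem _ _ h]

theorem brauerOmega_eq_omega_resH (P : Subgroup G) (x : MonoidAlgebra ℂ G) {β : G → ℂ}
    (hβ : ∀ g, β g = x.coeff g) (ξ : Subgroup.centralizer (P : Set G) → ℂ) :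
    brauerOmega P β ξ = omega ξ (resH (Subgroup.centralizer (P : Set G)) x) := by
  haveI := Fintype.ofFinite (Subgroup.centralizer (P : Set G))
  rw [brauerOmega, omega_eq_sum, finsum_eq_sum_of_fintype, Finset.sum_div]
  refine Finset.sum_congr rfl fun c _ => ?_
  rw [coeff_resH, hβ]

/-- The occurrence condition of a Brauer pair in terms of the residue field. -/
theorem brauerOmega_sub_one_iff (P : Subgroup G) {x : MonoidAlgebra ℂ G} {β : G → ℂ}
    (hβ : ∀ g, β g = x.coeff g) (hx : PS M (Subgroup.centralizer (P : Set G)) x)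
    (ξ : IrrCharacter (Subgroup.centralizer (P : Set G))) :
    MemLocalIdeal M (brauerOmega P β (ξ : Subgroup.centralizer (P : Set G) → ℂ) - 1) ↔
      lam M (Subgroup.centralizer (P : Set G)) ξ x = 1 := by
  rw [brauerOmega_eq_omega_resH P x hβ, lam, ro, ← resC_one (M := M),
    resC_eq_iff (omega_mem_locRing ξ (cl_resH hx).1 (cl_resH hx).2) (one_mem _)]

theorem coeff_blockIdem (B : Set (IrrCharacter G)) (g : G) :
    blockCoeff B g = (blockIdem B).coeff g := by rw [blockIdem, coeff_mkA]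

theorem isBrauerPairOf_iff {P : Subgroup G} {e : Set (IrrCharacter (Subgroup.centralizer (P : Set G)))}
    {B : Set (IrrCharacter G)} {ξ : IrrCharacter (Subgroup.centralizer (P : Set G))} (hξ : ξ ∈ e) :
    IsBrauerPairOf p M B P e ↔ IsBrauerPair p M P e ∧ IsPBlock M B ∧
      lam M (Subgroup.centralizer (P : Set G)) ξ (blockIdem B) = 1 := by
  constructor
  · rintro ⟨h1, h2, h3⟩
    exact ⟨h1, h2, (brauerOmega_sub_one_iff P (coeff_blockIdem B) ((CL.blockIdem h2).ps _) ξ).1 (h3 ξ hξ)⟩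
  · rintro ⟨h1, h2, h3⟩
    refine ⟨h1, h2, fun η hη => ?_⟩
    rw [brauerOmega_sub_one_iff P (coeff_blockIdem B) ((CL.blockIdem h2).ps _), ← h3]
    exact ro_congr h1.2 hη hξ (cl_resH ((CL.blockIdem h2).ps _))

theorem isResHom_lam_centralizer (hM : IsPModular p M) {P : Subgroup G} (hP : IsPGroup p P)
    (ξ : IrrCharacter (Subgroup.centralizer (P : Set G))) :
    IsResHom M (lam M (Subgroup.centralizer (P : Set G)) ξ) :=
  isResHom_lam hM hP le_rfl (Or.inr le_rfl) (Factors.of_le_centralizer le_rfl ξ)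

theorem le_normalizer_centralizer {P Q : Subgroup G}
    (h : P ≤ Subgroup.normalizer (Q : Set G)) :
    P ≤ Subgroup.normalizer (Subgroup.centralizer (Q : Set G) : Set G) := by
  intro x hx
  have hxn := Subgroup.mem_normalizer_iff.1 (h hx)
  rw [Subgroup.mem_normalizer_iff]
  intro y
  simp only [SetLike.mem_coe, Subgroup.mem_centralizer_iff]
  constructor
  · intro hy q hq
    have h2 : x⁻¹ * q * x ∈ Q := by
      refine (hxn _).2 ?_
      simpa [mul_assoc] using hq
    have h3 := congrArg (fun z => x * z * x⁻¹) (hy _ h2)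
    simpa [mul_assoc] using h3
  · intro hy q hq
    have h2 : x * q * x⁻¹ ∈ Q := (hxn q).1 hq
    have h3 := congrArg (fun z => x⁻¹ * z * x) (hy _ h2)
    simpa [mul_assoc] using h3

theorem centralizer_le_of_le {P Q : Subgroup G} (h : Q ≤ P) :
    Subgroup.centralizer (P : Set G) ≤ Subgroup.centralizer (Q : Set G) :=
  Subgroup.centralizer_le h

section Normal

variable {P Q : Subgroup G} {f : Set (IrrCharacter (Subgroup.centralizer (Q : Set G)))}
  {e : Set (IrrCharacter (Subgroup.centralizer (P : Set G)))}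

theorem IsNormalSubpair.fixed (h : IsNormalSubpair p M Q f P e) :
    ∀ q ∈ P, ∃ hq : q ∈ Subgroup.normalizer (Subgroup.centralizer (Q : Set G) : Set G),
      conjBlk hq f = f := fun q hq => (stabilizesBlock_iff h.1.2).1 (h.2.2.2.2.1 q hq)

theorem IsNormalSubpair.ps (h : IsNormalSubpair p M Q f P e) :
    PS M P (embH (Subgroup.centralizer (Q : Set G)) (blockIdem f)) :=
  ps_embH_blockIdem h.1.2 (IsNormalSubpair.fixed h)

theorem IsNormalSubpair.lam_eq_one (h : IsNormalSubpair p M Q f P e)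
    {ξ : IrrCharacter (Subgroup.centralizer (P : Set G))} (hξ : ξ ∈ e) :
    lam M (Subgroup.centralizer (P : Set G)) ξ
      (embH (Subgroup.centralizer (Q : Set G)) (blockIdem f)) = 1 := by
  rw [← brauerOmega_sub_one_iff P (coe_subgroupBlockCoeff _ f)
    (ps_embH (CL.blockIdem h.1.2) (centralizer_le_of_le h.2.2.1))]
  exact h.2.2.2.2.2 ξ hξ

theorem isNormalSubpair_of_lam (hf : IsBrauerPair p M Q f) (he : IsBrauerPair p M P e) (hQP : Q ≤ P)
    (hPN : P ≤ Subgroup.normalizer (Q : Set G))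
    (hfix : ∀ q ∈ P, ∃ hq : q ∈ Subgroup.normalizer (Subgroup.centralizer (Q : Set G) : Set G),
      conjBlk hq f = f)
    {ξ : IrrCharacter (Subgroup.centralizer (P : Set G))} (hξ : ξ ∈ e)
    (h1 : lam M (Subgroup.centralizer (P : Set G)) ξ
      (embH (Subgroup.centralizer (Q : Set G)) (blockIdem f)) = 1) :
    IsNormalSubpair p M Q f P e := by
  refine ⟨hf, he, hQP, hPN, fun q hq => (stabilizesBlock_iff hf.2).2 (hfix q hq), fun η hη => ?_⟩
  have hps : PS M (Subgroup.centralizer (P : Set G))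
      (embH (Subgroup.centralizer (Q : Set G)) (blockIdem f)) :=
    ps_embH (CL.blockIdem hf.2) (centralizer_le_of_le hQP)
  rw [brauerOmega_sub_one_iff P (coe_subgroupBlockCoeff _ f) hps, ← h1]
  exact ro_congr he.2 hη hξ (cl_resH hps)

/-- Central characters agree along a normal inclusion. -/
theorem IsNormalSubpair.lam_eq (hM : IsPModular p M) (h : IsNormalSubpair p M Q f P e)
    {ξ : IrrCharacter (Subgroup.centralizer (P : Set G))} (hξ : ξ ∈ e)
    {η : IrrCharacter (Subgroup.centralizer (Q : Set G))} (hη : η ∈ f)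
    {x : MonoidAlgebra ℂ G} (hxP : PS M P x) (hxQ : PS M (Subgroup.centralizer (Q : Set G)) x) :
    lam M (Subgroup.centralizer (P : Set G)) ξ x = lam M (Subgroup.centralizer (Q : Set G)) η x := by
  have hP : IsPGroup p P := h.2.1.1
  have hCD : CG(P) ≤ CG(Q) := centralizer_le_of_le h.2.2.1
  have hPD : P ≤ Subgroup.normalizer (CG(Q) : Set G) := le_normalizer_centralizer h.2.2.2.1
  obtain ⟨c, hcm, hc⟩ : ∃ c : ℂ, c ∈ locRing M ∧ resC M c = lam M CG(Q) η x :=
    ⟨_, omega_mem_locRing η (cl_resH hxQ).1 (cl_resH hxQ).2, rfl⟩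
  -- `w` has all central characters zero
  have hy : CL M (resH CG(Q) x - c • (1 : MonoidAlgebra ℂ CG(Q))) := (cl_resH hxQ).sub (CL.one.smul hcm)
  have hw : CL M ((resH CG(Q) x - c • (1 : MonoidAlgebra ℂ CG(Q))) * blockIdem f) :=
    hy.mul (CL.blockIdem h.1.2)
  have h0 : ∀ θ : IrrCharacter CG(Q),
      ro M θ ((resH CG(Q) x - c • (1 : MonoidAlgebra ℂ CG(Q))) * blockIdem f) = 0 := by
    intro θ
    rw [ro_mul θ hy (CL.blockIdem h.1.2)]
    by_cases hθ : θ ∈ f
    · rw [ro_sub θ (cl_resH hxQ) (CL.one.smul hcm), ro_smul θ hcm CL.one, ro_one, mul_one, hc, lam,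
        ro_congr h.1.2 hθ hη (cl_resH hxQ), sub_self, zero_mul]
    · rw [ro_blockIdem_notMem hθ, mul_zero]
  have he1 : embH CG(Q) (resH CG(Q) x - c • (1 : MonoidAlgebra ℂ CG(Q))) =
      embH CG(Q) (resH CG(Q) x) - c • (1 : MonoidAlgebra ℂ G) := by
    rw [show embH CG(Q) (resH CG(Q) x - c • (1 : MonoidAlgebra ℂ CG(Q))) =
      embH CG(Q) (resH CG(Q) x) - embH CG(Q) (c • (1 : MonoidAlgebra ℂ CG(Q))) from map_sub _ _ _]
    congr 1
    simp [embH, MonoidAlgebra.one_def, MonoidAlgebra.smul_single]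
  have hyP : PS M P (embH CG(Q) (resH CG(Q) x - c • (1 : MonoidAlgebra ℂ CG(Q)))) := by
    rw [he1]; exact (ps_embH_resH hPD hxP).sub ((CL.one.smul hcm).ps P)
  have hyC : PS M CG(P) (embH CG(Q) (resH CG(Q) x - c • (1 : MonoidAlgebra ℂ CG(Q)))) := ps_embH hy hCD
  have hfP := IsNormalSubpair.ps h
  have hfC : PS M CG(P) (embH CG(Q) (blockIdem f)) := ps_embH (CL.blockIdem h.1.2) hCD
  have hwP : PS M P (embH CG(Q) ((resH CG(Q) x - c • (1 : MonoidAlgebra ℂ CG(Q))) * blockIdem f)) := by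
    rw [embH_mul]; exact hyP.mul hfP
  obtain ⟨N, hN⟩ := exists_pow_memLocalIdeal hM hw h0
  -- the power is killed
  have hmul := fun (a b : MonoidAlgebra ℂ G) (ha : PS M P a) (ha' : PS M CG(P) a) (hb : PS M P b)
    (hb' : PS M CG(P) b) => lam_mul hM hP (le_refl CG(P)) (Or.inr le_rfl)
      (Factors.of_le_centralizer (le_refl CG(P)) ξ) ha ha' hb hb'
  have hpow : ∀ n, lam M CG(P) ξ (embH CG(Q) (((resH CG(Q) x - c • (1 : MonoidAlgebra ℂ CG(Q))) * blockIdem f) ^ n)) =
      lam M CG(P) ξ (embH CG(Q) ((resH CG(Q) x - c • (1 : MonoidAlgebra ℂ CG(Q))) * blockIdem f)) ^ n ∧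
      PS M P (embH CG(Q) (((resH CG(Q) x - c • (1 : MonoidAlgebra ℂ CG(Q))) * blockIdem f) ^ n)) := by
    intro n
    induction n with
    | zero =>
      rw [pow_zero, pow_zero, show embH CG(Q) (1 : MonoidAlgebra ℂ CG(Q)) = 1 from map_one _]
      exact ⟨by rw [lam, resH_one, ro_one], PS.one P⟩
    | succ n ih =>
      rw [pow_succ, pow_succ, embH_mul]
      exact ⟨by rw [hmul _ _ ih.2 (ps_embH (hw.pow n) hCD) hwP (ps_embH hw hCD), ih.1],
        ih.2.mul hwP⟩
  have hz : lam M CG(P) ξ (embH CG(Q) (((resH CG(Q) x - c • (1 : MonoidAlgebra ℂ CG(Q))) * blockIdem f) ^ N)) = 0 := by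
    rw [lam, ro_eq_zero_iff ξ (cl_resH (ps_embH (hw.pow N) hCD))]
    refine memLocalIdeal_omega_of_coeff ξ (cl_resH (ps_embH (hw.pow N) hCD)).1 fun g => ?_
    rw [coeff_resH, show ((g : G)) = ((⟨(g : G), hCD g.2⟩ : CG(Q)) : G) from rfl, coeff_embH]
    exact hN _
  rw [(hpow N).1] at hz
  have hz' := eq_zero_of_pow_eq_zero hz
  rw [embH_mul, hmul _ _ hyP hyC hfP hfC, IsNormalSubpair.lam_eq_one h hξ, mul_one, he1, lam,
    show resH CG(P) (embH CG(Q) (resH CG(Q) x) - c • (1 : MonoidAlgebra ℂ G)) =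
      resH CG(P) x - c • (1 : MonoidAlgebra ℂ CG(P)) from MonoidAlgebra.ext (Finsupp.ext fun g => by
      rw [MonoidAlgebra.coeff_sub, Finsupp.sub_apply, coeff_resH, MonoidAlgebra.coeff_sub,
        Finsupp.sub_apply, show ((g : G)) = ((⟨(g : G), hCD g.2⟩ : CG(Q)) : G) from rfl, coeff_embH,
        coeff_resH, coeff_resH, ← resH_one (L := CG(P)), ← resH_smul, coeff_resH])] at hz'
  have hxC : PS M CG(P) x := hxQ.mono hCD
  rw [ro_sub ξ (cl_resH hxC) (CL.one.smul hcm), ro_smul ξ hcm CL.one, ro_one, mul_one, hc,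
    sub_eq_zero] at hz'
  exact hz'

end Normal

/-- Exactly one block of `C(Q)` fixed by `P` occurs at `e`. -/
theorem existsUnique_normalSubpair (hM : IsPModular p M) {P Q : Subgroup G}
    {e : Set (IrrCharacter (Subgroup.centralizer (P : Set G)))} (hPe : IsBrauerPair p M P e)
    (hQP : Q ≤ P) (hPN : P ≤ Subgroup.normalizer (Q : Set G)) :
    ∃! f : Set (IrrCharacter (Subgroup.centralizer (Q : Set G))),
      IsNormalSubpair p M Q f P e := by
  classical
  obtain ⟨ξ, hξ⟩ := isPBlock_nonempty hPe.2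
  have hP : IsPGroup p P := hPe.1
  have hQ : IsPGroup p Q := hP.to_le hQP
  have hCD : CG(P) ≤ CG(Q) := centralizer_le_of_le hQP
  have hPD : P ≤ Subgroup.normalizer (CG(Q) : Set G) := le_normalizer_centralizer hPN
  let X := {f : Set (IrrCharacter CG(Q)) // IsPBlock M f}
  haveI : Finite X := Subtype.finite
  haveI := Fintype.ofFinite X
  letI : MulAction P X :=
    { smul := fun q f => ⟨conjBlk (hPD q.2) f.1, isPBlock_conjBlk _ f.2⟩
      one_smul := fun f => Subtype.ext (conjBlk_one (hPD (1 : P).2) f.1)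
      mul_smul := fun q r f => Subtype.ext (conjBlk_mul (hPD q.2) (hPD r.2) f.1) }
  let F : X → ℂ := fun f => omega (ξ : CG(P) → ℂ) (resH CG(P) (embH CG(Q) (blockIdem f.1)))
  have hcl : ∀ f : X, CL M (resH CG(P) (embH CG(Q) (blockIdem f.1))) := fun f =>
    cl_resH (ps_embH (CL.blockIdem f.2) hCD)
  have hFl : ∀ f, F f ∈ locRing M := fun f => omega_mem_locRing ξ (hcl f).1 (hcl f).2
  have hFinv : ∀ (q : P) (f : X), F (q • f) = F f := by
    intro q f
    show omega (ξ : CG(P) → ℂ) (resH CG(P) (embH CG(Q) (blockIdem (conjBlk (hPD q.2) f.1)))) = _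
    congr 1
    refine MonoidAlgebra.ext (Finsupp.ext fun g => ?_)
    rw [coeff_resH, coeff_resH, coeff_embH_blockIdem_conj]
    have := Subgroup.mem_centralizer_iff.1 g.2 q q.2
    rw [mul_assoc, ← this, inv_mul_cancel_left]
  have hsum : ∑ f, F f = 1 := by
    have h1 : resH CG(P) (embH CG(Q) (∑ B ∈ pBlocks M CG(Q), blockIdem B)) = 1 := by
      rw [sum_pBlocks_blockIdem, show embH CG(Q) (1 : MonoidAlgebra ℂ CG(Q)) = 1 from map_one _, resH_one]
    have h2 : resH CG(P) (embH CG(Q) (∑ B ∈ pBlocks M CG(Q), blockIdem B)) =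
        ∑ B ∈ pBlocks M CG(Q), resH CG(P) (embH CG(Q) (blockIdem B)) := by
      refine MonoidAlgebra.ext (Finsupp.ext fun g => ?_)
      simp [embH, map_sum, Finsupp.finsetSum_apply]
    rw [← omega_one (G := CG(P)) (IsIrrCharacter.apply_one_ne_zero ξ.2), ← h1, h2, omega_sum]
    exact (Finset.sum_subtype (pBlocks M CG(Q)) (fun B => mem_pBlocks)
      (fun B => omega (ξ : CG(P) → ℂ) (resH CG(P) (embH CG(Q) (blockIdem B))))).symm
  obtain ⟨f, hfix, hfne⟩ : ∃ f : X, (∀ q : P, q • f = f) ∧ ¬ MemLocalIdeal M (F f) := by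
    by_contra! hcon
    refine not_memLocalIdeal_one (M := M) (hsum ▸ ?_)
    have h3 := sum_congr_fixed hM hP F hFinv hFl
    have h4 : MemLocalIdeal M (∑ f, if (∀ q : P, q • f = f) then F f else 0) :=
      memLocalIdeal_sum _ _ fun f _ => by
        split
        next h => exact hcon f h
        · exact memLocalIdeal_zero
    simpa using memLocalIdeal_add h3 h4
  have hfix' : ∀ q ∈ P, ∃ hq : q ∈ Subgroup.normalizer (CG(Q) : Set G), conjBlk hq f.1 = f.1 :=
    fun q hq => ⟨hPD hq, congrArg Subtype.val (hfix ⟨q, hq⟩)⟩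
  have hmul := fun (a b : MonoidAlgebra ℂ G) (ha : PS M P a) (ha' : PS M CG(P) a) (hb : PS M P b)
    (hb' : PS M CG(P) b) => lam_mul hM hP (le_refl CG(P)) (Or.inr le_rfl)
      (Factors.of_le_centralizer (le_refl CG(P)) ξ) ha ha' hb hb'
  have hfP := ps_embH_blockIdem (S := P) f.2 hfix'
  have hfC : PS M CG(P) (embH CG(Q) (blockIdem f.1)) := ps_embH (CL.blockIdem f.2) hCD
  have hne : lam M CG(P) ξ (embH CG(Q) (blockIdem f.1)) ≠ 0 := fun h =>
    hfne ((ro_eq_zero_iff ξ (hcl f)).1 h)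
  have h1 : lam M CG(P) ξ (embH CG(Q) (blockIdem f.1)) = 1 := by
    have h := hmul _ _ hfP hfC hfP hfC
    rw [← embH_mul, blockIdem_mul_self] at h
    exact (mul_eq_left₀ hne).1 h.symm
  refine ⟨f.1, isNormalSubpair_of_lam ⟨hQ, f.2⟩ hPe hQP hPN hfix' hξ h1, fun g hg => ?_⟩
  by_contra hgf
  have h := hmul _ _ (IsNormalSubpair.ps hg) (ps_embH (CL.blockIdem hg.1.2) hCD) hfP hfC
  rw [← embH_mul, blockIdem_mul_eq_zero hg.1.2 f.2 hgf, IsNormalSubpair.lam_eq_one hg hξ, h1] at h
  simp [lam, embH, show resH CG(P) (0 : MonoidAlgebra ℂ G) = 0 from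
    MonoidAlgebra.ext (Finsupp.ext fun x => by simp), ro_zero] at h

/-- Two normal subpairs of the same pair are comparable when their subgroups are. -/
theorem IsNormalSubpair.of_common (hM : IsPModular p M) {P R S : Subgroup G}
    {e : Set (IrrCharacter (Subgroup.centralizer (P : Set G)))}
    {h : Set (IrrCharacter (Subgroup.centralizer (R : Set G)))}
    {g : Set (IrrCharacter (Subgroup.centralizer (S : Set G)))}
    (hR : IsNormalSubpair p M R h P e) (hS : IsNormalSubpair p M S g P e) (hle : S ≤ R) :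
    IsNormalSubpair p M S g R h := by
  obtain ⟨ξ, hξ⟩ := isPBlock_nonempty hR.2.1.2
  obtain ⟨η, hη⟩ := isPBlock_nonempty hR.1.2
  refine isNormalSubpair_of_lam hS.1 hR.1 hle (hR.2.2.1.trans hS.2.2.2.1)
    (fun q hq => IsNormalSubpair.fixed hS q (hR.2.2.1 hq)) hη ?_
  rw [← IsNormalSubpair.lam_eq hM hR hξ hη (IsNormalSubpair.ps hS)
    (ps_embH (CL.blockIdem hS.1.2) (centralizer_le_of_le hle))]
  exact IsNormalSubpair.lam_eq_one hS hξ

theorem IsNormalSubpair.pairOf_iff (hM : IsPModular p M) {P Q : Subgroup G}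
    {e : Set (IrrCharacter (Subgroup.centralizer (P : Set G)))}
    {f : Set (IrrCharacter (Subgroup.centralizer (Q : Set G)))}
    (h : IsNormalSubpair p M Q f P e) (B : Set (IrrCharacter G)) :
    IsBrauerPairOf p M B P e ↔ IsBrauerPairOf p M B Q f := by
  obtain ⟨ξ, hξ⟩ := isPBlock_nonempty h.2.1.2
  obtain ⟨η, hη⟩ := isPBlock_nonempty h.1.2
  rw [isBrauerPairOf_iff hξ, isBrauerPairOf_iff hη]
  constructor
  · rintro ⟨-, hB, h1⟩
    exact ⟨h.1, hB, by rw [← IsNormalSubpair.lam_eq hM h hξ hη ((CL.blockIdem hB).ps _)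
      ((CL.blockIdem hB).ps _)]; exact h1⟩
  · rintro ⟨-, hB, h1⟩
    exact ⟨h.2.1, hB, by rw [IsNormalSubpair.lam_eq hM h hξ hη ((CL.blockIdem hB).ps _)
      ((CL.blockIdem hB).ps _)]; exact h1⟩

theorem SubpairLE.pairOf_iff (hM : IsPModular p M) {a b : BrauerPairIdx G}
    (h : Relation.ReflTransGen (NormalSubpairRel p M) a b) (B : Set (IrrCharacter G)) :
    IsBrauerPairOf p M B b.1 b.2 ↔ IsBrauerPairOf p M B a.1 a.2 := by
  induction h with
  | refl => exact Iff.rfl
  | tail _ hn ih => exact (IsNormalSubpair.pairOf_iff hM hn B).trans ih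

theorem SubpairLE.le {a b : BrauerPairIdx G}
    (h : Relation.ReflTransGen (NormalSubpairRel p M) a b) : a.1 ≤ b.1 := by
  induction h with
  | refl => exact le_rfl
  | tail _ hn ih => exact ih.trans hn.2.2.1

theorem IsNormalSubpair.refl (hM : IsPModular p M) {P : Subgroup G}
    {e : Set (IrrCharacter (Subgroup.centralizer (P : Set G)))} (hPe : IsBrauerPair p M P e) :
    IsNormalSubpair p M P e P e := by
  obtain ⟨ξ, hξ⟩ := isPBlock_nonempty hPe.2
  refine isNormalSubpair_of_lam hPe hPe le_rfl Subgroup.le_normalizer (fun q hq => ?_) hξ ?_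
  · refine ⟨le_normalizer_centralizer Subgroup.le_normalizer hq, ?_⟩
    have : ∀ θ : IrrCharacter (Subgroup.centralizer (P : Set G)),
        conjIrr (le_normalizer_centralizer Subgroup.le_normalizer hq) θ = θ := fun θ => by
      refine Subtype.ext (funext fun k => ?_)
      rw [conjIrr_apply]
      refine congrArg _ (Subtype.ext ?_)
      rw [coe_normConj, mul_assoc, ← Subgroup.mem_centralizer_iff.1 k.2 q hq, inv_mul_cancel_left]
    rw [conjBlk, Set.image_congr fun θ _ => this θ, Set.image_id']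
  · rw [lam, resH_embH, ro_blockIdem_mem hξ]

/-- A step within the same subgroup is trivial. -/
theorem IsNormalSubpair.eq_of_self (hM : IsPModular p M) {P : Subgroup G}
    {e f : Set (IrrCharacter (Subgroup.centralizer (P : Set G)))}
    (h : IsNormalSubpair p M P f P e) : f = e :=
  (existsUnique_normalSubpair hM h.2.1 le_rfl Subgroup.le_normalizer).unique h
    (IsNormalSubpair.refl hM h.2.1)

/-- The last proper step of an inclusion. -/
theorem SubpairLE.cases_last (hM : IsPModular p M) {a b : BrauerPairIdx G}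
    (h : Relation.ReflTransGen (NormalSubpairRel p M) a b) :
    a = b ∨ ∃ c : BrauerPairIdx G, c.1 < b.1 ∧
      Relation.ReflTransGen (NormalSubpairRel p M) a c ∧ NormalSubpairRel p M c b := by
  induction h with
  | refl => exact Or.inl rfl
  | @tail c d hac hn ih =>
    rcases lt_or_eq_of_le hn.2.2.1 with hlt | heq
    · exact Or.inr ⟨c, hlt, hac, hn⟩
    · obtain ⟨R, x⟩ := c
      obtain ⟨R', y⟩ := d
      simp only at heq
      subst heq
      obtain rfl := IsNormalSubpair.eq_of_self hM hn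
      exact ih

theorem exists_maximal_normal [Fact p.Prime] {P Q : Subgroup G} (hP : IsPGroup p P) (h : Q < P) :
    ∃ R : Subgroup G, Q ≤ R ∧ R < P ∧ P ≤ Subgroup.normalizer (R : Set G) ∧
      ∀ R', R ≤ R' → R' < P → R' = R := by
  obtain ⟨R, ⟨hQR, hRP⟩, hmax⟩ := (Set.toFinite {R : Subgroup G | Q ≤ R ∧ R < P}).exists_maximal
    ⟨Q, le_rfl, h⟩
  have hmax' : ∀ R', R ≤ R' → R' < P → R' = R := fun R' h1 h2 =>
    le_antisymm (hmax ⟨hQR.trans h1, h2⟩ h1) h1
  refine ⟨R, hQR, hRP, ?_, hmax'⟩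
  haveI : (R.subgroupOf P).Normal := by
    refine Subgroup.NormalizerCondition.normal_of_coatom _ (@normalizerCondition_of_isNilpotent _ _ hP.isNilpotent) ?_
    refine ⟨fun he => hRP.ne (le_antisymm hRP.le (Subgroup.subgroupOf_eq_top.1 he)), fun K hK => ?_⟩
    by_contra hKtop
    have h1 : R ≤ K.map P.subtype := fun x hx => ⟨⟨x, hRP.le hx⟩, hK.le hx, rfl⟩
    have h2 : K.map P.subtype < P := by
      refine lt_of_le_of_ne (Subgroup.map_subtype_le _) fun he => hKtop ?_
      rw [eq_top_iff]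
      intro x _
      obtain ⟨y, hy, hyx⟩ := (he.symm ▸ x.2 : (x : G) ∈ K.map P.subtype)
      rwa [← Subtype.ext hyx]
    have h3 := hmax' _ h1 h2
    refine hK.ne (le_antisymm hK.le fun x hx => ?_)
    show (x : G) ∈ R
    rw [← h3]; exact ⟨x, hx, rfl⟩
  exact (Subgroup.normal_subgroupOf_iff_le_normalizer hRP.le).1 inferInstance

/-- Below a Brauer pair there is exactly one pair on each subgroup. -/
theorem existsUnique_subpair [Fact p.Prime] (hM : IsPModular p M) :
    ∀ (P : Subgroup G) (e : Set (IrrCharacter (Subgroup.centralizer (P : Set G)))),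
      IsBrauerPair p M P e → ∀ Q : Subgroup G, Q ≤ P →
      ∃! f : Set (IrrCharacter (Subgroup.centralizer (Q : Set G))),
        SubpairLE p M Q f P e := by
  intro P
  induction P using WellFoundedLT.induction with
  | _ P ih =>
    intro e hPe Q hQP
    rcases eq_or_lt_of_le hQP with rfl | hlt
    · refine ⟨e, Relation.ReflTransGen.refl, fun f hf => ?_⟩
      rcases SubpairLE.cases_last hM hf with he | ⟨c, hc, hac, -⟩
      · exact eq_of_heq (Sigma.mk.inj_iff.1 he).2
      · exact absurd (SubpairLE.le hac) hc.not_ge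
    obtain ⟨R, hQR, hRP, hRN, hRmax⟩ := exists_maximal_normal hPe.1 hlt
    obtain ⟨r, hr, -⟩ := existsUnique_normalSubpair hM hPe hRP.le hRN
    obtain ⟨f, hf, hfu⟩ := ih R hRP r hr.1 Q hQR
    refine ⟨f, Relation.ReflTransGen.tail hf hr, fun g hg => ?_⟩
    rcases SubpairLE.cases_last hM hg with he | ⟨⟨T, t⟩, hT, hQT, hTn⟩
    · exact absurd (Sigma.mk.inj_iff.1 he).1 hlt.ne
    -- factor the last step through a maximal subgroup
    obtain ⟨R', hTR', hR'P, hR'N, hR'max⟩ := exists_maximal_normal hPe.1 hT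
    obtain ⟨r', hr', -⟩ := existsUnique_normalSubpair hM hPe hR'P.le hR'N
    have hg' : SubpairLE p M Q g R' r' :=
      Relation.ReflTransGen.tail hQT (IsNormalSubpair.of_common hM hr' hTn hTR')
    -- both factor through the intersection
    have hSN : P ≤ Subgroup.normalizer ((R ⊓ R' : Subgroup G) : Set G) := fun x hx => by
      have a1 := Subgroup.mem_normalizer_iff.1 (hRN hx)
      have a2 := Subgroup.mem_normalizer_iff.1 (hR'N hx)
      rw [Subgroup.mem_normalizer_iff]
      intro y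
      simp only [SetLike.mem_coe, Subgroup.mem_inf]
      exact and_congr (a1 y) (a2 y)
    obtain ⟨s, hs, -⟩ := existsUnique_normalSubpair hM hPe (inf_le_left.trans hRP.le) hSN
    obtain ⟨f₀, hf₀, -⟩ := ih (R ⊓ R') (lt_of_le_of_lt inf_le_left hRP) s hs.1 Q
      (le_inf hQR ((SubpairLE.le hQT).trans hTR'))
    have e1 : f₀ = f :=
      hfu f₀ (Relation.ReflTransGen.tail hf₀ (IsNormalSubpair.of_common hM hr hs inf_le_left))
    have e2 : f₀ = g := (ih R' hR'P r' hr'.1 Q ((SubpairLE.le hQT).trans hTR')).unique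
      (Relation.ReflTransGen.tail hf₀ (IsNormalSubpair.of_common hM hr' hs inf_le_right)) hg'
    rw [← e2, e1]

end Cfsg.Agent.Block
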