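import Mathlib.GroupTheory.PGroup
import Mathlib.GroupTheory.GroupAction.ConjAct
import Mathlib.GroupTheory.Subgroup.Centralizer
import Mathlib.Algebra.Group.Conj

/-!
# Counting pairs in two classes with a given product, modulo `p`
-/

set_option autoImplicit false

namespace Cfsg.Agent.Block

universe u

variable {G : Type u} [Group G]

/-- Pairs in two classes with product centralised by a `p`-group: count modulo `p`. -/
theorem pair_count_modEq [Finite G] {p : ℕ} [Fact p.Prime] (P : Subgroup G) (hP : IsPGroup p P)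
    (c : G) (hc : c ∈ Subgroup.centralizer (P : Set G)) (g h : G) :
    Nat.card {xy : G × G // IsConj g xy.1 ∧ IsConj h xy.2 ∧ xy.1 * xy.2 = c} ≡
      Nat.card {xy : G × G // IsConj g xy.1 ∧ IsConj h xy.2 ∧ xy.1 * xy.2 = c ∧
        xy.1 ∈ Subgroup.centralizer (P : Set G) ∧ xy.2 ∈ Subgroup.centralizer (P : Set G)} [MOD p] := by
  let S := {xy : G × G // IsConj g xy.1 ∧ IsConj h xy.2 ∧ xy.1 * xy.2 = c}
  have hconj : ∀ (q a b : G), IsConj a b → IsConj a (q * b * q⁻¹) := fun q a b hab =>
    hab.trans (isConj_iff.2 ⟨q, rfl⟩)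
  have hfix : ∀ q : P, (q : G) * c * (q : G)⁻¹ = c := fun q => by
    rw [Subgroup.mem_centralizer_iff.1 hc q q.2, mul_inv_cancel_right]
  letI : MulAction P S :=
    { smul := fun q s => ⟨((q : G) * s.1.1 * (q : G)⁻¹, (q : G) * s.1.2 * (q : G)⁻¹),
        hconj _ _ _ s.2.1, hconj _ _ _ s.2.2.1, by
          conv_rhs => rw [← hfix q, ← s.2.2.2]
          group⟩
      one_smul := fun s => by
        apply Subtype.ext
        show (_, _) = s.1
        simp
      mul_smul := fun q r s => by
        apply Subtype.ext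
        show (((q * r : P) : G) * s.1.1 * ((q * r : P) : G)⁻¹, ((q * r : P) : G) * s.1.2 * ((q * r : P) : G)⁻¹) =
          ((q : G) * ((r : G) * s.1.1 * (r : G)⁻¹) * (q : G)⁻¹,
            (q : G) * ((r : G) * s.1.2 * (r : G)⁻¹) * (q : G)⁻¹)
        simp [mul_assoc] }
  have h1 := hP.card_modEq_card_fixedPoints (α := S)
  refine h1.trans ?_
  refine Eq.congr_left ?_ |>.mpr rfl
  congr 1
  apply Nat.card_congr
  refine ((Equiv.subtypeEquivRight (q := fun s : S => s.1.1 ∈ Subgroup.centralizer (P : Set G) ∧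
    s.1.2 ∈ Subgroup.centralizer (P : Set G)) fun s => ?_).trans (Equiv.subtypeSubtypeEquivSubtypeInter
    (fun xy : G × G => IsConj g xy.1 ∧ IsConj h xy.2 ∧ xy.1 * xy.2 = c) (fun xy : G × G =>
      xy.1 ∈ Subgroup.centralizer (P : Set G) ∧ xy.2 ∈ Subgroup.centralizer (P : Set G)))).trans
    (Equiv.subtypeEquivRight fun xy => by simp only [and_assoc])
  simp only [MulAction.mem_fixedPoints, Subgroup.mem_centralizer_iff]
  constructor
  · intro hs
    constructor
    · intro q hq
      have := congrArg (fun t : S => t.1.1) (hs ⟨q, hq⟩)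
      exact mul_inv_eq_iff_eq_mul.1 this
    · intro q hq
      have := congrArg (fun t : S => t.1.2) (hs ⟨q, hq⟩)
      exact mul_inv_eq_iff_eq_mul.1 this
  · intro hs q
    apply Subtype.ext
    show (_, _) = s.1
    rw [hs.1 q q.2, hs.2 q q.2]
    simp

end Cfsg.Agent.Block
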