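import Cfsg.Agent.Lib.Block.Regular
import Cfsg.Agent.Lib.Block.PairCount

/-!
# Defect groups: the ideals of classes with defect group inside a given `p`-group
-/

set_option autoImplicit false

open Cfsg.Agent.Char
open scoped ComplexConjugate

namespace Cfsg.Agent.Block

universe u

variable {G : Type u} [Group G]

/-- Every `p`-subgroup centralising `g` is conjugate to a subgroup of `P`. -/
def DefectLE (p : ℕ) (P : Subgroup G) (g : G) : Prop :=
  ∀ Q : Subgroup G, IsPGroup p Q → Q ≤ Subgroup.centralizer ({g} : Set G) →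
    ∃ x : G, Q.map (MulAut.conj x).toMonoidHom ≤ P

theorem mem_centralizer_singleton {g x : G} :
    x ∈ Subgroup.centralizer ({g} : Set G) ↔ Commute g x := by
  rw [Subgroup.mem_centralizer_iff]
  exact ⟨fun h => h g rfl, fun h y hy => by rw [Set.mem_singleton_iff.1 hy]; exact h⟩

theorem mem_centralizer_subgroup {P : Subgroup G} {g : G} :
    g ∈ Subgroup.centralizer (P : Set G) ↔ P ≤ Subgroup.centralizer ({g} : Set G) := by
  rw [Subgroup.mem_centralizer_iff]
  exact ⟨fun h x hx => mem_centralizer_singleton.2 (h x hx).symm,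
    fun h x hx => (mem_centralizer_singleton.1 (h hx)).symm⟩

theorem map_conj_mul (Q : Subgroup G) (x y : G) :
    Q.map (MulAut.conj (x * y)).toMonoidHom =
      (Q.map (MulAut.conj y).toMonoidHom).map (MulAut.conj x).toMonoidHom := by
  rw [Subgroup.map_map]; congr 1; ext z; simp [mul_assoc]

theorem map_conj_inv_map (Q : Subgroup G) (x : G) :
    (Q.map (MulAut.conj x).toMonoidHom).map (MulAut.conj x⁻¹).toMonoidHom = Q := by
  rw [← map_conj_mul, inv_mul_cancel, map_one]
  ext z; simp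

theorem map_conj_le_iff (Q P : Subgroup G) (x : G) :
    Q.map (MulAut.conj x).toMonoidHom ≤ P ↔ Q ≤ P.map (MulAut.conj x⁻¹).toMonoidHom := by
  constructor
  · intro h
    have := Subgroup.map_mono (f := (MulAut.conj x⁻¹).toMonoidHom) h
    rwa [map_conj_inv_map] at this
  · intro h
    have := Subgroup.map_mono (f := (MulAut.conj x).toMonoidHom) h
    have e := map_conj_inv_map P x⁻¹
    rw [inv_inv] at e
    rwa [e] at this

theorem card_map_conj (Q : Subgroup G) (x : G) :
    Nat.card (Q.map (MulAut.conj x).toMonoidHom) = Nat.card Q :=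
  Nat.card_congr (Q.equivMapOfInjective _ (MulAut.conj x).injective).toEquiv.symm

theorem map_conj_centralizer {g : G} {Q : Subgroup G}
    (h : Q ≤ Subgroup.centralizer ({g} : Set G)) (x : G) :
    Q.map (MulAut.conj x).toMonoidHom ≤ Subgroup.centralizer ({x * g * x⁻¹} : Set G) := by
  rintro z ⟨q, hq, rfl⟩
  rw [mem_centralizer_singleton]
  exact (mem_centralizer_singleton.1 (h hq)).map (MulAut.conj x).toMonoidHom

theorem defectLE_of_isConj {p : ℕ} {P : Subgroup G} {g g' : G} (hc : IsConj g g')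
    (h : DefectLE p P g) : DefectLE p P g' := by
  obtain ⟨t, rfl⟩ := isConj_iff.1 hc
  intro Q hQ hQc
  have h1 := map_conj_centralizer hQc t⁻¹
  rw [show t⁻¹ * (t * g * t⁻¹) * t⁻¹⁻¹ = g by group] at h1
  obtain ⟨x, hx⟩ := h _ (hQ.map _) h1
  exact ⟨x * t⁻¹, by rw [map_conj_mul]; exact hx⟩

/-- The image of a Sylow subgroup of the centraliser. -/
abbrev sylowImage {p : ℕ} {g : G} (S : Sylow p (Subgroup.centralizer ({g} : Set G))) : Subgroup G :=
  (S : Subgroup (Subgroup.centralizer ({g} : Set G))).map (Subgroup.centralizer ({g} : Set G)).subtype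

theorem isPGroup_sylowImage {p : ℕ} {g : G} (S : Sylow p (Subgroup.centralizer ({g} : Set G))) :
    IsPGroup p (sylowImage S) := S.2.map _

theorem sylowImage_le {p : ℕ} {g : G} (S : Sylow p (Subgroup.centralizer ({g} : Set G))) :
    sylowImage S ≤ Subgroup.centralizer ({g} : Set G) := Subgroup.map_subtype_le _

/-- A `p`-subgroup of the centraliser is conjugate into any Sylow subgroup of the centraliser. -/
theorem defectLE_sylowImage [Finite G] {p : ℕ} [Fact p.Prime] {g : G}
    (S : Sylow p (Subgroup.centralizer ({g} : Set G))) : DefectLE p (sylowImage S) g := by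
  intro Q hQ hQc
  obtain ⟨T, hT⟩ := (show IsPGroup p (Q.subgroupOf (Subgroup.centralizer ({g} : Set G))) from
    hQ.comap_subtype).exists_le_sylow
  obtain ⟨c, hc⟩ := MulAction.exists_smul_eq (Subgroup.centralizer ({g} : Set G)) T S
  refine ⟨(c : G), ?_⟩
  rintro _ ⟨q, hq, rfl⟩
  have hqT : (⟨q, hQc hq⟩ : Subgroup.centralizer ({g} : Set G)) ∈ (T : Subgroup _) := hT hq
  refine ⟨c * ⟨q, hQc hq⟩ * c⁻¹, ?_, rfl⟩
  rw [← hc]
  exact Subgroup.smul_mem_pointwise_smul _ (MulAut.conj c) _ hqT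

/-- The elements supported modulo `M` on classes with defect group inside `P`. -/
def DefIdeal (p : ℕ) (M : Ideal AlgInt) (P : Subgroup G) (a : MonoidAlgebra ℂ G) : Prop :=
  IsCentralElt a ∧ IsLocElt M a ∧ ∀ g, ¬ MemLocalIdeal M (a.coeff g) → DefectLE p P g

theorem coeff_classSum_mul [Finite G] (g h c : G) :
    (classSum g * classSum h).coeff c =
      (Nat.card {xy : G × G // IsConj g xy.1 ∧ IsConj h xy.2 ∧ xy.1 * xy.2 = c} : ℂ) := by
  classical
  haveI := Fintype.ofFinite G
  rw [MonoidAlgebra.coeff_mul_apply_left, Finsupp.sum_fintype _ _ (by simp)]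
  have hx : ∀ x, (classSum g).coeff x * (classSum h).coeff (x⁻¹ * c) =
      if IsConj g x ∧ IsConj h (x⁻¹ * c) then (1 : ℂ) else 0 := fun x => by
    simp only [classSum, coeff_mkA]
    split_ifs <;> simp_all
  rw [Finset.sum_congr rfl fun x _ => hx x]
  refine (Finset.sum_boole _ _).trans ?_
  congr 1
  rw [Nat.card_eq_fintype_card, ← Fintype.card_coe]
  refine Fintype.card_congr
    { toFun := fun x => ⟨((x : G), (x : G)⁻¹ * c), by
        have := (Finset.mem_filter.1 x.2).2
        exact ⟨this.1, this.2, mul_inv_cancel_left _ _⟩⟩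
      invFun := fun xy => ⟨xy.1.1, Finset.mem_filter.2 ⟨Finset.mem_univ _, xy.2.1, by
        rw [← eq_inv_mul_iff_mul_eq.2 xy.2.2.2]; exact xy.2.2.1⟩⟩
      left_inv := fun x => rfl
      right_inv := fun xy => Subtype.ext (Prod.ext rfl (by
        show xy.1.1⁻¹ * c = xy.1.2
        exact (eq_inv_mul_iff_mul_eq.2 xy.2.2.2).symm)) }

variable {M : Ideal AlgInt} [hMp : M.IsPrime] {p : ℕ}

theorem defIdeal_zero (P : Subgroup G) : DefIdeal p M P 0 :=
  ⟨IsCentralElt.zero, IsLocElt.zero, fun g h => absurd (by simpa using memLocalIdeal_zero (M := M)) h⟩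

theorem defIdeal_add {P : Subgroup G} {a b : MonoidAlgebra ℂ G} (ha : DefIdeal p M P a)
    (hb : DefIdeal p M P b) : DefIdeal p M P (a + b) := by
  refine ⟨ha.1.add hb.1, ha.2.1.add hb.2.1, fun g h => ?_⟩
  by_contra hg
  refine h ?_
  rw [MonoidAlgebra.coeff_add]
  exact memLocalIdeal_add (not_not.1 fun h' => hg (ha.2.2 g h')) (not_not.1 fun h' => hg (hb.2.2 g h'))

theorem defIdeal_smul {P : Subgroup G} {a : MonoidAlgebra ℂ G} (ha : DefIdeal p M P a) {c : ℂ}
    (hc : c ∈ locRing M) : DefIdeal p M P (c • a) := by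
  refine ⟨ha.1.smul c, ha.2.1.smul hc, fun g h => ha.2.2 g fun h' => h ?_⟩
  rw [MonoidAlgebra.coeff_smul]
  exact memLocalIdeal_mul_left hc h'

variable [Finite G] [Fact p.Prime]

theorem defIdeal_classSum {P : Subgroup G} {g : G} (hg : DefectLE p P g) :
    DefIdeal p M P (classSum g) := by
  classical
  refine ⟨isCentralElt_classSum g, isLocElt_classSum g, fun h hh => ?_⟩
  have : IsConj g h := by
    by_contra hc
    apply hh
    simp only [classSum, coeff_mkA, if_neg hc]
    exact memLocalIdeal_zero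
  exact defectLE_of_isConj this hg

/-- A class in the support of a product has defect group inside that of the first factor. -/
theorem defectLE_of_pair_count {P : Subgroup G} {g h c : G} (hg : DefectLE p P g)
    (hcount : ¬ p ∣ Nat.card {xy : G × G // IsConj g xy.1 ∧ IsConj h xy.2 ∧ xy.1 * xy.2 = c}) :
    DefectLE p P c := by
  intro Q hQ hQc
  have h1 := pair_count_modEq Q hQ c (mem_centralizer_subgroup.2 hQc) g h
  have : Nonempty {xy : G × G // IsConj g xy.1 ∧ IsConj h xy.2 ∧ xy.1 * xy.2 = c ∧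
      xy.1 ∈ Subgroup.centralizer (Q : Set G) ∧ xy.2 ∈ Subgroup.centralizer (Q : Set G)} := by
    by_contra hne
    rw [not_nonempty_iff] at hne
    rw [Nat.card_of_isEmpty (α := {xy : G × G // IsConj g xy.1 ∧ IsConj h xy.2 ∧ xy.1 * xy.2 = c ∧
      xy.1 ∈ Subgroup.centralizer (Q : Set G) ∧ xy.2 ∈ Subgroup.centralizer (Q : Set G)})] at h1
    exact hcount (Nat.modEq_zero_iff_dvd.1 h1)
  obtain ⟨⟨x, y⟩, hx, -, -, hxQ, -⟩ := this
  exact defectLE_of_isConj hx hg Q hQ (mem_centralizer_subgroup.1 hxQ)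

theorem defIdeal_mul_left (hM : IsPModular p M) {P : Subgroup G} {a b : MonoidAlgebra ℂ G}
    (ha : DefIdeal p M P a) (hb : IsCentralElt b) (hbl : IsLocElt M b) :
    DefIdeal p M P (b * a) := by
  classical
  haveI := Fintype.ofFinite (ConjClasses G)
  refine ⟨hb.mul ha.1, hbl.mul ha.2.1, fun c hc => ?_⟩
  rw [(hb.commute a).eq, eq_sum_classSum ha.1, eq_sum_classSum hb] at hc
  simp only [Finset.sum_mul, Finset.mul_sum, smul_mul_smul_comm, MonoidAlgebra.coeff_sum,
    Finsupp.finsetSum_apply, MonoidAlgebra.coeff_smul, Finsupp.smul_apply, smul_eq_mul,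
    coeff_classSum_mul] at hc
  by_contra hcD
  refine hc (memLocalIdeal_sum _ _ fun C' _ => memLocalIdeal_sum _ _ fun C _ => ?_)
  by_cases h : MemLocalIdeal M (a.coeff (classRep C))
  · exact memLocalIdeal_mul_right (natCast_mem _ _)
      (memLocalIdeal_mul_right (hbl _) h)
  · refine memLocalIdeal_mul_left (mul_mem (ha.2.1 _) (hbl _))
      ((memLocalIdeal_natCast_iff hM.1 hM.2.2 _).2 (by_contra fun hn => hcD ?_))
    exact defectLE_of_pair_count (ha.2.2 _ h) hn

/-- A property closed under sums, scalars and central multiples that holds for some element with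
unit central characters on a block holds for the block idempotent. -/
theorem blockIdem_induction {B : Set (IrrCharacter G)} (hB : IsPBlock M B)
    (Pr : MonoidAlgebra ℂ G → Prop) (h0 : Pr 0) (hadd : ∀ a b, Pr a → Pr b → Pr (a + b))
    (hsmul : ∀ (c : ℂ) a, c ∈ locRing M → Pr a → Pr (c • a))
    (hmul : ∀ a b, Pr a → IsCentralElt b → IsLocElt M b → Pr (b * a))
    (hcl : ∀ a, Pr a → IsCentralElt a ∧ IsLocElt M a)
    {u : MonoidAlgebra ℂ G} (hu : Pr u)
    (hunit : ∀ χ ∈ B, ¬ MemLocalIdeal M (omega (χ : G → ℂ) u)) : Pr (blockIdem B) := by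
  classical
  haveI := Fintype.ofFinite (IrrCharacter G)
  set v := blockIdem B * u with hv
  have hvP : Pr v := hmul u _ hu (isCentralElt_blockIdem B) (isLocElt_blockIdem hB)
  have hov : ∀ χ : IrrCharacter G, omega (χ : G → ℂ) v =
      if χ ∈ B then omega (χ : G → ℂ) u else 0 := fun χ => by
    rw [hv, omega_mul χ (isCentralElt_blockIdem B) (hcl u hu).1, omega_blockIdem]
    split <;> simp
  suffices h : ∀ t : Finset (IrrCharacter G), (∀ χ ∈ t, χ ∈ B) →
      ∃ e : MonoidAlgebra ℂ G, Pr e ∧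
        (∀ χ ∈ t, omega (χ : G → ℂ) e = 1) ∧ ∀ ψ, ψ ∉ B → omega (ψ : G → ℂ) e = 0 by
    obtain ⟨e, he, he1, he0⟩ := h (Finset.univ.filter (· ∈ B)) fun χ hχ => (Finset.mem_filter.1 hχ).2
    have : blockIdem B = e := eq_of_omega_eq (isCentralElt_blockIdem B) (hcl e he).1 fun χ => by
      rw [omega_blockIdem]
      split
      next h => rw [he1 χ (by simp [h])]
      next h => rw [he0 χ h]
    exact this ▸ he
  intro t
  induction t using Finset.induction_on with
  | empty => exact fun _ => ⟨0, h0, by simp, fun _ _ => omega_zero _⟩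
  | insert χ t hχt ih =>
    intro ht
    obtain ⟨e, he, he1, he0⟩ := ih fun φ hφ => ht φ (Finset.mem_insert_of_mem hφ)
    have hχ := ht χ (Finset.mem_insert_self _ _)
    have hu' := hcl u hu
    have hc := inv_mem_locRing (omega_mem_locRing χ hu'.1 hu'.2) (hunit χ hχ)
    have hc0 : omega (χ : G → ℂ) u ≠ 0 := fun h => hunit χ hχ (h ▸ memLocalIdeal_zero)
    set f := (omega (χ : G → ℂ) u)⁻¹ • v
    have hf : Pr f := hsmul _ _ hc hvP
    have hfc := hcl f hf
    have hec := hcl e he
    refine ⟨e + f + (-1 : ℂ) • (e * f), hadd _ _ (hadd _ _ he hf)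
      (hsmul _ _ (neg_mem (one_mem _)) (hmul f e hf hec.1 hec.2)), ?_⟩
    have hom : ∀ φ : IrrCharacter G, omega (φ : G → ℂ) (e + f + (-1 : ℂ) • (e * f)) =
        1 - (1 - omega (φ : G → ℂ) e) * (1 - omega (φ : G → ℂ) f) := fun φ => by
      rw [omega_add, omega_add, omega_smul φ.1 (-1 : ℂ), omega_mul φ hec.1 hfc.1]; ring
    refine ⟨fun φ hφ => ?_, fun φ hφ => ?_⟩
    · rw [hom]
      rcases Finset.mem_insert.1 hφ with rfl | h
      · rw [show omega (φ : G → ℂ) f = 1 by rw [omega_smul, hov, if_pos hχ, inv_mul_cancel₀ hc0]]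
        ring
      · rw [he1 φ h]; ring
    · rw [hom, he0 φ hφ, omega_smul, hov, if_neg hφ]; ring

theorem defIdeal_blockIdem_of_unit (hM : IsPModular p M) {B : Set (IrrCharacter G)}
    (hB : IsPBlock M B) {P : Subgroup G} {g : G} (hg : DefectLE p P g)
    (h : ∃ χ ∈ B, ¬ MemLocalIdeal M (centralChar (χ : G → ℂ) g)) :
    DefIdeal p M P (blockIdem B) := by
  obtain ⟨χ, hχ, hu⟩ := h
  refine blockIdem_induction hB (DefIdeal p M P) (defIdeal_zero P) (fun _ _ => defIdeal_add)
    (fun _ _ hc ha => defIdeal_smul ha hc) (fun _ _ ha hb hbl => defIdeal_mul_left hM ha hb hbl)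
    (fun _ ha => ⟨ha.1, ha.2.1⟩) (defIdeal_classSum hg) fun ψ hψ => ?_
  rw [omega_classSum]
  exact centralChar_unit_congr hB hχ hψ hu

theorem defectLE_of_coeff_unit (hM : IsPModular p M) {B : Set (IrrCharacter G)} (hB : IsPBlock M B)
    {D : Subgroup G} (hD : IsDefectGroup p M B D) {h : G}
    (hh : ¬ MemLocalIdeal M (blockCoeff B h)) : DefectLE p D h := by
  obtain ⟨g, hg, S, rfl⟩ := hD
  obtain ⟨χ, hχ⟩ := isPBlock_nonempty hB
  refine (defIdeal_blockIdem_of_unit hM hB (defectLE_sylowImage S) ⟨χ, hχ, hg.2.2 χ hχ⟩).2.2 h ?_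
  simpa [blockIdem] using hh

theorem isPGroup_of_isDefectGroup {B : Set (IrrCharacter G)} {D : Subgroup G}
    (hD : IsDefectGroup p M B D) : IsPGroup p D := by
  obtain ⟨g, -, S, rfl⟩ := hD
  exact isPGroup_sylowImage S

theorem exists_isDefectGroup {B : Set (IrrCharacter G)} (hB : IsPBlock M B) :
    ∃ D, IsDefectGroup p M B D := by
  obtain ⟨g, hg⟩ := exists_isDefectClass hB
  obtain ⟨S⟩ : Nonempty (Sylow p (Subgroup.centralizer ({g} : Set G))) := inferInstance
  exact ⟨_, g, hg, S, rfl⟩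

/-- The second half of the min-max statement. -/
theorem exists_conj_le_of_centralChar_unit (hM : IsPModular p M) {B : Set (IrrCharacter G)}
    (hB : IsPBlock M B) {D : Subgroup G} (hD : IsDefectGroup p M B D) {h : G}
    (hh : ∃ χ ∈ B, ¬ MemLocalIdeal M (centralChar (χ : G → ℂ) h))
    (S : Sylow p (Subgroup.centralizer ({h} : Set G))) :
    ∃ x : G, D.map (MulAut.conj x).toMonoidHom ≤ sylowImage S := by
  obtain ⟨g, hg, T, rfl⟩ := hD
  have h1 := (defIdeal_blockIdem_of_unit hM hB (defectLE_sylowImage S) hh).2.2 g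
    (by simpa [blockIdem] using hg.2.1)
  exact h1 _ (isPGroup_sylowImage T) (sylowImage_le T)

/-- Defect groups are conjugate. -/
theorem isDefectGroup_conj (hM : IsPModular p M) {B : Set (IrrCharacter G)} (hB : IsPBlock M B)
    {D E : Subgroup G} (hD : IsDefectGroup p M B D) (hE : IsDefectGroup p M B E) :
    ∃ x : G, E = D.map (MulAut.conj x).toMonoidHom := by
  obtain ⟨g, hg, S, hDS⟩ := hD
  obtain ⟨g', hg', S', hES⟩ := hE
  obtain ⟨χ, hχ⟩ := isPBlock_nonempty hB
  obtain ⟨x, hx⟩ := exists_conj_le_of_centralChar_unit hM hB ⟨g, hg, S, hDS⟩ ⟨χ, hχ, hg'.2.2 χ hχ⟩ S'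
  obtain ⟨y, hy⟩ := exists_conj_le_of_centralChar_unit hM hB ⟨g', hg', S', hES⟩ ⟨χ, hχ, hg.2.2 χ hχ⟩ S
  have hy' : E.map (MulAut.conj y).toMonoidHom ≤ D := hDS ▸ hy
  have hx' : D.map (MulAut.conj x).toMonoidHom ≤ E := hES ▸ hx
  refine ⟨x, (Subgroup.eq_of_le_of_card_ge hx' ?_).symm⟩
  calc Nat.card E = Nat.card (E.map (MulAut.conj y).toMonoidHom) := (card_map_conj E y).symm
    _ ≤ Nat.card D := Subgroup.card_le_of_le hy'
    _ = _ := (card_map_conj D x).symm

theorem exists_defectClass_centralized (hM : IsPModular p M) {B : Set (IrrCharacter G)}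
    (hB : IsPBlock M B) {D P : Subgroup G} (hD : IsDefectGroup p M B D) (x : G)
    (hP : P.map (MulAut.conj x).toMonoidHom ≤ D) :
    ∃ g : G, IsDefectClass M B g ∧ ∃ c, IsConj g c ∧ c ∈ Subgroup.centralizer (P : Set G) := by
  obtain ⟨g, hg, S, rfl⟩ := hD
  refine ⟨g, hg, x⁻¹ * g * x, isConj_iff.2 ⟨x⁻¹, by group⟩, mem_centralizer_subgroup.2 ?_⟩
  have := map_conj_centralizer (hP.trans (sylowImage_le S)) x⁻¹
  rwa [map_conj_inv_map, inv_inv] at this

/-- The Brauer image of the block idempotent at `P` is non-zero exactly for `P` inside a defect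
group, up to conjugacy. -/
theorem exists_coeff_unit_centralized_iff (hM : IsPModular p M) {B : Set (IrrCharacter G)}
    (hB : IsPBlock M B) {D : Subgroup G} (hD : IsDefectGroup p M B D) {P : Subgroup G}
    (hP : IsPGroup p P) :
    (∃ g : G, MemLocalRing M (blockCoeff B g) ∧ ¬ MemLocalIdeal M (blockCoeff B g) ∧
      ∃ c : G, IsConj g c ∧ c ∈ Subgroup.centralizer (P : Set G)) ↔
      ∃ x : G, P.map (MulAut.conj x).toMonoidHom ≤ D := by
  constructor
  · rintro ⟨g, -, hg, c, hgc, hc⟩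
    exact defectLE_of_isConj hgc (defectLE_of_coeff_unit hM hB hD hg) P hP
      (mem_centralizer_subgroup.1 hc)
  · rintro ⟨x, hx⟩
    obtain ⟨g, hg, c, h⟩ := exists_defectClass_centralized hM hB hD x hx
    exact ⟨g, hg.1, hg.2.1, c, h⟩

end Cfsg.Agent.Block
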