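import Cfsg.Agent.Lib.Block.BrauerHom

/-!
# Central characters modulo `M` as homomorphisms, and the blocks they single out
-/

set_option autoImplicit false

open Cfsg.Agent.Char
open scoped ComplexConjugate

namespace Cfsg.Agent.Block

universe u

variable {G : Type u} [Group G] [Finite G] {M : Ideal AlgInt} [hMp : M.IsPrime] {p : ℕ}

/-- The central character of `χ` modulo `M`. -/
noncomputable def ro (M : Ideal AlgInt) [M.IsPrime] (χ : IrrCharacter G) (a : MonoidAlgebra ℂ G) :
    ResK M := resC M (omega (χ : G → ℂ) a)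

theorem ro_zero (χ : IrrCharacter G) : ro M χ (0 : MonoidAlgebra ℂ G) = 0 := by
  simp [ro, omega_zero]

theorem ro_one (χ : IrrCharacter G) : ro M χ (1 : MonoidAlgebra ℂ G) = 1 := by
  simp [ro, omega_one (IsIrrCharacter.apply_one_ne_zero χ.2)]

theorem ro_add (χ : IrrCharacter G) {a b : MonoidAlgebra ℂ G} (ha : CL M a) (hb : CL M b) :
    ro M χ (a + b) = ro M χ a + ro M χ b := by
  rw [ro, omega_add, resC_add (omega_mem_locRing χ ha.1 ha.2) (omega_mem_locRing χ hb.1 hb.2)]; rfl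

theorem ro_sub (χ : IrrCharacter G) {a b : MonoidAlgebra ℂ G} (ha : CL M a) (hb : CL M b) :
    ro M χ (a - b) = ro M χ a - ro M χ b := by
  rw [ro, omega_sub, resC_sub (omega_mem_locRing χ ha.1 ha.2) (omega_mem_locRing χ hb.1 hb.2)]; rfl

theorem ro_mul (χ : IrrCharacter G) {a b : MonoidAlgebra ℂ G} (ha : CL M a) (hb : CL M b) :
    ro M χ (a * b) = ro M χ a * ro M χ b := by
  rw [ro, omega_mul χ ha.1 hb.1,
    resC_mul (omega_mem_locRing χ ha.1 ha.2) (omega_mem_locRing χ hb.1 hb.2)]; rfl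

theorem ro_smul (χ : IrrCharacter G) {c : ℂ} (hc : c ∈ locRing M) {a : MonoidAlgebra ℂ G}
    (ha : CL M a) : ro M χ (c • a) = resC M c * ro M χ a := by
  rw [ro, omega_smul, resC_mul hc (omega_mem_locRing χ ha.1 ha.2)]; rfl

theorem ro_sum (χ : IrrCharacter G) {ι : Type*} (s : Finset ι) (f : ι → MonoidAlgebra ℂ G)
    (h : ∀ i ∈ s, CL M (f i)) : ro M χ (∑ i ∈ s, f i) = ∑ i ∈ s, ro M χ (f i) := by
  rw [ro, omega_sum, resC_sum _ _ fun i hi => omega_mem_locRing χ (h i hi).1 (h i hi).2]; rfl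

theorem ro_classSum (χ : IrrCharacter G) (g : G) :
    ro M χ (classSum g) = resC M (centralChar (χ : G → ℂ) g) := by rw [ro, omega_classSum]

theorem ro_blockIdem_mem {B : Set (IrrCharacter G)} {χ : IrrCharacter G} (h : χ ∈ B) :
    ro M χ (blockIdem B) = 1 := by
  classical
  rw [ro, omega_blockIdem, if_pos h, resC_one]

theorem ro_blockIdem_notMem {B : Set (IrrCharacter G)} {χ : IrrCharacter G} (h : χ ∉ B) :
    ro M χ (blockIdem B) = 0 := by
  classical
  rw [ro, omega_blockIdem, if_neg h, resC_zero]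

theorem ro_congr {B : Set (IrrCharacter G)} (hB : IsPBlock M B) {χ ψ : IrrCharacter G}
    (hχ : χ ∈ B) (hψ : ψ ∈ B) {a : MonoidAlgebra ℂ G} (ha : CL M a) : ro M χ a = ro M ψ a :=
  (resC_eq_iff (omega_mem_locRing χ ha.1 ha.2) (omega_mem_locRing ψ ha.1 ha.2)).2
    (omega_congr (isPBlock_sameBlock hB hχ hψ) ha.1 ha.2)

theorem ro_eq_zero_iff (χ : IrrCharacter G) {a : MonoidAlgebra ℂ G} (ha : CL M a) :
    ro M χ a = 0 ↔ MemLocalIdeal M (omega (χ : G → ℂ) a) :=
  resC_eq_zero_iff (omega_mem_locRing χ ha.1 ha.2)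

/-! ## Nilpotency -/

omit [Finite G] hMp in
theorem centralizer_bot : Subgroup.centralizer ((⊥ : Subgroup G) : Set G) = ⊤ := by
  rw [eq_top_iff]
  intro x _
  rw [Subgroup.mem_centralizer_iff]
  intro q hq
  rw [Subgroup.mem_bot.1 hq, one_mul, mul_one]

theorem brFun_bot_eq_zero_iff {a : MonoidAlgebra ℂ G} (ha : IsLocElt M a) :
    brFun M (⊥ : Subgroup G) a = 0 ↔ ∀ x, MemLocalIdeal M (a.coeff x) := by
  rw [brFun_eq_zero_iff ha, centralizer_bot]
  simp

/-- A central element with all central characters in `M` has a power with coefficients in `M`. -/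
theorem exists_pow_memLocalIdeal (hM : IsPModular p M) {a : MonoidAlgebra ℂ G} (ha : CL M a)
    (h : ∀ χ : IrrCharacter G, ro M χ a = 0) :
    ∃ N : ℕ, ∀ x, MemLocalIdeal M ((a ^ N).coeff x) := by
  classical
  haveI := Fintype.ofFinite (IrrCharacter G)
  have hbot : IsPGroup p (⊥ : Subgroup G) := IsPGroup.of_bot
  suffices hs : ∀ t : Finset (IrrCharacter G), ∃ b, CL M b ∧ (∀ φ ∈ t, omega (φ : G → ℂ) b = 0) ∧
      brFun M (⊥ : Subgroup G) b = brFun M (⊥ : Subgroup G) (a ^ t.card) by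
    obtain ⟨b, hb, hb0, he⟩ := hs Finset.univ
    have : b = 0 := eq_of_omega_eq hb.1 IsCentralElt.zero fun χ => by
      rw [hb0 χ (Finset.mem_univ _), omega_zero]
    rw [this, brFun_zero] at he
    exact ⟨_, (brFun_bot_eq_zero_iff (ha.pow _).2).1 he.symm⟩
  intro t
  induction t using Finset.induction_on with
  | empty => exact ⟨1, CL.one, by simp, by rw [Finset.card_empty, pow_zero]⟩
  | insert φ t hφt ih =>
    obtain ⟨b, hb, hb0, he⟩ := ih
    have hw := omega_mem_locRing φ ha.1 ha.2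
    have h1 : CL M (omega (φ : G → ℂ) a • (1 : MonoidAlgebra ℂ G)) := CL.one.smul hw
    have hc := ha.sub h1
    refine ⟨(a - omega (φ : G → ℂ) a • (1 : MonoidAlgebra ℂ G)) * b, hc.mul hb, fun ψ hψ => ?_, ?_⟩
    · rw [omega_mul ψ hc.1 hb.1]
      rcases Finset.mem_insert.1 hψ with rfl | h'
      · rw [omega_sub, omega_smul, omega_one (IsIrrCharacter.apply_one_ne_zero ψ.2), mul_one,
          sub_self, zero_mul]
      · rw [hb0 ψ h', mul_zero]
    · rw [Finset.card_insert_of_notMem hφt, pow_succ', brFun_mul hM hbot (hc.ps _) (hb.ps _),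
        brFun_mul hM hbot (ha.ps _) ((ha.pow _).ps _), he, brFun_sub ha.2 h1.2,
        (brFun_bot_eq_zero_iff h1.2).2 (fun x => ?_), sub_zero]
      rw [MonoidAlgebra.coeff_smul]
      exact memLocalIdeal_mul_right (CL.one.2 x) ((ro_eq_zero_iff φ ha).1 (h φ))

theorem brFun_pow (hM : IsPModular p M) {P : Subgroup G} (hP : IsPGroup p P) {a : MonoidAlgebra ℂ G}
    (ha : PS M P a) (n : ℕ) : brFun M P (a ^ n) = brFun M P a ^ n ∧ PS M P (a ^ n) := by
  induction n with
  | zero => exact ⟨by rw [pow_zero, pow_zero, brFun_one], by rw [pow_zero]; exact PS.one P⟩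
  | succ n ih => exact ⟨by rw [pow_succ, pow_succ, brFun_mul hM hP ih.2 ha, ih.1],
      by rw [pow_succ]; exact ih.2.mul ha⟩

/-- An idempotent Brauer image is zero if all central characters vanish. -/
theorem exists_ro_ne_zero (hM : IsPModular p M) {P : Subgroup G} (hP : IsPGroup p P)
    {H : Subgroup G} {a : MonoidAlgebra ℂ H} (ha : CL M a) (hs : PS M P (embH H a))
    (hidem : IsIdempotentElem (brFun M P (embH H a))) (hne : brFun M P (embH H a) ≠ 0) :
    ∃ ξ : IrrCharacter H, ro M ξ a ≠ 0 := by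
  by_contra! h
  obtain ⟨N, hN⟩ := exists_pow_memLocalIdeal hM ha h
  refine hne ?_
  have hz : brFun M P (embH H (a ^ N)) = 0 :=
    (brFun_eq_zero_iff (isLocElt_embH H (ha.pow N).2)).2 fun x _ => by
      by_cases hx : x ∈ H
      · rw [show x = ((⟨x, hx⟩ : H) : G) from rfl, coeff_embH]; exact hN _
      · rw [coeff_embH_of_notMem _ _ hx]; exact memLocalIdeal_zero
  have hpow : embH H (a ^ N) = embH H a ^ N := map_pow _ a N
  rw [hpow, (brFun_pow hM hP hs N).1] at hz
  rcases N with _ | N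
  · rw [pow_zero] at hz
    rw [← mul_one (brFun M P (embH H a)), hz, mul_zero]
  · rwa [hidem.pow_succ_eq] at hz

theorem exists_ro_ne_zero' (hM : IsPModular p M) {P : Subgroup G} (hP : IsPGroup p P)
    {a : MonoidAlgebra ℂ G} (ha : CL M a)
    (hidem : IsIdempotentElem (brFun M P a)) (hne : brFun M P a ≠ 0) :
    ∃ χ : IrrCharacter G, ro M χ a ≠ 0 := by
  by_contra! h
  obtain ⟨N, hN⟩ := exists_pow_memLocalIdeal hM ha h
  refine hne ?_
  have hz : brFun M P (a ^ N) = 0 := (brFun_eq_zero_iff (ha.pow N).2).2 fun x _ => hN x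
  rw [(brFun_pow hM hP (ha.ps P) N).1] at hz
  rcases N with _ | N
  · rw [pow_zero] at hz
    rw [← mul_one (brFun M P a), hz, mul_zero]
  · rwa [hidem.pow_succ_eq] at hz

/-! ## Homomorphisms to the residue field -/

theorem sum_pBlocks_blockIdem : ∑ B ∈ pBlocks M G, blockIdem B = (1 : MonoidAlgebra ℂ G) := by
  classical
  refine eq_of_omega_eq (IsCentralElt.sum _ _ fun B _ => isCentralElt_blockIdem B) IsCentralElt.one
    fun χ => ?_
  rw [omega_one (IsIrrCharacter.apply_one_ne_zero χ.2), omega_sum,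
    Finset.sum_eq_single (blockOf M (χ : G → ℂ))]
  · rw [omega_blockIdem, if_pos (self_mem_blockOf χ)]
  · intro B hB hne
    rw [omega_blockIdem, if_neg fun h => hne (isPBlock_eq_blockOf (mem_pBlocks.1 hB) h)]
  · intro h; exact absurd (mem_pBlocks.2 (isPBlock_blockOf χ)) h

theorem blockIdem_mul_eq_zero {B B' : Set (IrrCharacter G)} (hB : IsPBlock M B) (hB' : IsPBlock M B')
    (h : B ≠ B') : blockIdem B * blockIdem B' = 0 := by
  classical
  refine eq_of_omega_eq ((isCentralElt_blockIdem B).mul (isCentralElt_blockIdem B')) IsCentralElt.zero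
    fun χ => ?_
  rw [omega_mul χ (isCentralElt_blockIdem B) (isCentralElt_blockIdem B'), omega_blockIdem,
    omega_blockIdem, omega_zero]
  by_cases hχ : χ ∈ B
  · rw [if_neg (fun hχ' => h (isPBlock_eq_of_mem hB hB' hχ hχ')), mul_zero]
  · rw [if_neg hχ, zero_mul]

/-- A unital homomorphism from the central elements with local coefficients to the residue field. -/
structure IsResHom (M : Ideal AlgInt) [M.IsPrime] (φ : MonoidAlgebra ℂ G → ResK M) : Prop where
  one : φ 1 = 1
  add : ∀ {a b}, CL M a → CL M b → φ (a + b) = φ a + φ b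
  mul : ∀ {a b}, CL M a → CL M b → φ (a * b) = φ a * φ b
  smul : ∀ {c : ℂ} {a}, c ∈ locRing M → CL M a → φ (c • a) = resC M c * φ a

namespace IsResHom

variable {φ : MonoidAlgebra ℂ G → ResK M}

theorem zero (hφ : IsResHom M φ) : φ 0 = 0 := by
  simpa using hφ.smul (zero_mem (locRing M)) (CL.one (G := G))

theorem sum (hφ : IsResHom M φ) {ι : Type*} (s : Finset ι) (f : ι → MonoidAlgebra ℂ G)
    (h : ∀ i ∈ s, CL M (f i)) : φ (∑ i ∈ s, f i) = ∑ i ∈ s, φ (f i) := by
  classical
  induction s using Finset.induction_on with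
  | empty => simp [hφ.zero]
  | insert i s hi ih =>
    rw [Finset.sum_insert hi, Finset.sum_insert hi, hφ.add (h i (Finset.mem_insert_self _ _))
      (CL.sum _ _ fun j hj => h j (Finset.mem_insert_of_mem hj)),
      ih fun j hj => h j (Finset.mem_insert_of_mem hj)]

theorem eq_ro (hφ : IsResHom M φ) {B : Set (IrrCharacter G)} (hB : IsPBlock M B)
    (hne : φ (blockIdem B) ≠ 0) {χ : IrrCharacter G} (hχ : χ ∈ B) {a : MonoidAlgebra ℂ G}
    (ha : CL M a) : φ a = ro M χ a := by
  classical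
  have hs : ∀ t : Finset (IrrCharacter G), ∃ b, CL M b ∧ (∀ ψ ∈ t, omega (ψ : G → ℂ) b = 0) ∧
      φ b = ∏ ψ ∈ t, (φ a - ro M ψ a) := by
    intro t
    induction t using Finset.induction_on with
    | empty => exact ⟨1, CL.one, by simp, by rw [Finset.prod_empty, hφ.one]⟩
    | insert ψ t hψt ih =>
      obtain ⟨b, hb, hb0, he⟩ := ih
      have hw := omega_mem_locRing ψ ha.1 ha.2
      have h1 : CL M ((-omega (ψ : G → ℂ) a) • (1 : MonoidAlgebra ℂ G)) := CL.one.smul (neg_mem hw)
      have hc := ha.add h1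
      refine ⟨(a + (-omega (ψ : G → ℂ) a) • (1 : MonoidAlgebra ℂ G)) * b, hc.mul hb, fun η hη => ?_, ?_⟩
      · rw [omega_mul η hc.1 hb.1]
        rcases Finset.mem_insert.1 hη with rfl | h'
        · rw [omega_add, omega_smul, omega_one (IsIrrCharacter.apply_one_ne_zero η.2), mul_one,
            add_neg_cancel, zero_mul]
        · rw [hb0 η h', mul_zero]
      · rw [Finset.prod_insert hψt, hφ.mul hc hb, he, hφ.add ha h1, hφ.smul (neg_mem hw) CL.one,
          hφ.one, mul_one, show resC M (-omega (ψ : G → ℂ) a) = -ro M ψ a from by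
            rw [← zero_sub, resC_sub (zero_mem _) hw, resC_zero, zero_sub]; rfl, ← sub_eq_add_neg]
  obtain ⟨b, hb, hb0, he⟩ := hs B.toFinite.toFinset
  have hz : b * blockIdem B = 0 := by
    refine eq_of_omega_eq (hb.1.mul (isCentralElt_blockIdem B)) IsCentralElt.zero fun ψ => ?_
    rw [omega_mul ψ hb.1 (isCentralElt_blockIdem B), omega_blockIdem, omega_zero]
    split
    next h => rw [hb0 ψ (B.toFinite.mem_toFinset.2 h), zero_mul]
    · rw [mul_zero]
  have h0 := hφ.mul hb (CL.blockIdem hB)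
  rw [hz, hφ.zero, eq_comm, mul_eq_zero, or_iff_left hne, he, Finset.prod_eq_zero_iff] at h0
  obtain ⟨ψ, hψ, hψa⟩ := h0
  rw [sub_eq_zero.1 hψa]
  exact ro_congr hB (B.toFinite.mem_toFinset.1 hψ) hχ ha

theorem blockIdem_eq_one (hφ : IsResHom M φ) {B : Set (IrrCharacter G)} (hB : IsPBlock M B)
    (hne : φ (blockIdem B) ≠ 0) : φ (blockIdem B) = 1 := by
  obtain ⟨χ, hχ⟩ := isPBlock_nonempty hB
  rw [hφ.eq_ro hB hne hχ (CL.blockIdem hB), ro_blockIdem_mem hχ]

theorem eq_of_ne_zero (hφ : IsResHom M φ) {B B' : Set (IrrCharacter G)} (hB : IsPBlock M B)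
    (hB' : IsPBlock M B') (hne : φ (blockIdem B) ≠ 0) (hne' : φ (blockIdem B') ≠ 0) : B = B' := by
  by_contra h
  have := hφ.mul (CL.blockIdem hB) (CL.blockIdem hB')
  rw [blockIdem_mul_eq_zero hB hB' h, hφ.zero, eq_comm, mul_eq_zero] at this
  exact this.elim hne hne'

theorem exists_block (hφ : IsResHom M φ) :
    ∃ B : Set (IrrCharacter G), IsPBlock M B ∧ φ (blockIdem B) = 1 := by
  have h := hφ.sum (pBlocks M G) blockIdem fun B hB => CL.blockIdem (mem_pBlocks.1 hB)
  rw [sum_pBlocks_blockIdem, hφ.one] at h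
  obtain ⟨B, hB, hne⟩ : ∃ B ∈ pBlocks M G, φ (blockIdem B) ≠ 0 :=
    Finset.exists_ne_zero_of_sum_ne_zero (h ▸ one_ne_zero)
  exact ⟨B, mem_pBlocks.1 hB, hφ.blockIdem_eq_one (mem_pBlocks.1 hB) hne⟩

theorem existsUnique_block (hφ : IsResHom M φ) :
    ∃! B : Set (IrrCharacter G), IsPBlock M B ∧ φ (blockIdem B) = 1 := by
  obtain ⟨B, hB, h1⟩ := hφ.exists_block
  exact ⟨B, ⟨hB, h1⟩, fun B' h' => hφ.eq_of_ne_zero h'.1 hB (h'.2 ▸ one_ne_zero) (h1 ▸ one_ne_zero)⟩

end IsResHom

/-! ## Restriction followed by a central character -/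

/-- The central character of `ξ` modulo `M`, composed with restriction to `L`. -/
noncomputable def lam (M : Ideal AlgInt) [M.IsPrime] (L : Subgroup G) (ξ : IrrCharacter L)
    (x : MonoidAlgebra ℂ G) : ResK M := ro M ξ (resH L x)

/-- The central character of `ξ` vanishes on the kernel of the Brauer map at `P`. -/
def Factors (M : Ideal AlgInt) [M.IsPrime] (P L : Subgroup G) (ξ : IrrCharacter L) : Prop :=
  ∀ a : MonoidAlgebra ℂ L, CL M a → brFun M P (embH L a) = 0 → ro M ξ a = 0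

theorem Factors.ro_eq {P L : Subgroup G} {ξ : IrrCharacter L} (hf : Factors M P L ξ)
    {a b : MonoidAlgebra ℂ L} (ha : CL M a) (hb : CL M b)
    (h : brFun M P (embH L a) = brFun M P (embH L b)) : ro M ξ a = ro M ξ b := by
  rw [← sub_eq_zero, ← ro_sub ξ ha hb]
  refine hf _ (ha.sub hb) ?_
  rw [show embH L (a - b) = embH L a - embH L b from map_sub _ a b,
    brFun_sub (isLocElt_embH L ha.2) (isLocElt_embH L hb.2), h, sub_self]

theorem Factors.of_normal (hM : IsPModular p M) {P L : Subgroup G} (hP : IsPGroup p P) (hPL : P ≤ L)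
    (hLN : L ≤ Subgroup.normalizer (P : Set G)) (ξ : IrrCharacter L) : Factors M P L ξ := by
  intro a ha h
  rw [ro_eq_zero_iff ξ ha]
  refine omega_memLocalIdeal_of_brauerNull hM hP hPL hLN ξ ha.1 ha.2 fun x hx => ?_
  have := (brFun_eq_zero_iff (isLocElt_embH L ha.2)).1 h (x : G) hx
  rwa [coeff_embH] at this

theorem Factors.of_le_centralizer {P L : Subgroup G}
    (hL : L ≤ Subgroup.centralizer (P : Set G)) (ξ : IrrCharacter L) : Factors M P L ξ := by
  intro a ha h
  rw [ro_eq_zero_iff ξ ha]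
  refine memLocalIdeal_omega_of_coeff ξ ha.1 fun x => ?_
  have := (brFun_eq_zero_iff (isLocElt_embH L ha.2)).1 h (x : G) (hL x.2)
  rwa [coeff_embH] at this

theorem resH_add (L : Subgroup G) (x y : MonoidAlgebra ℂ G) :
    resH L (x + y) = resH L x + resH L y :=
  MonoidAlgebra.ext (Finsupp.ext fun h => by simp)

theorem resH_smul (L : Subgroup G) (c : ℂ) (x : MonoidAlgebra ℂ G) :
    resH L (c • x) = c • resH L x :=
  MonoidAlgebra.ext (Finsupp.ext fun h => by simp)

theorem resH_one (L : Subgroup G) : resH L (1 : MonoidAlgebra ℂ G) = 1 :=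
  MonoidAlgebra.ext (Finsupp.ext fun h => by
    classical
    simp [MonoidAlgebra.one_def, Finsupp.single_apply, eq_comm (a := (1 : G)), eq_comm (a := (1 : L))])

theorem resH_embH (L : Subgroup G) (a : MonoidAlgebra ℂ L) : resH L (embH L a) = a :=
  MonoidAlgebra.ext (Finsupp.ext fun h => by simp [coeff_embH])

theorem lam_mul (hM : IsPModular p M) {P L : Subgroup G} (hP : IsPGroup p P)
    (hCL : Subgroup.centralizer (P : Set G) ≤ L)
    (hPL : P ≤ L ∨ L ≤ Subgroup.centralizer (P : Set G)) {ξ : IrrCharacter L}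
    (hf : Factors M P L ξ) {x y : MonoidAlgebra ℂ G} (hxP : PS M P x) (hxL : PS M L x)
    (hyP : PS M P y) (hyL : PS M L y) : lam M L ξ (x * y) = lam M L ξ x * lam M L ξ y := by
  have hs : ∀ a : MonoidAlgebra ℂ L, CL M a → PS M P (embH L a) := fun a ha =>
    hPL.elim (fun h => ps_embH ha h) fun h => ps_embH_centralizer ha.2 h
  rw [lam, lam, lam, ← ro_mul ξ (cl_resH hxL) (cl_resH hyL)]
  refine hf.ro_eq (cl_resH (hxL.mul hyL)) ((cl_resH hxL).mul (cl_resH hyL)) ?_
  rw [brFun_embH_resH hCL, embH_mul, brFun_mul hM hP hxP hyP,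
    brFun_mul hM hP (hs _ (cl_resH hxL)) (hs _ (cl_resH hyL)), brFun_embH_resH hCL,
    brFun_embH_resH hCL]

theorem isResHom_lam (hM : IsPModular p M) {P L : Subgroup G} (hP : IsPGroup p P)
    (hCL : Subgroup.centralizer (P : Set G) ≤ L)
    (hPL : P ≤ L ∨ L ≤ Subgroup.centralizer (P : Set G)) {ξ : IrrCharacter L}
    (hf : Factors M P L ξ) : IsResHom M (lam M L ξ) where
  one := by rw [lam, resH_one, ro_one]
  add ha hb := by rw [lam, resH_add, ro_add ξ (cl_resH (ha.ps L)) (cl_resH (hb.ps L))]; rfl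
  mul ha hb := lam_mul hM hP hCL hPL hf (ha.ps P) (ha.ps L) (hb.ps P) (hb.ps L)
  smul hc ha := by rw [lam, resH_smul, ro_smul ξ hc (cl_resH (ha.ps L))]; rfl

/-- For an induced block the central characters agree on all central elements. -/
theorem lam_eq_of_isInducedBlock {L : Subgroup G} {b : Set (IrrCharacter L)}
    {B : Set (IrrCharacter G)} (h : IsInducedBlock M L b B) {ξ : IrrCharacter L} (hξ : ξ ∈ b)
    {χ : IrrCharacter G} (hχ : χ ∈ B) {a : MonoidAlgebra ℂ G} (ha : CL M a) :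
    lam M L ξ a = ro M χ a := by
  classical
  haveI := Fintype.ofFinite (ConjClasses G)
  have hd : a = ∑ C : ConjClasses G, a.coeff (classRep C) • classSum (classRep C) :=
    eq_sum_classSum ha.1
  have hterm : ∀ C ∈ (Finset.univ : Finset (ConjClasses G)),
      CL M (a.coeff (classRep C) • classSum (classRep C)) := fun C _ => (CL.classSum _).smul (ha.2 _)
  have hres : resH L a =
      ∑ C : ConjClasses G, a.coeff (classRep C) • resH L (classSum (classRep C)) := by
    conv_lhs => rw [hd]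
    refine MonoidAlgebra.ext (Finsupp.ext fun x => ?_)
    simp [Finsupp.finsetSum_apply]
  rw [lam, hres, ro_sum ξ _ _ fun C _ => (cl_resH ((CL.classSum _).ps L)).smul (ha.2 _)]
  conv_rhs => rw [hd]
  rw [ro_sum χ _ _ hterm]
  refine Finset.sum_congr rfl fun C _ => ?_
  rw [ro_smul ξ (ha.2 _) (cl_resH ((CL.classSum _).ps L)), ro_smul χ (ha.2 _) (CL.classSum _),
    ro_classSum, ro, ← inducedCentralChar_eq_omega]
  congr 1
  refine (resC_eq_iff ?_ (centralChar_mem_locRing χ _)).2 (h.2.2 ξ hξ χ hχ _)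
  rw [inducedCentralChar_eq_omega]
  exact omega_mem_locRing ξ (isCentralElt_resH L (isCentralElt_classSum _))
    (isLocElt_resH L (isLocElt_classSum _))

theorem lam_blockIdem_of_isInducedBlock {L : Subgroup G} {b : Set (IrrCharacter L)}
    {B : Set (IrrCharacter G)} (h : IsInducedBlock M L b B) {ξ : IrrCharacter L} (hξ : ξ ∈ b) :
    lam M L ξ (blockIdem B) = 1 := by
  obtain ⟨χ, hχ⟩ := isPBlock_nonempty h.2.1
  rw [lam_eq_of_isInducedBlock h hξ hχ (CL.blockIdem h.2.1), ro_blockIdem_mem hχ]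

/-- The homomorphism criterion for induced blocks. -/
theorem isInducedBlock_of_lam {L : Subgroup G} {b : Set (IrrCharacter L)} (hb : IsPBlock M b)
    {ξ : IrrCharacter L} (hξ : ξ ∈ b) (hh : IsResHom M (lam M L ξ))
    {B : Set (IrrCharacter G)} (hB : IsPBlock M B) (hne : lam M L ξ (blockIdem B) ≠ 0) :
    IsInducedBlock M L b B := by
  refine ⟨hb, hB, fun ξ' hξ' χ hχ g => ?_⟩
  have hl := cl_resH (M := M) (L := L) ((CL.classSum g).ps L)
  rw [inducedCentralChar_eq_omega, ← resC_eq_iff (omega_mem_locRing ξ' hl.1 hl.2)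
    (centralChar_mem_locRing χ g)]
  have := hh.eq_ro hB hne hχ (CL.classSum g)
  rw [lam, ro_congr hb hξ hξ' hl, ro_classSum] at this
  exact this

theorem isInducedBlock_iff_lam {L : Subgroup G} {b : Set (IrrCharacter L)} (hb : IsPBlock M b)
    {ξ : IrrCharacter L} (hξ : ξ ∈ b) (hh : IsResHom M (lam M L ξ))
    {B : Set (IrrCharacter G)} (hB : IsPBlock M B) :
    IsInducedBlock M L b B ↔ lam M L ξ (blockIdem B) = 1 :=
  ⟨fun h => lam_blockIdem_of_isInducedBlock h hξ,
    fun h => isInducedBlock_of_lam hb hξ hh hB (h ▸ one_ne_zero)⟩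

end Cfsg.Agent.Block
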