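import Cfsg.Agent.Lib.Block.Transport
import Cfsg.Agent.Lib.Block.ResHom
import Cfsg.Agent.Lib.Block.Defect

/-!
# Blocks transported along an isomorphism
-/

set_option autoImplicit false

open Cfsg.Agent.Char
open scoped ComplexConjugate

namespace Cfsg.Agent.Block

universe u v

variable {G : Type u} [Group G] [Finite G] {H : Type v} [Group H] [Finite H] {M : Ideal AlgInt}

/-- An irreducible character composed with an isomorphism. -/
noncomputable def compIrr (e : H ≃* G) (χ : IrrCharacter G) : IrrCharacter H :=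
  ⟨fun h => (χ : G → ℂ) (e h), isIrrCharacter_comp_mulEquiv e χ.2⟩

theorem compIrr_apply (e : H ≃* G) (χ : IrrCharacter G) (h : H) :
    (compIrr e χ : H → ℂ) h = (χ : G → ℂ) (e h) := rfl

theorem compIrr_injective (e : H ≃* G) : Function.Injective (compIrr e) := fun χ ψ h =>
  Subtype.ext (funext fun g => by
    simpa [compIrr_apply] using congrFun (congrArg Subtype.val h) (e.symm g))

theorem compIrr_symm (e : H ≃* G) (η : IrrCharacter H) : compIrr e (compIrr e.symm η) = η :=
  Subtype.ext (funext fun h => by simp [compIrr_apply])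

theorem isPBlock_comp (e : H ≃* G) {B : Set (IrrCharacter G)} (hB : IsPBlock M B) :
    IsPBlock M (compIrr e '' B) := by
  obtain ⟨χ, rfl⟩ := hB
  refine ⟨compIrr e χ, Set.ext fun η => ⟨?_, fun h => ⟨compIrr e.symm η, ?_, compIrr_symm e η⟩⟩⟩
  · rintro ⟨ψ, hψ, rfl⟩
    exact sameBlock_comp_mulEquiv e hψ
  · have h1 := sameBlock_comp_mulEquiv e.symm h
    have h2 : (fun x => ((compIrr e χ : IrrCharacter H) : H → ℂ) (e.symm x)) = (χ : G → ℂ) :=
      funext fun x => by simp [compIrr_apply]
    rw [h2] at h1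
    exact h1

theorem blockCoeff_comp (e : H ≃* G) (B : Set (IrrCharacter G)) (h : H) :
    blockCoeff (compIrr e '' B) h = blockCoeff B (e h) := by
  rw [blockCoeff, blockCoeff, Nat.card_congr e.toEquiv,
    finsum_mem_image (compIrr_injective e).injOn]
  simp only [compIrr_apply, map_one]

theorem centralizer_singleton_comap (e : H ≃* G) (g : G) :
    (Subgroup.centralizer ({e.symm g} : Set H)).map e.toMonoidHom =
      Subgroup.centralizer ({g} : Set G) := by
  ext x
  rw [Subgroup.mem_map_equiv, mem_centralizer_singleton, mem_centralizer_singleton]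
  exact ⟨fun h => by simpa using h.map e, fun h => h.map e.symm⟩

theorem isDefectGroup_comp {p : ℕ} [Fact p.Prime] (e : H ≃* G) {B : Set (IrrCharacter G)}
    {D : Subgroup G} (hD : IsDefectGroup p M B D) :
    IsDefectGroup p M (compIrr e '' B) (D.map e.symm.toMonoidHom) := by
  obtain ⟨g, ⟨h1, h2, h3⟩, S, rfl⟩ := hD
  refine ⟨e.symm g, ⟨?_, ?_, ?_⟩, ?_⟩
  · rw [blockCoeff_comp, MulEquiv.apply_symm_apply]; exact h1
  · rw [blockCoeff_comp, MulEquiv.apply_symm_apply]; exact h2
  · rintro _ ⟨χ, hχ, rfl⟩
    have := centralChar_comp_mulEquiv e (χ : G → ℂ) (e.symm g)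
    rw [MulEquiv.apply_symm_apply] at this
    show ¬ MemLocalIdeal M (centralChar (fun x => (χ : G → ℂ) (e x)) (e.symm g))
    rw [this]
    exact h3 χ hχ
  · have hle : (sylowImage S).map e.symm.toMonoidHom ≤
        Subgroup.centralizer ({e.symm g} : Set H) := by
      rintro _ ⟨x, hx, rfl⟩
      exact mem_centralizer_singleton.2 ((mem_centralizer_singleton.1 (sylowImage_le S hx)).map e.symm)
    obtain ⟨T, hT⟩ := (show IsPGroup p (((sylowImage S).map e.symm.toMonoidHom).subgroupOf
      (Subgroup.centralizer ({e.symm g} : Set H))) from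
        ((isPGroup_sylowImage S).map _).comap_subtype).exists_le_sylow
    refine ⟨T, Subgroup.eq_of_le_of_card_ge ?_ ?_⟩
    · intro x hx
      exact ⟨⟨x, hle hx⟩, hT hx, rfl⟩
    · have h4 : (sylowImage T).map e.toMonoidHom ≤ Subgroup.centralizer ({g} : Set G) := by
        rw [← centralizer_singleton_comap e g]
        exact Subgroup.map_mono (sylowImage_le T)
      obtain ⟨x, hx⟩ := defectLE_sylowImage S _ ((isPGroup_sylowImage T).map _) h4
      calc Nat.card (sylowImage T)
          = Nat.card (((sylowImage T).map e.toMonoidHom).map (MulAut.conj x).toMonoidHom) := by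
            rw [card_map_conj]
            exact Nat.card_congr ((sylowImage T).equivMapOfInjective _ e.injective).toEquiv
        _ ≤ Nat.card (sylowImage S) := Subgroup.card_le_of_le hx
        _ = _ := Nat.card_congr ((sylowImage S).equivMapOfInjective _ e.symm.injective).toEquiv

theorem omega_mkA_comp (e : H ≃* G) (χ : G → ℂ) (f : G → ℂ) :
    omega (fun h => χ (e h)) (mkA fun h => f (e h)) = omega χ (mkA f) := by
  haveI := Fintype.ofFinite G
  haveI := Fintype.ofFinite H
  simp only [omega_eq_sum, coeff_mkA, map_one]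
  rw [Fintype.sum_equiv e.toEquiv (fun h => f (e h) * χ (e h)) (fun g => f g * χ g) fun _ => rfl]

theorem trivial_mem_comp (e : H ≃* G) [M.IsPrime] {B : Set (IrrCharacter G)}
    (hB : B = principalBlock M G) : compIrr e '' B = principalBlock M H := by
  subst hB
  have h1 : IsPBlock M (principalBlock M G) := ⟨⟨fun _ => 1, isIrrCharacter_one⟩, rfl⟩
  have h2 : IsPBlock M (principalBlock M H) := ⟨⟨fun _ => 1, isIrrCharacter_one⟩, rfl⟩
  exact isPBlock_eq_of_mem (isPBlock_comp e h1) h2
    (χ := ⟨fun _ => 1, isIrrCharacter_one⟩)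
    ⟨⟨fun _ => 1, isIrrCharacter_one⟩, self_mem_blockOf (⟨fun _ => 1, isIrrCharacter_one⟩ : IrrCharacter G), rfl⟩
    (self_mem_blockOf (⟨fun _ => 1, isIrrCharacter_one⟩ : IrrCharacter H))

end Cfsg.Agent.Block
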