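import Cfsg.Agent.Lib.Block.AlperinDade
import Cfsg.Agent.Lib.Block.Induced

/-!
# Principal block characters of degree prime to `p` over a normal subgroup
-/

set_option autoImplicit false
set_option linter.style.haveILetI false
set_option linter.unusedSectionVars false

open Cfsg.Agent.Char
open scoped ComplexConjugate

namespace Cfsg.Agent.Block

universe u

variable {G : Type u} [Group G] [Finite G] {M : Ideal AlgInt} {p : ℕ} [Fact p.Prime] [M.IsPrime]

theorem minVal_principal (M : Ideal AlgInt) [M.IsPrime] : minVal p (principalBlock M G) = 0 := by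
  have h := minVal_le (p := p) (self_mem_blockOf (M := M) (⟨fun _ => 1, isIrrCharacter_one⟩ : IrrCharacter G))
  simpa [charDegree, principalBlock] using h

theorem blockHeight_principal_eq_zero_iff {χ : IrrCharacter G} (hχ : χ ∈ principalBlock M G) :
    blockHeight p (principalBlock M G) (χ : G → ℂ) = 0 ↔ ¬ p ∣ charDegree (χ : G → ℂ) := by
  rw [blockHeight_eq_zero_iff hχ, minVal_principal,
    Nat.factorization_eq_zero_iff]
  have := (charDegree_pos χ.2).ne'
  have := (Fact.out : p.Prime)
  tauto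

/-- The sum over the regular elements detects the principal characters of degree prime to `p`. -/
theorem mem_principal_iff_regSum [Fintype G] (hM : IsPModular p M) (χ : IrrCharacter G) :
    (χ ∈ principalBlock M G ∧ ¬ p ∣ charDegree (χ : G → ℂ)) ↔
      ¬ MemLocalIdeal M (∑ x : G, if p ∣ orderOf x then 0 else (χ : G → ℂ) x) := by
  let oneG : IrrCharacter G := ⟨fun _ => 1, isIrrCharacter_one⟩
  have h := regInner_div_memLocalIdeal_iff hM (B := principalBlock M G) ⟨oneG, rfl⟩ (χ := χ)
    (self_mem_blockOf oneG)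
  have e : regInner p (χ : G → ℂ) (oneG : G → ℂ) / (oneG : G → ℂ) 1 =
      ∑ x : G, if p ∣ orderOf x then 0 else (χ : G → ℂ) x := by
    simp [regInner, oneG]
  rw [e] at h
  rw [h, not_not]
  constructor
  · rintro ⟨hc, hd⟩
    exact ⟨hc, (blockHeight_principal_eq_zero_iff hc).2 hd⟩
  · rintro ⟨hc, hd⟩
    exact ⟨hc, (blockHeight_principal_eq_zero_iff hc).1 hd⟩

/-- The principal block of a subgroup containing the centralizer of a Sylow subgroup. -/
theorem isInducedBlock_principal (hM : IsPModular p M) (P : Sylow p G) {H : Subgroup G}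
    (hPH : (P : Subgroup G) ≤ H) (hCH : Subgroup.centralizer ((P : Subgroup G) : Set G) ≤ H) :
    IsInducedBlock M H (principalBlock M H) (principalBlock M G) := by
  classical
  haveI := Fintype.ofFinite H
  let oneG : IrrCharacter G := ⟨fun _ => 1, isIrrCharacter_one⟩
  let oneH : IrrCharacter H := ⟨fun _ => 1, isIrrCharacter_one⟩
  refine ⟨⟨oneH, rfl⟩, ⟨oneG, rfl⟩, fun ξ hξ χ hχ g => ?_⟩
  have h1 : MemLocalIdeal M (inducedCentralChar H (ξ : H → ℂ) g -
      inducedCentralChar H (oneH : H → ℂ) g) := by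
    rw [inducedCentralChar_eq_omega, inducedCentralChar_eq_omega]
    exact omega_congr (sameBlock_symm (mem_blockOf.1 hξ) : SameBlock M (ξ : H → ℂ) (oneH : H → ℂ)) (isCentralElt_resH H (by
      intro x y; exact (CL.classSum (M := M) g).1 x y)) (isLocElt_resH H (isLocElt_classSum g))
  have h2 : MemLocalIdeal M (inducedCentralChar H (oneH : H → ℂ) g -
      centralChar (oneG : G → ℂ) g) := by
    -- conjugation by the Sylow subgroup outside `H` has no fixed point
    let c := fun X : Set G => Nat.card X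
    set K : Set G := {x | IsConj g x}
    have hK : centralChar (oneG : G → ℂ) g = (c K : ℂ) := by
      simp only [centralChar, oneG, mul_one, div_one, c, K]
      congr 1
      exact (card_isConj_eq_index g).symm
    have hH : inducedCentralChar H (oneH : H → ℂ) g = (c (K ∩ (H : Set G)) : ℂ) := by
      simp only [inducedCentralChar, oneH, div_one,
        finsum_mem_eq_finite_toFinset_sum _ (Set.toFinite _), Finset.sum_const, nsmul_eq_mul, mul_one, c]
      rw [← Nat.card_eq_card_finite_toFinset]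
      exact congrArg Nat.cast (Nat.card_congr ⟨fun x => ⟨((x.1 : H) : G), x.2, x.1.2⟩,
        fun x => ⟨⟨x.1, x.2.2⟩, x.2.1⟩, fun _ => rfl, fun _ => rfl⟩)
    rw [hK, hH]
    letI : MulAction (P : Subgroup G) {x : G // IsConj g x ∧ x ∉ H} :=
      { smul := fun a x => ⟨(a : G) * x.1 * (a : G)⁻¹, x.2.1.trans (isConj_iff.2 ⟨(a : G), rfl⟩), fun h => x.2.2 (by
          have := H.mul_mem (H.mul_mem (H.inv_mem (hPH a.2)) h) (hPH a.2)
          simpa [mul_assoc] using this)⟩
        one_smul := fun x => Subtype.ext (by show (1 : G) * x.1 * (1 : G)⁻¹ = x.1; group)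
        mul_smul := fun a b x => Subtype.ext (by
          show ((a : G) * b) * x.1 * ((a : G) * b)⁻¹ = (a : G) * ((b : G) * x.1 * (b : G)⁻¹) * (a : G)⁻¹
          group) }
    have hempty : IsEmpty (MulAction.fixedPoints (P : Subgroup G) {x : G // IsConj g x ∧ x ∉ H}) := by
      refine ⟨fun x => x.1.2.2 (hCH (Subgroup.mem_centralizer_iff.2 fun a ha => ?_))⟩
      have := congrArg Subtype.val (x.2 ⟨a, ha⟩)
      change a * x.1.1 * a⁻¹ = x.1.1 at this
      exact mul_inv_eq_iff_eq_mul.1 this
    have hmod := P.isPGroup'.card_modEq_card_fixedPoints {x : G // IsConj g x ∧ x ∉ H}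
    rw [Nat.card_of_isEmpty (α := MulAction.fixedPoints (P : Subgroup G) {x : G // IsConj g x ∧ x ∉ H})] at hmod
    have hsplit : c K = c (K ∩ (H : Set G)) + Nat.card {x : G // IsConj g x ∧ x ∉ H} := by
      simp only [c, Nat.card_coe_set_eq]
      rw [← Set.ncard_inter_add_ncard_diff_eq_ncard K (H : Set G)]
      rfl
    rw [hsplit]
    push_cast
    rw [sub_add_cancel_left]
    exact memLocalIdeal_neg ((memLocalIdeal_natCast_iff hM.1 hM.2.2 _).2 (Nat.modEq_zero_iff_dvd.1 hmod))
  have h3 := memLocalIdeal_add (memLocalIdeal_add h1 h2) (hχ g)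
  convert h3 using 1
  simp only [oneG]
  ring

/-- A principal character of `N` of degree prime to `p` that extends to `NP` lies under one of `G`. -/
theorem exists_principal_over [Fintype G] (hM : IsPModular p M) (N : Subgroup G) [N.Normal] [Fintype N]
    (P : Sylow p G) (θ : IrrCharacter N) (hθ : θ ∈ principalBlock M N)
    (hdeg : ¬ p ∣ charDegree (θ : N → ℂ)) {K : Subgroup G} (hK : K = N ⊔ (P : Subgroup G)) (hNK : N ≤ K)
    (η : IrrCharacter K) (hη : ∀ n : N, (η : K → ℂ) (Subgroup.inclusion hNK n) = (θ : N → ℂ) n) :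
    ∃ χ : IrrCharacter G, χ ∈ principalBlock M G ∧ ¬ p ∣ charDegree (χ : G → ℂ) ∧
      classInner (fun n : N => (χ : G → ℂ) n) (θ : N → ℂ) ≠ 0 := by
  classical
  set C := Subgroup.centralizer ((P : Subgroup G) : Set G)
  set H : Subgroup G := K ⊔ C
  have hPK : (P : Subgroup G) ≤ K := hK ▸ le_sup_right
  have hKH : K ≤ H := le_sup_left
  have hCH : C ≤ H := le_sup_right
  haveI := Fintype.ofFinite H
  set K₁ : Subgroup H := K.subgroupOf H
  haveI : K₁.Normal := by
    refine (Subgroup.normal_subgroupOf_iff_le_normalizer hKH).2 (sup_le Subgroup.le_normalizer ?_)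
    intro c hc
    have hNc : N.map (MulAut.conj c).toMonoidHom = N := by
      ext x
      exact ⟨fun ⟨y, hy, e⟩ => e ▸ ‹N.Normal›.conj_mem y hy c, fun hx =>
        ⟨c⁻¹ * x * c, by simpa using ‹N.Normal›.conj_mem x hx c⁻¹, by simp; group⟩⟩
    have hPc : (P : Subgroup G).map (MulAut.conj c).toMonoidHom = P := by
      ext x
      refine ⟨fun ⟨y, hy, e⟩ => ?_, fun hx => ⟨x, hx, ?_⟩⟩
      · have := Subgroup.mem_centralizer_iff.1 hc y hy
        rw [show (MulAut.conj c).toMonoidHom y = y by
          simp only [MulEquiv.coe_toMonoidHom, MulAut.conj_apply]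
          rw [← this, mul_inv_cancel_right]] at e
        exact e ▸ hy
      · have := Subgroup.mem_centralizer_iff.1 hc x hx
        simp only [MulEquiv.coe_toMonoidHom, MulAut.conj_apply]
        rw [← this, mul_inv_cancel_right]
    rw [Subgroup.mem_normalizer_iff]
    intro x
    have hKc : K.map (MulAut.conj c).toMonoidHom = K := by
      rw [hK, Subgroup.map_sup, hNc, hPc]
    constructor
    · intro hx
      rw [← hKc]
      exact ⟨x, hx, rfl⟩
    · intro hx
      rw [← hKc] at hx
      obtain ⟨y, hy, e⟩ := hx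
      simp only [MulEquiv.coe_toMonoidHom, MulAut.conj_apply] at e
      exact (mul_left_cancel (mul_right_cancel e)) ▸ hy
  haveI := Fintype.ofFinite K₁
  let P₁ : Sylow p H := P.subtype (hPK.trans hKH)
  have hP₁ : (P₁ : Subgroup H) = (P : Subgroup G).subgroupOf H := P.coe_subtype _
  have hidx : ¬ p ∣ K₁.index := fun h => P₁.not_dvd_index
    (h.trans (Subgroup.index_dvd_of_le (hP₁ ▸ fun x hx => hPK hx)))
  have hsup : K₁ ⊔ Subgroup.centralizer ((P₁ : Subgroup H) : Set H) = ⊤ := by
    refine top_le_iff.1 (le_trans ?_ (sup_le_sup_left (a := C.subgroupOf H) ?_ K₁))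
    · show ⊤ ≤ K.subgroupOf H ⊔ C.subgroupOf H
      rw [← Subgroup.subgroupOf_sup hKH hCH, Subgroup.subgroupOf_self]
    · intro x hx
      refine Subgroup.mem_centralizer_iff.2 fun a ha => Subtype.ext ?_
      rw [hP₁] at ha
      exact Subgroup.mem_centralizer_iff.1 (Subgroup.mem_subgroupOf.1 hx) a ha
  let e : K₁ ≃* K := Subgroup.subgroupOfEquivOfLe hKH
  let η₁ : IrrCharacter K₁ := ⟨fun x => (η : K → ℂ) (e x), isIrrCharacter_comp_mulEquiv e η.2⟩
  -- the regular elements of `K` lie in `N`
  have hreg : ∀ x : G, x ∈ K → ¬ p ∣ orderOf x → x ∈ N := by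
    intro x hx hr
    obtain ⟨a, ha, b, hb, rfl⟩ := Subgroup.mem_sup_of_normal_left.1 (hK ▸ hx)
    obtain ⟨j, hj⟩ := IsPGroup.iff_orderOf.1 P.isPGroup' ⟨b, hb⟩
    rw [Subgroup.orderOf_mk] at hj
    have hq : QuotientGroup.mk' N (a * b) = QuotientGroup.mk' N b := by
      rw [map_mul, show QuotientGroup.mk' N a = 1 from (QuotientGroup.eq_one_iff a).2 ha, one_mul]
    have hd : orderOf (QuotientGroup.mk' N (a * b)) ∣ Nat.gcd (orderOf (a * b)) (p ^ j) :=
      Nat.dvd_gcd (orderOf_map_dvd _ _) (hq ▸ hj ▸ orderOf_map_dvd _ _)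
    rw [(((Fact.out : p.Prime).coprime_iff_not_dvd.2 hr).symm.pow_right j).gcd_eq_one,
      Nat.dvd_one, orderOf_eq_one_iff] at hd
    exact (QuotientGroup.eq_one_iff _).1 hd
  have hsum : ∑ x : K₁, (if p ∣ orderOf x then 0 else (η₁ : K₁ → ℂ) x) =
      ∑ n : N, if p ∣ orderOf n then 0 else (θ : N → ℂ) n := by
    symm
    refine Finset.sum_bij_ne_zero (fun n _ _ => e.symm (Subgroup.inclusion hNK n))
      (fun _ _ _ => Finset.mem_univ _)
      (fun a _ _ b _ _ h => Subgroup.inclusion_injective hNK (e.symm.injective h)) (fun x _ hx => ?_)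
      fun n _ _ => ?_
    · have hr : ¬ p ∣ orderOf x := fun h => hx (if_pos h)
      rw [← orderOf_injective (K₁.subtype) Subtype.val_injective x,
        ← orderOf_injective (H.subtype) Subtype.val_injective] at hr
      have hxN : ((x : H) : G) ∈ N := hreg _ x.2 hr
      have hxe : e.symm (Subgroup.inclusion hNK ⟨((x : H) : G), hxN⟩) = x := Subtype.ext (Subtype.ext rfl)
      refine ⟨⟨_, hxN⟩, Finset.mem_univ _, ?_, hxe⟩
      have hv : (η₁ : K₁ → ℂ) x = (θ : N → ℂ) ⟨((x : H) : G), hxN⟩ := by
        rw [← hη ⟨((x : H) : G), hxN⟩]; rfl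
      rw [if_neg (show ¬ p ∣ orderOf (⟨((x : H) : G), hxN⟩ : N) from by
        rw [← Subgroup.orderOf_coe]; exact hr), ← hv]
      intro h0
      exact hx (by rw [h0]; exact ite_self _)
    · have ho : orderOf (e.symm (Subgroup.inclusion hNK n)) = orderOf n :=
        (orderOf_injective e.symm.toMonoidHom e.symm.injective _).trans
          (orderOf_injective (Subgroup.inclusion hNK) (Subgroup.inclusion_injective hNK) n)
      rw [ho]
      split
      · rfl
      · rw [← hη n]
        exact (congrArg (η : K → ℂ) (e.apply_symm_apply _)).symm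
  have hη₁ := (mem_principal_iff_regSum hM η₁).2 (by rw [hsum]; exact (mem_principal_iff_regSum hM θ).1 ⟨hθ, hdeg⟩)
  obtain ⟨ζ, ⟨hζ, hζres⟩, -⟩ := (principal_restriction K₁ hM hidx P₁ hsup).2 η₁ hη₁.1
  have hζdeg : ¬ p ∣ charDegree (ζ : H → ℂ) := by
    have e1 : charDegree (ζ : H → ℂ) = charDegree (η₁ : K₁ → ℂ) := by
      simp only [charDegree]
      rw [← hζres 1]
      rfl
    rw [e1]; exact hη₁.2
  have hind := isInducedBlock_principal hM P (hPK.trans hKH) hCH
  have hdef : blockDefect p (principalBlock M H) = blockDefect p (principalBlock M G) := by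
    rw [blockDefect_eq, blockDefect_eq, minVal_principal, minVal_principal, Nat.sub_zero, Nat.sub_zero]
    have e := congrArg (fun k => k.factorization p) ((Nat.card_congr (Subgroup.subgroupOfEquivOfLe (hPK.trans hKH)).toEquiv).symm.trans (hP₁ ▸ rfl : _ = Nat.card (P₁ : Subgroup H)))
    rw [P.card_eq_multiplicity, P₁.card_eq_multiplicity] at e
    simpa [(Fact.out : p.Prime)] using e.symm
  obtain ⟨χ, hχ, hχ0, a, ha, hpa⟩ := exists_height_zero_over hM hind hdef hζ
    ((blockHeight_principal_eq_zero_iff hζ).2 hζdeg)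
  refine ⟨χ, hχ, (blockHeight_principal_eq_zero_iff hχ).1 hχ0, ?_⟩
  have hcl := IsCharacter.isClassFunction (IsIrrCharacter.isCharacter χ.2)
  rw [classInner_indFun _ _ hcl] at ha
  have hne : classInner (fun h : H => (χ : G → ℂ) h) (ζ : H → ℂ) ≠ 0 := by
    intro h0
    rw [← classInner_conj_symm, h0, map_zero] at ha
    exact hpa (Nat.cast_eq_zero.1 ha.symm ▸ dvd_zero p)
  obtain ⟨r, hr, hdec⟩ := exists_add_of_classInner_ne_zero
    (IsCharacter.restrict (IsIrrCharacter.isCharacter χ.2) H) ζ.2 hne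
  let f : N →* H := Subgroup.inclusion (hNK.trans hKH)
  have hres : (fun n : N => (χ : G → ℂ) n) = (θ : N → ℂ) + fun n => r (f n) := by
    funext n
    have := congrFun hdec (f n)
    rw [Pi.add_apply] at this ⊢
    rw [← hη n]
    refine this.trans (congrArg (· + r (f n)) ?_)
    exact hζres ⟨f n, hNK n.2⟩
  rw [hres]
  exact classInner_ne_zero_of_le (IsIrrCharacter.isCharacter θ.2) (isCharacter_comp hr f) θ.2
    (by rw [IsIrrCharacter.classInner_self θ.2]; exact one_ne_zero)

end Cfsg.Agent.Block
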