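import Cfsg.Agent.Lib.Block.CentralQuotientBlock
import Cfsg.Agent.Lib.Block.PrincipalOver
import Cfsg.Agent.Lib.Block.CompBlock

/-!
# The principal block modulo a normal `p`-subgroup centralised by the `p'`-elements

If `G = Q C(Q)` for a normal `p`-subgroup `Q` then the principal blocks of `G` and of `G / Q` have
the same number of Brauer characters.
-/

set_option autoImplicit false
set_option linter.style.haveILetI false

open Cfsg Cfsg.Agent.Char
open scoped ComplexConjugate

namespace Cfsg.Agent.Block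

universe u

variable {G : Type u} [Group G] [Finite G] {p : ℕ} [Fact p.Prime] {M : Ideal AlgInt}
  (N : Subgroup G) [N.Normal]

/-- Elements of order prime to `p` centralise `N` when `G = N C(N)`. -/
theorem regular_mem_centralizer (hN : IsPGroup p N)
    (hsup : N ⊔ Subgroup.centralizer (N : Set G) = ⊤) {g : G} (hg : ¬ p ∣ orderOf g) :
    g ∈ Subgroup.centralizer (N : Set G) := by
  set C := Subgroup.centralizer (N : Set G)
  haveI : C.Normal := inferInstance
  obtain ⟨n, hn, c, hc, he⟩ := Subgroup.mem_sup_of_normal_right.1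
    (show g ∈ N ⊔ C by rw [hsup]; exact Subgroup.mem_top g)
  obtain ⟨k, hk⟩ := IsPGroup.iff_orderOf.1 hN ⟨n, hn⟩
  rw [Subgroup.orderOf_mk] at hk
  have hmk : (QuotientGroup.mk g : G ⧸ C) = QuotientGroup.mk n := by
    rw [← he, QuotientGroup.mk_mul, (QuotientGroup.eq_one_iff c).2 hc, mul_one]
  have h1 : orderOf (QuotientGroup.mk g : G ⧸ C) ∣ p ^ k := by
    rw [hmk, ← hk]
    exact orderOf_map_dvd (QuotientGroup.mk' C) n
  have h2 : orderOf (QuotientGroup.mk g : G ⧸ C) ∣ orderOf g := orderOf_map_dvd (QuotientGroup.mk' C) g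
  rw [← QuotientGroup.eq_one_iff, ← orderOf_eq_one_iff]
  exact Nat.eq_one_of_dvd_coprimes
    (((Fact.out : p.Prime).coprime_iff_not_dvd.2 hg).pow_left k) h1 h2

/-- The regular elements correspond bijectively. -/
theorem regular_bijective (hN : IsPGroup p N) (hsup : N ⊔ Subgroup.centralizer (N : Set G) = ⊤) :
    (∀ g g' : G, ¬ p ∣ orderOf g → ¬ p ∣ orderOf g' →
        (QuotientGroup.mk g : G ⧸ N) = QuotientGroup.mk g' → g = g') ∧
      ∀ q : G ⧸ N, ¬ p ∣ orderOf q → ∃ g : G, ¬ p ∣ orderOf g ∧ (QuotientGroup.mk g : G ⧸ N) = q := by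
  have hp := (Fact.out : p.Prime)
  constructor
  · intro g g' hg hg' h
    have hn : g⁻¹ * g' ∈ N := QuotientGroup.eq.1 h
    obtain ⟨k, hk⟩ := IsPGroup.iff_orderOf.1 hN ⟨_, hn⟩
    rw [Subgroup.orderOf_mk] at hk
    have hc : Commute g (g⁻¹ * g') :=
      (Subgroup.mem_centralizer_iff.1 (regular_mem_centralizer N hN hsup hg) _ hn).symm
    have h1 : orderOf g' = orderOf g * orderOf (g⁻¹ * g') := by
      rw [← hc.orderOf_mul_eq_mul_orderOf_of_coprime
        (by rw [hk]; exact ((hp.coprime_iff_not_dvd.2 hg).pow_left k).symm), mul_inv_cancel_left]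
    rcases k with _ | k
    · exact inv_mul_eq_one.1 (orderOf_eq_one_iff.1 (by simpa using hk))
    · exact absurd (h1 ▸ (hk ▸ dvd_pow_self p k.succ_ne_zero).mul_left _) hg'
  · intro q hq
    obtain ⟨g, rfl⟩ := QuotientGroup.mk_surjective q
    obtain ⟨u, w, huw, hc, ⟨k, hk⟩, hw⟩ := isPPart_exists hp g
    refine ⟨w, hw, ?_⟩
    set f := QuotientGroup.mk' N
    have hu1 : orderOf (f u) = 1 := by
      obtain ⟨j, -, hj⟩ := (Nat.dvd_prime_pow hp).1 (hk ▸ orderOf_map_dvd f u)
      have hwq : ¬ p ∣ orderOf (f w) := fun h => hw (h.trans (orderOf_map_dvd f w))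
      have hmul : orderOf (f u * f w) = orderOf (f u) * orderOf (f w) :=
        (hc.map f).orderOf_mul_eq_mul_orderOf_of_coprime (by
          rw [hj]; exact Nat.Coprime.pow_left j (hp.coprime_iff_not_dvd.2 hwq))
      rw [← map_mul, huw] at hmul
      rcases Nat.eq_zero_or_pos j with rfl | hj0
      · simpa using hj
      · exact absurd (hmul ▸ (hj ▸ dvd_pow_self p hj0.ne' : p ∣ orderOf (f u)).mul_right _) hq
    show f w = f g
    rw [← huw, map_mul, orderOf_eq_one_iff.1 hu1, one_mul]

/-- The inflation map. -/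
noncomputable def inflate (φ : IrrCharacter (G ⧸ N)) : IrrCharacter G :=
  ⟨_, isIrrCharacter_comp_surjective (QuotientGroup.mk' N) (QuotientGroup.mk'_surjective N) φ.2⟩

theorem inflate_apply (φ : IrrCharacter (G ⧸ N)) (g : G) :
    (inflate N φ : G → ℂ) g = (φ : G ⧸ N → ℂ) (QuotientGroup.mk g) := rfl

theorem regInner_inflate [Fintype G] [Fintype (G ⧸ N)] (hN : IsPGroup p N)
    (hsup : N ⊔ Subgroup.centralizer (N : Set G) = ⊤) (φ φ' : IrrCharacter (G ⧸ N)) :
    regInner p (inflate N φ : G → ℂ) (inflate N φ' : G → ℂ) =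
      regInner p (φ : G ⧸ N → ℂ) (φ' : G ⧸ N → ℂ) := by
  classical
  obtain ⟨hinj, hsurj⟩ := regular_bijective N hN hsup
  have hreg : ∀ g : G, ¬ p ∣ orderOf g → ¬ p ∣ orderOf (QuotientGroup.mk g : G ⧸ N) := fun g hg hd =>
    hg (hd.trans (orderOf_map_dvd (QuotientGroup.mk' N) g))
  simp only [regInner, inflate_apply]
  have e : ∀ {X : Type u} [Fintype X] (P : X → Prop) [DecidablePred P] (F : X → ℂ),
      ∑ a : X, (if P a then 0 else F a) = ∑ a ∈ Finset.univ.filter (fun a => ¬ P a), F a :=
    fun P _ F => by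
      rw [Finset.sum_filter]; exact Finset.sum_congr rfl fun a _ => (ite_not _ _ _).symm
  rw [e (fun g : G => p ∣ orderOf g), e (fun q : G ⧸ N => p ∣ orderOf q)]
  refine Finset.sum_bij (fun g _ => QuotientGroup.mk g) (fun g hg => by simpa using hreg g (by simpa using hg))
    (fun a ha b hb h => hinj a b (by simpa using ha) (by simpa using hb) h) (fun q hq => ?_) fun _ _ => rfl
  obtain ⟨g, hg, hgq⟩ := hsurj q (by simpa using hq)
  exact ⟨g, by simpa using hg, hgq⟩

/-- Inflation respects principal blocks. -/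
theorem inflate_mem_principal_iff (hM : IsPModular p M) (hN : IsPGroup p N)
    (hsup : N ⊔ Subgroup.centralizer (N : Set G) = ⊤) (φ : IrrCharacter (G ⧸ N)) :
    inflate N φ ∈ principalBlock M G ↔ φ ∈ principalBlock M (G ⧸ N) := by
  haveI := prime_of_isPModular hM
  haveI := Fintype.ofFinite G
  haveI := Fintype.ofFinite (G ⧸ N)
  let oneG : IrrCharacter G := ⟨fun _ => 1, isIrrCharacter_one⟩
  let oneQ : IrrCharacter (G ⧸ N) := ⟨fun _ => 1, isIrrCharacter_one⟩
  have hG : IsPBlock M (principalBlock M G) := ⟨oneG, rfl⟩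
  have hQ : IsPBlock M (principalBlock M (G ⧸ N)) := ⟨oneQ, rfl⟩
  have hone : inflate N oneQ = oneG := Subtype.ext rfl
  have hval : ∀ φ : IrrCharacter (G ⧸ N), (inflate N φ : G → ℂ) 1 = (φ : G ⧸ N → ℂ) 1 := fun φ => rfl
  obtain ⟨φ₁, hφ₁, h10⟩ := exists_height_zero p (isPBlock_nonempty (isPBlock_blockOf (M := M) φ))
  -- `φ₁` and `φ` stay linked after inflation
  have hlink : inflate N φ₁ ∈ blockOf M (inflate N φ : G → ℂ) := by
    by_contra hn
    have h1 := (regInner_div_memLocalIdeal_iff hM (isPBlock_blockOf (inflate N φ)) (χ := inflate N φ₁)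
      (self_mem_blockOf (inflate N φ))).2 fun h => hn h.1
    rw [regInner_inflate N hN hsup, hval] at h1
    exact (regInner_div_memLocalIdeal_iff hM (isPBlock_blockOf φ) (χ := φ₁) (self_mem_blockOf φ)).1 h1
      ⟨hφ₁, h10⟩
  have hiff : (inflate N φ₁ ∈ principalBlock M G ∧ blockHeight p (principalBlock M G) (inflate N φ₁ : G → ℂ) = 0) ↔
      (φ₁ ∈ principalBlock M (G ⧸ N) ∧ blockHeight p (principalBlock M (G ⧸ N)) (φ₁ : G ⧸ N → ℂ) = 0) := by
    have h1 := regInner_div_memLocalIdeal_iff hM hG (χ := inflate N φ₁) (self_mem_blockOf oneG)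
    have h2 := regInner_div_memLocalIdeal_iff hM hQ (χ := φ₁) (self_mem_blockOf oneQ)
    rw [← hone, regInner_inflate N hN hsup, hval] at h1
    exact not_iff_not.1 (h1.symm.trans h2)
  constructor
  · intro h
    have e : blockOf M (inflate N φ : G → ℂ) = principalBlock M G := blockOf_eq_of_mem h
    have hmem : inflate N φ₁ ∈ principalBlock M G := e ▸ hlink
    have h0 : blockHeight p (principalBlock M G) (inflate N φ₁ : G → ℂ) = 0 := by
      by_contra hne
      have h1 := (regInner_div_memLocalIdeal_iff hM hG (χ := inflate N φ₁) h).2 fun h' => hne h'.2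
      rw [regInner_inflate N hN hsup, hval] at h1
      exact (regInner_div_memLocalIdeal_iff hM (isPBlock_blockOf φ) (χ := φ₁) (self_mem_blockOf φ)).1 h1
        ⟨hφ₁, h10⟩
    have h2 := (hiff.1 ⟨hmem, h0⟩).1
    rw [isPBlock_eq_of_mem hQ (isPBlock_blockOf φ) h2 hφ₁]
    exact self_mem_blockOf φ
  · intro h
    have e : blockOf M (φ : G ⧸ N → ℂ) = principalBlock M (G ⧸ N) := blockOf_eq_of_mem h
    have h2 := (hiff.2 ⟨e ▸ hφ₁, e ▸ h10⟩).1
    rw [isPBlock_eq_of_mem hG (isPBlock_blockOf (inflate N φ)) h2 hlink]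
    exact self_mem_blockOf _

/-- Equality of the ranks. -/
theorem blockRank_principal_quotient (hM : IsPModular p M) (hN : IsPGroup p N)
    (hsup : N ⊔ Subgroup.centralizer (N : Set G) = ⊤) :
    blockRank p (principalBlock M G) = blockRank p (principalBlock M (G ⧸ N)) := by
  classical
  haveI := prime_of_isPModular hM
  haveI := Fintype.ofFinite G
  haveI := Fintype.ofFinite (G ⧸ N)
  haveI := Fintype.ofFinite (IrrCharacter (G ⧸ N))
  obtain ⟨hinj, hsurj⟩ := regular_bijective N hN hsup
  have hB0 : IsPBlock M (principalBlock M G) := ⟨⟨fun _ => 1, isIrrCharacter_one⟩, rfl⟩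
  let L : (G ⧸ N → ℂ) →ₗ[ℂ] (G → ℂ) :=
    { toFun := fun u g => if p ∣ orderOf g then 0 else u (QuotientGroup.mk g)
      map_add' := fun u u' => by funext g; by_cases h : p ∣ orderOf g <;> simp [h]
      map_smul' := fun c u => by funext g; by_cases h : p ∣ orderOf g <;> simp [h] }
  have hreg : ∀ g : G, ¬ p ∣ orderOf g → ¬ p ∣ orderOf (QuotientGroup.mk g : G ⧸ N) := fun g hg hd =>
    hg (hd.trans (orderOf_map_dvd (QuotientGroup.mk' N) g))
  have hL : ∀ φ : IrrCharacter (G ⧸ N),
      L (pRegularPart p (φ : G ⧸ N → ℂ)) = pRegularPart p (inflate N φ : G → ℂ) := fun φ => by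
    funext g
    show (if p ∣ orderOf g then (0 : ℂ) else pRegularPart p (φ : G ⧸ N → ℂ) (QuotientGroup.mk g)) = _
    rw [pRegularPart_apply, pRegularPart_apply, inflate_apply]
    by_cases h : p ∣ orderOf g
    · rw [if_pos h, if_pos h]
    · rw [if_neg h, if_neg h, if_neg (hreg g h)]
  set S := Submodule.span ℂ
    ((fun φ : IrrCharacter (G ⧸ N) => pRegularPart p (φ : G ⧸ N → ℂ)) '' principalBlock M (G ⧸ N)) with hSdef
  have hspan : Submodule.span ℂ ((fun χ : IrrCharacter G => pRegularPart p (χ : G → ℂ)) ''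
      principalBlock M G) = S.map L := by
    rw [hSdef, Submodule.map_span]
    refine le_antisymm (Submodule.span_le.2 ?_) (Submodule.span_mono ?_)
    · rintro _ ⟨χ, hχ, rfl⟩
      show pRegularPart p (χ : G → ℂ) ∈ _
      let f : G ⧸ N → ℂ := fun q =>
        if h : ¬ p ∣ orderOf q then (χ : G → ℂ) (hsurj q h).choose else 0
      have hf : IsClassFunction (G ⧸ N) f := by
        intro a b
        simp only [f]
        have hc : orderOf (b * a * b⁻¹) = orderOf a := orderOf_conj_eq a b
        by_cases h : ¬ p ∣ orderOf a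
        · rw [dif_pos h, dif_pos (by rw [hc]; exact h)]
          obtain ⟨c, rfl⟩ := QuotientGroup.mk_surjective b
          obtain ⟨hw1, hw2⟩ := (hsurj a h).choose_spec
          obtain ⟨hv1, hv2⟩ := (hsurj (QuotientGroup.mk c * a * (QuotientGroup.mk c)⁻¹)
            (by rw [hc]; exact h)).choose_spec
          rw [hinj _ (c * (hsurj a h).choose * c⁻¹) hv1 (by rw [orderOf_conj_eq]; exact hw1) (by
            rw [hv2, QuotientGroup.mk_mul, QuotientGroup.mk_mul, QuotientGroup.mk_inv, hw2])]
          exact IsCharacter.isClassFunction (IsIrrCharacter.isCharacter χ.2) _ c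
        · rw [dif_neg h, dif_neg (by rw [hc]; exact h)]
      have hfχ : ∀ g : G, ¬ p ∣ orderOf g → f (QuotientGroup.mk g) = (χ : G → ℂ) g := by
        intro g hg
        simp only [f]
        rw [dif_pos (hreg g hg)]
        obtain ⟨hw1, hw2⟩ := (hsurj _ (hreg g hg)).choose_spec
        rw [hinj _ g hw1 hg hw2]
      have hexp := IsClassFunction.eq_sum hf
      have key : pRegularPart p (χ : G → ℂ) = ∑ φ ∈ Finset.univ.filter
          (fun φ : IrrCharacter (G ⧸ N) => φ ∈ principalBlock M (G ⧸ N)),
          classInner f (φ : G ⧸ N → ℂ) • pRegularPart p (inflate N φ : G → ℂ) := by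
        funext g
        simp only [Finset.sum_apply, Pi.smul_apply, smul_eq_mul, pRegularPart_apply]
        by_cases hg : p ∣ orderOf g
        · simp [hg]
        simp only [if_neg hg]
        have hb := blockPart_regular hM hB0
          (χ : G → ℂ) g
        rw [if_neg hg, blockPart_self hχ] at hb
        rw [← hb]
        have e : (fun x => if p ∣ orderOf x then 0 else (χ : G → ℂ) x) = fun x =>
            ∑ φ : IrrCharacter (G ⧸ N), classInner f (φ : G ⧸ N → ℂ) *
              (if p ∣ orderOf x then 0 else (inflate N φ : G → ℂ) x) := by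
          funext x
          by_cases hx : p ∣ orderOf x
          · simp [hx]
          simp only [if_neg hx, inflate_apply]
          rw [← hfχ x hx]
          have := congrFun hexp (QuotientGroup.mk x)
          simpa only [Finset.sum_apply, Pi.smul_apply, smul_eq_mul] using this
        rw [e, blockPart_eq_sum, Finset.sum_filter]
        simp only [Finset.sum_mul, Finset.mul_sum]
        rw [Finset.sum_comm]
        refine Finset.sum_congr rfl fun φ _ => ?_
        have hb' := blockPart_regular hM hB0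
          (inflate N φ : G → ℂ) g
        rw [if_neg hg, blockPart_eq_sum, Finset.mul_sum] at hb'
        rw [Finset.sum_congr rfl fun x _ => show
          (Nat.card G : ℂ)⁻¹ * (classInner f (φ : G ⧸ N → ℂ) *
              (if p ∣ orderOf x then 0 else (inflate N φ : G → ℂ) x) *
            blockKernel (principalBlock M G) g x) =
          classInner f (φ : G ⧸ N → ℂ) * ((Nat.card G : ℂ)⁻¹ *
            ((if p ∣ orderOf x then 0 else (inflate N φ : G → ℂ) x) *
              blockKernel (principalBlock M G) g x)) by ring, ← Finset.mul_sum]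
        refine (congrArg (classInner f (φ : G ⧸ N → ℂ) * ·) hb').trans ?_
        rw [blockPart_eq_sum, sum_mul_blockKernel]
        by_cases hmem : φ ∈ principalBlock M (G ⧸ N)
        · rw [if_pos hmem, if_pos (show inflate N φ ∈ principalBlock M G from
            (inflate_mem_principal_iff N hM hN hsup φ).2 hmem),
            inv_mul_cancel_left₀ (Nat.cast_ne_zero.2 Nat.card_pos.ne')]
        · rw [if_neg hmem, if_neg (show ¬ inflate N φ ∈ principalBlock M G from
            fun h => hmem ((inflate_mem_principal_iff N hM hN hsup φ).1 h)), mul_zero, mul_zero]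
      rw [key]
      refine Submodule.sum_mem _ fun φ hφ => Submodule.smul_mem _ _ (Submodule.subset_span ?_)
      exact ⟨_, ⟨φ, (Finset.mem_filter.1 hφ).2, rfl⟩, hL φ⟩
    · rintro _ ⟨_, ⟨φ, hφ, rfl⟩, rfl⟩
      exact ⟨inflate N φ, (inflate_mem_principal_iff N hM hN hsup φ).2 hφ, (hL φ).symm⟩
  rw [blockRank, blockRank, hspan, ← hSdef]
  have hinjL : Function.Injective (L.domRestrict S) := by
    rintro ⟨u, hu⟩ ⟨v, hv⟩ huv
    refine Subtype.ext ?_
    replace huv : L u = L v := huv
    show u = v
    have hsupp : ∀ w ∈ S, ∀ q : G ⧸ N, p ∣ orderOf q → w q = 0 := by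
      intro w hw q hq
      induction hw using Submodule.span_induction with
      | mem w hw =>
        obtain ⟨φ, -, rfl⟩ := hw
        show pRegularPart p (φ : G ⧸ N → ℂ) q = 0
        rw [pRegularPart_apply, if_pos hq]
      | zero => rfl
      | add a b _ _ iha ihb => rw [Pi.add_apply, iha, ihb, add_zero]
      | smul c a _ iha => rw [Pi.smul_apply, iha, smul_zero]
    funext q
    by_cases hq : p ∣ orderOf q
    · rw [hsupp u hu q hq, hsupp v hv q hq]
    obtain ⟨g, hg, rfl⟩ := hsurj q hq
    have := congrFun huv g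
    simpa [L, hg] using this
  rw [← LinearMap.finrank_range_of_inj hinjL, LinearMap.range_domRestrict]

end Cfsg.Agent.Block
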