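import Cfsg.Agent.Lib.Block.Regular
import Cfsg.Agent.Lib.Block.Height
import Cfsg.Agent.Lib.Char.Integral
import Cfsg.Agent.Lib.Char.Linear

/-!
# Characters of prime power degree and the centre of a Sylow subgroup
-/

set_option autoImplicit false
set_option linter.style.haveILetI false

open Cfsg Cfsg.Agent.Char

namespace Cfsg.Agent.Block

universe u

variable {G : Type u} [Group G] [Finite G] {p : ℕ} [Fact p.Prime] {M : Ideal AlgInt}

/-- The classes of central elements of a Sylow subgroup have size prime to `p`. -/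
theorem not_dvd_index_centralizer (P : Sylow p G) {x : G} (hx : x ∈ (P : Subgroup G))
    (hc : ∀ y ∈ (P : Subgroup G), x * y = y * x) :
    ¬ p ∣ (Subgroup.centralizer ({x} : Set G)).index := fun hd =>
  P.not_dvd_index (hd.trans (Subgroup.index_dvd_of_le fun y hy =>
    Subgroup.mem_centralizer_singleton_iff.2 (hc y hy).symm))

/-- A faithful character of `p`-power degree vanishes on the centre of a Sylow subgroup. -/
theorem apply_eq_zero_of_ppower (P : Sylow p G) (hZ : Subgroup.center G = ⊥) (χ : IrrCharacter G)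
    (hfaith : ∀ g : G, (χ : G → ℂ) g = (χ : G → ℂ) 1 → g = 1) {n : ℕ}
    (hdeg : charDegree (χ : G → ℂ) = p ^ n) {x : G} (hx : x ∈ (P : Subgroup G))
    (hc : ∀ y ∈ (P : Subgroup G), x * y = y * x) (hx1 : x ≠ 1) : (χ : G → ℂ) x = 0 := by
  have hcast := charDegree_cast (IsIrrCharacter.isCharacter χ.2)
  obtain ⟨d, ρ, hρ, hρχ⟩ := χ.2
  haveI := hρ
  rw [← hρχ] at hdeg hfaith hcast ⊢
  have hfin : Module.finrank ℂ (Fin d → ℂ) = p ^ n := by
    rw [hdeg, ρ.char_one] at hcast
    exact_mod_cast hcast.symm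
  rcases eq_zero_or_norm_eq_of_coprime ρ x (by
    rw [hfin]
    exact Nat.Coprime.pow_left n ((Fact.out : p.Prime).coprime_iff_not_dvd.2
      (not_dvd_index_centralizer P hx hc))) with h | h
  · exact h
  · exfalso
    obtain ⟨ω, hω⟩ := (norm_character_eq_iff ρ x).mp h
    have hinj : Function.Injective ρ := fun a b hab => by
      have : ρ (b⁻¹ * a) = 1 := by rw [map_mul, hab, ← map_mul, inv_mul_cancel, map_one]
      refine (inv_mul_eq_one.1 (hfaith _ ?_)).symm
      show LinearMap.trace ℂ _ (ρ (b⁻¹ * a)) = LinearMap.trace ℂ _ (ρ 1)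
      rw [this, map_one ρ]
    have hmem : x ∈ Subgroup.center G :=
      Subgroup.mem_center_iff.2 fun y => (comm_of_rep_eq_smul ρ hω hinj y).symm
    rw [hZ] at hmem
    exact hx1 (Subgroup.mem_bot.1 hmem)

/-- Such a block has all degrees divisible by the order of the centre of the Sylow subgroup. -/
theorem factorization_center_le (hM : IsPModular p M) (P : Sylow p G) {b : ℕ}
    (hb : Nat.card (Subgroup.center ↥(P : Subgroup G)) = p ^ b) {χ ψ : IrrCharacter G}
    (hvan : ∀ x : G, x ∈ (P : Subgroup G) → (∀ y ∈ (P : Subgroup G), x * y = y * x) → x ≠ 1 →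
      (χ : G → ℂ) x = 0)
    (h : SameBlock M (χ : G → ℂ) (ψ : G → ℂ)) : b ≤ (charDegree (ψ : G → ℂ)).factorization p := by
  classical
  haveI := prime_of_isPModular hM
  have hp := (Fact.out : p.Prime)
  let Z : Subgroup G := (Subgroup.center ↥(P : Subgroup G)).map (P : Subgroup G).subtype
  haveI := Fintype.ofFinite Z
  have hZcard : Nat.card Z = p ^ b := by
    rw [← hb]
    exact (Nat.card_congr ((Subgroup.center ↥(P : Subgroup G)).equivMapOfInjective _
      (P : Subgroup G).subtype_injective).toEquiv).symm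
  have hloc : ∀ z : Z, z ≠ 1 → MemLocalIdeal M ((ψ : G → ℂ) z / (ψ : G → ℂ) 1) := by
    rintro ⟨_, w, hw, rfl⟩ hz1
    have hw1 : (w : G) ≠ 1 := fun e => hz1 (Subtype.ext e)
    have hwc : ∀ y ∈ (P : Subgroup G), (w : G) * y = y * w := fun y hy =>
      congrArg Subtype.val (Subgroup.mem_center_iff.1 hw ⟨y, hy⟩).symm
    have h1 := h (w : G)
    have h0 : centralChar (χ : G → ℂ) (w : G) = 0 := by
      rw [centralChar, hvan _ w.2 hwc hw1, mul_zero, zero_div]
    rw [h0, zero_sub] at h1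
    have h2 := memLocalIdeal_neg h1
    rw [neg_neg, centralChar, mul_div_assoc] at h2
    set k := (Subgroup.centralizer ({(w : G)} : Set G)).index
    have hk : ¬ MemLocalIdeal M (k : ℂ) := fun hh =>
      not_dvd_index_centralizer P w.2 hwc ((memLocalIdeal_natCast_iff hM.1 hM.2.2 k).1 hh)
    have hk0 : (k : ℂ) ≠ 0 := Nat.cast_ne_zero.2 Subgroup.index_ne_zero_of_finite
    have hkl : ((k : ℂ))⁻¹ ∈ locRing M := inv_mem_locRing (natCast_mem _ k) hk
    have h3 := memLocalIdeal_mul_left hkl h2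
    rw [← mul_assoc, inv_mul_cancel₀ hk0, one_mul] at h3
    exact h3
  obtain ⟨m, hm⟩ := classInner_natCast_of_isCharacter
    (IsCharacter.restrict (IsIrrCharacter.isCharacter ψ.2) Z)
    (isCharacter_one (G := Z))
  by_contra hlt
  have hd0 : charDegree (ψ : G → ℂ) ≠ 0 := (charDegree_pos ψ.2).ne'
  set v := (charDegree (ψ : G → ℂ)).factorization p with hv
  set q := charDegree (ψ : G → ℂ) / p ^ v with hq
  have hqd : p ^ v * q = charDegree (ψ : G → ℂ) := Nat.ordProj_mul_ordCompl_eq_self _ p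
  have hqp : ¬ p ∣ q := Nat.not_dvd_ordCompl hp hd0
  have hsum : ∑ z : Z, (ψ : G → ℂ) z / (ψ : G → ℂ) 1 = ((p ^ (b - v) * m : ℕ) : ℂ) / (q : ℂ) := by
    rw [classInner, inv_mul_eq_iff_eq_mul₀ (Nat.cast_ne_zero.2 Nat.card_pos.ne')] at hm
    simp only [Pi.one_apply, map_one, mul_one] at hm
    rw [← Finset.sum_div, hm, ← charDegree_cast (IsIrrCharacter.isCharacter ψ.2), hZcard, ← hqd,
      show p ^ b = p ^ v * p ^ (b - v) by rw [← pow_add]; congr 1; omega]
    push_cast
    have : ((p : ℂ) ^ v) ≠ 0 := pow_ne_zero _ (Nat.cast_ne_zero.2 hp.ne_zero)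
    rw [mul_assoc, mul_div_mul_left _ _ this]
  refine not_memLocalIdeal_one (M := M) ?_
  have hsplit : ∑ z : Z, (ψ : G → ℂ) z / (ψ : G → ℂ) 1 =
      1 + ∑ z ∈ Finset.univ.erase (1 : Z), (ψ : G → ℂ) z / (ψ : G → ℂ) 1 := by
    rw [← Finset.add_sum_erase _ _ (Finset.mem_univ (1 : Z)), OneMemClass.coe_one,
      div_self (IsIrrCharacter.apply_one_ne_zero ψ.2)]
  have hl : MemLocalIdeal M (∑ z ∈ Finset.univ.erase (1 : Z), (ψ : G → ℂ) z / (ψ : G → ℂ) 1) :=
    memLocalIdeal_sum _ _ fun z hz => hloc z (Finset.ne_of_mem_erase hz)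
  have hq' : ((q : ℂ))⁻¹ ∈ locRing M :=
    inv_mem_locRing (natCast_mem _ q) fun hh => hqp ((memLocalIdeal_natCast_iff hM.1 hM.2.2 q).1 hh)
  have hr : MemLocalIdeal M (((p ^ (b - v) * m : ℕ) : ℂ) / (q : ℂ)) :=
    memLocalIdeal_mul_right hq' ((memLocalIdeal_natCast_iff hM.1 hM.2.2 _).2
      (dvd_mul_of_dvd_left (dvd_pow_self p (by omega)) m))
  have h2 := memLocalIdeal_sub hr hl
  rwa [← hsum, hsplit, add_sub_cancel_right] at h2

end Cfsg.Agent.Block
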