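import Cfsg.Agent.Lib.Block.PrincipalNormal

/-!
# Blocks and regular classes; central products over a `p`-group
-/

set_option autoImplicit false
set_option linter.style.haveILetI false

open Cfsg Cfsg.Agent.Char
open scoped ComplexConjugate

namespace Cfsg.Agent.Block

universe u

variable {G : Type u} [Group G] [Finite G] {M : Ideal AlgInt} [hMp : M.IsPrime] {p : ℕ} [Fact p.Prime]

/-- Blocks are separated by the regular classes. -/
theorem mem_blockOf_of_regular (hM : IsPModular p M) {χ φ : IrrCharacter G}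
    (h : ∀ g : G, ¬ p ∣ orderOf g →
      MemLocalIdeal M (centralChar (φ : G → ℂ) g - centralChar (χ : G → ℂ) g)) :
    φ ∈ blockOf M (χ : G → ℂ) := by
  classical
  haveI := Fintype.ofFinite (ConjClasses G)
  have hB := isPBlock_blockOf (M := M) χ
  have he := CL.blockIdem (M := M) hB
  by_contra hn
  have h1 : ro M φ (blockIdem (blockOf M (χ : G → ℂ))) = ro M χ (blockIdem (blockOf M (χ : G → ℂ))) := by
    rw [ro, ro, omega_eq_sum_classes φ he.1, omega_eq_sum_classes χ he.1]
    have hl : ∀ (ψ : IrrCharacter G), ∀ C ∈ (Finset.univ : Finset (ConjClasses G)),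
        (blockIdem (blockOf M (χ : G → ℂ))).coeff (classRep C) * centralChar (ψ : G → ℂ) (classRep C) ∈
          locRing M :=
      fun ψ C _ => mul_mem (he.2 _) (centralChar_mem_locRing ψ _)
    rw [resC_sum _ _ (hl φ), resC_sum _ _ (hl χ)]
    refine Finset.sum_congr rfl fun C hC => (resC_eq_iff (hl φ C hC) (hl χ C hC)).2 ?_
    show MemLocalIdeal M (_ * _ - _ * _)
    rw [← mul_sub]
    by_cases hd : p ∣ orderOf (classRep C)
    · rw [show (blockIdem (blockOf M (χ : G → ℂ))).coeff (classRep C) = 0 by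
        rw [← coeff_blockIdem]; exact blockCoeff_eq_zero_of_dvd hM hB hd, zero_mul]
      exact memLocalIdeal_zero
    · exact memLocalIdeal_mul_left (he.2 _) (h _ hd)
  rw [ro_blockIdem_notMem hn, ro_blockIdem_mem (self_mem_blockOf χ)] at h1
  exact zero_ne_one h1

variable {U V : Subgroup G}

omit hMp [Fact p.Prime] in
theorem normal_of_commuting (hcomm : ∀ u ∈ U, ∀ v ∈ V, u * v = v * u) (hgen : U ⊔ V = ⊤) : U.Normal := by
  constructor
  intro u hu g
  have hle : U ⊔ V ≤ Subgroup.normalizer (U : Set G) :=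
    sup_le Subgroup.le_normalizer fun v hv => by
      rw [Subgroup.mem_normalizer_iff]
      refine fun y => ⟨fun hy => ?_, fun hy => ?_⟩
      · rwa [← hcomm y hy v hv, mul_inv_cancel_right]
      · have := hcomm _ hy v hv
        have e : v * y * v⁻¹ * v = v * (v * y * v⁻¹) := this
        rw [inv_mul_cancel_right] at e
        rwa [mul_left_cancel e]
  exact (Subgroup.mem_normalizer_iff.1 (hle (hgen ▸ Subgroup.mem_top g)) u).1 hu

omit hMp [Fact p.Prime] in
theorem exists_factor_of_commuting (hcomm : ∀ u ∈ U, ∀ v ∈ V, u * v = v * u) (hgen : U ⊔ V = ⊤) (g : G) :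
    ∃ u ∈ U, ∃ v ∈ V, g = u * v := by
  haveI := normal_of_commuting hcomm hgen
  have h := Subgroup.mem_top g
  rw [← hgen, ← SetLike.mem_coe, Subgroup.coe_mul_of_right_le_normalizer_left U V
    (by rw [Subgroup.normalizer_eq_top U]; exact le_top)] at h
  obtain ⟨u, hu, v, hv, e⟩ := h
  exact ⟨u, hu, v, hv, e.symm⟩

omit hMp in
/-- The regular elements factor through regular elements. -/
theorem exists_regular_factor (hcomm : ∀ u ∈ U, ∀ v ∈ V, u * v = v * u) (hgen : U ⊔ V = ⊤) {g : G}
    (hg : ¬ p ∣ orderOf g) :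
    ∃ u ∈ U, ∃ v ∈ V, ¬ p ∣ orderOf u ∧ ¬ p ∣ orderOf v ∧ g = u * v := by
  obtain ⟨u, hu, v, hv, rfl⟩ := exists_factor_of_commuting hcomm hgen g
  have hp := (Fact.out : p.Prime)
  obtain ⟨us, ur, huw, huc, ⟨i, hi⟩, hur⟩ := isPPart_exists hp u
  obtain ⟨vs, vr, hvw, hvc, ⟨j, hj⟩, hvr⟩ := isPPart_exists hp v
  have hzu : ∀ {x y z : G}, x * y = z → Commute x y → orderOf x = p ^ i → ¬ p ∣ orderOf y →
      y ∈ Subgroup.zpowers z := by
    intro x y z hxy hc hx hy
    have hcop : (orderOf y).Coprime (p ^ i) := ((hp.coprime_iff_not_dvd.2 hy).symm).pow_right i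
    obtain ⟨k, hk⟩ := exists_pow_eq_self_of_coprime (x := y) (n := p ^ i) hcop.symm
    refine Subgroup.mem_zpowers_iff.2 ⟨((p ^ i * k : ℕ) : ℤ), ?_⟩
    rw [zpow_natCast, pow_mul, ← hxy, hc.mul_pow, ← hx, pow_orderOf_eq_one, one_mul]
    rw [hx]; exact hk
  have hur' : ur ∈ U := by
    have := hzu huw huc hi hur
    exact (Subgroup.zpowers_le.2 hu) this
  have hus : us ∈ U := by
    rw [show us = u * ur⁻¹ from eq_mul_inv_of_mul_eq huw]; exact mul_mem hu (inv_mem hur')
  have hvr' : vr ∈ V := by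
    obtain ⟨k, hk⟩ := exists_pow_eq_self_of_coprime (x := vr) (n := p ^ j)
      (((hp.coprime_iff_not_dvd.2 hvr).symm).pow_right j).symm
    rw [← hk, show vr ^ (p ^ j) = v ^ (p ^ j) by
      rw [← hvw, hvc.mul_pow, ← hj, pow_orderOf_eq_one, one_mul]]
    exact pow_mem (pow_mem hv _) _
  have hvs : vs ∈ V := by
    rw [show vs = v * vr⁻¹ from eq_mul_inv_of_mul_eq hvw]; exact mul_mem hv (inv_mem hvr')
  refine ⟨ur, hur', vr, hvr', hur, hvr, ?_⟩
  -- both sides are regular parts of the same element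
  have hc1 : Commute us vs := hcomm us hus vs hvs
  have hc2 : Commute ur vr := hcomm ur hur' vr hvr'
  have h1 : IsPPart p (u * v) (us * vs) := by
    refine ⟨ur * vr, ?_, ?_, ?_, ?_⟩
    · rw [← huw, ← hvw]
      calc us * vs * (ur * vr) = us * (vs * ur) * vr := by group
        _ = us * (ur * vs) * vr := by rw [hcomm ur hur' vs hvs]
        _ = _ := by group
    · exact ((huc.mul_right (hcomm us hus vr hvr')).mul_left
        ((show Commute vs ur from (hcomm ur hur' vs hvs).symm).mul_right hvc))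
    · have := hc1.orderOf_mul_dvd_lcm
      obtain ⟨k, -, hk⟩ := (Nat.dvd_prime_pow hp).1
        (this.trans (Nat.lcm_dvd (hi ▸ pow_dvd_pow p (Nat.le_add_right i j))
          (hj ▸ pow_dvd_pow p (Nat.le_add_left j i))))
      exact ⟨k, hk⟩
    · intro hd
      rcases (hp.dvd_mul.1 (hd.trans (hc2.orderOf_mul_dvd_lcm.trans
        (Nat.lcm_dvd_mul _ _)))) with h | h
      · exact hur h
      · exact hvr h
  have h2 := isPPart_unique hp h1 ((isPPart_one_iff hp).2 hg)
  obtain ⟨y, hy, -⟩ := id h1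
  calc u * v = us * vs * (ur * vr) := by
        rw [← huw, ← hvw]
        calc us * ur * (vs * vr) = us * (ur * vs) * vr := by group
          _ = us * (vs * ur) * vr := by rw [hcomm ur hur' vs hvs]
          _ = _ := by group
    _ = ur * vr := by rw [h2, one_mul]

omit hMp in
/-- Class sums multiply at regular elements. -/
theorem classSum_mul_commuting (hcomm : ∀ u ∈ U, ∀ v ∈ V, u * v = v * u) (hgen : U ⊔ V = ⊤)
    (hZ : IsPGroup p ↥(U ⊓ V)) {u v : G} (hu : u ∈ U) (hv : v ∈ V) (hur : ¬ p ∣ orderOf u)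
    (hvr : ¬ p ∣ orderOf v) : classSum u * classSum v = classSum (u * v) := by
  classical
  haveI := Fintype.ofFinite G
  have hp := (Fact.out : p.Prime)
  haveI hUn := normal_of_commuting hcomm hgen
  haveI hVn := normal_of_commuting (fun a ha b hb => (hcomm b hb a ha).symm) (sup_comm U V ▸ hgen)
  refine MonoidAlgebra.ext (Finsupp.ext fun x => ?_)
  rw [show (classSum u * classSum v).coeff x =
      ∑ a : G, (classSum u).coeff a * (classSum v).coeff (a⁻¹ * x) by
    rw [MonoidAlgebra.coeff_mul_apply_left, Finsupp.sum_fintype _ _ (by simp)]]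
  simp only [classSum, coeff_mkA]
  have hcU : ∀ {a : G}, IsConj u a → a ∈ U := fun h => by
    obtain ⟨c, rfl⟩ := isConj_iff.1 h
    exact hUn.conj_mem u hu c
  have hcV : ∀ {a : G}, IsConj v a → a ∈ V := fun h => by
    obtain ⟨c, rfl⟩ := isConj_iff.1 h
    exact hVn.conj_mem v hv c
  have hord : ∀ {a b : G}, IsConj a b → orderOf b = orderOf a := fun h => by
    obtain ⟨c, rfl⟩ := isConj_iff.1 h
    exact orderOf_injective (MulAut.conj c).toMonoidHom (MulAut.conj c).injective _
  by_cases hx : IsConj (u * v) x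
  · rw [if_pos hx]
    obtain ⟨c, hc⟩ := isConj_iff.1 hx
    rw [Finset.sum_eq_single (c * u * c⁻¹)]
    · rw [if_pos (isConj_iff.2 ⟨c, rfl⟩), if_pos (isConj_iff.2 ⟨c, by rw [← hc]; group⟩), one_mul]
    · intro a _ hne
      by_cases h1 : IsConj u a
      · by_cases h2 : IsConj v (a⁻¹ * x)
        · exfalso
          apply hne
          set a₀ := c * u * c⁻¹ with ha₀
          set b₀ := c * v * c⁻¹ with hb₀
          have haU : a ∈ U := hcU h1
          have hbV : a⁻¹ * x ∈ V := hcV h2
          have ha0U : a₀ ∈ U := hUn.conj_mem u hu c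
          have hb0V : b₀ ∈ V := hVn.conj_mem v hv c
          have hx0 : x = a₀ * b₀ := by rw [← hc, ha₀, hb₀]; group
          have hz : a₀⁻¹ * a ∈ U ⊓ V := by
            refine Subgroup.mem_inf.2 ⟨mul_mem (inv_mem ha0U) haU, ?_⟩
            have : a₀⁻¹ * a = b₀ * (a⁻¹ * x)⁻¹ := by rw [hx0]; group
            show a₀⁻¹ * a ∈ V
            rw [this]; exact mul_mem hb0V (inv_mem hbV)
          obtain ⟨k, hk⟩ := IsPGroup.iff_orderOf.1 hZ ⟨_, hz⟩
          rw [Subgroup.orderOf_mk] at hk
          have hcz : Commute a₀ (a₀⁻¹ * a) := hcomm a₀ ha0U _ hz.2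
          have hord0 : ¬ p ∣ orderOf a₀ := by rw [hord (isConj_iff.2 ⟨c, rfl⟩ : IsConj u a₀)]; exact hur
          rcases k with _ | k
          · exact (inv_mul_eq_one.1 (orderOf_eq_one_iff.1 (by simpa using hk))).symm
          · exfalso
            have h3 := hcz.orderOf_mul_eq_mul_orderOf_of_coprime
              (by rw [hk]; exact ((hp.coprime_iff_not_dvd.2 hord0).pow_left (k + 1)).symm)
            rw [mul_inv_cancel_left, hord h1] at h3
            exact hur (h3 ▸ (hk ▸ dvd_pow_self p k.succ_ne_zero).mul_left _)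
        · rw [if_neg h2, mul_zero]
      · rw [if_neg h1, zero_mul]
    · exact fun h => absurd (Finset.mem_univ _) h
  · rw [if_neg hx]
    refine Finset.sum_eq_zero fun a _ => ?_
    by_cases h1 : IsConj u a
    · by_cases h2 : IsConj v (a⁻¹ * x)
      · exfalso
        apply hx
        obtain ⟨c, hc⟩ := isConj_iff.1 h1
        obtain ⟨d, hd⟩ := isConj_iff.1 h2
        obtain ⟨c1, hc1, c2, hc2, rfl⟩ := exists_factor_of_commuting hcomm hgen c
        obtain ⟨d1, hd1, d2, hd2, rfl⟩ := exists_factor_of_commuting hcomm hgen d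
        refine isConj_iff.2 ⟨c1 * d2, ?_⟩
        have e1 : a = c1 * u * c1⁻¹ := by
          rw [← hc]
          calc c1 * c2 * u * (c1 * c2)⁻¹ = c1 * (c2 * u) * c2⁻¹ * c1⁻¹ := by group
            _ = c1 * (u * c2) * c2⁻¹ * c1⁻¹ := by rw [hcomm u hu c2 hc2]
            _ = _ := by group
        have e2 : a⁻¹ * x = d2 * v * d2⁻¹ := by
          rw [← hd]
          have hm : d2 * v * d2⁻¹ ∈ V := mul_mem (mul_mem hd2 hv) (inv_mem hd2)
          calc d1 * d2 * v * (d1 * d2)⁻¹ = d1 * (d2 * v * d2⁻¹) * d1⁻¹ := by group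
            _ = (d2 * v * d2⁻¹) * d1 * d1⁻¹ := by rw [hcomm d1 hd1 _ hm]
            _ = _ := by group
        have e3 : x = a * (d2 * v * d2⁻¹) := by rw [← e2]; group
        rw [e3, e1]
        calc c1 * d2 * (u * v) * (c1 * d2)⁻¹ = c1 * (d2 * u) * (v * d2⁻¹) * c1⁻¹ := by group
          _ = c1 * (u * d2) * (v * d2⁻¹) * c1⁻¹ := by rw [hcomm u hu d2 hd2]
          _ = c1 * u * ((d2 * v * d2⁻¹) * c1⁻¹) := by group
          _ = c1 * u * (c1⁻¹ * (d2 * v * d2⁻¹)) := by
              rw [hcomm c1⁻¹ (inv_mem hc1) _ (mul_mem (mul_mem hd2 hv) (inv_mem hd2))]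
          _ = _ := by group
      · rw [if_neg h2, mul_zero]
    · rw [if_neg h1, zero_mul]

omit [Fact p.Prime] in
theorem centralChar_eq_of_constituent (N : Subgroup G) [N.Normal] [Fintype N] (χ : IrrCharacter G)
    (θ : IrrCharacter N) (h : classInner (fun n : N => (χ : G → ℂ) n) (θ : N → ℂ) ≠ 0) (n : N) :
    centralChar (χ : G → ℂ) (n : G) = omega (θ : N → ℂ) (resH N (classSum (n : G))) := by
  classical
  haveI := Fintype.ofFinite G
  rw [← omega_classSum]
  refine omega_eq_of_constituent (N := N) χ θ h (isCentralElt_classSum _) fun x hx => ?_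
  simp only [classSum, coeff_mkA]
  refine if_neg fun hc => hx ?_
  obtain ⟨c, rfl⟩ := isConj_iff.1 hc
  exact (QuotientGroup.eq_one_iff _).2 (‹N.Normal›.conj_mem _ n.2 c)

/-- Principal blocks of a central product over a `p`-group. -/
theorem mem_principal_of_commuting (hM : IsPModular p M) [Fintype U] [Fintype V]
    (hcomm : ∀ u ∈ U, ∀ v ∈ V, u * v = v * u) (hgen : U ⊔ V = ⊤) (hZ : IsPGroup p ↥(U ⊓ V))
    (χ : IrrCharacter G) (θ : IrrCharacter U) (η : IrrCharacter V)
    (h1 : classInner (fun u : U => (χ : G → ℂ) u) (θ : U → ℂ) ≠ 0)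
    (h2 : classInner (fun v : V => (χ : G → ℂ) v) (η : V → ℂ) ≠ 0)
    (hθ : θ ∈ principalBlock M U) (hη : η ∈ principalBlock M V) : χ ∈ principalBlock M G := by
  classical
  haveI := normal_of_commuting hcomm hgen
  haveI := normal_of_commuting (fun a ha b hb => (hcomm b hb a ha).symm) (sup_comm U V ▸ hgen)
  let one : IrrCharacter G := ⟨fun _ => 1, isIrrCharacter_one⟩
  let oneU : IrrCharacter U := ⟨fun _ => 1, isIrrCharacter_one⟩
  let oneV : IrrCharacter V := ⟨fun _ => 1, isIrrCharacter_one⟩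
  have hU1 : classInner (fun u : U => (one : G → ℂ) u) (oneU : U → ℂ) ≠ 0 := by simp [classInner, one, oneU]
  have hV1 : classInner (fun v : V => (one : G → ℂ) v) (oneV : V → ℂ) ≠ 0 := by simp [classInner, one, oneV]
  refine mem_blockOf_of_regular hM (χ := one) fun g hg => ?_
  obtain ⟨u, hu, v, hv, hur, hvr, rfl⟩ := exists_regular_factor hcomm hgen hg
  have hmul : ∀ ψ : IrrCharacter G, centralChar (ψ : G → ℂ) (u * v) =
      centralChar (ψ : G → ℂ) u * centralChar (ψ : G → ℂ) v := fun ψ => by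
    rw [← omega_classSum, ← classSum_mul_commuting hcomm hgen hZ hu hv hur hvr,
      omega_mul ψ (isCentralElt_classSum _) (isCentralElt_classSum _), omega_classSum, omega_classSum]
  have key : ∀ (N : Subgroup G) [N.Normal] [Fintype N] (ψ : IrrCharacter N) (w : G), w ∈ N →
      classInner (fun n : N => (χ : G → ℂ) n) (ψ : N → ℂ) ≠ 0 →
      (classInner (fun n : N => (one : G → ℂ) n) (fun _ : N => (1 : ℂ)) ≠ 0) →
      ψ ∈ principalBlock M N →
      MemLocalIdeal M (centralChar (χ : G → ℂ) w - centralChar (one : G → ℂ) w) := by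
    intro N _ _ ψ w hw hψ h1' hmem
    let oneN : IrrCharacter N := ⟨fun _ => 1, isIrrCharacter_one⟩
    have e1 := centralChar_eq_of_constituent N χ ψ hψ ⟨w, hw⟩
    have e2 := centralChar_eq_of_constituent N one oneN h1' ⟨w, hw⟩
    rw [show centralChar (χ : G → ℂ) w = _ from e1, show centralChar (one : G → ℂ) w = _ from e2]
    have hcl : CL M (resH N (classSum w)) :=
      cl_resH ((CL.classSum w).ps N)
    exact (resC_eq_iff (omega_mem_locRing ψ hcl.1 hcl.2) (omega_mem_locRing oneN hcl.1 hcl.2)).1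
      (ro_congr ⟨oneN, rfl⟩ hmem (self_mem_blockOf oneN) hcl)
  have k1 := key U θ u hu h1 hU1 hθ
  have k2 := key V η v hv h2 hV1 hη
  rw [hmul, hmul]
  have e : centralChar (χ : G → ℂ) u * centralChar (χ : G → ℂ) v -
      centralChar (one : G → ℂ) u * centralChar (one : G → ℂ) v =
      (centralChar (χ : G → ℂ) u - centralChar (one : G → ℂ) u) * centralChar (χ : G → ℂ) v +
      centralChar (one : G → ℂ) u * (centralChar (χ : G → ℂ) v - centralChar (one : G → ℂ) v) := by ring
  rw [e]
  exact memLocalIdeal_add (memLocalIdeal_mul_right (centralChar_mem_locRing χ _) k1)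
    (memLocalIdeal_mul_left (centralChar_mem_locRing one _) k2)

end Cfsg.Agent.Block
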