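import Cfsg.Agent.Lib.Block.InvariantLayer
import Cfsg.Agent.Lib.Char.Extension
import Cfsg.Agent.Lib.Char.Gallagher
import Mathlib.GroupTheory.SchurZassenhaus
import Mathlib.GroupTheory.Transfer
import Mathlib.RingTheory.RootsOfUnity.Complex

/-!
# Reduction of an invariant character to a central character, for coprime layers

The intertwiners of an invariant irreducible representation give a finite central extension of the
quotient; in coprime layers it splits into a Hall subgroup and operators on it.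
-/

set_option autoImplicit false
set_option linter.style.haveILetI false

namespace Cfsg.Agent.Block

open Cfsg Cfsg.Agent.Char
open scoped ComplexConjugate

universe u

/-- A group of exponent prime to `c` has order prime to `c`. -/
theorem card_coprime_of_pow {K : Type u} [Group K] [Finite K] {n c : ℕ} (h : ∀ x : K, x ^ n = 1)
    (hn : n.Coprime c) : (Nat.card K).Coprime c := by
  refine Nat.coprime_of_dvd fun p hp hpK hpc => ?_
  haveI := Fact.mk hp
  obtain ⟨x, hx⟩ := exists_prime_orderOf_dvd_card' p hpK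
  exact hp.one_lt.ne' (Nat.eq_one_of_dvd_coprimes hn (hx ▸ orderOf_dvd_of_pow_eq_one (h x)) hpc)

/-- A central subgroup of index dividing `b` makes `x ↦ x ^ (b * b)` multiplicative. -/
theorem exists_power_kernel {Q : Type u} [Group Q] [Finite Q] (L W : Subgroup Q) [L.Normal]
    (hW : W ≤ Subgroup.center Q) {b : ℕ} (hb : W.relIndex L ∣ b) :
    ∃ K : Subgroup Q, K.Normal ∧ ∀ x, x ∈ K ↔ x ∈ L ∧ x ^ (b * b) = 1 := by
  have hc : W.subgroupOf L ≤ Subgroup.center L := fun w hw => Subgroup.mem_center_iff.2 fun g =>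
    Subtype.ext (Subgroup.mem_center_iff.1 (hW hw) g)
  obtain ⟨j, hj⟩ : (Subgroup.center L).index ∣ b * b := ((Subgroup.index_dvd_of_le hc).trans hb).mul_right b
  have hmul : ∀ x y : L, (x * y) ^ (b * b) = x ^ (b * b) * y ^ (b * b) := fun x y => by
    have h := congrArg Subtype.val (map_mul (MonoidHom.transferCenterPow L) x y)
    rw [Subgroup.coe_mul, MonoidHom.transferCenterPow_apply, MonoidHom.transferCenterPow_apply,
      MonoidHom.transferCenterPow_apply] at h
    rw [hj, pow_mul, pow_mul, pow_mul, h]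
    exact Commute.mul_pow (Subgroup.mem_center_iff.1 ((Subgroup.center L).pow_index_mem y) _) _
  refine ⟨{ carrier := {x | x ∈ L ∧ x ^ (b * b) = 1}
            one_mem' := ⟨L.one_mem, one_pow _⟩
            mul_mem' := fun {x y} hx hy => ⟨L.mul_mem hx.1 hy.1, ?_⟩
            inv_mem' := fun {x} hx => ⟨L.inv_mem hx.1, by rw [inv_pow, hx.2, inv_one]⟩ }, ⟨fun x hx g => ?_⟩, fun x => Iff.rfl⟩
  · have h := congrArg Subtype.val (hmul ⟨x, hx.1⟩ ⟨y, hy.1⟩)
    simpa [hx.2, hy.2] using h
  · exact ⟨(inferInstance : L.Normal).conj_mem x hx.1 g, by rw [conj_pow, hx.2, mul_one, mul_inv_cancel]⟩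

/-- Inner products of functions pulled back along a surjection. -/
theorem classInner_pullback {A B : Type u} [Group A] [Group B] [Fintype A] [Fintype B] (π : A →* B)
    (hπ : Function.Surjective π) (φ φ' : B → ℂ) :
    classInner (fun a => φ (π a)) (fun a => φ' (π a)) = classInner φ φ' := by
  classical
  have h1 : ∑ a : A, φ (π a) * conj (φ' (π a)) =
      (Nat.card π.ker : ℂ) * ∑ b : B, φ b * conj (φ' b) := by
    rw [← Finset.sum_fiberwise (Finset.univ : Finset A) (fun a => π a), Finset.mul_sum]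
    refine Finset.sum_congr rfl fun b _ => ?_
    rw [Finset.sum_congr rfl fun a ha => by rw [(Finset.mem_filter.1 ha).2], Finset.sum_const, nsmul_eq_mul]
    congr 2
    obtain ⟨a₀, rfl⟩ := hπ b
    rw [Nat.card_eq_fintype_card, ← Finset.card_univ]
    refine (Finset.card_bij (fun (k : π.ker) _ => a₀ * k) (fun k _ => Finset.mem_filter.2 ⟨Finset.mem_univ _, ?_⟩)
      (fun k _ k' _ h => Subtype.ext (mul_left_cancel h))
      (fun a ha => ⟨⟨a₀⁻¹ * a, ?_⟩, Finset.mem_univ _, mul_inv_cancel_left _ _⟩)).symm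
    · rw [map_mul, MonoidHom.mem_ker.1 k.2, mul_one]
    · rw [MonoidHom.mem_ker, map_mul, map_inv, (Finset.mem_filter.1 ha).2, inv_mul_cancel]
  have hc : (Nat.card A : ℂ) = (Nat.card π.ker : ℂ) * (Nat.card B : ℂ) := by
    rw [← Nat.cast_mul, ← π.ker.card_mul_index, Subgroup.index_ker, MonoidHom.range_eq_top.2 hπ, Subgroup.card_top]
  rw [classInner, classInner, h1, hc, mul_inv]
  have : (Nat.card π.ker : ℂ) ≠ 0 := Nat.cast_ne_zero.2 Nat.card_pos.ne'
  field_simp

/-- An invariant character over a linear character of a central subgroup, in the coprime case. -/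
theorem exists_invariant_central {Q : Type u} [Group Q] [Finite Q] (K S Z : Subgroup Q) [hKn : K.Normal]
    (hKS : Subgroup.IsComplement' K S) (hcop : (Nat.card K).Coprime (Nat.card S)) (hZK : Z ≤ K)
    (hZc : Z ≤ Subgroup.center Q)
    (hsolv : Group.IsSolvable S ∨ ∀ [(Z.subgroupOf K).Normal], Group.IsSolvable (K ⧸ Z.subgroupOf K))
    (l : Z →* ℂˣ) :
    ∃ (n : ℕ) (ρ : Representation ℂ K (Fin n → ℂ)), ρ.IsIrreducible ∧
      (∀ z : Z, ρ ⟨z, hZK z.2⟩ = (l z : ℂ) • (1 : Module.End ℂ (Fin n → ℂ))) ∧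
      ∀ (y : Q) (k k' : K), (k' : Q) = y * k * y⁻¹ → ρ.character k' = ρ.character k := by
  classical
  haveI := Fintype.ofFinite K
  haveI : (Z.subgroupOf K).Normal := ⟨fun z hz g => by
    show (g : Q) * (z : Q) * (g : Q)⁻¹ ∈ Z
    rw [Subgroup.mem_center_iff.1 (hZc (Subgroup.mem_subgroupOf.1 hz)) g, mul_assoc, mul_inv_cancel, mul_one]; exact hz⟩
  haveI := Fintype.ofFinite (Z.subgroupOf K)
  letI : MulDistribMulAction S K := MulDistribMulAction.compHom K ((MulAut.conjNormal : Q →* MulAut K).comp S.subtype)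
  have hsmul : ∀ (s : S) (k : K), ((s • k : K) : Q) = (s : Q) * k * (s : Q)⁻¹ := fun s k => MulAut.conjNormal_apply _ _
  have hZS : ∀ (s : S) (z : Z.subgroupOf K), s • (z : K) = (z : K) := fun s z => Subtype.ext (by
    rw [hsmul, Subgroup.mem_center_iff.1 (hZc (Subgroup.mem_subgroupOf.1 z.2)) _, mul_assoc, mul_inv_cancel, mul_one])
  let e := Subgroup.subgroupOfEquivOfLe hZK
  let lθ : IrrCharacter (Z.subgroupOf K) := ⟨fun z => ((l.comp e.toMonoidHom) z : ℂ), isIrrCharacter_monoidHom (l.comp e.toMonoidHom)⟩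
  have hlinv : ∀ (s : S) (z z' : Z.subgroupOf K), (z' : K) = s • (z : K) → (lθ : Z.subgroupOf K → ℂ) z' = (lθ : Z.subgroupOf K → ℂ) z :=
    fun s z z' h => by rw [show z' = z from Subtype.ext (h.trans (hZS s z))]
  obtain ⟨ψ, hψl, hψS⟩ : ∃ ψ : IrrCharacter K,
      classInner (fun z : Z.subgroupOf K => (ψ : K → ℂ) z) (lθ : Z.subgroupOf K → ℂ) ≠ 0 ∧ OpInv S (ψ : K → ℂ) := by
    rcases hsolv with h | h
    · exact constituent_aux (Nat.card S) S K rfl h hcop (Z.subgroupOf K) (fun s z => by rw [hZS]; exact z.2) lθ hlinv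
    · exact solvable_layer_aux _ K (Z.subgroupOf K) rfl h (fun s z => by rw [hZS]; exact z.2)
        (hcop.coprime_dvd_left (Subgroup.index_dvd_card _)) lθ hlinv
  obtain ⟨n, ρ, hρ, hψ⟩ := ψ.2
  haveI := hρ
  haveI := nontrivial_of_irreducible ρ
  refine ⟨n, ρ, hρ, ?_, fun y k k' hk => ?_⟩
  · have hc : ∀ z : Z, ∃ c : ℂˣ, ρ ⟨z, hZK z.2⟩ = (c : ℂ) • (1 : Module.End ℂ (Fin n → ℂ)) := fun z => by
      obtain ⟨c, hc⟩ := isScalar_of_commute ρ (ρ ⟨z, hZK z.2⟩) fun k => by
        rw [← map_mul, ← map_mul]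
        congr 1
        exact Subtype.ext (Subgroup.mem_center_iff.1 (hZc z.2) k).symm
      refine ⟨Units.mk0 c fun h => ?_, hc⟩
      rw [h, zero_smul] at hc
      have h1 : ρ ⟨z, hZK z.2⟩ * ρ ⟨z, hZK z.2⟩⁻¹ = 1 := by rw [← map_mul, mul_inv_cancel, map_one]
      rw [hc, zero_mul] at h1
      exact zero_ne_one h1
    choose c hc using hc
    let cl : Z →* ℂˣ := MonoidHom.mk' c fun z z' => Units.ext (smul_left_injective ℂ
      (one_ne_zero (α := Module.End ℂ (Fin n → ℂ))) (by
        dsimp only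
        rw [← hc, Units.val_mul, mul_smul, ← hc z', ← one_mul (ρ ⟨(z' : Q), hZK z'.2⟩), ← smul_mul_assoc, ← hc, ← map_mul]
        rfl))
    have hcl : cl = l := by
      by_contra hne
      refine hψl ?_
      rw [show (fun z : Z.subgroupOf K => (ψ : K → ℂ) z) =
          (n : ℂ) • (fun z : Z.subgroupOf K => ((cl.comp e.toMonoidHom) z : ℂ)) from funext fun z => by
        rw [← hψ, Representation.character, show ρ (z : K) = ρ ⟨(e z : Q), hZK (e z).2⟩ from rfl, hc,
          map_smul, LinearMap.trace_one, Module.finrank_fin_fun, smul_eq_mul, Pi.smul_apply, smul_eq_mul, mul_comm]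
        rfl]
      rw [classInner_smul_left, IsIrrCharacter.classInner_eq_zero (isIrrCharacter_monoidHom _) lθ.2
        (fun he => hne (MonoidHom.ext fun z => Units.ext (by simpa [lθ] using congrFun he (e.symm z)))), mul_zero]
    intro z
    rw [hc, ← hcl]; rfl
  · obtain ⟨⟨a, s⟩, hks⟩ := hKS.2 y
    rw [hψ, show k' = a * (s • k) * a⁻¹ from Subtype.ext (by
      rw [hk, Subgroup.coe_mul, Subgroup.coe_mul, hsmul, Subgroup.coe_inv, ← hks]
      simp [mul_assoc]), IsCharacter.isClassFunction (IsIrrCharacter.isCharacter ψ.2) _ _, hψS s k]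

/-- The product of a projective pair descends to an irreducible character. -/
theorem exists_descended_product {A G K : Type u} [Group A] [Group G] [Group K] [Finite A] [Finite G] [Finite K]
    (πG : A →* G) (hπG : Function.Surjective πG) (qK : A →* K) (hqK : Function.Surjective qK) {d n : ℕ}
    (T : Representation ℂ A (Fin d → ℂ)) [hT : Representation.IsIrreducible (T.comp qK.ker.subtype)]
    (ρ : Representation ℂ K (Fin n → ℂ)) [ρ.IsIrreducible]
    (hker : ∀ e, πG e = 1 → ∃ c : ℂˣ, T e = (c : ℂ) • 1 ∧ ρ (qK e) = ((c⁻¹ : ℂˣ) : ℂ) • 1) :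
    ∃ χ : IrrCharacter G, ∀ e, (χ : G → ℂ) (πG e) = T.character e * ρ.character (qK e) := by
  classical
  haveI := Fintype.ofFinite A
  haveI := Fintype.ofFinite G
  haveI := Fintype.ofFinite K
  haveI := Fintype.ofFinite qK.ker
  let τ : A →* Module.End ℂ (TensorProduct ℂ (Fin d → ℂ) (Fin n → ℂ)) := Representation.tprod T (ρ.comp qK)
  have hτker : πG.ker ≤ MonoidHom.ker τ.toHomUnits := fun e he => by
    obtain ⟨c, h1, h2⟩ := hker e he
    rw [MonoidHom.mem_ker]
    refine Units.ext ?_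
    show TensorProduct.map (T e) (ρ (qK e)) = _
    rw [h1, h2, TensorProduct.map_smul_left, TensorProduct.map_smul_right, smul_smul, Units.mul_inv, one_smul]
    exact TensorProduct.map_id
  let R : Representation ℂ G (TensorProduct ℂ (Fin d → ℂ) (Fin n → ℂ)) :=
    (Units.coeHom _).comp (πG.liftOfSurjective hπG ⟨τ.toHomUnits, hτker⟩)
  have hR : ∀ e, (Representation.character R) (πG e) = T.character e * ρ.character (qK e) := fun e => by
    rw [Representation.character, show R (πG e) = τ e from congrArg Units.val (MonoidHom.liftOfRightInverse_comp_apply πG _ (Function.rightInverse_surjInv hπG) ⟨τ.toHomUnits, hτker⟩ e)]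
    exact congrFun (Representation.char_tensor (ρ := T) (σ := ρ.comp qK)) e
  have hTres : IsIrrCharacter qK.ker (fun n : qK.ker => T.character (n : A)) :=
    isIrrCharacter_character (T.comp qK.ker.subtype)
  have hTirr : IsIrrCharacter A T.character := by
    haveI := isIrreducible_of_comp qK.ker.subtype T hT
    exact isIrrCharacter_character T
  have havg : ∀ e : A, ∑ n : qK.ker, T.character ((n : A) * e) * conj (T.character ((n : A) * e)) = (Nat.card qK.ker : ℂ) := fun e => by
    have h := congrFun ((cosetAverage_spec qK.ker hTirr hTres hTirr).2.2 rfl) e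
    simp only [cosetAverage] at h
    rwa [inv_mul_eq_iff_eq_mul₀ (Nat.cast_ne_zero.2 Nat.card_pos.ne'), mul_one] at h
  refine ⟨⟨R.character, isIrrCharacter_iff.2 ⟨isCharacter_character R, ?_⟩⟩, hR⟩
  rw [← classInner_pullback πG hπG]
  have hK1 : classInner (fun e => ρ.character (qK e)) (fun e => ρ.character (qK e)) = 1 := by
    rw [classInner_pullback qK hqK]; exact IsIrrCharacter.classInner_self (isIrrCharacter_character ρ)
  rw [← hK1]
  simp only [classInner, hR]
  congr 1
  have hNE : (Nat.card qK.ker : ℂ) ≠ 0 := Nat.cast_ne_zero.2 Nat.card_pos.ne'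
  rw [← mul_right_inj' hNE, Finset.mul_sum Finset.univ (fun e => ρ.character (qK e) * conj (ρ.character (qK e))),
    Nat.card_eq_fintype_card, ← nsmul_eq_mul, ← Finset.card_univ, ← Finset.sum_const,
    Finset.sum_congr rfl fun (n : qK.ker) _ => (Fintype.sum_equiv (Equiv.mulLeft (n : A)) _ _ fun e => rfl).symm, Finset.sum_comm]
  refine Finset.sum_congr rfl fun e _ => ?_
  rw [Finset.card_univ, ← Nat.card_eq_fintype_card, ← havg e, Finset.sum_mul]
  refine Finset.sum_congr rfl fun n _ => ?_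
  simp only [Equiv.coe_mulLeft, map_mul, MonoidHom.mem_ker.1 n.2, one_mul]
  ring

/-- A coprime invariant constituent through a central extension. -/
theorem exists_invariant_over {Γ : Type u} [Group Γ] [Finite Γ] (G N : Subgroup Γ) [G.Normal] [N.Normal]
    [Fintype N] (hNG : N ≤ G) (hcop : G.index.Coprime (N.relIndex G))
    (hsolv : Group.IsSolvable (Γ ⧸ G) ∨ Group.IsSolvable (G ⧸ N.subgroupOf G)) (θ : IrrCharacter N)
    (hinv : ∀ x : Γ, Cfsg.Agent.Char.conjChar N x (θ : N → ℂ) = θ) :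
    ∃ χ : IrrCharacter G, classInner (fun n : N => (χ : G → ℂ) ⟨n, hNG n.2⟩) (θ : N → ℂ) ≠ 0 ∧
      ∀ (x : Γ) (g g' : G), (g' : Γ) = x * g * x⁻¹ → (χ : G → ℂ) g' = (χ : G → ℂ) g := by
  classical
  haveI := Fintype.ofFinite Γ
  obtain ⟨d, σ, hσ, hθ⟩ := θ.2
  haveI := hσ
  have hsurj : Function.Surjective (twistProj N σ) := twistProj_surjective N σ fun x => by
    rw [hθ]; exact hinv x
  obtain ⟨f, hf, hfN⟩ := hasSplit_index_self N σ hsurj
  set m := N.index with hm
  haveI : NeZero m := ⟨Subgroup.index_ne_zero_of_finite⟩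
  set H : Subgroup (twistGroup N σ) := f.ker with hH
  let π : H →* Γ := (twistProj N σ).comp H.subtype
  have hπ : Function.Surjective π := fun x => by
    obtain ⟨e, he⟩ := hsurj x
    obtain ⟨w, hw⟩ := IsAlgClosed.exists_pow_nat_eq (k := ℂ) ((f e : ℂ)⁻¹) (NeZero.pos m)
    have hw0 : w ≠ 0 := fun h0 => by
      rw [h0, zero_pow (NeZero.ne m)] at hw
      exact inv_ne_zero (Units.ne_zero (f e)) hw.symm
    refine ⟨⟨twistScalar N σ (Units.mk0 w hw0) * e, MonoidHom.mem_ker.2 (Units.ext ?_)⟩, ?_⟩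
    · rw [map_mul, hf, zpow_natCast, Units.val_mul, Units.val_pow_eq_pow_val, Units.val_mk0, hw,
        inv_mul_cancel₀ (Units.ne_zero _), Units.val_one]
    · show twistProj N σ (twistScalar N σ (Units.mk0 w hw0) * e) = x
      rw [map_mul, twistProj_scalar, one_mul, he]
  let sc : rootsOfUnity m ℂ →* H :=
    ((twistScalar N σ).comp (rootsOfUnity m ℂ).subtype).codRestrict H fun r => MonoidHom.mem_ker.2 (by
      rw [MonoidHom.comp_apply, hf, zpow_natCast]; exact r.2)
  have hπsc : ∀ r, π (sc r) = 1 := fun r => rfl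
  have hker : ∀ e : H, π e = 1 → ∃ r, sc r = e := fun e he => by
    obtain ⟨z, hz⟩ := exists_scalar_of_twistProj N σ (e := (e : twistGroup N σ)) he
    refine ⟨⟨z, ?_⟩, Subtype.ext hz.symm⟩
    rw [mem_rootsOfUnity]
    have h := MonoidHom.mem_ker.1 e.2
    rwa [hz, hf, zpow_natCast] at h
  haveI : Finite H := by
    haveI : Finite π.ker := Finite.of_surjective (fun r : rootsOfUnity m ℂ => (⟨sc r, hπsc r⟩ : π.ker))
      fun e => (hker e.1 e.2).imp fun r hr => Subtype.ext hr
    haveI : Finite (H ⧸ π.ker) := Finite.of_injective _ (QuotientGroup.kerLift_injective π)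
    exact Finite.of_equiv _ (Subgroup.groupEquivQuotientProdSubgroup (s := π.ker)).symm
  let em : N →* H := (twistEmb N σ).codRestrict H fun n => MonoidHom.mem_ker.2 (hfN n)
  have hπem : ∀ n, π (em n) = n := fun n => rfl
  haveI : em.range.Normal := ⟨by
    rintro _ ⟨n, rfl⟩ e
    exact ⟨MulAut.conjNormal (π e) n, Subtype.ext (conj_twistEmb N σ (e : twistGroup N σ) n).symm⟩⟩
  let q : H →* H ⧸ em.range := QuotientGroup.mk' em.range
  let pb : H ⧸ em.range →* Γ ⧸ N := QuotientGroup.lift em.range ((QuotientGroup.mk' N).comp π) (by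
    rintro _ ⟨n, rfl⟩
    exact MonoidHom.mem_ker.2 ((QuotientGroup.eq_one_iff _).2 (by rw [hπem]; exact n.2)))
  have hpb : ∀ e, pb (q e) = (π e : Γ ⧸ N) := fun e => rfl
  set W := pb.ker with hWdef
  have hWr : ∀ w ∈ W, ∃ r, q (sc r) = w := fun w hw => by
    obtain ⟨e, rfl⟩ := QuotientGroup.mk'_surjective em.range w
    have h1 : π e ∈ N := (QuotientGroup.eq_one_iff _).1 (MonoidHom.mem_ker.1 hw)
    obtain ⟨r, hr⟩ := hker (e * (em ⟨_, h1⟩)⁻¹) (by rw [map_mul, map_inv, hπem, mul_inv_cancel])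
    refine ⟨r, ?_⟩
    rw [hr, map_mul, map_inv, show q (em ⟨_, h1⟩) = 1 from (QuotientGroup.eq_one_iff _).2 ⟨_, rfl⟩, inv_one, mul_one]
  have hscW : ∀ r, q (sc r) ∈ W := fun r => MonoidHom.mem_ker.2 (by rw [hpb, hπsc, QuotientGroup.mk_one])
  have hWc : W ≤ Subgroup.center _ := fun w hw => by
    obtain ⟨r, rfl⟩ := hWr w hw
    rw [Subgroup.mem_center_iff]
    intro y
    obtain ⟨e, rfl⟩ := QuotientGroup.mk'_surjective em.range y
    rw [← map_mul, ← map_mul]
    exact congrArg q (Subtype.ext (twistScalar_comm N σ _ _).symm)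
  have hinjsc : ∀ r, q (sc r) = 1 → r = 1 := fun r hr => by
    obtain ⟨n, hn⟩ := (QuotientGroup.eq_one_iff _).1 hr
    have h1 := congrArg π hn
    rw [hπem, hπsc] at h1
    have h2 : n = 1 := Subtype.ext h1
    rw [h2, map_one] at hn
    exact Subtype.ext (twistScalar_injective N σ
      ((congrArg Subtype.val hn.symm).trans (map_one (twistScalar N σ)).symm))
  -- the layer
  set a := G.index with ha
  set b := N.relIndex G with hb
  have hmab : b * a = m := Subgroup.relIndex_mul_index hNG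
  set Gb : Subgroup (Γ ⧸ N) := G.map (QuotientGroup.mk' N) with hGb
  haveI : Gb.Normal := (inferInstance : G.Normal).map _ (QuotientGroup.mk'_surjective N)
  have hGbmem : ∀ x : Γ, (x : Γ ⧸ N) ∈ Gb ↔ x ∈ G := fun x => by
    refine ⟨fun ⟨g, hg, hgx⟩ => ?_, fun h => ⟨x, h, rfl⟩⟩
    have h2 : g⁻¹ * x ∈ N := QuotientGroup.eq.1 hgx
    simpa using G.mul_mem hg (hNG h2)
  have hGbcard : Nat.card Gb = b := by
    have h := Subgroup.relIndex_ker (f := QuotientGroup.mk' N) G
    rw [QuotientGroup.ker_mk'] at h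
    exact h.symm
  set L := Gb.comap pb with hL
  haveI : L.Normal := Subgroup.Normal.comap inferInstance pb
  have hWL : W.relIndex L ∣ b := by
    rw [hWdef, Subgroup.relIndex_ker, ← hGbcard]
    exact Subgroup.card_dvd_of_le (Subgroup.map_le_iff_le_comap.2 le_rfl)
  obtain ⟨K, hKn, hK⟩ := exists_power_kernel L W hWc hWL
  haveI := hKn
  have hWm : ∀ w ∈ W, w ^ m = 1 := fun w hw => by
    obtain ⟨r, rfl⟩ := hWr w hw
    rw [← map_pow, ← map_pow, show r ^ m = 1 from Subtype.ext r.2, map_one, map_one]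
  have hLb : ∀ x ∈ L, x ^ b ∈ W := fun x hx => by
    rw [hWdef, MonoidHom.mem_ker, map_pow]
    have h : (⟨pb x, hx⟩ : Gb) ^ Nat.card Gb = 1 := pow_card_eq_one'
    rw [hGbcard] at h
    exact congrArg Subtype.val h
  have hKcop : (Nat.card K).Coprime a :=
    card_coprime_of_pow (n := b * b) (fun x => Subtype.ext ((hK x).1 x.2).2) (Nat.Coprime.mul_left hcop.symm hcop.symm)
  have hQK : ∀ x : H ⧸ em.range, x ^ (a * a) ∈ K := fun x => by
    have h1 : x ^ a ∈ L := by
      obtain ⟨e, rfl⟩ := QuotientGroup.mk'_surjective em.range x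
      rw [hL, Subgroup.mem_comap, map_pow]
      rw [hpb, ← QuotientGroup.mk_pow]; exact (hGbmem _).2 (G.pow_index_mem _)
    refine (hK _).2 ⟨by rw [pow_mul]; exact L.pow_mem h1 a, ?_⟩
    calc (x ^ (a * a)) ^ (b * b) = ((x ^ a) ^ b) ^ (b * a) := by simp only [← pow_mul]; ring_nf
      _ = 1 := by rw [hmab]; exact hWm _ (hLb _ h1)
  have hidxcop : K.index.Coprime (Nat.card K) := by
    rw [Subgroup.index_eq_card]
    refine card_coprime_of_pow (n := a * a) (fun x => ?_) (Nat.Coprime.mul_left hKcop.symm hKcop.symm)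
    obtain ⟨x, rfl⟩ := QuotientGroup.mk_surjective x
    exact (QuotientGroup.eq_one_iff _).2 (hQK x)
  obtain ⟨S, hS⟩ := Subgroup.exists_right_complement'_of_coprime hidxcop.symm
  have hKL : ∀ x ∈ K, x ∈ L := fun x hx => ((hK x).1 hx).1
  haveI := Fintype.ofFinite K
  have hKsurj : ∀ g ∈ G, ∃ e : H, q e ∈ K ∧ π e = g := by
    intro g hg
    obtain ⟨e, he⟩ := hπ g
    have hx : q e ∈ L := by rw [hL, Subgroup.mem_comap, hpb, he]; exact (hGbmem g).2 hg
    obtain ⟨c, -, hc⟩ := Nat.exists_mul_mod_eq_of_coprime (r := 1)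
      (Nat.Coprime.mul_left (k := a) (m := b) (n := b) hcop.symm hcop.symm) Subgroup.index_ne_zero_of_finite
    have hbW : (q e) ^ (b * b) ∈ W := by rw [pow_mul]; exact W.pow_mem (hLb _ hx) b
    obtain ⟨r, hr⟩ := hWr _ (W.pow_mem hbW c)
    refine ⟨e * (sc r)⁻¹, ?_, by rw [map_mul, map_inv, hπsc, inv_one, mul_one, he]⟩
    have hmem : q e * (q (sc r))⁻¹ ∈ L :=
      L.mul_mem hx (L.inv_mem (by rw [hL, Subgroup.mem_comap, MonoidHom.mem_ker.1 (hscW r)]; exact Gb.one_mem))
    rw [map_mul, map_inv]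
    refine (hK _).2 ⟨hmem, ?_⟩
    have hord : ((q e) ^ (b * b)) ^ a = 1 := by
      calc ((q e) ^ (b * b)) ^ a = ((q e) ^ b) ^ (b * a) := by simp only [← pow_mul]; ring_nf
        _ = 1 := by rw [hmab]; exact hWm _ (hLb _ hx)
    rw [Commute.mul_pow (Commute.inv_right (Subgroup.mem_center_iff.1 (hWc (hscW r)) (q e))), inv_pow, hr,
      mul_inv_eq_one, ← pow_mul ((q e) ^ (b * b)), mul_comm c, pow_eq_pow_mod ((b * b) * c) hord, hc,
      ← pow_eq_pow_mod 1 hord, pow_one]
  have hSidx : Nat.card S = K.index := (hS.symm.index_eq_card).symm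
  have hcopKS : (Nat.card K).Coprime (Nat.card S) := by rw [hSidx]; exact hidxcop.symm
  set Z : Subgroup (H ⧸ em.range) := W ⊓ K with hZ
  let rZ : Z → rootsOfUnity m ℂ := fun z => (hWr _ z.2.1).choose
  have hrZ : ∀ z : Z, q (sc (rZ z)) = (z : H ⧸ em.range) := fun z => (hWr _ z.2.1).choose_spec
  have hrinj : ∀ r r', q (sc r) = q (sc r') → r = r' := fun r r' h => by
    rw [← div_eq_one]; exact hinjsc _ (by rw [map_div, map_div, h, div_self'])
  let l : Z →* ℂˣ := MonoidHom.mk' (fun z => ((rZ z : ℂˣ))⁻¹) fun x y => by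
    rw [show rZ (x * y) = rZ x * rZ y from hrinj _ _ (by rw [hrZ, map_mul, map_mul, hrZ, hrZ]; rfl),
      Subgroup.coe_mul, mul_inv]
  have hsolv' : Group.IsSolvable S ∨ ∀ [(Z.subgroupOf K).Normal], Group.IsSolvable (K ⧸ Z.subgroupOf K) := by
    rcases hsolv with h | h
    · refine Or.inl ?_
      let toA : Γ ⧸ N →* Γ ⧸ G := QuotientGroup.lift N (QuotientGroup.mk' G) fun n hn => by
        rw [MonoidHom.mem_ker]; exact (QuotientGroup.eq_one_iff _).2 (hNG hn)
      let φ : S →* Γ ⧸ G := (toA.comp pb).comp S.subtype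
      have hφ : φ.ker ≤ Subgroup.center S := fun s hs => by
        obtain ⟨e, he⟩ := QuotientGroup.mk'_surjective em.range (s : H ⧸ em.range)
        have hs0 : toA (pb (s : H ⧸ em.range)) = 1 := hs
        rw [← he] at hs0
        have hsL : (s : H ⧸ em.range) ∈ L := by
          rw [← he, hL, Subgroup.mem_comap]
          exact (hGbmem _).2 ((QuotientGroup.eq_one_iff _).1 hs0)
        have hcb : (Nat.card S).Coprime b := by
          rw [hSidx, Subgroup.index_eq_card]
          refine card_coprime_of_pow (n := a * a) (fun x => ?_) (Nat.Coprime.mul_left hcop hcop)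
          obtain ⟨x, rfl⟩ := QuotientGroup.mk_surjective x
          exact (QuotientGroup.eq_one_iff _).2 (hQK x)
        obtain ⟨j, hj⟩ : ∃ j : ℕ, (s ^ b) ^ j = s :=
          exists_pow_eq_self_of_coprime (hcb.symm.coprime_dvd_right (orderOf_dvd_natCard s))
        refine Subgroup.mem_center_iff.2 fun t => Subtype.ext (Subgroup.mem_center_iff.1 (hWc ?_) t)
        rw [← hj]
        simpa using W.pow_mem (hLb _ hsL) j
      haveI := h
      haveI : Group.IsSolvable φ.ker := Group.isSolvable_of_comm fun x y =>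
        Subtype.ext (Subgroup.mem_center_iff.1 (hφ y.2) x)
      exact Group.isSolvable_of_ker_le_range φ.ker.subtype φ (by rw [Subgroup.range_subtype])
    · refine Or.inr fun {_} => ?_
      haveI := h
      haveI : Group.IsSolvable Gb := by
        refine Group.isSolvable_of_surjective (f := QuotientGroup.lift (N.subgroupOf G) ((QuotientGroup.mk' N).subgroupMap G)
          fun x hx => MonoidHom.mem_ker.2 (Subtype.ext ((QuotientGroup.eq_one_iff _).2 hx))) ?_
        exact QuotientGroup.lift_surjective_of_surjective _ _ (MonoidHom.subgroupMap_surjective _ _) _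
      let φ : K →* Gb := (pb.comp K.subtype).codRestrict Gb fun x => hKL _ x.2
      refine Group.isSolvable_of_isSolvable_injective (f := QuotientGroup.lift (Z.subgroupOf K) φ fun z hz =>
        MonoidHom.mem_ker.2 (Subtype.ext (MonoidHom.mem_ker.1 (Subgroup.mem_subgroupOf.1 hz).1))) ?_
      rw [injective_iff_map_eq_one]
      intro x
      obtain ⟨x, rfl⟩ := QuotientGroup.mk_surjective x
      intro hx
      exact (QuotientGroup.eq_one_iff _).2 (Subgroup.mem_subgroupOf.2 ⟨MonoidHom.mem_ker.2 (congrArg Subtype.val hx), x.2⟩)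
  obtain ⟨n, ρ, hρ, hscal, hinvρ⟩ := exists_invariant_central K S Z hS hcopKS inf_le_right (inf_le_left.trans hWc) hsolv' l
  haveI := hρ
  set G1 : Subgroup H := K.comap q with hG1
  have hG1G : ∀ e : G1, π e ∈ G := fun e => (hGbmem _).1 (hKL _ e.2)
  let πG : G1 →* G := (π.comp G1.subtype).codRestrict G hG1G
  have hπG : Function.Surjective πG := fun g => by
    obtain ⟨e, he, heg⟩ := hKsurj g g.2
    exact ⟨⟨e, he⟩, Subtype.ext heg⟩
  let qK : G1 →* K := (q.comp G1.subtype).codRestrict K fun e => e.2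
  have hqKs : Function.Surjective qK := fun k => by
    obtain ⟨e, he⟩ := QuotientGroup.mk'_surjective em.range (k : H ⧸ em.range)
    exact ⟨⟨e, show q e ∈ K from (show q e = _ from he) ▸ k.2⟩, Subtype.ext he⟩
  let T : Representation ℂ G1 (Fin d → ℂ) :=
    (Units.coeHom _).comp ((MonoidHom.snd Γ _).comp ((twistGroup N σ).subtype.comp (H.subtype.comp G1.subtype)))
  have hemq : ∀ n, q (em n) = 1 := fun n => (QuotientGroup.eq_one_iff _).2 ⟨n, rfl⟩
  let eN : N →* qK.ker := (em.codRestrict G1 fun n => show q (em n) ∈ K by rw [hemq]; exact K.one_mem).codRestrict qK.ker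
    fun n => MonoidHom.mem_ker.2 (Subtype.ext (hemq n))
  haveI : Representation.IsIrreducible (T.comp qK.ker.subtype) := isIrreducible_of_comp eN _ hσ
  obtain ⟨χ, hχ⟩ := exists_descended_product πG hπG qK hqKs T ρ fun e he => by
    obtain ⟨r, hr⟩ := hker (e : H) (congrArg Subtype.val he)
    have hqr : q (sc r) = (qK e : H ⧸ em.range) := by rw [hr]; rfl
    let z : Z := ⟨(qK e : H ⧸ em.range), ⟨hqr ▸ hscW r, (qK e).2⟩⟩
    have hz : rZ z = r := hrinj _ _ ((hrZ z).trans hqr.symm)
    refine ⟨(r : ℂˣ), ?_, ?_⟩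
    · show (((e : H) : twistGroup N σ).1.2 : Module.End ℂ (Fin d → ℂ)) = _
      rw [← hr]
      exact Algebra.algebraMap_eq_smul_one _
    · refine (hscal z).trans ?_
      rw [show l z = ((rZ z : ℂˣ))⁻¹ from rfl, hz]
  refine ⟨χ, ?_, fun x g g' hgg => ?_⟩
  · have hRN : (fun n : N => (χ : G → ℂ) ⟨n, hNG n.2⟩) = ρ.character 1 • (θ : N → ℂ) := funext fun n => by
      rw [show (⟨n, hNG n.2⟩ : G) = πG (eN n : G1) from rfl, hχ, MonoidHom.mem_ker.1 (eN n).2,
        show T.character (eN n : G1) = σ.character n from rfl, hθ, Pi.smul_apply, smul_eq_mul, mul_comm]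
    rw [hRN, classInner_smul_left, IsIrrCharacter.classInner_self θ.2, mul_one]
    exact IsIrrCharacter.apply_one_ne_zero (isIrrCharacter_character ρ)
  · obtain ⟨e, rfl⟩ := hπG g
    obtain ⟨xe, rfl⟩ := hπ x
    have he' : xe * (e : H) * xe⁻¹ ∈ G1 := by
      show q _ ∈ K
      rw [map_mul, map_mul, map_inv]
      exact hKn.conj_mem _ e.2 _
    rw [show g' = πG ⟨_, he'⟩ from Subtype.ext (hgg.trans (show π xe * π (e : H) * (π xe)⁻¹ = π (xe * (e : H) * xe⁻¹) by rw [map_mul, map_mul, map_inv])), hχ, hχ,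
      hinvρ (q xe) (qK e) (qK ⟨_, he'⟩) (show q (xe * (e : H) * xe⁻¹) = q xe * q (e : H) * (q xe)⁻¹ by rw [map_mul, map_mul, map_inv])]
    congr 1
    show LinearMap.trace ℂ _ (((xe * (e : H) * xe⁻¹ : H) : twistGroup N σ).1.2 : Module.End ℂ (Fin d → ℂ)) =
      LinearMap.trace ℂ _ (((e : H) : twistGroup N σ).1.2 : Module.End ℂ (Fin d → ℂ))
    simp only [Subgroup.coe_mul, Subgroup.coe_inv, Prod.snd_mul, Prod.snd_inv, Units.val_mul]
    rw [LinearMap.trace_mul_comm, ← mul_assoc, Units.inv_mul, one_mul]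

end Cfsg.Agent.Block
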