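import Cfsg.Agent.Lib.Block.PairFusion

/-!
# The block of the stabiliser of a subpair
-/

set_option autoImplicit false

open Cfsg.Agent.Char
open scoped ComplexConjugate Pointwise

namespace Cfsg.Agent.Block

universe u

local notation "CG(" P ")" => Subgroup.centralizer (SetLike.coe P)

variable {G : Type u} [Group G] [Finite G] {M : Ideal AlgInt} [hMp : M.IsPrime] {p : ℕ}

theorem eq_of_blockCoeff_eq {B B' : Set (IrrCharacter G)}
    (h : ∀ g, blockCoeff B g = blockCoeff B' g) : B = B' := by
  classical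
  have he : blockIdem B = blockIdem B' :=
    MonoidAlgebra.ext (Finsupp.ext fun g => by simp only [← coeff_blockIdem]; exact h g)
  ext χ
  have h1 : omega (χ : G → ℂ) (blockIdem B) = omega (χ : G → ℂ) (blockIdem B') := by rw [he]
  rw [omega_blockIdem, omega_blockIdem] at h1
  by_cases a : χ ∈ B <;> by_cases b : χ ∈ B' <;> simp_all

theorem embH_resH_of_support {T : Subgroup G} {a : MonoidAlgebra ℂ G}
    (h : ∀ g, g ∉ T → a.coeff g = 0) : embH T (resH T a) = a :=
  MonoidAlgebra.ext (Finsupp.ext fun g => by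
    by_cases hg : g ∈ T
    · rw [show g = ((⟨g, hg⟩ : T) : G) from rfl, coeff_embH, coeff_resH]
    · rw [coeff_embH_of_notMem _ _ hg, h g hg])

variable [Fact p.Prime] {Q T : Subgroup G}
  {f : Set (IrrCharacter (Subgroup.centralizer (Q : Set G)))}

theorem exists_stab_block (hM : IsPModular p M) (hQ : IsPGroup p Q) (hQT : Q ≤ T)
    (hTN : T ≤ Subgroup.normalizer (Q : Set G)) (hCT : Subgroup.centralizer (Q : Set G) ≤ T)
    (hf : IsPBlock M f)
    (hst : ∀ t ∈ T, ∃ ht : t ∈ Subgroup.normalizer (Subgroup.centralizer (Q : Set G) : Set G),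
      conjBlk ht f = f) :
    ∃ F : Set (IrrCharacter T), IsPBlock M F ∧
      ∀ t : T, blockCoeff F t = subgroupBlockCoeff (Subgroup.centralizer (Q : Set G)) f (t : G) := by
  classical
  obtain ⟨ξ, hξ⟩ := isPBlock_nonempty hf
  set a := embH CG(Q) (blockIdem f) with ha
  have hsupp : ∀ g, g ∉ T → a.coeff g = 0 := fun g hg =>
    coeff_embH_of_notMem _ _ fun h => hg (hCT h)
  have haT : PS M T a := ps_embH_blockIdem hf hst
  set r := resH T a with hr
  have hrcl : CL M r := cl_resH haT
  have hemb : embH T r = a := embH_resH_of_support hsupp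
  have haa : a * a = a := by rw [ha, ← embH_mul, blockIdem_mul_self]
  have hrr : r * r = r := by
    rw [← resH_embH T (r * r), embH_mul, hemb, haa]
  have hresf : resH CG(Q) a = blockIdem f := resH_embH _ _
  have hfac := Factors.of_le_centralizer (M := M) (le_refl CG(Q)) ξ
  obtain ⟨c, hc⟩ := exists_above' hM hQ (Or.inr (le_refl CG(Q))) hQT le_rfl hCT hfac
  refine ⟨c, hc.isBlock, fun t => ?_⟩
  have hself : lam M CG(Q) ξ (embH T r) = 1 := by
    rw [hemb, lam, hresf, ro_blockIdem_mem hξ]
  suffices hrc : r = blockIdem c by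
    rw [coeff_blockIdem, ← hrc, hr, coeff_resH, coe_subgroupBlockCoeff]
  refine eq_of_omega_eq hrcl.1 (isCentralElt_blockIdem c) fun η => ?_
  have h01 : omega (η : T → ℂ) r = 0 ∨ omega (η : T → ℂ) r = 1 := by
    have := omega_mul η hrcl.1 hrcl.1
    rw [hrr] at this
    exact mul_right_eq_self₀.1 this.symm |>.symm
  rw [omega_blockIdem]
  split
  next hη =>
    have h1 : ro M η r = 1 := by rw [← hc.eq η hη r hrcl, hself]
    rcases h01 with h | h
    · rw [ro, h, resC_zero] at h1; exact absurd h1 zero_ne_one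
    · exact h
  next hη =>
    rcases h01 with h | h
    · exact h
    exfalso
    have hF := isPBlock_blockOf (M := M) η
    set b := blockIdem (blockOf M (η : T → ℂ)) with hb
    have hcomega : ∀ ψ : IrrCharacter T, ψ ∈ blockOf M (η : T → ℂ) → omega (ψ : T → ℂ) r = 1 := by
      intro ψ hψ
      have h01' : omega (ψ : T → ℂ) r = 0 ∨ omega (ψ : T → ℂ) r = 1 := by
        have := omega_mul ψ hrcl.1 hrcl.1
        rw [hrr] at this
        exact mul_right_eq_self₀.1 this.symm |>.symm
      rcases h01' with h' | h'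
      · have := ro_congr hF hψ (self_mem_blockOf η) hrcl
        rw [ro, ro, h', h, resC_zero, resC_one] at this
        exact absurd this zero_ne_one
      · exact h'
    have hbr : r * b = b := by
      refine eq_of_omega_eq (hrcl.1.mul (isCentralElt_blockIdem _)) (isCentralElt_blockIdem _)
        fun ψ => ?_
      rw [omega_mul ψ hrcl.1 (isCentralElt_blockIdem _), hb, omega_blockIdem]
      split
      next hψ => rw [hcomega ψ hψ, mul_one]
      · rw [mul_zero]
    have hbcl : CL M b := CL.blockIdem hF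
    have hbT : PS M T (embH T b) := ps_embH hbcl le_rfl
    have hbQ : PS M Q (embH T b) := hbT.mono hQT
    haveI : (Q.subgroupOf T).Normal := (Subgroup.normal_subgroupOf_iff_le_normalizer hQT).2 hTN
    obtain ⟨y, hy, hyu⟩ := exists_coeff_unit_centralizer hM hF (Q.subgroupOf T) hQ.comap_subtype
    have hbne : brFun M Q (embH T b) ≠ 0 := fun h0 => hyu (by
      have hyC : (y : G) ∈ CG(Q) := Subgroup.mem_centralizer_iff.2 fun q hq =>
        congrArg Subtype.val (Subgroup.mem_centralizer_iff.1 hy ⟨q, hQT hq⟩ hq)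
      have := (brFun_eq_zero_iff (isLocElt_embH T hbcl.2)).1 h0 _ hyC
      rw [coeff_embH] at this
      rwa [coeff_blockIdem])
    have hzC : PS M CG(Q) (embH T b) := hbT.mono hCT
    obtain ⟨ξ', hξ'⟩ := exists_ro_ne_zero hM hQ (cl_resH hzC)
      (ps_embH_centralizer (cl_resH hzC).2 le_rfl) (by
        rw [brFun_embH_resH le_rfl]
        show _ * _ = _
        rw [← brFun_mul hM hQ hbQ hbQ, ← embH_mul, hb, blockIdem_mul_self])
      (by rw [brFun_embH_resH le_rfl]; exact hbne)
    have hmem : ξ' ∈ f := by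
      by_contra hn
      have h2 := lam_mul hM hQ (le_refl CG(Q)) (Or.inr le_rfl)
        (Factors.of_le_centralizer (M := M) (le_refl CG(Q)) ξ') (haT.mono hQT) (haT.mono hCT) hbQ hzC
      rw [← hemb, ← embH_mul, hbr, hemb] at h2
      rw [lam, lam, hresf, ro_blockIdem_notMem hn, zero_mul] at h2
      exact hξ' h2
    refine hξ' ?_
    rw [ro_congr hf hmem hξ (cl_resH hzC)]
    obtain ⟨η', hη'⟩ := isPBlock_nonempty hc.isBlock
    show lam M CG(Q) ξ (embH T b) = 0
    rw [hc.eq η' hη' b hbcl, hb, ro_blockIdem_notMem fun h' =>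
      hη (isPBlock_eq_of_mem hc.isBlock hF hη' h' ▸ self_mem_blockOf η)]

theorem exists_defectGroup_stab (hM : IsPModular p M) {R : Subgroup G}
    {g : Set (IrrCharacter (Subgroup.centralizer (R : Set G)))}
    (h : IsNormalSubpair p M Q f R g) (hRT : R ≤ T)
    (hCT : Subgroup.centralizer (Q : Set G) ≤ T) {F : Set (IrrCharacter T)} (hF : IsPBlock M F)
    (hco : ∀ t : T, blockCoeff F t = subgroupBlockCoeff (Subgroup.centralizer (Q : Set G)) f (t : G)) :
    ∃ D : Subgroup T, IsDefectGroup p M F D ∧ R.subgroupOf T ≤ D := by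
  obtain ⟨η, hη⟩ := isPBlock_nonempty h.2.1.2
  have hne : brFun M R (embH CG(Q) (blockIdem f)) ≠ 0 := fun h0 => by
    have h1 := IsNormalSubpair.lam_eq_one h hη
    rw [lam, Factors.of_le_centralizer le_rfl η _
      (cl_resH (ps_embH (CL.blockIdem h.1.2) (centralizer_le_of_le h.2.2.1)))
      (by rw [brFun_embH_resH le_rfl, h0])] at h1
    exact zero_ne_one h1
  obtain ⟨y, hy, hyu⟩ :=
    exists_unit_coeff_of_brFun_ne_zero (isLocElt_embH _ (isLocElt_blockIdem h.1.2)) hne
  have hyT : y ∈ T := hCT (centralizer_le_of_le h.2.2.1 hy)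
  obtain ⟨D, hD⟩ := exists_isDefectGroup (p := p) hF
  have hyu' : ¬ MemLocalIdeal M (blockCoeff F ⟨y, hyT⟩) := by
    rw [hco, coe_subgroupBlockCoeff]; exact hyu
  obtain ⟨z, hz⟩ := defectLE_of_coeff_unit hM hF hD hyu' (R.subgroupOf T) h.2.1.1.comap_subtype
    (fun q hq => by
      rw [mem_centralizer_singleton]
      exact Subtype.ext (Subgroup.mem_centralizer_iff.1 hy (q : G) hq).symm)
  exact ⟨_, isDefectGroup_map_conj hD z⁻¹, (map_conj_le_iff _ _ z).1 hz⟩

end Cfsg.Agent.Block
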