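import Cfsg.Agent.Lib.Block.PairFusion
import Cfsg.Agent.Lib.Block.StabBlock
import Cfsg.Agent.Lib.Block.CentralExtDefect
import Cfsg.Agent.Lib.Fusion.Saturation

/-!
# Centric pairs normalised by the whole group
-/

set_option autoImplicit false

open Cfsg.Agent.Char
open scoped ComplexConjugate Pointwise

namespace Cfsg.Agent.Block

universe u

local notation "CG(" P ")" => Subgroup.centralizer (SetLike.coe P)

variable {G : Type u} [Group G] [Finite G] {M : Ideal AlgInt} [hMp : M.IsPrime] {p : ℕ}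
  [Fact p.Prime] {B : Set (IrrCharacter G)} {P Q : Subgroup G}
  {e : Set (IrrCharacter (Subgroup.centralizer (P : Set G)))}
  {f : Set (IrrCharacter (Subgroup.centralizer (Q : Set G)))}

/-- A pair stable in the whole group carries the idempotent of its block. -/
theorem blockCoeff_eq_of_stable (hM : IsPModular p M) (hQf : IsBrauerPairOf p M B Q f) [hQn : Q.Normal]
    (hst : ∀ t : G, ∃ ht : t ∈ Subgroup.normalizer (Subgroup.centralizer (Q : Set G) : Set G),
      conjBlk ht f = f) (g : G) :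
    blockCoeff B g = subgroupBlockCoeff (Subgroup.centralizer (Q : Set G)) f g := by
  have hQ := hQf.1.1
  have hf := hQf.1.2
  obtain ⟨F, hF, hco⟩ := exists_stab_block hM hQ (le_top : Q ≤ ⊤)
    (fun x _ => by
      rw [Subgroup.mem_normalizer_iff]
      exact fun y => ⟨fun hy => hQn.conj_mem y hy x, fun hy => by
        simpa [mul_assoc] using hQn.conj_mem _ hy x⁻¹⟩) le_top hf fun t _ => hst t
  set F₀ := compIrr (Subgroup.topEquiv (G := G)).symm '' F
  have hF₀ : IsPBlock M F₀ := isPBlock_comp _ hF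
  have hco₀ : ∀ x : G, blockCoeff F₀ x = subgroupBlockCoeff CG(Q) f x := fun x => by
    rw [blockCoeff_comp, hco]; rfl
  suffices hB : B = F₀ by rw [hB, hco₀]
  obtain ⟨ξ, hξ⟩ := isPBlock_nonempty hf
  refine (isResHom_lam_centralizer hM hQ ξ).eq_of_ne_zero hQf.2.1 hF₀ ?_ ?_
  · rw [((isBrauerPairOf_iff hξ).1 hQf).2.2]; exact one_ne_zero
  · rw [lam, show resH CG(Q) (blockIdem F₀) = blockIdem f from MonoidAlgebra.ext (Finsupp.ext fun c => by
      rw [coeff_resH, ← coeff_blockIdem, hco₀, coe_subgroupBlockCoeff, coeff_embH]),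
      ro_blockIdem_mem hξ]
    exact one_ne_zero

/-- The block of `Q C(Q)` under a centric pair is nilpotent. -/
theorem exists_nilpotent_sup (hM : IsPModular p M) (hmax : IsMaximalBrauerPair p M B P e)
    {F : FusionSystem P} (hle : SubpairLE p M Q f P e) [hQn : Q.Normal]
    (hcen : F.IsCentric Q) :
    ∃ F' : Set (IrrCharacter ↥(Q ⊔ Subgroup.centralizer (Q : Set G))), IsPBlock M F' ∧
      (∀ t : ↥(Q ⊔ Subgroup.centralizer (Q : Set G)),
        blockCoeff F' t = subgroupBlockCoeff (Subgroup.centralizer (Q : Set G)) f (t : G)) ∧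
      IsNilpotentBlock p M F' := by
  have hpair := (SubpairLE.pairOf_iff hM hle B).1 hmax.1
  have hQ := hpair.1.1
  set L := Q ⊔ Subgroup.centralizer (Q : Set G) with hL
  have hQL : Q ≤ L := le_sup_left
  have hCL : CG(Q) ≤ L := le_sup_right
  obtain ⟨F', hF', hco⟩ := exists_stab_block hM hQ hQL (sup_centralizer_le_normalizer Q) hCL hpair.1.2
    fun t ht => conjBlk_of_mem_sup ht
  refine ⟨F', hF', hco, hF', fun R r hR x _ _ hreg => ?_⟩
  obtain ⟨D, hD⟩ := exists_isDefectGroup (p := p) hF'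
  haveI : (Q.subgroupOf L).Normal := hQn.subgroupOf L
  have hQD : Q.subgroupOf L ≤ D := pCore_le_defectGroup hM hF' hD _ hQ.comap_subtype
  -- the defect group is `Q`
  have hDQ : D ≤ Q.subgroupOf L := by
    have hDL : D.map L.subtype ≤ L := Subgroup.map_subtype_le D
    have hQD' : Q ≤ D.map L.subtype := fun q hq => ⟨⟨q, hQL hq⟩, hQD hq, rfl⟩
    obtain ⟨g, hg, S, hS⟩ := id hD
    have hne : brFun M (D.map L.subtype) (embH CG(Q) (blockIdem f)) ≠ 0 := fun h0 => by
      have hy : (g : G) ∈ Subgroup.centralizer ((D.map L.subtype : Subgroup G) : Set G) := by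
        refine mem_centralizer_subgroup.2 ?_
        rintro _ ⟨u, hu, rfl⟩
        rw [mem_centralizer_singleton]
        exact (mem_centralizer_singleton.1 (sylowImage_le S (hS.le hu))).map L.subtype
      have h1 := (brFun_eq_zero_iff (isLocElt_embH _ (isLocElt_blockIdem hpair.1.2))).1 h0 _ hy
      rw [← coe_subgroupBlockCoeff, ← hco] at h1
      exact hg.2.1 h1
    obtain ⟨e', he'⟩ := exists_extension hM hpair.1 ((isPGroup_of_isDefectGroup hD).map _) hQD'
      (hDL.trans (sup_centralizer_le_normalizer Q)) (fun q hq => conjBlk_of_mem_sup (hDL hq)) hne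
    obtain ⟨z, hz⟩ := exists_conj_le_maximal hM hmax ((IsNormalSubpair.pairOf_iff hM he' B).2 hpair)
    have hzP := SubpairLE.le hz
    have hQP : Q ≤ P := SubpairLE.le hle
    have hCP : P ⊓ CG(Q) ≤ Q := hcen.2 Q (Cfsg.Agent.Fusion.isConj_refl hQP)
    have hle' : (D.map L.subtype).map (MulAut.conj z).toMonoidHom ≤ Q := by
      rintro _ ⟨d, hd, rfl⟩
      have hdL : d ∈ ((Q ⊔ CG(Q) : Subgroup G) : Set G) := hDL hd
      rw [Subgroup.coe_mul_of_right_le_normalizer_left Q _ (centralizer_le_normalizer' Q)] at hdL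
      obtain ⟨q, hq, c, hc, rfl⟩ := hdL
      have hzq : z * q * z⁻¹ ∈ Q := hQn.conj_mem q hq z
      have hzc : z * c * z⁻¹ ∈ CG(Q) := by
        rw [Subgroup.mem_centralizer_iff]
        intro a ha
        have := congrArg (fun w => z * w * z⁻¹)
          (Subgroup.mem_centralizer_iff.1 hc _ (hQn.conj_mem a ha z⁻¹))
        simpa [mul_assoc] using this
      show z * (q * c) * z⁻¹ ∈ Q
      have h2 : z * (q * c) * z⁻¹ ∈ P := hzP ⟨_, hd, rfl⟩
      rw [show z * (q * c) * z⁻¹ = (z * q * z⁻¹) * (z * c * z⁻¹) by group] at h2 ⊢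
      have h3 := mul_mem (inv_mem (hQP hzq)) h2
      rw [inv_mul_cancel_left] at h3
      exact mul_mem hzq (hCP ⟨h3, hzc⟩)
    have heq : Q = D.map L.subtype :=
      Subgroup.eq_of_le_of_card_ge hQD' (by
        rw [← card_map_conj (D.map L.subtype) z]; exact Subgroup.card_le_of_le hle')
    intro d hd
    show (d : G) ∈ Q
    rw [heq]
    exact ⟨d, hd, rfl⟩
  -- all pairs lie in `Q`
  obtain ⟨y, hy, hyu⟩ :=
    exists_unit_coeff_of_brFun_ne_zero (isLocElt_blockIdem hF') (brFun_ne_zero_of_pairOf hR)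
  obtain ⟨w, hw⟩ := defectLE_of_coeff_unit hM hF' hD (h := y) (by simpa [blockIdem] using hyu) R
    hR.1.1 (mem_centralizer_subgroup.1 hy)
  have hRQ : R ≤ Q.subgroupOf L := fun q hq => by
    have h := (inferInstance : (Q.subgroupOf L).Normal).conj_mem _ (hDQ (hw ⟨q, hq, rfl⟩)) w⁻¹
    simpa [mul_assoc] using h
  have hG : Q.subgroupOf L ⊔ Subgroup.centralizer ((Q.subgroupOf L : Subgroup L) : Set L) = ⊤ := by
    rw [eq_top_iff]
    rintro ⟨a, ha⟩ -
    have ha' : a ∈ ((Q ⊔ CG(Q) : Subgroup G) : Set G) := ha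
    rw [Subgroup.coe_mul_of_right_le_normalizer_left Q _ (centralizer_le_normalizer' Q)] at ha'
    obtain ⟨q, hq, c, hc, rfl⟩ := ha'
    rw [show (⟨q * c, ha⟩ : L) = ⟨q, hQL hq⟩ * ⟨c, hCL hc⟩ from rfl]
    exact Subgroup.mul_mem_sup hq (Subgroup.mem_centralizer_iff.2 fun b hb =>
      Subtype.ext (Subgroup.mem_centralizer_iff.1 hc (b : G) hb))
  have := mem_centralizer_of_regular (Fact.out : p.Prime) hQ.comap_subtype hG hreg
  exact Subgroup.mem_centralizer_iff.2 fun q hq => Subgroup.mem_centralizer_iff.1 this q (hRQ hq)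

end Cfsg.Agent.Block
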