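import Mathlib.GroupTheory.Nilpotent
import Mathlib.GroupTheory.PGroup
import Mathlib.GroupTheory.Sylow
import Mathlib.Algebra.BigOperators.Group.Finset.Basic
import Mathlib.Data.Complex.Basic
import Mathlib.Tactic.Group

/-!
# Cancellation over normal chains of `p`-subgroups normalised by a `p`-element
-/

set_option autoImplicit false
set_option linter.unusedSectionVars false

namespace Cfsg.Agent.Block.KR

universe u

variable {G : Type u} [Group G] [Finite G] {p : ℕ} [Fact p.Prime]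

/-- Nonempty chains of nontrivial `p`-subgroups normalised by their largest member. -/
def IsChainN (p : ℕ) (s : Finset (Subgroup G)) : Prop :=
  s.Nonempty ∧ (∀ Q ∈ s, ∀ R ∈ s, Q ≤ R ∨ R ≤ Q) ∧ (∀ Q ∈ s, Q ≠ ⊥ ∧ IsPGroup p Q) ∧
    ∃ T ∈ s, ∀ Q ∈ s, Q ≤ T ∧ T ≤ Subgroup.normalizer ((Q : Subgroup G) : Set G)

/-- The stabiliser of a chain. -/
def stab (s : Finset (Subgroup G)) : Subgroup G :=
  ⨅ Q ∈ s, Subgroup.normalizer ((Q : Subgroup G) : Set G)

theorem mem_stab {s : Finset (Subgroup G)} {g : G} :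
    g ∈ stab s ↔ ∀ Q ∈ s, g ∈ Subgroup.normalizer ((Q : Subgroup G) : Set G) := by
  simp [stab, Subgroup.mem_iInf]

/-- The subgroup generated by the conjugates of `y` under `T`. -/
def clos (T : Subgroup G) (y : G) : Subgroup G :=
  Subgroup.closure {x | ∃ t ∈ T, t * y * t⁻¹ = x}

theorem mem_clos (T : Subgroup G) (y : G) : y ∈ clos T y :=
  Subgroup.subset_closure ⟨1, T.one_mem, by simp⟩

theorem clos_le {T H : Subgroup G} {y : G} (h : ∀ t ∈ T, t * y * t⁻¹ ∈ H) : clos T y ≤ H :=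
  (Subgroup.closure_le H).2 fun _ ⟨t, ht, e⟩ => e ▸ h t ht

theorem mem_normalizer_of_map_le {H : Subgroup G} {g : G}
    (h : ∀ x ∈ H, g * x * g⁻¹ ∈ H) : g ∈ Subgroup.normalizer (H : Set G) := by
  have e : H.map (MulAut.conj g).toMonoidHom = H := Subgroup.eq_of_le_of_card_ge
    (fun _ ⟨x, hx, e⟩ => e ▸ h x hx)
    (le_of_eq (Nat.card_congr (H.equivMapOfInjective _ (MulAut.conj g).injective).toEquiv))
  rw [Subgroup.mem_normalizer_iff]
  refine fun x => ⟨h x, fun hx => ?_⟩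
  rw [← e] at hx
  obtain ⟨z, hz, e'⟩ := hx
  simp only [MulEquiv.coe_toMonoidHom, MulAut.conj_apply] at e'
  exact (mul_left_cancel (mul_right_cancel e')) ▸ hz

theorem conj_mem_clos {T : Subgroup G} {y g : G}
    (h : ∀ t ∈ T, g * (t * y * t⁻¹) * g⁻¹ ∈ clos T y) {x : G} (hx : x ∈ clos T y) :
    g * x * g⁻¹ ∈ clos T y := by
  have : (clos T y).map (MulAut.conj g).toMonoidHom ≤ clos T y := by
    rw [clos, MonoidHom.map_closure, Subgroup.closure_le]
    rintro _ ⟨_, ⟨t, ht, rfl⟩, rfl⟩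
    exact h t ht
  exact this ⟨x, hx, rfl⟩

theorem normalizer_clos_of_mem {T : Subgroup G} {y g : G} (hg : g ∈ T) :
    g ∈ Subgroup.normalizer (clos T y : Set G) :=
  mem_normalizer_of_map_le fun _ hx => conj_mem_clos (fun t ht => Subgroup.subset_closure
    ⟨g * t, T.mul_mem hg ht, by group⟩) hx

theorem normalizer_clos_of_commute {T : Subgroup G} {y g : G}
    (hg : g ∈ Subgroup.normalizer (T : Set G)) (hc : g * y = y * g) :
    g ∈ Subgroup.normalizer (clos T y : Set G) :=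
  mem_normalizer_of_map_le fun _ hx => conj_mem_clos (fun t ht => Subgroup.subset_closure
    ⟨g * t * g⁻¹, (Subgroup.mem_normalizer_iff.1 hg t).1 ht, by
      calc g * t * g⁻¹ * y * (g * t * g⁻¹)⁻¹ = g * t * (g⁻¹ * (y * g)) * t⁻¹ * g⁻¹ := by group
        _ = g * (t * y * t⁻¹) * g⁻¹ := by rw [← hc]; group⟩) hx

theorem mem_normalizer_sup {A B : Subgroup G} {g : G} (ha : g ∈ Subgroup.normalizer (A : Set G))
    (hb : g ∈ Subgroup.normalizer (B : Set G)) : g ∈ Subgroup.normalizer ((A ⊔ B : Subgroup G) : Set G) := by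
  refine mem_normalizer_of_map_le fun x hx => ?_
  have : (A ⊔ B).map (MulAut.conj g).toMonoidHom ≤ A ⊔ B := by
    rw [Subgroup.map_sup]
    exact sup_le
      (fun _ ⟨z, hz, e⟩ => e ▸ Subgroup.mem_sup_left ((Subgroup.mem_normalizer_iff.1 ha z).1 hz))
      (fun _ ⟨z, hz, e⟩ => e ▸ Subgroup.mem_sup_right ((Subgroup.mem_normalizer_iff.1 hb z).1 hz))
  exact this ⟨x, hx, rfl⟩

/-- In a `p`-group the normal closure of an element generates only with the element. -/
theorem eq_sup_zpowers {T Q : Subgroup G} {y : G} (hT : IsPGroup p T) (hQT : Q ≤ T)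
    (hy : y ∈ T) (h : Q ⊔ clos T y = T) : T = Q ⊔ Subgroup.zpowers y := by
  have hA : Q ⊔ Subgroup.zpowers y ≤ T := sup_le hQT (Subgroup.zpowers_le.2 hy)
  by_contra hne
  have hne' : (Q ⊔ Subgroup.zpowers y).subgroupOf T ≠ ⊤ := fun e =>
    hne (le_antisymm (Subgroup.subgroupOf_eq_top.1 e) hA)
  obtain ⟨K, hK, hAK⟩ := (eq_top_or_exists_le_coatom _).resolve_left hne'
  haveI := hT.isNilpotent
  haveI : K.Normal := Subgroup.NormalizerCondition.normal_of_coatom K Group.normalizerCondition_of_isNilpotent hK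
  refine hK.1 (eq_top_iff.2 fun t _ => ?_)
  have hle : Q ⊔ clos T y ≤ K.map T.subtype := by
    refine sup_le (fun q hq => ⟨⟨q, hQT hq⟩, hAK (Subgroup.mem_subgroupOf.2 (Subgroup.mem_sup_left hq)), rfl⟩)
      (clos_le fun s hs => ?_)
    exact ⟨⟨s, hs⟩ * ⟨y, hy⟩ * ⟨s, hs⟩⁻¹, ‹K.Normal›.conj_mem _
      (hAK (Subgroup.mem_subgroupOf.2 (Subgroup.mem_sup_right (Subgroup.mem_zpowers y)))) _, rfl⟩
  obtain ⟨k, hk, e⟩ := hle (by rw [h]; exact t.2)
  exact (Subtype.ext e : k = t) ▸ hk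

section Toggle

open scoped Classical

/-- The largest member. -/
noncomputable def topM (s : Finset (Subgroup G)) : Subgroup G := s.sup id

/-- The largest member avoiding `y`. -/
noncomputable def below (s : Finset (Subgroup G)) (y : G) : Subgroup G :=
  (s.filter fun Q => y ∉ Q).sup id

/-- The member which is toggled. -/
noncomputable def pivot (s : Finset (Subgroup G)) (y : G) : Subgroup G :=
  below s y ⊔ clos (topM s ⊔ Subgroup.zpowers y) y

/-- The toggling map. -/
noncomputable def toggle (s : Finset (Subgroup G)) (y : G) : Finset (Subgroup G) :=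
  if pivot s y ∈ s then s.erase (pivot s y) else insert (pivot s y) s

theorem topM_mem {s : Finset (Subgroup G)} (h : IsChainN p s) :
    topM s ∈ s ∧ ∀ Q ∈ s, Q ≤ topM s ∧ topM s ≤ Subgroup.normalizer ((Q : Subgroup G) : Set G) := by
  obtain ⟨-, -, -, T, hT, hTQ⟩ := h
  have e : topM s = T := le_antisymm (Finset.sup_le fun Q hQ => (hTQ Q hQ).1) (Finset.le_sup (f := id) hT)
  rw [e]
  exact ⟨hT, hTQ⟩

theorem below_spec {s : Finset (Subgroup G)} (h : IsChainN p s) {y : G} (hy : y ≠ 1) :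
    y ∉ below s y ∧ (below s y = ⊥ ∨ below s y ∈ s) ∧ ∀ Q ∈ s, y ∉ Q → Q ≤ below s y := by
  refine ⟨?_, ?_, fun Q hQ hyQ => Finset.le_sup (f := id) (Finset.mem_filter.2 ⟨hQ, hyQ⟩)⟩ <;>
  rcases (s.filter fun Q => y ∉ Q).eq_empty_or_nonempty with he | hne
  · rw [below, he, Finset.sup_empty, Subgroup.mem_bot]; exact hy
  · obtain ⟨m, hm, hmax⟩ := (s.filter fun Q => y ∉ Q).exists_max_image (fun Q => Nat.card Q) hne
    have e : below s y = m := by
      refine le_antisymm (Finset.sup_le fun Q hQ => ?_) (Finset.le_sup (f := id) hm)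
      rcases h.2.1 Q (Finset.mem_filter.1 hQ).1 m (Finset.mem_filter.1 hm).1 with h' | h'
      · exact h'
      · exact (Subgroup.eq_of_le_of_card_ge h' (hmax Q hQ)).ge
    rw [e]; exact (Finset.mem_filter.1 hm).2
  · left; rw [below, he, Finset.sup_empty]
  · obtain ⟨m, hm, hmax⟩ := (s.filter fun Q => y ∉ Q).exists_max_image (fun Q => Nat.card Q) hne
    have e : below s y = m := by
      refine le_antisymm (Finset.sup_le fun Q hQ => ?_) (Finset.le_sup (f := id) hm)
      rcases h.2.1 Q (Finset.mem_filter.1 hQ).1 m (Finset.mem_filter.1 hm).1 with h' | h'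
      · exact h'
      · exact (Subgroup.eq_of_le_of_card_ge h' (hmax Q hQ)).ge
    exact Or.inr (e ▸ (Finset.mem_filter.1 hm).1)

variable {s : Finset (Subgroup G)} {y : G}

theorem top_facts (h : IsChainN p s) (hys : y ∈ stab s) (hy1 : y ≠ 1) (hyp : ∃ k : ℕ, orderOf y = p ^ k) :
    IsPGroup p (topM s ⊔ Subgroup.zpowers y : Subgroup G) ∧
      below s y ≤ topM s ⊔ Subgroup.zpowers y ∧
      (∀ g ∈ topM s ⊔ Subgroup.zpowers y, g ∈ Subgroup.normalizer (below s y : Set G)) ∧
      clos (topM s ⊔ Subgroup.zpowers y) y ≤ topM s ⊔ Subgroup.zpowers y := by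
  obtain ⟨hT, hTQ⟩ := topM_mem h
  have hyT : y ∈ Subgroup.normalizer (topM s : Set G) := mem_stab.1 hys _ hT
  have hyP : IsPGroup p (Subgroup.zpowers y) := by
    obtain ⟨k, hk⟩ := hyp
    exact IsPGroup.of_card (n := k) (by rw [Nat.card_zpowers, hk])
  refine ⟨(h.2.2.1 _ hT).2.to_sup_of_normal_left' hyP (Subgroup.zpowers_le.2 hyT), ?_, ?_, ?_⟩
  · rcases (below_spec h hy1).2.1 with e | e
    · rw [e]; exact bot_le
    · exact le_sup_of_le_left (hTQ _ e).1
  · intro g hg
    have : topM s ⊔ Subgroup.zpowers y ≤ Subgroup.normalizer (below s y : Set G) := by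
      rcases (below_spec h hy1).2.1 with e | e
      · rw [e]
        exact fun g _ => mem_normalizer_of_map_le fun x hx => by
          rw [Subgroup.mem_bot] at hx ⊢; rw [hx]; group
      · exact sup_le (hTQ _ e).2 (Subgroup.zpowers_le.2 (mem_stab.1 hys _ e))
    exact this hg
  · exact clos_le fun t ht => mul_mem (mul_mem ht (Subgroup.mem_sup_right (Subgroup.mem_zpowers y))) (inv_mem ht)

theorem pivot_spec (h : IsChainN p s) (hys : y ∈ stab s) (hy1 : y ≠ 1) (hyp : ∃ k : ℕ, orderOf y = p ^ k) :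
    y ∈ pivot s y ∧ pivot s y ≤ topM s ⊔ Subgroup.zpowers y ∧
      (∀ g ∈ topM s ⊔ Subgroup.zpowers y, g ∈ Subgroup.normalizer (pivot s y : Set G)) ∧
      (∀ Q ∈ s, y ∉ Q → Q ≤ pivot s y) ∧
      (∀ Q ∈ s, y ∈ Q → pivot s y ≤ Q ∧ topM s ⊔ Subgroup.zpowers y = topM s) ∧
      (∀ g ∈ stab s, g * y = y * g → g ∈ Subgroup.normalizer (pivot s y : Set G)) := by
  obtain ⟨hT, hTQ⟩ := topM_mem h
  obtain ⟨hyb, hbs, hbmax⟩ := below_spec h hy1
  obtain ⟨-, hbT, hbN, hcT⟩ := top_facts h hys hy1 hyp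
  refine ⟨Subgroup.mem_sup_right (mem_clos _ _), sup_le hbT hcT,
    fun g hg => mem_normalizer_sup (hbN g hg) (normalizer_clos_of_mem hg),
    fun Q hQ hyQ => le_sup_of_le_left (hbmax Q hQ hyQ), fun Q hQ hyQ => ?_, fun g hg hc => ?_⟩
  · have hT' : topM s ⊔ Subgroup.zpowers y = topM s :=
      sup_eq_left.2 (Subgroup.zpowers_le.2 ((hTQ Q hQ).1 hyQ))
    refine ⟨sup_le ?_ (clos_le fun t ht => ?_), hT'⟩
    · rcases hbs with e | e
      · rw [e]; exact bot_le
      · exact (h.2.1 Q hQ _ e).resolve_left fun hle => hyb (hle hyQ)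
    · exact (Subgroup.mem_normalizer_iff.1 ((hTQ Q hQ).2 (hT' ▸ ht)) y).1 hyQ
  · refine mem_normalizer_sup ?_ (normalizer_clos_of_commute (mem_normalizer_sup (mem_stab.1 hg _ hT) ?_) hc)
    · rcases hbs with e | e
      · rw [e]
        exact mem_normalizer_of_map_le fun x hx => by rw [Subgroup.mem_bot] at hx ⊢; rw [hx]; group
      · exact mem_stab.1 hg _ e
    · refine mem_normalizer_of_map_le fun x hx => ?_
      obtain ⟨i, rfl⟩ := hx
      rw [show g * y ^ i * g⁻¹ = y ^ i by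
        rw [((show Commute g y from hc).zpow_right i).eq, mul_inv_cancel_right]]
      exact ⟨i, rfl⟩

theorem insert_spec (h : IsChainN p s) (hys : y ∈ stab s) (hy1 : y ≠ 1) (hyp : ∃ k : ℕ, orderOf y = p ^ k)
    (hR : pivot s y ∉ s) :
    IsChainN p (insert (pivot s y) s) ∧ y ∈ stab (insert (pivot s y) s) ∧
      pivot (insert (pivot s y) s) y = pivot s y ∧
      Subgroup.centralizer ({y} : Set G) ⊓ stab (insert (pivot s y) s) =
        Subgroup.centralizer ({y} : Set G) ⊓ stab s := by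
  obtain ⟨hT, hTQ⟩ := topM_mem h
  obtain ⟨hyR, hRT, hRN, hlow, hhigh, hcomm⟩ := pivot_spec h hys hy1 hyp
  obtain ⟨hp, hbT, -, hcT⟩ := top_facts h hys hy1 hyp
  set R := pivot s y with hRdef
  -- the new top
  have htop' : topM s ⊔ Subgroup.zpowers y ∈ insert R s := by
    by_cases hyT : y ∈ topM s
    · rw [sup_eq_left.2 (Subgroup.zpowers_le.2 hyT)]; exact Finset.mem_insert_of_mem hT
    · have : R = topM s ⊔ Subgroup.zpowers y :=
        le_antisymm hRT (sup_le (hlow _ hT hyT) (Subgroup.zpowers_le.2 hyR))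
      rw [← this]; exact Finset.mem_insert_self _ _
  have hnorm : ∀ Q ∈ insert R s, Q ≤ topM s ⊔ Subgroup.zpowers y ∧
      topM s ⊔ Subgroup.zpowers y ≤ Subgroup.normalizer ((Q : Subgroup G) : Set G) := by
    intro Q hQ
    rcases Finset.mem_insert.1 hQ with rfl | hQ
    · exact ⟨hRT, hRN⟩
    · exact ⟨le_sup_of_le_left (hTQ Q hQ).1,
        sup_le (hTQ Q hQ).2 (Subgroup.zpowers_le.2 (mem_stab.1 hys Q hQ))⟩
  have hch : IsChainN p (insert R s) := by
    refine ⟨⟨R, Finset.mem_insert_self _ _⟩, ?_, ?_, ⟨_, htop', hnorm⟩⟩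
    · have hcmp : ∀ Q ∈ s, Q ≤ R ∨ R ≤ Q := fun Q hQ => by
        by_cases hyQ : y ∈ Q
        · exact Or.inr (hhigh Q hQ hyQ).1
        · exact Or.inl (hlow Q hQ hyQ)
      intro A hA B hB
      rcases Finset.mem_insert.1 hA with rfl | hA' <;> rcases Finset.mem_insert.1 hB with rfl | hB'
      · exact Or.inl le_rfl
      · exact (hcmp B hB').symm
      · exact hcmp A hA'
      · exact h.2.1 A hA' B hB'
    · intro Q hQ
      rcases Finset.mem_insert.1 hQ with rfl | hQ'
      · exact ⟨fun e => hy1 (Subgroup.mem_bot.1 (e ▸ hyR)), hp.to_le hRT⟩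
      · exact h.2.2.1 Q hQ'
  have hys' : y ∈ stab (insert R s) := mem_stab.2 fun Q hQ =>
    (hnorm Q hQ).2 (Subgroup.mem_sup_right (Subgroup.mem_zpowers y))
  refine ⟨hch, hys', ?_, ?_⟩
  · have e1 : topM (insert R s) = topM s ⊔ Subgroup.zpowers y :=
      le_antisymm (Finset.sup_le fun Q hQ => (hnorm Q hQ).1) (Finset.le_sup (f := id) htop')
    have e2 : below (insert R s) y = below s y := by
      rw [below, Finset.filter_insert, if_neg (not_not.2 hyR)]; rfl
    show below (insert R s) y ⊔ clos (topM (insert R s) ⊔ Subgroup.zpowers y) y = R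
    rw [e2, e1, sup_assoc, sup_idem]
    rfl
  · refine le_antisymm (inf_le_inf_left _ fun g hg => mem_stab.2 fun Q hQ =>
      mem_stab.1 hg Q (Finset.mem_insert_of_mem hQ)) fun g hg => ⟨hg.1, mem_stab.2 fun Q hQ => ?_⟩
    rcases Finset.mem_insert.1 hQ with rfl | hQ'
    · exact hcomm g hg.2 (Subgroup.mem_centralizer_singleton_iff.1 hg.1)
    · exact mem_stab.1 hg.2 Q hQ'

theorem erase_spec (h : IsChainN p s) (hys : y ∈ stab s) (hy1 : y ≠ 1) (hyp : ∃ k : ℕ, orderOf y = p ^ k)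
    (hR : pivot s y ∈ s) (hne : s ≠ {Subgroup.zpowers y}) :
    IsChainN p (s.erase (pivot s y)) ∧ y ∈ stab (s.erase (pivot s y)) ∧
      pivot (s.erase (pivot s y)) y = pivot s y := by
  obtain ⟨hT, hTQ⟩ := topM_mem h
  obtain ⟨hyb, hbs, hbmax⟩ := below_spec h hy1
  obtain ⟨hyR, hRT, hRN, hlow, hhigh, hcomm⟩ := pivot_spec h hys hy1 hyp
  have hT' : topM s ⊔ Subgroup.zpowers y = topM s := (hhigh _ hR hyR).2
  have hys' : y ∈ stab (s.erase (pivot s y)) :=
    mem_stab.2 fun Q hQ => mem_stab.1 hys Q (Finset.mem_of_mem_erase hQ)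
  have e2 : below (s.erase (pivot s y)) y = below s y := by
    rw [below, below]
    congr 1
    ext Q
    simp only [Finset.mem_filter, Finset.mem_erase]
    exact ⟨fun hh => ⟨hh.1.2, hh.2⟩, fun hh => ⟨⟨fun e => hh.2 (e ▸ hyR), hh.1⟩, hh.2⟩⟩
  -- the top of the smaller chain
  suffices hnew : ∃ T' ∈ s.erase (pivot s y), (∀ Q ∈ s.erase (pivot s y), Q ≤ T' ∧
      T' ≤ Subgroup.normalizer ((Q : Subgroup G) : Set G)) ∧ T' ⊔ Subgroup.zpowers y = topM s by
    obtain ⟨T', hT'm, hT'Q, hT'e⟩ := hnew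
    have hch : IsChainN p (s.erase (pivot s y)) :=
      ⟨⟨T', hT'm⟩, fun A hA B hB => h.2.1 A (Finset.mem_of_mem_erase hA) B (Finset.mem_of_mem_erase hB),
        fun Q hQ => h.2.2.1 Q (Finset.mem_of_mem_erase hQ), T', hT'm, hT'Q⟩
    refine ⟨hch, hys', ?_⟩
    have e1 : topM (s.erase (pivot s y)) = T' :=
      le_antisymm (Finset.sup_le fun Q hQ => (hT'Q Q hQ).1) (Finset.le_sup (f := id) hT'm)
    show below (s.erase (pivot s y)) y ⊔ clos (topM (s.erase (pivot s y)) ⊔ Subgroup.zpowers y) y = below s y ⊔ clos (topM s ⊔ Subgroup.zpowers y) y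
    rw [e2, e1, hT'e, hT']
  by_cases htopR : topM s = pivot s y
  · -- the pivot is the top
    have hgen : topM s = below s y ⊔ Subgroup.zpowers y := by
      refine eq_sup_zpowers (h.2.2.1 _ hT).2 ?_ ?_ ?_
      · rw [htopR]; exact le_sup_left
      · rw [htopR]; exact hyR
      · conv_rhs => rw [htopR, pivot, hT']
    rcases hbs with e | e
    · refine absurd (Finset.eq_singleton_iff_unique_mem.2 ⟨?_, fun Q hQ => ?_⟩) hne
      · rw [e, bot_sup_eq] at hgen; exact hgen ▸ hT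
      · rw [e, bot_sup_eq] at hgen
        by_cases hyQ : y ∈ Q
        · exact le_antisymm (hgen ▸ (hTQ Q hQ).1) (Subgroup.zpowers_le.2 hyQ)
        · exact absurd (le_bot_iff.1 (e ▸ hbmax Q hQ hyQ)) (h.2.2.1 Q hQ).1
    · refine ⟨below s y, Finset.mem_erase.2 ⟨fun e' => hyb (e' ▸ hyR), e⟩, fun Q hQ => ?_, hgen.symm⟩
      obtain ⟨hQne, hQs⟩ := Finset.mem_erase.1 hQ
      have hyQ : y ∉ Q := fun hyQ =>
        hQne (le_antisymm (htopR ▸ (hTQ Q hQs).1) (hhigh Q hQs hyQ).1)
      exact ⟨hbmax Q hQs hyQ, ((hTQ _ e).1).trans (hTQ Q hQs).2⟩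
  · exact ⟨topM s, Finset.mem_erase.2 ⟨htopR, hT⟩, fun Q hQ => hTQ Q (Finset.mem_of_mem_erase hQ), hT'⟩

theorem singleton_facts (hy1 : y ≠ 1) (hyp : ∃ k : ℕ, orderOf y = p ^ k) :
    IsChainN p {Subgroup.zpowers y} ∧ y ∈ stab {Subgroup.zpowers y} ∧
      pivot {Subgroup.zpowers y} y = Subgroup.zpowers y := by
  obtain ⟨k, hk⟩ := hyp
  have hch : IsChainN p ({Subgroup.zpowers y} : Finset (Subgroup G)) := by
    refine ⟨Finset.singleton_nonempty _, fun A hA B hB => ?_, fun A hA => ?_,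
      _, Finset.mem_singleton_self _, fun A hA => ?_⟩
    · rw [Finset.mem_singleton.1 hA, Finset.mem_singleton.1 hB]; exact Or.inl le_rfl
    · rw [Finset.mem_singleton.1 hA]
      exact ⟨fun e => hy1 (Subgroup.mem_bot.1 (e ▸ Subgroup.mem_zpowers y)),
        IsPGroup.of_card (n := k) (by rw [Nat.card_zpowers, hk])⟩
    · rw [Finset.mem_singleton.1 hA]; exact ⟨le_rfl, Subgroup.le_normalizer⟩
  refine ⟨hch, mem_stab.2 fun Q hQ => ?_, ?_⟩
  · rw [Finset.mem_singleton.1 hQ]; exact Subgroup.le_normalizer (Subgroup.mem_zpowers y)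
  · have hys : y ∈ stab ({Subgroup.zpowers y} : Finset (Subgroup G)) := mem_stab.2 fun Q hQ => by
      rw [Finset.mem_singleton.1 hQ]; exact Subgroup.le_normalizer (Subgroup.mem_zpowers y)
    obtain ⟨hyR, -, -, -, hhigh, -⟩ := pivot_spec hch hys hy1 ⟨k, hk⟩
    exact le_antisymm (hhigh _ (Finset.mem_singleton_self _) (Subgroup.mem_zpowers y)).1
      (Subgroup.zpowers_le.2 hyR)

/-- The signed sum collapses to the chain of the cyclic group. -/
theorem sum_cancel (hy1 : y ≠ 1) (hyp : ∃ k : ℕ, orderOf y = p ^ k) (W : Subgroup G → ℂ)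
    (S : Finset (Finset (Subgroup G))) (hS : ∀ t, t ∈ S ↔ IsChainN p t ∧ y ∈ stab t) :
    ∑ t ∈ S, (-1 : ℂ) ^ (t.card - 1) * W (Subgroup.centralizer ({y} : Set G) ⊓ stab t) =
      W (Subgroup.centralizer ({y} : Set G)) := by
  obtain ⟨hc0, hy0, hp0⟩ := singleton_facts hy1 hyp
  rw [← Finset.add_sum_erase _ _ ((hS _).2 ⟨hc0, hy0⟩)]
  have hzero : ∑ t ∈ S.erase {Subgroup.zpowers y},
      (-1 : ℂ) ^ (t.card - 1) * W (Subgroup.centralizer ({y} : Set G) ⊓ stab t) = 0 := by
    refine Finset.sum_involution (fun t _ => toggle t y) (fun t ht => ?_) (fun t ht _ => ?_)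
      (fun t ht => ?_) (fun t ht => ?_)
    · obtain ⟨hne, hm⟩ := Finset.mem_erase.1 ht
      obtain ⟨hch, hys⟩ := (hS t).1 hm
      unfold toggle
      split
      next hR =>
        obtain ⟨hch', hys', hp'⟩ := erase_spec hch hys hy1 hyp hR hne
        obtain ⟨-, -, -, hC⟩ := insert_spec hch' hys' hy1 hyp (hp'.symm ▸ Finset.notMem_erase _ _)
        rw [hp', Finset.insert_erase hR] at hC
        rw [hC, ← Finset.card_erase_add_one hR]
        have : 1 ≤ (t.erase (pivot t y)).card := Finset.card_pos.2 hch'.1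
        obtain ⟨j, hj⟩ := Nat.exists_eq_add_of_le this
        rw [hj, show 1 + j + 1 - 1 = j + 1 by omega, show 1 + j - 1 = j by omega, pow_succ]
        ring
      next hR =>
        obtain ⟨-, -, -, hC⟩ := insert_spec hch hys hy1 hyp hR
        rw [hC, Finset.card_insert_of_notMem hR]
        have : 1 ≤ t.card := Finset.card_pos.2 hch.1
        obtain ⟨j, hj⟩ := Nat.exists_eq_add_of_le this
        rw [hj, show 1 + j + 1 - 1 = j + 1 by omega, show 1 + j - 1 = j by omega, pow_succ]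
        ring
    · unfold toggle
      split
      next hR => exact fun e => Finset.notMem_erase (pivot t y) t (by rw [e]; exact hR)
      next hR => exact fun e => hR (by have h' := Finset.mem_insert_self (pivot t y) t; rwa [e] at h')
    · obtain ⟨hne, hm⟩ := Finset.mem_erase.1 ht
      obtain ⟨hch, hys⟩ := (hS t).1 hm
      unfold toggle
      split
      next hR =>
        obtain ⟨hch', hys', hp'⟩ := erase_spec hch hys hy1 hyp hR hne
        refine Finset.mem_erase.2 ⟨fun e => ?_, (hS _).2 ⟨hch', hys'⟩⟩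
        rw [e, hp0] at hp'
        exact Finset.notMem_erase _ _ (e.symm ▸ Finset.mem_singleton.2 hp'.symm)
      next hR =>
        obtain ⟨hch', hys', -, -⟩ := insert_spec hch hys hy1 hyp hR
        refine Finset.mem_erase.2 ⟨fun e => ?_, (hS _).2 ⟨hch', hys'⟩⟩
        obtain ⟨T, hT⟩ := hch.1
        have hTe := Finset.mem_singleton.1 (e ▸ Finset.mem_insert_of_mem hT)
        have hRe := Finset.mem_singleton.1 (e ▸ Finset.mem_insert_self _ _)
        exact hR (hRe ▸ hTe ▸ hT)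
    · obtain ⟨hne, hm⟩ := Finset.mem_erase.1 ht
      obtain ⟨hch, hys⟩ := (hS t).1 hm
      by_cases hR : pivot t y ∈ t
      · obtain ⟨-, -, hp'⟩ := erase_spec hch hys hy1 hyp hR hne
        simp only [toggle, if_pos hR, hp', if_neg (Finset.notMem_erase _ _), Finset.insert_erase hR]
      · obtain ⟨-, -, hp', -⟩ := insert_spec hch hys hy1 hyp hR
        simp only [toggle, if_neg hR, hp', if_pos (Finset.mem_insert_self _ _), Finset.erase_insert hR]
  have hle : Subgroup.centralizer ({y} : Set G) ≤ stab ({Subgroup.zpowers y} : Finset (Subgroup G)) := by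
    intro g hg
    refine mem_stab.2 fun Q hQ => ?_
    rw [Finset.mem_singleton.1 hQ]
    refine mem_normalizer_of_map_le fun x hx => ?_
    obtain ⟨i, rfl⟩ := hx
    rw [show g * y ^ i * g⁻¹ = y ^ i by
      rw [((show Commute g y from Subgroup.mem_centralizer_singleton_iff.1 hg).zpow_right i).eq,
        mul_inv_cancel_right]]
    exact ⟨i, rfl⟩
  rw [hzero, add_zero, Finset.card_singleton, Nat.sub_self, pow_zero, one_mul, inf_eq_left.2 hle]

end Toggle

end Cfsg.Agent.Block.KR
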