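import Cfsg.Agent.Lib.Block.Regular
import Cfsg.Agent.Lib.Char.Central
import Cfsg.Agent.Lib.Char.Orthogonality
import Cfsg.Agent.Lib.Char.Linear

/-!
# Products of two classes which form one class
-/

set_option autoImplicit false

open Cfsg.Agent.Char
open scoped commutatorElement

namespace Cfsg.Agent.Block

universe u

variable {G : Type u} [Group G] [Finite G]

theorem class_product_of_eq (x y : G)
    (h : ∀ (a b : G) (χ : IrrCharacter G),
      (χ : G → ℂ) (a * x * a⁻¹ * (b * y * b⁻¹)) = (χ : G → ℂ) (x * y)) (z : G) :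
    IsConj (x * y) z ↔ ∃ a b : G, z = a * x * a⁻¹ * (b * y * b⁻¹) := by
  constructor
  · intro hz
    obtain ⟨c, hc⟩ := isConj_iff.1 hz
    exact ⟨c, c, by rw [← hc]; group⟩
  · rintro ⟨a, b, rfl⟩
    exact (isConj_iff_irr _ _).2 fun χ => (h a b χ).symm

theorem apply_mul_apply_of_class_product (x y : G)
    (h : ∀ z : G, (∃ a b : G, z = a * x * a⁻¹ * (b * y * b⁻¹)) → IsConj (x * y) z)
    (χ : IrrCharacter G) :
    (χ : G → ℂ) x * (χ : G → ℂ) y = (χ : G → ℂ) 1 * (χ : G → ℂ) (x * y) := by
  classical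
  haveI := Fintype.ofFinite G
  have h1 := centralChar_mul χ.2 x y
  rw [Finset.sum_congr rfl fun u hu => Finset.sum_congr rfl fun v hv =>
    show (χ : G → ℂ) (u * v) = (χ : G → ℂ) (x * y) by
      obtain ⟨a, ha⟩ := isConj_iff.1 (Finset.mem_filter.1 hu).2
      obtain ⟨b, hb⟩ := isConj_iff.1 (Finset.mem_filter.1 hv).2
      exact (IsIrrCharacter.apply_isConj χ.2 (h _ ⟨a, b, by rw [ha, hb]⟩)).symm] at h1
  simp only [Finset.sum_const, nsmul_eq_mul, ← Fintype.card_subtype, ← Nat.card_eq_fintype_card,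
    card_isConj_eq_index, centralChar] at h1
  have h0 : (χ : G → ℂ) 1 ≠ 0 := IsIrrCharacter.apply_one_ne_zero χ.2
  have hx : ((Subgroup.centralizer ({x} : Set G)).index : ℂ) ≠ 0 :=
    Nat.cast_ne_zero.2 Subgroup.index_ne_zero_of_finite
  have hy : ((Subgroup.centralizer ({y} : Set G)).index : ℂ) ≠ 0 :=
    Nat.cast_ne_zero.2 Subgroup.index_ne_zero_of_finite
  field_simp at h1
  linear_combination h1

/-- If the nonlinear characters vanish at `g` then its class is its coset modulo the derived group. -/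
theorem isConj_iff_of_nonlinear_vanish (g : G)
    (hv : ∀ χ : IrrCharacter G, (χ : G → ℂ) 1 ≠ 1 → (χ : G → ℂ) g = 0) (z : G) :
    IsConj g z ↔ g⁻¹ * z ∈ commutator G := by
  classical
  haveI := Fintype.ofFinite G
  haveI := Fintype.ofFinite (IrrCharacter G)
  have hsub : ∀ w, IsConj g w → g⁻¹ * w ∈ commutator G := fun w hw => by
    obtain ⟨c, rfl⟩ := isConj_iff.1 hw
    rw [show g⁻¹ * (c * g * c⁻¹) = ⁅g⁻¹, c⁆ by simp [commutatorElement_def, mul_assoc]]
    exact Subgroup.commutator_mem_commutator (Subgroup.mem_top _) (Subgroup.mem_top _)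
  have hlin : Nat.card (Subgroup.centralizer ({g} : Set G)) = (commutator G).index := by
    apply Nat.cast_injective (R := ℂ)
    have h1 := second_orthogonality g g
    rw [if_pos (IsConj.refl g)] at h1
    rw [← h1, ← card_linear, Nat.card_eq_fintype_card, Fintype.card_subtype,
      Finset.card_eq_sum_ones, Nat.cast_sum, Finset.sum_filter]
    refine Finset.sum_congr rfl fun χ _ => ?_
    by_cases h : (χ : G → ℂ) 1 = 1
    · obtain ⟨l, hl⟩ := IsCharacter.exists_monoidHom (IsIrrCharacter.isCharacter χ.2) h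
      rw [if_pos h, Nat.cast_one, ← IsCharacter.map_inv (IsIrrCharacter.isCharacter χ.2), hl]
      simp
    · rw [if_neg h, hv χ h, zero_mul]
  have hcard : Nat.card {w : G // IsConj g w} = Nat.card (commutator G) := by
    rw [card_isConj_eq_index]
    have h1 := (Subgroup.centralizer ({g} : Set G)).card_mul_index
    have h2 := (commutator G).card_mul_index
    rw [hlin] at h1
    rw [← h1, mul_comm] at h2
    exact (Nat.eq_of_mul_eq_mul_left (Nat.pos_of_ne_zero Subgroup.index_ne_zero_of_finite) h2).symm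
  refine ⟨hsub z, fun hz => ?_⟩
  let f : {w : G // IsConj g w} → commutator G := fun w => ⟨g⁻¹ * w, hsub w w.2⟩
  have hf : Function.Injective f := fun a b e => Subtype.ext (mul_left_cancel (congrArg Subtype.val e))
  obtain ⟨w, hw⟩ := ((Nat.bijective_iff_injective_and_card f).2 ⟨hf, hcard⟩).2 ⟨g⁻¹ * z, hz⟩
  have : (w : G) = z := mul_left_cancel (congrArg Subtype.val hw)
  exact this ▸ w.2

end Cfsg.Agent.Block
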