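import Cfsg.Agent.Lib.Block.PairMax
import Cfsg.Agent.Lib.Block.PrincipalKernel
import Cfsg.Agent.Lib.Block.CorePrimeBlock
import Cfsg.Agent.Lib.Block.FirstMain
import Cfsg.Prelude.Def_OddOrderLocal
import Mathlib.GroupTheory.NoncommPiCoprod

/-!
# `π'`-cores in the kernels of blocks, followed along Brauer pairs
-/

set_option autoImplicit false

open Cfsg.Agent.Char
open scoped ComplexConjugate

namespace Cfsg.Agent.Block

universe u v

/-! ## The core -/

theorem piCore_card {Y : Type u} [Group Y] [Finite Y] (π : Set ℕ) :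
    ∀ q : ℕ, q.Prime → q ∣ Nat.card (piCore π Y) → q ∈ π := by
  obtain ⟨N, hN⟩ := (Set.toFinite {N : Subgroup Y | N.Normal ∧
    ∀ q : ℕ, q.Prime → q ∣ Nat.card N → q ∈ π}).exists_maximal
      ⟨⊥, inferInstance, fun q hq h => by
        rw [Subgroup.card_bot] at h; exact absurd (Nat.dvd_one.1 h) hq.one_lt.ne'⟩
  have e : piCore π Y = N := by
    refine le_antisymm (sSup_le fun M hM => ?_) (le_sSup hN.1)
    haveI := hM.1
    haveI := hN.1.1
    refine le_sup_left.trans (hN.2 (⟨inferInstance, fun q hq hd => ?_⟩ :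
      (M ⊔ N).Normal ∧ _) le_sup_right)
    have h2 : Nat.card ↥(M ⊔ N) ∣ Nat.card M * Nat.card N := by
      have h3 := Subgroup.card_mul_index (N.subgroupOf (M ⊔ N))
      have h4 : (N.subgroupOf (M ⊔ N)).index ∣ Nat.card M := by
        show N.relIndex (M ⊔ N) ∣ _
        rw [Subgroup.relIndex_sup_right]
        exact Subgroup.relIndex_dvd_card N M
      rw [Nat.card_congr (Subgroup.subgroupOfEquivOfLe (le_sup_right : N ≤ M ⊔ N)).toEquiv] at h3
      rw [← h3, mul_comm (Nat.card M)]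
      exact Nat.mul_dvd_mul_left _ h4
    rcases hq.dvd_mul.1 (hd.trans h2) with h | h
    · exact hM.2 q hq h
    · exact hN.1.2 q hq h
  rw [e]
  exact hN.1.2

theorem map_piCore_le {A : Type u} {B : Type v} [Group A] [Finite A] [Group B] (π : Set ℕ)
    (e : A →* B) (he : Function.Injective e) (hn : ((piCore π A).map e).Normal) :
    (piCore π A).map e ≤ piCore π B :=
  le_sSup ⟨hn, fun q hq hd => piCore_card π q hq (by
    rwa [Subgroup.card_map_of_injective he] at hd)⟩

theorem piCore_mulEquiv {A : Type u} {B : Type v} [Group A] [Finite A] [Group B] (π : Set ℕ)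
    (e : A ≃* B) {x : A} (hx : x ∈ piCore π A) : e x ∈ piCore π B :=
  map_piCore_le π e.toMonoidHom e.injective
    (Subgroup.Normal.map inferInstance _ e.surjective) (Subgroup.mem_map_of_mem _ hx)

theorem piCore_mulEquiv_iff {A : Type u} {B : Type v} [Group A] [Finite A] [Group B] [Finite B]
    (π : Set ℕ) (e : A ≃* B) {x : A} : e x ∈ piCore π B ↔ x ∈ piCore π A :=
  ⟨fun h => by simpa using piCore_mulEquiv π e.symm h, piCore_mulEquiv π e⟩

theorem not_dvd_card_piCore {Y : Type u} [Group Y] [Finite Y] {p : ℕ} (hp : p.Prime) {π : Set ℕ}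
    (hpπ : p ∈ π) : ¬ p ∣ Nat.card (piCore {q | q ∉ π} Y) := fun h => piCore_card _ p hp h hpπ

variable {G : Type u} [Group G] [Finite G] {M : Ideal AlgInt} {p : ℕ} {K : Subgroup G}

/-- The average of a subgroup of `K`. -/
noncomputable def avgOn (X : Subgroup K) : MonoidAlgebra ℂ K := by
  classical exact mkA fun g => if g ∈ X then ((Nat.card X : ℂ))⁻¹ else 0

theorem isCentralElt_avgOn (X : Subgroup K) [X.Normal] : IsCentralElt (avgOn X) := fun x y => by
  classical
  simp only [avgOn, coeff_mkA]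
  refine if_congr ⟨fun hx => ?_, fun hx => Subgroup.Normal.conj_mem inferInstance _ hx y⟩ rfl rfl
  have := Subgroup.Normal.conj_mem inferInstance _ hx y⁻¹
  simpa [mul_assoc] using this

variable [hMp : M.IsPrime]

theorem isLocElt_avgOn (hM : IsPModular p M) (X : Subgroup K) (hX : ¬ p ∣ Nat.card X) :
    IsLocElt M (avgOn X) := fun g => by
  classical
  simp only [avgOn, coeff_mkA]
  split
  exacts [inv_natCast_mem_locRing hM.1 hM.2.2 hX, zero_mem (locRing M)]

theorem cl_avgOn (hM : IsPModular p M) (X : Subgroup K) [X.Normal] (hX : ¬ p ∣ Nat.card X) :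
    CL M (avgOn X) := ⟨isCentralElt_avgOn X, isLocElt_avgOn hM X hX⟩

/-- The average has central character one on the characters trivial on `X` and zero elsewhere. -/
theorem ro_avgOn_ne_zero_iff (hM : IsPModular p M) (X : Subgroup K) [X.Normal]
    (hX : ¬ p ∣ Nat.card X) (η : IrrCharacter K) :
    ro M η (avgOn X) ≠ 0 ↔ ∀ x ∈ X, (η : K → ℂ) x = (η : K → ℂ) 1 := by
  classical
  haveI := Fintype.ofFinite K
  constructor
  · intro h x hx
    refine apply_eq_one_of_sum_ne_zero X η (fun h0 => h ?_) hx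
    have : avgOn X = ((Nat.card X : ℂ))⁻¹ • mkA (fun g : K => if g ∈ X then (1 : ℂ) else 0) :=
      MonoidAlgebra.ext (Finsupp.ext fun g => by simp [avgOn])
    rw [ro, this, omega_smul, h0, mul_zero, resC_zero]
  · intro h
    have h1 : omega (η : K → ℂ) (avgOn X) = 1 := by
      rw [omega_eq_sum, div_eq_one_iff_eq (IsIrrCharacter.apply_one_ne_zero η.2)]
      simp only [avgOn, coeff_mkA, ite_mul, zero_mul]
      rw [← Finset.sum_filter, Finset.sum_congr rfl fun g hg => by rw [h g (Finset.mem_filter.1 hg).2],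
        Finset.sum_const, nsmul_eq_mul, ← Fintype.card_subtype, ← Nat.card_eq_fintype_card, ← mul_assoc]
      rw [mul_inv_cancel₀ (Nat.cast_ne_zero.2 (Nat.card_pos (α := X)).ne'), one_mul]
    rw [ro, h1, resC_one]
    exact one_ne_zero

theorem ps_avgOn (hM : IsPModular p M) (X : Subgroup K) (hX : ¬ p ∣ Nat.card X) {P : Subgroup G}
    (h : ∀ r ∈ P, ∀ g ∈ X.map K.subtype, r * g * r⁻¹ ∈ X.map K.subtype) :
    PS M P (embH K (avgOn X)) := by
  classical
  have hco : ∀ g : G, (embH K (avgOn X)).coeff g =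
      if g ∈ X.map K.subtype then ((Nat.card X : ℂ))⁻¹ else 0 := fun g => by
    by_cases hg : g ∈ K
    · rw [show g = ((⟨g, hg⟩ : K) : G) from rfl, coeff_embH]
      simp only [avgOn, coeff_mkA]
      exact if_congr (Subgroup.mem_map_iff_mem K.subtype_injective).symm rfl rfl
    · rw [coeff_embH_of_notMem _ _ hg, if_neg fun hc => hg (Subgroup.map_subtype_le X hc)]
  refine ⟨isLocElt_embH K (isLocElt_avgOn hM X hX), fun r hr g => ?_⟩
  rw [hco, hco]
  refine if_congr ⟨fun hc => ?_, fun hc => h r hr g hc⟩ rfl rfl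
  simpa [mul_assoc] using h r⁻¹ (inv_mem hr) _ hc

/-- The Brauer image of the average at `P`, seen by a character of `C(P)`. -/
theorem lam_avgOn_ne_zero_iff (hM : IsPModular p M) (X : Subgroup K) [X.Normal]
    (hX : ¬ p ∣ Nat.card X) {P : Subgroup G} (hCK : Subgroup.centralizer (P : Set G) ≤ K)
    (ξ : IrrCharacter (Subgroup.centralizer (P : Set G))) :
    lam M (Subgroup.centralizer (P : Set G)) ξ (embH K (avgOn X)) ≠ 0 ↔
      ∀ c : Subgroup.centralizer (P : Set G), Subgroup.inclusion hCK c ∈ X →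
        (ξ : Subgroup.centralizer (P : Set G) → ℂ) c =
        (ξ : Subgroup.centralizer (P : Set G) → ℂ) 1 := by
  classical
  set Y : Subgroup (Subgroup.centralizer (P : Set G)) := X.comap (Subgroup.inclusion hCK) with hYdef
  haveI : Y.Normal := Subgroup.Normal.comap inferInstance _
  have hdvd : Nat.card Y ∣ Nat.card X := Subgroup.card_dvd_of_injective
    (f := (Subgroup.inclusion hCK).subgroupComap X)
    fun a b hab => Subtype.ext (Subgroup.inclusion_injective hCK (congrArg Subtype.val hab))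
  have hY : ¬ p ∣ Nat.card Y := fun h => hX (h.trans hdvd)
  set c₀ : ℂ := (Nat.card Y : ℂ) * ((Nat.card X : ℂ))⁻¹ with hc₀
  have hc : c₀ ∈ locRing M := mul_mem (natCast_mem (locRing M) _) (inv_natCast_mem_locRing hM.1 hM.2.2 hX)
  have hres : resH (Subgroup.centralizer (P : Set G)) (embH K (avgOn X)) = c₀ • avgOn Y := by
    refine MonoidAlgebra.ext (Finsupp.ext fun g => ?_)
    rw [coeff_resH, show (g : G) = ((Subgroup.inclusion hCK g : K) : G) from rfl, coeff_embH,
      MonoidAlgebra.coeff_smul, Finsupp.smul_apply, smul_eq_mul]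
    simp only [avgOn, coeff_mkA, hYdef, Subgroup.mem_comap, mul_ite, mul_zero, hc₀]
    refine if_congr Iff.rfl ?_ rfl
    rw [mul_right_comm, mul_inv_cancel₀, one_mul]
    exact Nat.cast_ne_zero.2 (Nat.card_pos (α := Y)).ne'
  rw [lam, hres, ro_smul ξ hc (cl_avgOn hM Y hY), mul_ne_zero_iff, ro_avgOn_ne_zero_iff hM Y hY]
  refine ⟨fun h c hc' => h.2 c hc', fun h => ⟨fun h0 => ?_, h⟩⟩
  rw [resC_eq_zero_iff hc] at h0
  have h2 := memLocalIdeal_mul_right
    (mul_mem (natCast_mem (locRing M) (Nat.card X)) (inv_natCast_mem_locRing hM.1 hM.2.2 hY)) h0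
  refine not_memLocalIdeal_one (M := M) ?_
  convert h2 using 1
  rw [hc₀]
  have hY0 : (Nat.card Y : ℂ) ≠ 0 := Nat.cast_ne_zero.2 (Nat.card_pos (α := Y)).ne'
  have hX0 : (Nat.card X : ℂ) ≠ 0 := Nat.cast_ne_zero.2 (Nat.card_pos (α := X)).ne'
  field_simp

/-! ## A block of a subgroup containing `P C(P)` -/

variable {P : Subgroup G} {b : Set (IrrCharacter K)}

theorem isResHom_embH (hM : IsPModular p M) (hP : IsPGroup p P) (hPK : P ≤ K)
    (hCK : Subgroup.centralizer (P : Set G) ≤ K)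
    (ξ : IrrCharacter (Subgroup.centralizer (P : Set G))) :
    IsResHom M fun a => lam M (Subgroup.centralizer (P : Set G)) ξ (embH K a) := by
  have hh := Factors.of_le_centralizer (M := M) (le_refl (Subgroup.centralizer (P : Set G))) ξ
  refine ⟨?_, fun {a c} ha hc => ?_, fun {a c} ha hc => ?_, fun {c a} hc ha => ?_⟩
  · show lam M _ ξ (embH K 1) = 1
    rw [show embH K (1 : MonoidAlgebra ℂ K) = 1 from map_one _, lam, resH_one, ro_one]
  · show lam M _ ξ (embH K (a + c)) = _
    rw [show embH K (a + c) = embH K a + embH K c from map_add _ a c, lam, resH_add,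
      ro_add ξ (cl_resH (ps_embH ha hCK)) (cl_resH (ps_embH hc hCK))]
    rfl
  · show lam M _ ξ (embH K (a * c)) = _
    rw [embH_mul]
    exact lam_mul hM hP le_rfl (Or.inr le_rfl) hh (ps_embH ha hPK) (ps_embH ha hCK) (ps_embH hc hPK)
      (ps_embH hc hCK)
  · show lam M _ ξ (embH K (c • a)) = _
    rw [show embH K (c • a) = c • embH K a from MonoidAlgebra.mapDomain_smul _ _ _, lam, resH_smul,
      ro_smul ξ hc (cl_resH (ps_embH ha hCK))]
    rfl

theorem exists_pair_over (hM : IsPModular p M) (hP : IsPGroup p P) (hPK : P ≤ K)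
    (hCK : Subgroup.centralizer (P : Set G) ≤ K) (hb : IsPBlock M b)
    (hne : brFun M P (embH K (blockIdem b)) ≠ 0) :
    ∃ e : Set (IrrCharacter (Subgroup.centralizer (P : Set G))), IsBrauerPair p M P e ∧
      ∀ ξ ∈ e, lam M (Subgroup.centralizer (P : Set G)) ξ (embH K (blockIdem b)) = 1 := by
  have hpsK := ps_embH (CL.blockIdem (M := M) hb) hCK
  have hpsP := ps_embH (CL.blockIdem (M := M) hb) hPK
  have hcl := cl_resH hpsK
  have hidem : IsIdempotentElem (brFun M P (embH (Subgroup.centralizer (P : Set G))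
      (resH (Subgroup.centralizer (P : Set G)) (embH K (blockIdem b))))) := by
    rw [brFun_embH_resH le_rfl]
    show _ * _ = _
    rw [← brFun_mul hM hP hpsP hpsP, ← embH_mul, blockIdem_mul_self]
  obtain ⟨ξ, hξ⟩ := exists_ro_ne_zero hM hP hcl (ps_embH_centralizer hcl.2 le_rfl) hidem
    (by rw [brFun_embH_resH le_rfl]; exact hne)
  refine ⟨blockOf M (ξ : _ → ℂ), ⟨hP, isPBlock_blockOf ξ⟩, fun ξ' hξ' => ?_⟩
  have h1 : lam M (Subgroup.centralizer (P : Set G)) ξ (embH K (blockIdem b)) = 1 :=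
    (isResHom_embH hM hP hPK hCK ξ).blockIdem_eq_one hb hξ
  rw [← h1]
  exact ro_congr (isPBlock_blockOf ξ) hξ' (self_mem_blockOf ξ) hcl

variable {e : Set (IrrCharacter (Subgroup.centralizer (P : Set G)))}

theorem pairOf_of_over (hM : IsPModular p M) (hPK : P ≤ K)
    (hCK : Subgroup.centralizer (P : Set G) ≤ K) (he : IsBrauerPair p M P e)
    (hlam : ∀ ξ ∈ e, lam M (Subgroup.centralizer (P : Set G)) ξ (embH K (blockIdem b)) = 1)
    {B : Set (IrrCharacter G)} (hB : IsInducedBlock M K b B) : IsBrauerPairOf p M B P e := by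
  obtain ⟨ξ, hξ⟩ := isPBlock_nonempty he.2
  obtain ⟨η, hη⟩ := isPBlock_nonempty hB.1
  refine (isBrauerPairOf_iff hξ).2 ⟨he, hB.2.1, ?_⟩
  have hcl := cl_resH (M := M) ((CL.blockIdem hB.2.1).ps K)
  have h := (isResHom_embH hM he.1 hPK hCK ξ).eq_ro hB.1 (by rw [hlam ξ hξ]; exact one_ne_zero) hη hcl
  rw [← lam, lam_blockIdem_of_isInducedBlock hB hη] at h
  rw [← h, lam, lam]
  congr 1
  refine MonoidAlgebra.ext (Finsupp.ext fun g => ?_)
  simp only [coeff_resH]
  rw [show (g : G) = ((Subgroup.inclusion hCK g : K) : G) from rfl, coeff_embH, coeff_resH]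

/-- A normal `p'`-subgroup is in the kernel of `b` exactly when its part in `C(P)` is in the kernel
of a pair over `b`. -/
theorem blockKer_iff_over (hM : IsPModular p M) (hb : IsPBlock M b) (hPK : P ≤ K)
    (hCK : Subgroup.centralizer (P : Set G) ≤ K) (he : IsBrauerPair p M P e)
    (hlam : ∀ ξ ∈ e, lam M (Subgroup.centralizer (P : Set G)) ξ (embH K (blockIdem b)) = 1)
    (X : Subgroup K) [X.Normal] (hX : ¬ p ∣ Nat.card X) :
    (∀ x ∈ X, x ∈ blockKer b) ↔
      ∀ c : Subgroup.centralizer (P : Set G), Subgroup.inclusion hCK c ∈ X → c ∈ blockKer e := by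
  have key : ∀ ξ ∈ e, ∀ η ∈ b, (∀ x ∈ X, (η : K → ℂ) x = (η : K → ℂ) 1) ↔
      ∀ c : Subgroup.centralizer (P : Set G), Subgroup.inclusion hCK c ∈ X →
        (ξ : Subgroup.centralizer (P : Set G) → ℂ) c =
        (ξ : Subgroup.centralizer (P : Set G) → ℂ) 1 := by
    intro ξ hξ η hη
    rw [← ro_avgOn_ne_zero_iff hM X hX η, ← lam_avgOn_ne_zero_iff hM X hX hCK ξ]
    exact Iff.of_eq (congrArg (· ≠ 0) ((isResHom_embH hM he.1 hPK hCK ξ).eq_ro hb
      (by rw [hlam ξ hξ]; exact one_ne_zero) hη (cl_avgOn hM X hX)).symm)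
  obtain ⟨η₀, hη₀⟩ := isPBlock_nonempty hb
  obtain ⟨ξ₀, hξ₀⟩ := isPBlock_nonempty he.2
  exact ⟨fun h c hc ξ hξ => (key ξ hξ η₀ hη₀).1 (fun x hx => h x hx η₀ hη₀) c hc,
    fun h x hx η hη => (key ξ₀ hξ₀ η hη).2 (fun c hc => h c hc ξ₀ hξ₀) x hx⟩

/-! ## Along normal inclusions -/

/-- The `π'`-core of `C(Q)` lies in the kernel of `f`. -/
def KerPi (π : Set ℕ) (Q : Subgroup G)
    (f : Set (IrrCharacter (Subgroup.centralizer (Q : Set G)))) : Prop :=
  ∀ x ∈ piCore {q | q ∉ π} (Subgroup.centralizer (Q : Set G)), x ∈ blockKer f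

/-- Moreover every `π'`-element of `C(Q)` lies in that core. -/
def HallKer (π : Set ℕ) (Q : Subgroup G)
    (f : Set (IrrCharacter (Subgroup.centralizer (Q : Set G)))) : Prop :=
  (∀ x : Subgroup.centralizer (Q : Set G), (∀ q : ℕ, q.Prime → q ∣ orderOf x → q ∉ π) →
    x ∈ piCore {q | q ∉ π} (Subgroup.centralizer (Q : Set G))) ∧ KerPi π Q f

variable {Q R : Subgroup G} {f : Set (IrrCharacter (Subgroup.centralizer (Q : Set G)))}
  {g : Set (IrrCharacter (Subgroup.centralizer (R : Set G)))} {π : Set ℕ}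

theorem IsNormalSubpair.ker_iff (hM : IsPModular p M) (hpπ : p ∈ π) (h : IsNormalSubpair p M Q f R g) :
    KerPi π Q f ↔ ∀ c : Subgroup.centralizer (R : Set G),
      Subgroup.inclusion (centralizer_le_of_le h.2.2.1) c ∈
        piCore {q | q ∉ π} (Subgroup.centralizer (Q : Set G)) → c ∈ blockKer g := by
  have hX := not_dvd_card_piCore (Y := Subgroup.centralizer (Q : Set G)) hM.1 hpπ
  have hps : PS M R (embH _ (avgOn (piCore {q | q ∉ π} (Subgroup.centralizer (Q : Set G))))) := by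
    refine ps_avgOn hM _ hX fun r hr x hx => ?_
    obtain ⟨c, hc, rfl⟩ := hx
    have hr' := le_normalizer_centralizer h.2.2.2.1 hr
    exact ⟨(normConj hr').symm c, piCore_mulEquiv _ _ hc, rfl⟩
  have hps' := ps_embH (cl_avgOn hM _ hX) (le_refl (Subgroup.centralizer (Q : Set G)))
  have key : ∀ ξ ∈ g, ∀ η ∈ f,
      (∀ x ∈ piCore {q | q ∉ π} (Subgroup.centralizer (Q : Set G)),
        (η : Subgroup.centralizer (Q : Set G) → ℂ) x = (η : Subgroup.centralizer (Q : Set G) → ℂ) 1) ↔
      ∀ c : Subgroup.centralizer (R : Set G),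
        Subgroup.inclusion (centralizer_le_of_le h.2.2.1) c ∈
          piCore {q | q ∉ π} (Subgroup.centralizer (Q : Set G)) → (ξ : Subgroup.centralizer (R : Set G) → ℂ) c =
        (ξ : Subgroup.centralizer (R : Set G) → ℂ) 1 := by
    intro ξ hξ η hη
    rw [← ro_avgOn_ne_zero_iff hM _ hX η,
      ← lam_avgOn_ne_zero_iff hM _ hX (centralizer_le_of_le h.2.2.1) ξ,
      IsNormalSubpair.lam_eq hM h hξ hη hps hps', lam, resH_embH]
  obtain ⟨η₀, hη₀⟩ := isPBlock_nonempty h.1.2
  obtain ⟨ξ₀, hξ₀⟩ := isPBlock_nonempty h.2.1.2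
  exact ⟨fun hk c hc ξ hξ => (key ξ hξ η₀ hη₀).1 (fun x hx => hk x hx η₀ hη₀) c hc,
    fun hk x hx η hη => (key ξ₀ hξ₀ η hη).2 (fun c hc => hk c hc ξ₀ hξ₀) x hx⟩

/-- The part in `C(R)` of the core of `C(Q)` lies in the core of `C(R)`. -/
theorem mem_piCore_of_inclusion (σ : Set ℕ) {A B : Subgroup G} (hAB : A ≤ B) {c : A}
    (hc : Subgroup.inclusion hAB c ∈ piCore σ B) : c ∈ piCore σ A := by
  refine (le_sSup ⟨Subgroup.Normal.comap inferInstance _, fun q hq hd => piCore_card (Y := B) σ q hq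
    (hd.trans ?_)⟩ : (piCore σ B).comap (Subgroup.inclusion hAB) ≤ piCore σ A) hc
  exact Subgroup.card_dvd_of_injective (f := (Subgroup.inclusion hAB).subgroupComap _)
    fun a b hab => Subtype.ext (Subgroup.inclusion_injective hAB (congrArg Subtype.val hab))

theorem IsNormalSubpair.kerPi_down (hM : IsPModular p M) (hpπ : p ∈ π)
    (h : IsNormalSubpair p M Q f R g) (hg : KerPi π R g) : KerPi π Q f :=
  (IsNormalSubpair.ker_iff hM hpπ h).2 fun c hc => hg c (mem_piCore_of_inclusion _ _ hc)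

theorem IsNormalSubpair.hallKer_up (hM : IsPModular p M) (hpπ : p ∈ π)
    (h : IsNormalSubpair p M Q f R g) (hf : HallKer π Q f) : HallKer π R g := by
  have hinc : ∀ c : Subgroup.centralizer (R : Set G), (∀ q : ℕ, q.Prime → q ∣ orderOf c → q ∉ π) →
      Subgroup.inclusion (centralizer_le_of_le h.2.2.1) c ∈
        piCore {q | q ∉ π} (Subgroup.centralizer (Q : Set G)) := fun c hc => hf.1 _ (by
    rwa [orderOf_injective _ (Subgroup.inclusion_injective _) c])
  refine ⟨fun c hc => mem_piCore_of_inclusion _ _ (hinc c hc), fun c hc => ?_⟩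
  exact (IsNormalSubpair.ker_iff hM hpπ h).1 hf.2 c (hinc c fun q hq hd =>
    piCore_card _ q hq (hd.trans (Subgroup.orderOf_dvd_natCard _ hc)))

theorem SubpairLE.kerPi_down (hM : IsPModular p M) (hpπ : p ∈ π) {a b : BrauerPairIdx G}
    (h : Relation.ReflTransGen (NormalSubpairRel p M) a b) :
    KerPi π b.1 b.2 → KerPi π a.1 a.2 := by
  induction h with
  | refl => exact id
  | tail _ hn ih => exact fun hb => ih (IsNormalSubpair.kerPi_down hM hpπ hn hb)

theorem SubpairLE.hallKer_up (hM : IsPModular p M) (hpπ : p ∈ π) {a b : BrauerPairIdx G}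
    (h : Relation.ReflTransGen (NormalSubpairRel p M) a b) :
    HallKer π a.1 a.2 → HallKer π b.1 b.2 := by
  induction h with
  | refl => exact id
  | tail _ hn ih => exact fun ha => IsNormalSubpair.hallKer_up hM hpπ hn (ih ha)

omit hMp in
theorem kerPi_conj_iff (Q : Subgroup G) (x : G)
    (f : Set (IrrCharacter (Subgroup.centralizer (Q : Set G)))) :
    KerPi π (Q.map (MulAut.conj x).toMonoidHom) (conjBlock Q x f) ↔ KerPi π Q f := by
  rw [conjBlock_eq]
  constructor
  · intro h c hc ξ hξ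
    have := h ((centConj Q x).symm c) (piCore_mulEquiv _ _ hc) _ ⟨ξ, hξ, rfl⟩
    rw [compIrr_apply, compIrr_apply, map_one, MulEquiv.apply_symm_apply] at this
    exact this
  · rintro h c hc _ ⟨ξ, hξ, rfl⟩
    rw [compIrr_apply, compIrr_apply, map_one]
    exact h _ (piCore_mulEquiv _ (centConj Q x) hc) ξ hξ

omit hMp in
theorem hallKer_conj (x : G) (hf : HallKer π Q f) :
    HallKer π (Q.map (MulAut.conj x).toMonoidHom) (conjBlock Q x f) :=
  ⟨fun c hc => (piCore_mulEquiv_iff _ (centConj Q x)).1 (hf.1 _ (by rwa [MulEquiv.orderOf_eq])),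
    (kerPi_conj_iff Q x f).2 hf.2⟩

/-- The core of `C(Q)` inside a subgroup of the normalizer. -/
theorem normal_map_piCore (σ : Set ℕ) {K : Subgroup G} (hK : K ≤ Subgroup.normalizer (Q : Set G))
    (hCK : Subgroup.centralizer (Q : Set G) ≤ K) :
    ((piCore σ (Subgroup.centralizer (Q : Set G))).map (Subgroup.inclusion hCK)).Normal := by
  refine ⟨fun x hx k => ?_⟩
  obtain ⟨c, hc, rfl⟩ := hx
  exact ⟨(normConj (le_normalizer_centralizer hK k.2)).symm c, piCore_mulEquiv _ _ hc, Subtype.ext rfl⟩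

/-- At the normalizer of `D` the two kernels agree. -/
theorem kerPi_normalizer_iff [Fact p.Prime] (hM : IsPModular p M) (hpπ : p ∈ π) {D : Subgroup G}
    {B₁ : Set (IrrCharacter (Subgroup.normalizer (D : Set G)))} (hB₁ : IsPBlock M B₁)
    {e : Set (IrrCharacter (Subgroup.centralizer (D : Set G)))} (he : IsBrauerPair p M D e)
    (hlam : ∀ ξ ∈ e, lam M (Subgroup.centralizer (D : Set G)) ξ
      (embH (Subgroup.normalizer (D : Set G)) (blockIdem B₁)) = 1) :
    (∀ n ∈ piCore {q | q ∉ π} (Subgroup.normalizer (D : Set G)), n ∈ blockKer B₁) ↔ KerPi π D e := by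
  set W := piCore {q | q ∉ π} (Subgroup.normalizer (D : Set G)) with hW
  have hCN := centralizer_le_normalizer' D
  refine (blockKer_iff_over hM hB₁ Subgroup.le_normalizer hCN he hlam W
    (not_dvd_card_piCore hM.1 hpπ)).trans ⟨fun h c hc => h c ?_, fun h c hc => h c ?_⟩
  · exact map_piCore_le _ _ (Subgroup.inclusion_injective hCN) (normal_map_piCore _ le_rfl hCN)
      (Subgroup.mem_map_of_mem _ hc)
  · exact mem_piCore_of_inclusion _ hCN hc

end Cfsg.Agent.Block
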