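import Cfsg.Agent.Lib.Block.CoreUnique
import Cfsg.Agent.Lib.Block.BrauerPair
import Cfsg.Agent.Lib.Local.Basic

/-!
# Local blocks of the block over an invariant character of `O_{p'}`
-/

set_option autoImplicit false
set_option linter.style.haveILetI false
set_option linter.unusedSectionVars false

open Cfsg.Agent.Char
open scoped ComplexConjugate Pointwise

namespace Cfsg.Agent.Block

universe u

variable {G : Type u} [Group G] [Fintype G] {M : Ideal AlgInt} [hMp : M.IsPrime] {p : ℕ}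
  [Fact p.Prime] {K L : Subgroup G} [hKn : K.Normal] [hLn : L.Normal]

theorem card_quotient_eq_relIndex (hKL : K ≤ L) :
    Nat.card (L.map (QuotientGroup.mk' K)) = K.relIndex L := by
  have h := card_eq_inf_mul_image (N := K) L
  rw [inf_eq_right.2 hKL] at h
  have h2 := (K.subgroupOf L).card_mul_index
  rw [Nat.card_congr (Subgroup.subgroupOfEquivOfLe hKL).toEquiv, h] at h2
  exact (Nat.eq_of_mul_eq_mul_left Nat.card_pos h2).symm

/-- A subgroup of `p'`-index in an extension of a `p'`-group by a `p`-group is a supplement. -/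
theorem le_sup_of_not_dvd {Q : Subgroup G} (hQL : Q ≤ L) (hKL : K ≤ L) (hidx : ∃ k : ℕ, K.relIndex L = p ^ k)
    (hQS : ¬ p ∣ Q.relIndex L) : L ≤ Q ⊔ K := by
  obtain ⟨k, hk⟩ := hidx
  rw [← Subgroup.relIndex_eq_one]
  have d1 : (Q ⊔ K).relIndex L ∣ Q.relIndex L := Subgroup.relIndex_dvd_of_le_left _ le_sup_left
  have d2 : (Q ⊔ K).relIndex L ∣ p ^ k := hk ▸ Subgroup.relIndex_dvd_of_le_left _ le_sup_right
  obtain ⟨j, -, hj⟩ := (Nat.dvd_prime_pow (Fact.out : p.Prime)).1 d2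
  rcases j with _ | j
  · simpa using hj
  · exact absurd (((dvd_pow_self p j.succ_ne_zero).trans (hj ▸ dvd_rfl)).trans d1) hQS

/-- The regular part of the centraliser of a `p`-subgroup and of the fixed points in `L`. -/
theorem regular_mem_of_centralizes_fixed (hK : ¬ p ∣ Nat.card K) (hKL : K ≤ L)
    (hidx : ∃ k : ℕ, K.relIndex L = p ^ k) {Q : Subgroup G} (hQL : Q ≤ L) (hQ : IsPGroup p Q)
    (hQS : ¬ p ∣ Q.relIndex L) (hCQ : Subgroup.centralizer (Q : Set G) ≤ L) {R : Subgroup G}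
    (hR : IsPGroup p R) {Q₁ : Subgroup G}
    (hQ₁ : L ⊓ Subgroup.centralizer (R : Set G) ≤ Q₁ ⊔ K) {h : G}
    (hhR : h ∈ Subgroup.centralizer (R : Set G)) (hhQ : h ∈ Subgroup.centralizer (Q₁ : Set G))
    (hreg : ¬ p ∣ orderOf h) : h ∈ L := by
  classical
  obtain ⟨k, hk⟩ := hidx
  have hp := (Fact.out : p.Prime)
  let f := QuotientGroup.mk' K
  have hUp : IsPGroup p (L.map f) := IsPGroup.iff_card.2 ⟨k, (card_quotient_eq_relIndex hKL).trans hk⟩
  have hnorm : ∀ X : Subgroup (G ⧸ K), X ≤ Subgroup.normalizer ((L.map f : Subgroup _) : Set (G ⧸ K)) := by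
    intro X
    haveI : (L.map f).Normal := hLn.map f (QuotientGroup.mk'_surjective K)
    rw [Subgroup.normalizer_eq_top]
    exact le_top
  have hQLK : L.map f = Q.map f := by
    refine le_antisymm ?_ (Subgroup.map_mono hQL)
    refine (Subgroup.map_mono (le_sup_of_not_dvd hQL hKL ⟨k, hk⟩ hQS)).trans ?_
    rw [Subgroup.map_sup, QuotientGroup.map_mk'_self, sup_bot_eq]
  have hcent : (Subgroup.zpowers (f h)) ≤ Subgroup.centralizer ((L.map f : Subgroup _) : Set (G ⧸ K)) := by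
    refine Solv.thompson_pq p (R.map f) _ _ (hR.map f) ?_ hUp ?_ (hnorm _) (hnorm _) ?_
    · rw [Nat.card_zpowers]
      exact (((Nat.Prime.coprime_iff_not_dvd hp).2 hreg).symm).coprime_dvd_left (orderOf_map_dvd f h)
    · rw [Subgroup.zpowers_eq_closure, Subgroup.centralizer_closure]
      rintro _ ⟨r, hr, rfl⟩
      rw [Subgroup.mem_centralizer_iff]
      rintro _ rfl
      rw [← map_mul, ← map_mul, Subgroup.mem_centralizer_iff.1 hhR r hr]
    · rintro _ ⟨⟨u, hu, rfl⟩, huR⟩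
      -- lift to a fixed point of `R`
      letI : MulAction R {x : G // f x = f u} :=
        { smul := fun r x => ⟨(r : G) * x * (r : G)⁻¹, by
            rw [map_mul, map_mul, x.2, Subgroup.mem_centralizer_iff.1 huR _ ⟨_, r.2, rfl⟩, map_inv,
              mul_inv_cancel_right]⟩
          one_smul := fun x => Subtype.ext (by show (1 : G) * x * (1 : G)⁻¹ = _; group)
          mul_smul := fun r s x => Subtype.ext (by
            show ((r : G) * (s : G)) * x * ((r : G) * (s : G))⁻¹ = (r : G) * ((s : G) * x * (s : G)⁻¹) * (r : G)⁻¹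
            group) }
      have hcard : Nat.card {x : G // f x = f u} = Nat.card K := Nat.card_congr
        { toFun := fun x => ⟨u⁻¹ * x, QuotientGroup.eq.1 x.2.symm⟩
          invFun := fun y => ⟨u * y, (QuotientGroup.eq.2 (by simp)).symm⟩
          left_inv := fun x => Subtype.ext (by simp)
          right_inv := fun y => Subtype.ext (by simp) }
      obtain ⟨⟨x, hx⟩, hfix⟩ := hR.nonempty_fixed_point_of_prime_not_dvd_card {x : G // f x = f u}
        (hcard ▸ hK)
      have hxR : x ∈ Subgroup.centralizer (R : Set G) := Subgroup.mem_centralizer_iff.2 fun r hr => by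
        have h1 := congrArg Subtype.val (hfix ⟨r, hr⟩)
        exact mul_inv_eq_iff_eq_mul.1 h1
      have hxL : x ∈ L := by
        have : u⁻¹ * x ∈ K := QuotientGroup.eq.1 hx.symm
        simpa using mul_mem hu (hKL this)
      have h2 := Subgroup.mem_map_of_mem f (hQ₁ ⟨hxL, hxR⟩)
      rw [Subgroup.map_sup, QuotientGroup.map_mk'_self, sup_bot_eq, hx] at h2
      obtain ⟨q, hq, hqu⟩ := h2
      rw [Subgroup.zpowers_eq_closure, Subgroup.centralizer_closure,
        Subgroup.mem_centralizer_iff]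
      rintro _ rfl
      rw [← hqu, ← map_mul, ← map_mul, Subgroup.mem_centralizer_iff.1 hhQ q hq]
  have hfh : ∀ q ∈ Q, f (h * q * h⁻¹) = f q := fun q hq => by
    have h1 := Subgroup.mem_centralizer_iff.1 (hcent (Subgroup.mem_zpowers _)) (f q)
      (Subgroup.mem_map_of_mem f (hQL hq))
    rw [map_mul, map_mul, map_inv, ← h1, mul_inv_cancel_right]
  have hcop : (Nat.card K).Coprime (Nat.card Q) :=
    (Solv.coprime_card_of_isPGroup hQ ((Nat.Prime.coprime_iff_not_dvd hp).2 hK).symm).symm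
  haveI := hQ.isNilpotent
  obtain ⟨n, hn, hnQ⟩ := Solv.conj_of_card_eq K Q (Q.map (MulAut.conj h).toMonoidHom) (Or.inr inferInstance)
    (fun q _ => mem_normalizer_of_normal (N := K) q)
    (by
      rintro _ ⟨q, hq, rfl⟩
      have h1 : q⁻¹ * (h * q * h⁻¹) ∈ K := QuotientGroup.eq.1 (hfh q hq).symm
      have h2 := mul_mem (Subgroup.mem_sup_right hq : _ ∈ K ⊔ Q) (Subgroup.mem_sup_left h1)
      simpa using h2)
    (card_map_conj Q h) hcop
  have hm : n⁻¹ * h ∈ Subgroup.centralizer (Q : Set G) := by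
    rw [Subgroup.mem_centralizer_iff]
    intro q hq
    have h1 : h * q * h⁻¹ ∈ MulAut.conj n • Q := hnQ ▸ ⟨q, hq, rfl⟩
    obtain ⟨q', hq', e'⟩ := h1
    have e : n * q' * n⁻¹ = h * q * h⁻¹ := e'
    have h3 : q⁻¹ * q' = 1 := by
      have hK1 : q⁻¹ * q' ∈ K := by
        refine QuotientGroup.eq.1 ?_
        have hfn : f n = 1 := (QuotientGroup.eq_one_iff n).2 hn
        have h4 := hfh q hq
        rw [← e, map_mul, map_mul, map_inv, hfn, one_mul, inv_one, mul_one] at h4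
        exact h4.symm
      have := Solv.inf_eq_bot_of_coprime_card _ _ hcop
      have h5 : q⁻¹ * q' ∈ K ⊓ Q := Subgroup.mem_inf.2 ⟨hK1, Q.mul_mem (Q.inv_mem hq) hq'⟩
      rwa [this, Subgroup.mem_bot] at h5
    rw [inv_mul_eq_one.1 h3] at e ⊢
    calc q' * (n⁻¹ * h) = n⁻¹ * (n * q' * n⁻¹) * h := by group
      _ = n⁻¹ * (h * q' * h⁻¹) * h := by rw [e]
      _ = n⁻¹ * h * q' := by group
  simpa using mul_mem (hKL hn) (hCQ hm)

/-- Exactly one block of each centraliser induces the block over `θ`. -/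
theorem existsUnique_induced_centralizer [Fintype K] (hM : IsPModular p M) (hK : ¬ p ∣ Nat.card K)
    {θ : IrrCharacter K}
    (hinv : ∀ (g : G) (k : K), (θ : K → ℂ) ⟨g * k * g⁻¹, hKn.conj_mem k k.2 g⟩ = (θ : K → ℂ) k)
    (hKL : K ≤ L) (hidx : ∃ k : ℕ, K.relIndex L = p ^ k) {Q : Subgroup G} (hQL : Q ≤ L) (hQ : IsPGroup p Q)
    (hQS : ¬ p ∣ Q.relIndex L) (hCQ : Subgroup.centralizer (Q : Set G) ≤ L)
    {B : Set (IrrCharacter G)} (hB : IsPBlock M B) (hsyl : ∀ S : Sylow p G, IsDefectGroup p M B (S : Subgroup G))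
    (hidem : blockIdem B = embH K (blockIdem {θ})) {R : Subgroup G} (hR : IsPGroup p R) :
    ∃! f : Set (IrrCharacter (Subgroup.centralizer (R : Set G))),
      IsInducedBlock M (Subgroup.centralizer (R : Set G)) f B := by
  classical
  let H : Subgroup G := Subgroup.centralizer (R : Set G)
  haveI := Fintype.ofFinite H
  have hlamiff : ∀ {f : Set (IrrCharacter H)}, IsPBlock M f → ∀ {ξ : IrrCharacter H}, ξ ∈ f →
      (IsInducedBlock M H f B ↔ lam M H ξ (blockIdem B) = 1) := fun {f} hf {ξ} hξ =>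
    isInducedBlock_iff_lam hf hξ (isResHom_lam_centralizer hM hR _) hB
  have ha : CL M (resH H (blockIdem B)) := cl_resH ((CL.blockIdem hB).ps H)
  refine existsUnique_of_exists_of_unique ?_ fun f₁ f₂ h₁ h₂ => ?_
  · obtain ⟨S, hS⟩ := hR.exists_le_sylow
    obtain ⟨g, hgl, hg, c, hgc, hc⟩ := (exists_coeff_unit_centralized_iff hM hB (hsyl S) hR).2
      ⟨1, by rintro _ ⟨r, hr, rfl⟩; simpa using hS hr⟩
    have hbr : brFun M R (embH H (resH H (blockIdem B))) = brFun M R (blockIdem B) := brFun_embH_resH le_rfl _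
    have hne : brFun M R (blockIdem B) ≠ 0 := fun h0 => by
      refine hg ?_
      have h1 := (brFun_eq_zero_iff (isLocElt_blockIdem hB)).1 h0 c hc
      obtain ⟨t, ht⟩ := isConj_iff.1 hgc
      rw [← ht] at h1
      have h2 : (blockIdem B).coeff (t * g * t⁻¹) = (blockIdem B).coeff g := isCentralElt_blockIdem B g t
      rw [h2, ← coeff_blockIdem] at h1
      exact h1
    obtain ⟨ξ, hξ⟩ := exists_ro_ne_zero hM hR ha (ps_embH_centralizer ha.2 le_rfl)
      (by rw [hbr]; show _ * _ = _; rw [← brFun_mul hM hR ((CL.blockIdem hB).ps R) ((CL.blockIdem hB).ps R),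
        blockIdem_mul_self]) (hbr.symm ▸ hne)
    exact ⟨blockOf M (ξ : H → ℂ), (hlamiff (isPBlock_blockOf ξ) (self_mem_blockOf ξ)).2
      ((isResHom_lam_centralizer hM hR ξ).blockIdem_eq_one hB hξ)⟩
  -- uniqueness: all such blocks lie over the Glauberman correspondent
  let K₁ : Subgroup H := K.subgroupOf H
  haveI := Fintype.ofFinite K₁
  letI : MulDistribMulAction R K := MulDistribMulAction.compHom K ((MulAut.conjNormal (H := K)).comp R.subtype)
  let ι : K₁ →* K :=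
    { toFun := fun x => ⟨((x : H) : G), x.2⟩
      map_one' := rfl
      map_mul' := fun _ _ => rfl }
  have hι : FixedHom R ι := by
    refine ⟨fun x y e => Subtype.ext (Subtype.ext (congrArg (fun z : K => (z : G)) e)), fun g => ⟨?_, fun hfix => ?_⟩⟩
    · rintro ⟨c, rfl⟩ r
      refine Subtype.ext ?_
      show ((MulAut.conjNormal (r : G) (ι c) : K) : G) = _
      rw [MulAut.conjNormal_apply]
      show (r : G) * ((c : H) : G) * (r : G)⁻¹ = ((c : H) : G)
      rw [Subgroup.mem_centralizer_iff.1 (c : H).2 _ r.2, mul_inv_cancel_right]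
    · have hgH : (g : G) ∈ H := Subgroup.mem_centralizer_iff.2 fun r hr => by
        have h1 := congrArg Subtype.val (hfix ⟨r, hr⟩)
        change ((MulAut.conjNormal r g : K) : G) = _ at h1
        rw [MulAut.conjNormal_apply] at h1
        exact mul_inv_eq_iff_eq_mul.1 h1
      exact ⟨⟨⟨(g : G), hgH⟩, g.2⟩, rfl⟩
  have hθop : OpInv R (θ : K → ℂ) := fun r k => by
    refine Eq.trans ?_ (hinv (r : G) k)
    exact congrArg (θ : K → ℂ) (Subtype.ext (MulAut.conjNormal_apply _ _))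
  have hK₁ : ¬ p ∣ Nat.card K₁ := fun hd => hK (hd.trans (Subgroup.card_dvd_of_injective ι hι.inj))
  have hs : InCoset K₁ 1 (resH H (blockIdem B)) := fun x hx => by
    rw [coeff_resH, hidem]
    exact coeff_embH_of_notMem _ _ fun h => hx ((QuotientGroup.eq_one_iff x).2 h)
  have hresι : resH K₁ (resH H (blockIdem B)) = resHom ι (blockIdem {θ}) := by
    refine MonoidAlgebra.ext (Finsupp.ext fun c => ?_)
    rw [coeff_resH, coeff_resH, hidem, resHom, coeff_mkA]
    exact coeff_embH K _ (ι c)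
  have hunit : ∀ {f : Set (IrrCharacter H)}, IsInducedBlock M H f B → ∀ ξ ∈ f, ∀ φ : IrrCharacter K₁,
      classInner (fun k : K₁ => (ξ : H → ℂ) k) (φ : K₁ → ℂ) ≠ 0 →
      ¬ MemLocalIdeal M (omega (φ : K₁ → ℂ) (resHom ι (blockIdem {θ}))) := by
    intro f hf ξ hξ φ hφ hmem
    have h1 := (hlamiff hf.1 hξ).1 hf
    rw [lam, ro, omega_eq_of_constituent ξ φ hφ ha.1 hs, hresι, resC_eq_zero_of_memLocalIdeal hmem] at h1
    exact zero_ne_one h1
  obtain ⟨ξ₁, hξ₁⟩ := isPBlock_nonempty h₁.1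
  obtain ⟨ξ₂, hξ₂⟩ := isPBlock_nonempty h₂.1
  obtain ⟨φ₁, hφ₁⟩ := exists_constituent' (N := K₁) ξ₁
  obtain ⟨φ₂, hφ₂⟩ := exists_constituent' (N := K₁) ξ₂
  obtain rfl := partner_inj hM hR hι hK hθop (hunit h₁ ξ₁ hξ₁ φ₁ hφ₁) (hunit h₂ ξ₂ hξ₂ φ₂ hφ₂)
  have hinv₁ : ∀ (g : H) (k : K₁), (φ₁ : K₁ → ℂ) ⟨g * k * g⁻¹, Subgroup.Normal.conj_mem inferInstance (k : H) k.2 g⟩ =
      (φ₁ : K₁ → ℂ) k := by
    intro g k
    have hc : classInner (fun k : K₁ => (ξ₁ : H → ℂ) k)
        (conjIrr (mem_normalizer_of_normal (N := K₁) g⁻¹) φ₁ : K₁ → ℂ) ≠ 0 := by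
      rwa [classInner_restrict_conjIrr]
    have he := partner_inj hM hR hι hK hθop (hunit h₁ ξ₁ hξ₁ φ₁ hφ₁) (hunit h₁ ξ₁ hξ₁ _ hc)
    conv_rhs => rw [he, conjIrr_apply]
    exact congrArg (φ₁ : K₁ → ℂ) (Subtype.ext (by simp))
  -- apply the uniqueness in the centraliser
  let L₁ : Subgroup H := L.subgroupOf H
  have hKL₁ : K₁ ≤ L₁ := fun x hx => hKL hx
  obtain ⟨S₁⟩ : Nonempty (Sylow p L₁) := inferInstance
  let Q₁ : Subgroup H := (S₁ : Subgroup L₁).map L₁.subtype
  have hQ₁L : Q₁ ≤ L₁ := Subgroup.map_subtype_le _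
  have hidx₁ : ∃ k : ℕ, K₁.relIndex L₁ = p ^ k := by
    obtain ⟨k, hk⟩ := hidx
    have hd : K₁.relIndex L₁ ∣ K.relIndex L := by
      rw [← card_quotient_eq_relIndex hKL₁, ← card_quotient_eq_relIndex hKL]
      let φ : H ⧸ K₁ →* G ⧸ K := QuotientGroup.map K₁ K H.subtype (le_refl _)
      have hφ : Function.Injective φ := by
        rw [injective_iff_map_eq_one]
        intro x hx
        induction x using QuotientGroup.induction_on with | H z => ?_
        exact (QuotientGroup.eq_one_iff z).2 ((QuotientGroup.eq_one_iff (z : G)).1 hx)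
      rw [← Subgroup.card_map_of_injective hφ]
      refine Subgroup.card_dvd_of_le ?_
      rintro _ ⟨_, ⟨z, hz, rfl⟩, rfl⟩
      exact ⟨(z : G), hz, rfl⟩
    obtain ⟨j, -, hj⟩ := (Nat.dvd_prime_pow (Fact.out : p.Prime)).1 (hk ▸ hd)
    exact ⟨j, hj⟩
  have hQ₁S : ¬ p ∣ Q₁.relIndex L₁ := by
    rw [Subgroup.relIndex, Subgroup.subgroupOf, Subgroup.comap_map_eq_self_of_injective L₁.subtype_injective]
    exact S₁.not_dvd_index
  have hsup := le_sup_of_not_dvd hQ₁L hKL₁ hidx₁ hQ₁S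
  refine eq_of_covers_singleton hM hK₁ hinv₁ hKL₁ hidx₁ hQ₁L (S₁.isPGroup'.map _) hQ₁S (fun g hg hreg => ?_)
    h₁.1 h₂.1 ⟨ξ₁, hξ₁, φ₁, rfl, hφ₁⟩ ⟨ξ₂, hξ₂, φ₁, rfl, hφ₂⟩
  refine regular_mem_of_centralizes_fixed hK hKL hidx hQL hQ hQS hCQ hR (Q₁ := Q₁.map H.subtype) ?_ g.2 ?_
    (by show ¬ p ∣ orderOf (g : G); rwa [Subgroup.orderOf_coe])
  · rintro x ⟨hxL, hxH⟩
    have h1 := Subgroup.mem_map_of_mem H.subtype (hsup (show (⟨x, hxH⟩ : H) ∈ L₁ from hxL))
    rw [Subgroup.map_sup] at h1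
    refine sup_le_sup_left (c := Q₁.map H.subtype) ?_ h1
    rintro _ ⟨y, hy, rfl⟩
    exact hy
  · rw [Subgroup.mem_centralizer_iff]
    rintro _ ⟨q, hq, rfl⟩
    exact congrArg (fun z : H => (z : G)) (Subgroup.mem_centralizer_iff.1 hg q hq)

theorem relIndex_pPrimePCore :
    ∃ k : ℕ, (pPrimeCore p G).relIndex (pPrimePCore p G) = p ^ k := by
  obtain ⟨k, hk⟩ := IsPGroup.iff_card.mp (Solv.isPGroup_pCore p (G ⧸ pPrimeCore p G))
  exact ⟨k, (Solv.relIndex_comap_mk' _ _).trans hk⟩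

end Cfsg.Agent.Block
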