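import Cfsg.Agent.Lib.Char.Gallagher
import Cfsg.Agent.Lib.Char.Zero

/-!
# A character vanishes on a coset of a normal subgroup on which it is reducible
-/

set_option autoImplicit false
set_option linter.style.haveILetI false

open Cfsg Cfsg.Agent.Char
open scoped ComplexConjugate

namespace Cfsg.Agent.Block

universe u

variable {G : Type u} [Group G] [Fintype G]

/-- A non-negative character of average one and degree above one has a zero. -/
theorem exists_zero_of_nonneg {Φ : G → ℂ} (hΦ : IsCharacter G Φ) (r : G → ℝ)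
    (hr : ∀ g, Φ g = (r g : ℂ)) (hnn : ∀ g, 0 ≤ r g) (hsum : ∑ g, r g = Nat.card G)
    (h1 : 1 < r 1) : ∃ g, r g = 0 := by
  classical
  by_contra hne
  push Not at hne
  have hpos : ∀ g, 0 < r g := fun g => lt_of_le_of_ne (hnn g) (hne g).symm
  have hfib : ∀ C ∈ Finset.univ.image (Subgroup.zpowers : G → Subgroup G),
      ((Finset.univ.filter fun x => Subgroup.zpowers x = C).card : ℝ) ≤
        ∑ x ∈ Finset.univ.filter (fun x => Subgroup.zpowers x = C), r x := by
    intro C hC
    obtain ⟨g, -, rfl⟩ := Finset.mem_image.mp hC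
    obtain ⟨z, hz⟩ := prod_generators_int hΦ g
    set s := Finset.univ.filter (fun x => Subgroup.zpowers x = Subgroup.zpowers g)
    have hz' : (∏ x ∈ s, r x : ℝ) = (z : ℝ) := by
      simp only [hr] at hz
      exact_mod_cast hz
    have hz1 : (1 : ℝ) ≤ ∏ x ∈ s, r x := by
      have h0 : (0 : ℝ) < ∏ x ∈ s, r x := Finset.prod_pos fun x _ => hpos x
      rw [hz'] at h0 ⊢
      exact_mod_cast (show (0 : ℤ) < z by exact_mod_cast h0)
    have hlog : (0 : ℝ) ≤ ∑ x ∈ s, Real.log (r x) := by
      rw [← Real.log_prod fun x _ => (hpos x).ne']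
      exact Real.log_nonneg hz1
    have := Finset.sum_le_sum (s := s) fun x _ => Real.log_le_sub_one_of_pos (hpos x)
    rw [Finset.sum_sub_distrib, Finset.sum_const, nsmul_eq_mul, mul_one] at this
    linarith
  have hone : Finset.univ.filter (fun x : G => Subgroup.zpowers x = Subgroup.zpowers (1 : G)) = {1} := by
    ext x; simp
  rw [← Finset.sum_fiberwise_of_maps_to (g := (Subgroup.zpowers : G → Subgroup G))
    (t := Finset.univ.image (Subgroup.zpowers : G → Subgroup G))
    (fun x _ => Finset.mem_image_of_mem _ (Finset.mem_univ x))] at hsum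
  have hlt : ∑ C ∈ Finset.univ.image (Subgroup.zpowers : G → Subgroup G),
      ((Finset.univ.filter fun x => Subgroup.zpowers x = C).card : ℝ) <
      ∑ C ∈ Finset.univ.image (Subgroup.zpowers : G → Subgroup G),
        ∑ x ∈ Finset.univ.filter (fun x => Subgroup.zpowers x = C), r x := by
    refine Finset.sum_lt_sum hfib ⟨Subgroup.zpowers 1, Finset.mem_image_of_mem _ (Finset.mem_univ _), ?_⟩
    rw [hone, Finset.card_singleton, Finset.sum_singleton]
    simpa using h1
  have htc := Finset.card_eq_sum_card_fiberwise (s := (Finset.univ : Finset G))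
    (f := (Subgroup.zpowers : G → Subgroup G))
    (t := Finset.univ.image (Subgroup.zpowers : G → Subgroup G))
    (fun x _ => Finset.mem_image_of_mem _ (Finset.mem_univ x))
  rw [hsum, ← Nat.cast_sum, ← htc, Finset.card_univ, Nat.card_eq_fintype_card] at hlt
  exact lt_irrefl _ hlt

/-- Reducible restriction is the same as vanishing on a coset. -/
theorem not_irreducible_iff_vanishes (N : Subgroup G) [N.Normal] [Fintype N] (χ : IrrCharacter G) :
    ¬ IsIrrCharacter N (fun n : N => (χ : G → ℂ) n) ↔ ∃ x : G, ∀ n : N, (χ : G → ℂ) ((n : G) * x) = 0 := by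
  classical
  haveI := Fintype.ofFinite (IrrCharacter G)
  set Φ := cosetAverage N (χ : G → ℂ) (χ : G → ℂ) with hΦdef
  constructor
  · intro hred
    have hcf : IsClassFunction G Φ := isClassFunction_cosetAverage N (IsCharacter.isClassFunction (IsIrrCharacter.isCharacter χ.2))
      (IsCharacter.isClassFunction (IsIrrCharacter.isCharacter χ.2))
    have hnat : ∀ β : IrrCharacter G, ∃ m : ℕ, classInner Φ (β : G → ℂ) = m := by
      intro β
      by_cases ht : ∀ n : N, (β : G → ℂ) n = (β : G → ℂ) 1
      · rw [hΦdef, classInner_cosetAverage_trivial N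
          (apply_mul_eq_of_over_one N β.2 (mem_over_one_of_trivial N β.2 ht))]
        exact classInner_natCast_of_isCharacter (IsIrrCharacter.isCharacter χ.2)
          (isCharacter_mul (IsIrrCharacter.isCharacter β.2) (IsIrrCharacter.isCharacter χ.2))
      · push Not at ht
        exact ⟨0, by rw [hΦdef, classInner_cosetAverage_nontrivial N β.2 ht, Nat.cast_zero]⟩
    choose m hm using hnat
    have hΦc : IsCharacter G Φ := by
      rw [IsClassFunction.eq_sum hcf]
      refine isCharacter_sum _ _ fun β _ => ?_
      rw [hm]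
      exact isCharacter_natCast_smul (IsIrrCharacter.isCharacter β.2) _
    let r : G → ℝ := fun g => (Nat.card N : ℝ)⁻¹ * ∑ n : N, Complex.normSq ((χ : G → ℂ) ((n : G) * g))
    have hr : ∀ g, Φ g = (r g : ℂ) := fun g => by
      simp only [hΦdef, cosetAverage, r, Complex.mul_conj]
      push_cast
      rfl
    have hsum : ∑ g, r g = Nat.card G := by
      have h : classInner Φ (fun _ : G => (1 : ℂ)) = 1 := by
        rw [hΦdef, classInner_cosetAverage_trivial N (fun _ _ => rfl)]
        rw [show ((fun _ : G => (1 : ℂ)) * (χ : G → ℂ)) = (χ : G → ℂ) from one_mul _]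
        exact IsIrrCharacter.classInner_self χ.2
      simp only [classInner, hr, map_one, mul_one] at h
      rw [inv_mul_eq_div, div_eq_one_iff_eq (Nat.cast_ne_zero.mpr Nat.card_pos.ne'),
        ← Complex.ofReal_sum] at h
      exact_mod_cast h
    have hres := IsCharacter.restrict (IsIrrCharacter.isCharacter χ.2) N
    obtain ⟨k, hk⟩ := classInner_natCast_of_isCharacter hres hres
    have hr1 : r 1 = (k : ℝ) := by
      apply Complex.ofReal_injective
      rw [← hr, Complex.ofReal_natCast, ← hk]
      simp [hΦdef, cosetAverage, classInner]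
    have hk1 : k ≠ 1 := fun h => hred (isIrrCharacter_iff.2 ⟨hres, by rw [hk, h, Nat.cast_one]⟩)
    have hk0 : k ≠ 0 := fun h => by
      rw [h, Nat.cast_zero] at hk
      exact IsIrrCharacter.apply_one_ne_zero χ.2 (congrFun (classInner_self_eq_zero hk) (1 : N))
    obtain ⟨x, hx⟩ := exists_zero_of_nonneg hΦc r hr
      (fun g => mul_nonneg (by positivity) (Finset.sum_nonneg fun _ _ => Complex.normSq_nonneg _)) hsum
      (by rw [hr1]; exact_mod_cast (by omega : 1 < k))
    refine ⟨x, fun n => ?_⟩
    have h0 := (mul_eq_zero.1 hx).resolve_left (inv_ne_zero (Nat.cast_ne_zero.2 Nat.card_pos.ne'))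
    exact Complex.normSq_eq_zero.1
      ((Finset.sum_eq_zero_iff_of_nonneg fun n _ => Complex.normSq_nonneg _).1 h0 n (Finset.mem_univ n))
  · rintro ⟨x, hx⟩ hirr
    have h1 := congrFun ((cosetAverage_spec N χ.2 hirr χ.2).2.2 rfl) x
    simp [cosetAverage, hx] at h1

end Cfsg.Agent.Block
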