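import Cfsg.Agent.Lib.Block.FirstMain
import Cfsg.Agent.Lib.Block.ConjBlock

/-!
# Blocks of a normal subgroup of the normaliser and their orbits
-/

set_option autoImplicit false

open Cfsg.Agent.Char
open scoped ComplexConjugate

namespace Cfsg.Agent.Block

universe u

variable {G : Type u} [Group G] [Finite G] {M : Ideal AlgInt} [hMp : M.IsPrime] {p : ℕ}
  {P L N : Subgroup G}

omit [Finite G] in
theorem normalizer_le_normalizer_sup (P : Subgroup G) :
    Subgroup.normalizer (P : Set G) ≤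
      Subgroup.normalizer ((P ⊔ Subgroup.centralizer (P : Set G) : Subgroup G) : Set G) := by
  intro n hn
  have hmapP : ∀ m ∈ Subgroup.normalizer (P : Set G),
      P.map (MulAut.conj m).toMonoidHom ≤ P := by
    rintro m hm _ ⟨q, hq, rfl⟩
    exact (Subgroup.mem_normalizer_iff.1 hm q).1 hq
  have hmapC : ∀ m ∈ Subgroup.normalizer (P : Set G),
      (Subgroup.centralizer (P : Set G)).map (MulAut.conj m).toMonoidHom ≤
        Subgroup.centralizer (P : Set G) := by
    rintro m hm _ ⟨c, hc, rfl⟩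
    rw [Subgroup.mem_centralizer_iff]
    intro q hq
    have h2 : m⁻¹ * q * m ∈ P := by
      refine (Subgroup.mem_normalizer_iff.1 hm _).2 ?_
      simpa [mul_assoc] using hq
    have h3 := congrArg (fun z => m * z * m⁻¹) (Subgroup.mem_centralizer_iff.1 hc _ h2)
    simpa [mul_assoc] using h3
  have hmap : ∀ m ∈ Subgroup.normalizer (P : Set G), ∀ x ∈ P ⊔ Subgroup.centralizer (P : Set G),
      m * x * m⁻¹ ∈ P ⊔ Subgroup.centralizer (P : Set G) := by
    intro m hm x hx
    have h : (P ⊔ Subgroup.centralizer (P : Set G)).map (MulAut.conj m).toMonoidHom ≤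
        P ⊔ Subgroup.centralizer (P : Set G) := by
      rw [Subgroup.map_sup]; exact sup_le_sup (hmapP m hm) (hmapC m hm)
    exact h ⟨x, hx, rfl⟩
  rw [Subgroup.mem_normalizer_iff]
  intro x
  refine ⟨hmap n hn x, fun hx => ?_⟩
  have := hmap n⁻¹ (inv_mem hn) _ hx
  simpa [mul_assoc] using this

omit [Finite G] in
theorem sup_centralizer_le_normalizer (P : Subgroup G) [Finite G] :
    P ⊔ Subgroup.centralizer (P : Set G) ≤ Subgroup.normalizer (P : Set G) :=
  sup_le Subgroup.le_normalizer (centralizer_le_normalizer' P)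

theorem resH_embH_resH (hLN : L ≤ N) (x : MonoidAlgebra ℂ G) :
    resH L (embH N (resH N x)) = resH L x :=
  MonoidAlgebra.ext (Finsupp.ext fun h => by
    rw [coeff_resH, coeff_resH, show ((h : G)) = ((⟨(h : G), hLN h.2⟩ : N) : G) from rfl,
      coeff_embH, coeff_resH])

theorem isResHom_lamTo (hM : IsPModular p M) (hP : IsPGroup p P)
    (hPL : P ≤ L ∨ L ≤ Subgroup.centralizer (P : Set G)) (hPN : P ≤ N)
    (hCL : Subgroup.centralizer (P : Set G) ≤ L) (hLN : L ≤ N) {ξ : IrrCharacter L}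
    (hf : Factors M P L ξ) : IsResHom M (fun a : MonoidAlgebra ℂ N => lam M L ξ (embH N a)) where
  one := by rw [show embH N (1 : MonoidAlgebra ℂ N) = 1 from map_one _, lam, resH_one, ro_one]
  add ha hb := by
    rw [show embH N _ = embH N _ + embH N _ from map_add _ _ _, lam, resH_add,
      ro_add ξ (cl_resH (ps_embH ha hLN)) (cl_resH (ps_embH hb hLN))]
    rfl
  mul ha hb := by
    rw [embH_mul, lam_mul hM hP hCL hPL hf (ps_embH ha hPN) (ps_embH ha hLN)
      (ps_embH hb hPN) (ps_embH hb hLN)]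
  smul := by
    intro c a hc ha
    rw [show embH N (c • a) = c • embH N a from by
      refine MonoidAlgebra.ext (Finsupp.ext fun g => ?_)
      by_cases hg : g ∈ N
      · rw [show g = ((⟨g, hg⟩ : N) : G) from rfl, coeff_embH, MonoidAlgebra.coeff_smul,
          MonoidAlgebra.coeff_smul, Finsupp.smul_apply, Finsupp.smul_apply, coeff_embH]
      · simp [coeff_embH_of_notMem _ _ hg], lam, resH_smul, ro_smul ξ hc (cl_resH (ps_embH ha hLN))]
    rfl

/-- The block of `N` above a block of `L`. -/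
structure Above (M : Ideal AlgInt) [M.IsPrime] (L N : Subgroup G) (ξ : IrrCharacter L)
    (c : Set (IrrCharacter N)) : Prop where
  isBlock : IsPBlock M c
  eq : ∀ η ∈ c, ∀ a : MonoidAlgebra ℂ N, CL M a → lam M L ξ (embH N a) = ro M η a

theorem exists_above' (hM : IsPModular p M) (hP : IsPGroup p P)
    (hPL : P ≤ L ∨ L ≤ Subgroup.centralizer (P : Set G)) (hPN : P ≤ N)
    (hCL : Subgroup.centralizer (P : Set G) ≤ L) (hLN : L ≤ N) {ξ : IrrCharacter L}
    (hf : Factors M P L ξ) : ∃ c, Above M L N ξ c := by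
  obtain ⟨c, hc, h1⟩ := (isResHom_lamTo hM hP hPL hPN hCL hLN hf).exists_block
  exact ⟨c, hc, fun η hη a ha =>
    (isResHom_lamTo hM hP hPL hPN hCL hLN hf).eq_ro hc (h1 ▸ one_ne_zero) hη ha⟩

theorem exists_above (hM : IsPModular p M) (hP : IsPGroup p P) (hPL : P ≤ L)
    (hCL : Subgroup.centralizer (P : Set G) ≤ L) (hLN : L ≤ N) {ξ : IrrCharacter L}
    (hf : Factors M P L ξ) : ∃ c, Above M L N ξ c :=
  exists_above' hM hP (Or.inl hPL) (hPL.trans hLN) hCL hLN hf

theorem Above.lam_eq {ξ : IrrCharacter L} {c : Set (IrrCharacter N)} (h : Above M L N ξ c)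
    (hLN : L ≤ N) {η : IrrCharacter N} (hη : η ∈ c) {x : MonoidAlgebra ℂ G} (hx : PS M N x) :
    lam M L ξ x = lam M N η x := by
  have h1 := h.eq η hη _ (cl_resH hx)
  rw [lam, resH_embH_resH hLN] at h1
  exact h1

/-! ## Orbit sums -/

variable (M) in
/-- The blocks conjugate to `b` under `N`. -/
noncomputable def orbitBlocks (N : Subgroup G) (hN : N ≤ Subgroup.normalizer (L : Set G))
    (b : Set (IrrCharacter L)) : Finset (Set (IrrCharacter L)) := by
  classical exact (pBlocks M L).filter fun b' => ∃ n : N, b' = conjBlk (hN n.2) b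

theorem mem_orbitBlocks {hN : N ≤ Subgroup.normalizer (L : Set G)} {b b' : Set (IrrCharacter L)} :
    b' ∈ orbitBlocks M N hN b ↔ IsPBlock M b' ∧ ∃ n : N, b' = conjBlk (hN n.2) b := by
  simp [orbitBlocks, mem_pBlocks]

variable (M) in
/-- The sum of the idempotents of the conjugates of `b`. -/
noncomputable def orbitSum (N : Subgroup G) (hN : N ≤ Subgroup.normalizer (L : Set G))
    (b : Set (IrrCharacter L)) : MonoidAlgebra ℂ G :=
  ∑ b' ∈ orbitBlocks M N hN b, embH L (blockIdem b')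

theorem ps_orbitSum (hN : N ≤ Subgroup.normalizer (L : Set G)) (b : Set (IrrCharacter L)) :
    PS M N (orbitSum M N hN b) := by
  classical
  refine ⟨IsLocElt.sum _ _ fun b' hb' => isLocElt_embH L (isLocElt_blockIdem (mem_orbitBlocks.1 hb').1),
    fun q hq g => ?_⟩
  rw [orbitSum, MonoidAlgebra.coeff_sum, Finsupp.finsetSum_apply, Finsupp.finsetSum_apply]
  refine Finset.sum_bij' (fun b' _ => conjBlk (hN (inv_mem hq)) b') (fun b' _ => conjBlk (hN hq) b')
    ?_ ?_ ?_ ?_ ?_
  · intro b' hb'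
    obtain ⟨hb, n, rfl⟩ := mem_orbitBlocks.1 hb'
    exact mem_orbitBlocks.2 ⟨isPBlock_conjBlk _ hb, ⟨q⁻¹, inv_mem hq⟩ * n,
      (conjBlk_mul _ _ _).symm⟩
  · intro b' hb'
    obtain ⟨hb, n, rfl⟩ := mem_orbitBlocks.1 hb'
    exact mem_orbitBlocks.2 ⟨isPBlock_conjBlk _ hb, ⟨q, hq⟩ * n, (conjBlk_mul _ _ _).symm⟩
  · intro b' _
    exact conjBlk_inv_cancel _ b'
  · intro b' _
    show conjBlk _ (conjBlk _ b') = b'
    rw [← conjBlk_mul]
    convert conjBlk_one (one_mem _) b'
    exact inv_mul_cancel q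
  · intro b' _
    rw [coeff_embH_blockIdem_conj]
    simp [mul_assoc]

theorem lam_orbitSum (hN : N ≤ Subgroup.normalizer (L : Set G)) (b : Set (IrrCharacter L))
    {b' : Set (IrrCharacter L)} (hb' : IsPBlock M b') {θ : IrrCharacter L} (hθ : θ ∈ b') :
    (b' ∈ orbitBlocks M N hN b → lam M L θ (orbitSum M N hN b) = 1) ∧
      (b' ∉ orbitBlocks M N hN b → lam M L θ (orbitSum M N hN b) = 0) := by
  classical
  have he : resH L (orbitSum M N hN b) = ∑ d ∈ orbitBlocks M N hN b, blockIdem d := by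
    refine MonoidAlgebra.ext (Finsupp.ext fun h => ?_)
    simp [orbitSum, Finsupp.finsetSum_apply, coeff_embH]
  rw [lam, he, ro_sum θ _ _ fun d hd => CL.blockIdem (mem_orbitBlocks.1 hd).1]
  constructor
  · intro hmem
    rw [Finset.sum_eq_single b', ro_blockIdem_mem hθ]
    · intro d hd hne
      exact ro_blockIdem_notMem fun h => hne (isPBlock_eq_of_mem (mem_orbitBlocks.1 hd).1 hb' h hθ)
    · intro h; exact absurd hmem h
  · intro hmem
    exact Finset.sum_eq_zero fun d hd => ro_blockIdem_notMem fun h =>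
      hmem (isPBlock_eq_of_mem (mem_orbitBlocks.1 hd).1 hb' h hθ ▸ hd)

theorem lam_orbitSum_self (hN : N ≤ Subgroup.normalizer (L : Set G)) {b : Set (IrrCharacter L)}
    (hb : IsPBlock M b) {θ : IrrCharacter L} (hθ : θ ∈ b) :
    lam M L θ (orbitSum M N hN b) = 1 :=
  (lam_orbitSum hN b hb hθ).1 (mem_orbitBlocks.2 ⟨hb, 1, (conjBlk_one _ b).symm⟩)

/-- Blocks of `L` below the same block of `N` are conjugate. -/
theorem exists_conjBlk_of_above (hLN : L ≤ N) (hN : N ≤ Subgroup.normalizer (L : Set G))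
    {b b' : Set (IrrCharacter L)} (hb : IsPBlock M b) (hb' : IsPBlock M b') {ξ ξ' : IrrCharacter L}
    (hξ : ξ ∈ b) (hξ' : ξ' ∈ b') {c : Set (IrrCharacter N)} (h : Above M L N ξ c)
    (h' : Above M L N ξ' c) : ∃ n : N, b' = conjBlk (hN n.2) b := by
  obtain ⟨η, hη⟩ := isPBlock_nonempty h.isBlock
  by_contra hne
  have e1 := h.lam_eq hLN hη (ps_orbitSum hN b)
  have e2 := h'.lam_eq hLN hη (ps_orbitSum hN b)
  rw [lam_orbitSum_self hN hb hξ] at e1
  rw [(lam_orbitSum hN b hb' hξ').2 fun hm => hne (mem_orbitBlocks.1 hm).2, ← e1] at e2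
  exact zero_ne_one e2

end Cfsg.Agent.Block
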