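import Cfsg.Agent.Lib.Block.CoverGraded
import Cfsg.Agent.Lib.Block.OrbitBlock
import Cfsg.Agent.Lib.Block.Regular
import Cfsg.Agent.Lib.Char.Clifford

/-!
# Covering of blocks of normal subgroups
-/

set_option autoImplicit false

open Cfsg.Agent.Char
open scoped ComplexConjugate

namespace Cfsg.Agent.Block

universe u

variable {G : Type u} [Group G] {M : Ideal AlgInt} {p : ℕ} {N : Subgroup G} [hN : N.Normal]

omit hN in
/-- `B` covers `b`. -/
def Covers [Fintype N] (B : Set (IrrCharacter G)) (b : Set (IrrCharacter N)) : Prop :=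
  ∃ χ ∈ B, ∃ θ ∈ b, classInner (fun n : N => (χ : G → ℂ) n) (θ : N → ℂ) ≠ 0

theorem mem_normalizer_of_normal (x : G) : x ∈ Subgroup.normalizer (N : Set G) := by
  rw [Subgroup.mem_normalizer_iff]
  exact fun y => ⟨fun hy => hN.conj_mem y hy x, fun hy => by
    simpa [mul_assoc] using hN.conj_mem _ hy x⁻¹⟩

theorem conjIrr_eq_conjChar [Finite G] (x : G) (θ : IrrCharacter N) :
    (conjIrr (mem_normalizer_of_normal x) θ : N → ℂ) = Cfsg.Agent.Char.conjChar N x⁻¹ (θ : N → ℂ) := by
  funext k
  rw [conjIrr_apply]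
  exact congrArg (θ : N → ℂ) (Subtype.ext (by simp))

theorem conjIrr_ext [Finite G] {x y : G} (h : x = y) (θ : IrrCharacter N) :
    conjIrr (mem_normalizer_of_normal x) θ = conjIrr (mem_normalizer_of_normal y) θ := by subst h; rfl

variable [Fintype G] [Fintype N]

theorem classInner_restrict_conjIrr (χ : IrrCharacter G) (x : G) (θ : IrrCharacter N) :
    classInner (fun n : N => (χ : G → ℂ) n) (conjIrr (mem_normalizer_of_normal x) θ : N → ℂ) =
      classInner (fun n : N => (χ : G → ℂ) n) (θ : N → ℂ) := by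
  rw [conjIrr_eq_conjChar, classInner_restrict_conjChar N
    (IsCharacter.isClassFunction (IsIrrCharacter.isCharacter χ.2))]

omit [Fintype N] in
theorem sum_of_support {x : MonoidAlgebra ℂ G} [Fintype N] (hs : InCoset N 1 x) (F : G → ℂ) :
    ∑ g : G, x.coeff g * F g = ∑ n : N, x.coeff (n : G) * F n := by
  classical
  rw [← Finset.sum_filter_of_ne (s := (Finset.univ : Finset G)) (p := fun g => g ∈ N) fun g _ hg => ?_]
  · exact Finset.sum_subtype _ (fun g => by simp) _
  · by_contra h
    exact hg (by rw [hs g fun e => h ((QuotientGroup.eq_one_iff g).1 e), zero_mul])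

/-- Central characters at elements supported in `N` are those of the constituents. -/
theorem omega_eq_of_constituent (χ : IrrCharacter G) (θ : IrrCharacter N)
    (h : classInner (fun n : N => (χ : G → ℂ) n) (θ : N → ℂ) ≠ 0) {x : MonoidAlgebra ℂ G}
    (hx : IsCentralElt x) (hs : InCoset N 1 x) :
    omega (χ : G → ℂ) x = omega (θ : N → ℂ) (resH N x) := by
  classical
  rw [omega_eq_sum, omega_eq_sum, sum_of_support hs, restrict_degree_eq N χ.2 θ.2 h]
  simp only [coeff_resH]
  have hr := restrict_eq_smul_sum_conjOrbit N χ.2 θ.2 h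
  have h1 : ∑ n : N, x.coeff (n : G) * (χ : G → ℂ) n =
      classInner (fun n : N => (χ : G → ℂ) n) (θ : N → ℂ) *
        ((inertia N (θ : N → ℂ)).index * ∑ n : N, x.coeff (n : G) * (θ : N → ℂ) n) := by
    rw [← card_conjOrbit, ← nsmul_eq_mul, ← Finset.sum_const, Finset.mul_sum]
    calc ∑ n : N, x.coeff (n : G) * (χ : G → ℂ) n
        = ∑ n : N, classInner (fun n : N => (χ : G → ℂ) n) (θ : N → ℂ) *
            ∑ φ ∈ conjOrbit N (θ : N → ℂ), x.coeff (n : G) * φ n := by
          refine Finset.sum_congr rfl fun n _ => ?_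
          have h2 := congrFun hr n
          simp only [Pi.smul_apply, Finset.sum_apply, smul_eq_mul] at h2
          rw [h2, ← Finset.mul_sum]
          ring
      _ = _ := by
          rw [← Finset.mul_sum, Finset.sum_comm, Finset.mul_sum]
          refine Finset.sum_congr rfl fun φ hφ => ?_
          congr 1
          obtain ⟨g, rfl⟩ := (mem_conjOrbit N).1 hφ
          refine Fintype.sum_equiv (MulAut.conjNormal g).toEquiv _ _ fun n => ?_
          rw [Cfsg.Agent.Char.conjChar_apply]
          show _ = x.coeff ((MulAut.conjNormal g n : N) : G) * (θ : N → ℂ) (MulAut.conjNormal g n)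
          rw [MulAut.conjNormal_apply]
          congr 1
          exact (hx (n : G) g).symm
  rw [h1, mul_div_mul_left _ _ h, mul_div_mul_left _ _ (Nat.cast_ne_zero.2 Subgroup.index_ne_zero_of_finite)]

omit [Fintype N] in
theorem exists_constituent' [Fintype N] (χ : IrrCharacter G) :
    ∃ θ : IrrCharacter N, classInner (fun n : N => (χ : G → ℂ) n) (θ : N → ℂ) ≠ 0 := by
  classical
  haveI := Fintype.ofFinite (IrrCharacter N)
  by_contra! h
  have h0 := eq_zero_of_classInner_eq_zero (f := fun n : N => (χ : G → ℂ) n)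
    (fun a b => IsCharacter.isClassFunction (IsIrrCharacter.isCharacter χ.2) (a : G) (b : G))
    fun ψ hψ => h ⟨ψ, hψ⟩
  exact IsIrrCharacter.apply_one_ne_zero χ.2 (congrFun h0 1)

/-! ## Orbit idempotents of a character -/

/-- The sum over the group of the conjugates of the idempotent of `θ`. -/
noncomputable def charOrbit (θ : IrrCharacter N) : MonoidAlgebra ℂ G :=
  ∑ g : G, embH N (blockIdem {conjIrr (mem_normalizer_of_normal g) θ})

omit [Fintype N] in
theorem coeff_charOrbit (θ : IrrCharacter N) (x : G) :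
    (charOrbit θ).coeff x = ∑ g : G, (embH N (blockIdem {θ})).coeff (g⁻¹ * x * g) := by
  rw [charOrbit, MonoidAlgebra.coeff_sum, Finsupp.finsetSum_apply]
  refine Finset.sum_congr rfl fun g _ => ?_
  rw [← coeff_embH_blockIdem_conj (mem_normalizer_of_normal g), conjBlk, Set.image_singleton]

omit [Fintype N] in
theorem isCentralElt_charOrbit (θ : IrrCharacter N) : IsCentralElt (charOrbit θ) := by
  intro x h
  simp only [coeff_charOrbit]
  refine Fintype.sum_equiv (Equiv.mulLeft h⁻¹) _ _ fun g => ?_
  congr 1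
  simp [mul_assoc]

omit [Fintype N] in
theorem inCoset_charOrbit (θ : IrrCharacter N) : InCoset N 1 (charOrbit θ) := fun x hx => by
  rw [charOrbit, MonoidAlgebra.coeff_sum, Finsupp.finsetSum_apply]
  exact Finset.sum_eq_zero fun g _ => inCoset_embH _ x hx

omit hN [Fintype G] in
theorem resH_sum [Finite G] {ι : Type*} (s : Finset ι) (F : ι → MonoidAlgebra ℂ G) :
    resH N (∑ i ∈ s, F i) = ∑ i ∈ s, resH N (F i) :=
  MonoidAlgebra.ext (Finsupp.ext fun h => by simp [Finsupp.finsetSum_apply])

theorem omega_resH_charOrbit (θ φ : IrrCharacter N) :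
    omega (φ : N → ℂ) (resH N (charOrbit θ)) =
      ∑ g : G, (by classical exact if φ = conjIrr (mem_normalizer_of_normal g) θ then 1 else 0 : ℂ) := by
  classical
  rw [charOrbit, resH_sum, omega_sum]
  refine Finset.sum_congr rfl fun g _ => ?_
  rw [resH_embH, omega_blockIdem]
  exact if_congr Set.mem_singleton_iff rfl rfl

/-- A character without constituent `θ` annihilates the orbit of `θ`. -/
theorem omega_charOrbit_eq_zero (χ : IrrCharacter G) (θ : IrrCharacter N)
    (h : classInner (fun n : N => (χ : G → ℂ) n) (θ : N → ℂ) = 0) :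
    omega (χ : G → ℂ) (charOrbit θ) = 0 := by
  obtain ⟨φ, hφ⟩ := exists_constituent' (N := N) χ
  rw [omega_eq_of_constituent χ φ hφ (isCentralElt_charOrbit θ) (inCoset_charOrbit θ),
    omega_resH_charOrbit]
  refine Finset.sum_eq_zero fun g _ => if_neg ?_
  rintro rfl
  exact hφ (by rw [classInner_restrict_conjIrr]; exact h)

theorem charOrbit_mul_embH (θ : IrrCharacter N) :
    ∃ k : ℕ, k ≠ 0 ∧ charOrbit θ * embH N (blockIdem {θ}) = (k : ℂ) • embH N (blockIdem {θ}) := by
  classical
  refine ⟨(Finset.univ.filter fun g : G => conjIrr (mem_normalizer_of_normal g) θ = θ).card, ?_, ?_⟩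
  · exact Finset.card_ne_zero.2 ⟨1, Finset.mem_filter.2 ⟨Finset.mem_univ _, conjIrr_one _ θ⟩⟩
  · rw [charOrbit, Finset.sum_mul]
    have : ∀ g : G, embH N (blockIdem {conjIrr (mem_normalizer_of_normal g) θ}) * embH N (blockIdem {θ}) =
        if conjIrr (mem_normalizer_of_normal g) θ = θ then embH N (blockIdem {θ}) else 0 := by
      intro g
      rw [← embH_mul]
      split
      next h => rw [h, blockIdem_mul_self]
      next h =>
        rw [show blockIdem {conjIrr (mem_normalizer_of_normal g) θ} * blockIdem ({θ} : Set (IrrCharacter N)) = 0 from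
          eq_of_omega_eq ((isCentralElt_blockIdem _).mul (isCentralElt_blockIdem _)) IsCentralElt.zero
            fun ψ => by
              rw [omega_mul ψ (isCentralElt_blockIdem _) (isCentralElt_blockIdem _), omega_blockIdem,
                omega_blockIdem, omega_zero]
              simp only [Set.mem_singleton_iff]
              by_cases h1 : ψ = θ
              · rw [if_neg (fun h2 => h (h2.symm.trans h1)), zero_mul]
              · rw [if_neg h1, mul_zero]]
        exact map_zero _
    rw [Finset.sum_congr rfl fun g _ => this g, ← Finset.sum_filter, Finset.sum_const, Nat.cast_smul_eq_nsmul]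

/-- Every character of `N` is a constituent of a restriction. -/
theorem exists_above_char (θ : IrrCharacter N) :
    ∃ χ : IrrCharacter G, classInner (fun n : N => (χ : G → ℂ) n) (θ : N → ℂ) ≠ 0 := by
  by_contra! h
  have h0 : charOrbit θ = 0 := eq_of_omega_eq (isCentralElt_charOrbit θ) IsCentralElt.zero fun χ => by
    rw [omega_charOrbit_eq_zero χ θ (h χ), omega_zero]
  obtain ⟨k, hk, he⟩ := charOrbit_mul_embH θ
  rw [h0, zero_mul, eq_comm, smul_eq_zero, or_iff_right (Nat.cast_ne_zero.2 hk)] at he
  have h1 := congrArg (fun a => omega (θ : N → ℂ) (resH N a)) he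
  classical
  simp only [resH_embH, omega_blockIdem, Set.mem_singleton_iff, if_true] at h1
  rw [show resH N (0 : MonoidAlgebra ℂ G) = 0 from MonoidAlgebra.ext (Finsupp.ext fun h => by simp),
    omega_zero] at h1
  exact one_ne_zero h1

variable [hMp : M.IsPrime]

theorem ro_eq_of_covers {B : Set (IrrCharacter G)} {b : Set (IrrCharacter N)} (hB : IsPBlock M B)
    (hb : IsPBlock M b) (hc : Covers B b) {χ : IrrCharacter G} (hχ : χ ∈ B) {θ : IrrCharacter N}
    (hθ : θ ∈ b) {x : MonoidAlgebra ℂ G} (hx : CL M x) (hs : InCoset N 1 x) :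
    ro M χ x = ro M θ (resH N x) := by
  obtain ⟨χ₀, hχ₀, θ₀, hθ₀, h⟩ := hc
  rw [ro_congr hB hχ hχ₀ hx, ro_congr hb hθ hθ₀ (cl_resH (hx.ps N)), ro, ro,
    omega_eq_of_constituent χ₀ θ₀ h hx.1 hs]

variable (M) in
/-- The sum of the conjugates of a block. -/
noncomputable def blockOrbit (b : Set (IrrCharacter N)) : MonoidAlgebra ℂ G :=
  orbitSum M ⊤ (fun x _ => mem_normalizer_of_normal x) b

omit [Fintype N] in
theorem cl_blockOrbit (b : Set (IrrCharacter N)) : CL M (blockOrbit M b) :=
  ⟨fun x h => (ps_orbitSum (M := M) (N := ⊤) (fun y _ => mem_normalizer_of_normal y) b).2 h (Subgroup.mem_top h) x,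
    (ps_orbitSum (N := ⊤) (fun y _ => mem_normalizer_of_normal y) b).1⟩

omit [Fintype N] in
theorem inCoset_blockOrbit (b : Set (IrrCharacter N)) : InCoset N 1 (blockOrbit M b) := fun x hx => by
  rw [blockOrbit, orbitSum, MonoidAlgebra.coeff_sum, Finsupp.finsetSum_apply]
  exact Finset.sum_eq_zero fun g _ => inCoset_embH _ x hx

/-- A character lies above `b` exactly when it is one on the orbit sum. -/
theorem exists_constituent_iff {b : Set (IrrCharacter N)} (hb : IsPBlock M b) (χ : IrrCharacter G) :
    (∃ θ ∈ b, classInner (fun n : N => (χ : G → ℂ) n) (θ : N → ℂ) ≠ 0) ↔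
      ro M χ (blockOrbit M b) = 1 := by
  have hsum := fun (b' : Set (IrrCharacter N)) (hb' : IsPBlock M b') (φ : IrrCharacter N) (hφ : φ ∈ b') =>
    lam_orbitSum (M := M) (fun y (_ : y ∈ (⊤ : Subgroup G)) => mem_normalizer_of_normal (N := N) y) b hb' hφ
  constructor
  · rintro ⟨θ, hθ, h⟩
    rw [ro, omega_eq_of_constituent χ θ h (cl_blockOrbit b).1 (inCoset_blockOrbit b)]
    exact lam_orbitSum_self (fun y (_ : y ∈ (⊤ : Subgroup G)) => mem_normalizer_of_normal (N := N) y) hb hθ
  · intro h
    obtain ⟨φ, hφ⟩ := exists_constituent' (N := N) χ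
    rw [ro, omega_eq_of_constituent χ φ hφ (cl_blockOrbit b).1 (inCoset_blockOrbit b)] at h
    by_cases hm : blockOf M (φ : N → ℂ) ∈ orbitBlocks M ⊤ (fun y _ => mem_normalizer_of_normal y) b
    · obtain ⟨-, g, hg⟩ := mem_orbitBlocks.1 hm
      have hφm := self_mem_blockOf (M := M) φ
      rw [hg] at hφm
      obtain ⟨θ, hθ, rfl⟩ := hφm
      exact ⟨θ, hθ, by rwa [classInner_restrict_conjIrr] at hφ⟩
    · have := (hsum _ (isPBlock_blockOf φ) φ (self_mem_blockOf φ)).2 hm
      exact absurd (h.symm.trans this) one_ne_zero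

/-- Passman's criterion. -/
theorem covers_iff_forall {B : Set (IrrCharacter G)} {b : Set (IrrCharacter N)} (hB : IsPBlock M B)
    (hb : IsPBlock M b) :
    Covers B b ↔ ∀ χ ∈ B, ∀ θ ∈ b, ∀ n : N,
      MemLocalIdeal M (centralChar (χ : G → ℂ) (n : G) - inducedCentralChar N (θ : N → ℂ) (n : G)) := by
  classical
  have hcls : ∀ n : N, InCoset N 1 (classSum (n : G)) := fun n x hx => by
    simp only [classSum, coeff_mkA]
    refine if_neg fun hc => hx ?_
    obtain ⟨g, rfl⟩ := isConj_iff.1 hc
    exact (QuotientGroup.eq_one_iff _).2 (hN.conj_mem _ n.2 g)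
  constructor
  · intro hc χ hχ θ hθ n
    have h := ro_eq_of_covers hB hb hc hχ hθ (CL.classSum (n : G)) (hcls n)
    rw [inducedCentralChar_eq_omega, ← omega_classSum]
    exact (resC_eq_iff (omega_mem_locRing χ (CL.classSum (M := M) _).1 (CL.classSum (M := M) _).2)
      (omega_mem_locRing θ (cl_resH ((CL.classSum (M := M) (n : G)).ps N)).1
        (cl_resH ((CL.classSum (M := M) (n : G)).ps N)).2)).1 h
  · intro h
    obtain ⟨χ, hχ⟩ := isPBlock_nonempty hB
    obtain ⟨θ, hθ⟩ := isPBlock_nonempty hb
    obtain ⟨θ', hθ', hc⟩ := (exists_constituent_iff (M := M) hb χ).2 (show ro M χ (blockOrbit M b) = 1 by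
      haveI := Fintype.ofFinite (ConjClasses G)
      have hd := eq_sum_classSum (cl_blockOrbit (M := M) b).1
      have hterm : ∀ C : ConjClasses G,
          ro M χ ((blockOrbit M b).coeff (classRep C) • classSum (classRep C)) =
            ro M θ (resH N ((blockOrbit M b).coeff (classRep C) • classSum (classRep C))) := fun C => by
        rw [ro_smul χ ((cl_blockOrbit b).2 _) (CL.classSum _), resH_smul,
          ro_smul θ ((cl_blockOrbit b).2 _) (cl_resH ((CL.classSum _).ps N))]
        by_cases hC : classRep C ∈ N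
        · congr 1
          have h1 := h χ hχ θ hθ ⟨classRep C, hC⟩
          rw [inducedCentralChar_eq_omega, ← omega_classSum] at h1
          exact (resC_eq_iff (omega_mem_locRing χ (CL.classSum (M := M) _).1 (CL.classSum (M := M) _).2)
            (omega_mem_locRing θ (cl_resH ((CL.classSum (M := M) (classRep C)).ps N)).1
              (cl_resH ((CL.classSum (M := M) (classRep C)).ps N)).2)).2 h1
        · rw [inCoset_blockOrbit b _ fun e => hC ((QuotientGroup.eq_one_iff _).1 e), resC_zero,
            zero_mul, zero_mul]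
      have hclt : ∀ C ∈ (Finset.univ : Finset (ConjClasses G)),
          CL M ((blockOrbit M b).coeff (classRep C) • classSum (classRep C)) := fun C _ =>
        (CL.classSum (M := M) _).smul ((cl_blockOrbit b).2 _)
      have h2 := lam_orbitSum_self (M := M) (fun y (_ : y ∈ (⊤ : Subgroup G)) => mem_normalizer_of_normal (N := N) y) hb hθ
      change ro M θ (resH N (blockOrbit M b)) = 1 at h2
      rw [hd, resH_sum, ro_sum θ _ _ fun C hC => cl_resH ((hclt C hC).ps N)] at h2
      rw [hd, ro_sum χ _ _ hclt, Finset.sum_congr rfl fun C _ => hterm C, h2])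
    exact ⟨χ, hχ, θ', hθ', hc⟩

theorem resH_cosetPart_of_ne {q : G ⧸ N} (hq : q ≠ 1) {x : MonoidAlgebra ℂ G} (hx : InCoset N q x) :
    resH N x = 0 :=
  MonoidAlgebra.ext (Finsupp.ext fun n => by
    rw [coeff_resH, hx _ fun e => hq (e.symm.trans ((QuotientGroup.eq_one_iff _).2 n.2))]
    simp)

theorem resH_mul_embH [Fintype (G ⧸ N)] (x : MonoidAlgebra ℂ G) (a : MonoidAlgebra ℂ N) :
    resH N (x * embH N a) = resH N x * a := by
  conv_lhs => rw [← sum_cosetPart (N := N) x, Finset.sum_mul, resH_sum]
  have h1 : ∀ q : G ⧸ N, q ≠ 1 → resH N (cosetPart N q x * embH N a) = 0 := fun q hq =>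
    MonoidAlgebra.ext (Finsupp.ext fun n => by
      rw [coeff_resH, ((inCoset_cosetPart q x).mul (inCoset_embH a)) _ fun e => hq
        (by rw [mul_one] at e; exact e.symm.trans ((QuotientGroup.eq_one_iff _).2 n.2))]
      simp)
  rw [Finset.sum_eq_single 1 (fun q _ hq => h1 q hq) (fun h => absurd (Finset.mem_univ _) h),
    ← embH_resH_of_inCoset (inCoset_cosetPart 1 x), ← embH_mul, resH_embH]
  congr 1
  refine MonoidAlgebra.ext (Finsupp.ext fun n => ?_)
  classical
  simp [cosetPart, (QuotientGroup.eq_one_iff _).2 n.2]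

/-- Every character of a covered block lies under the covering block. -/
theorem exists_constituent_of_covers (hM : IsPModular p M) {B : Set (IrrCharacter G)}
    {b : Set (IrrCharacter N)} (hB : IsPBlock M B) (hb : IsPBlock M b) (hc : Covers B b)
    {θ : IrrCharacter N} (hθ : θ ∈ b) :
    ∃ χ ∈ B, classInner (fun n : N => (χ : G → ℂ) n) (θ : N → ℂ) ≠ 0 := by
  classical
  haveI := Fintype.ofFinite (G ⧸ N)
  haveI := Fact.mk hM.1
  by_contra! hno
  set eB := blockIdem B with heB
  have hcen : ∀ y, Commute eB y := fun y => (isCentralElt_blockIdem B).commute y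
  have hann : eB * embH N (blockIdem {θ}) = 0 := by
    obtain ⟨k, hk, he⟩ := charOrbit_mul_embH θ
    have h0 : eB * charOrbit θ = 0 := by
      refine eq_of_omega_eq ((isCentralElt_blockIdem B).mul (isCentralElt_charOrbit θ)) IsCentralElt.zero
        fun χ => ?_
      rw [omega_mul χ (isCentralElt_blockIdem B) (isCentralElt_charOrbit θ), omega_zero, omega_blockIdem]
      by_cases hχ : χ ∈ B
      · rw [omega_charOrbit_eq_zero χ θ (hno χ hχ), mul_zero]
      · rw [if_neg hχ, zero_mul]
    have h1 := congrArg (eB * ·) he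
    simp only [← mul_assoc, h0, zero_mul, mul_smul_comm] at h1
    exact (smul_eq_zero.1 h1.symm).resolve_left (Nat.cast_ne_zero.2 hk)
  set F := embH N (blockIdem b) with hF
  set e := eB * F with he
  have hFps : PS M N F := ps_embH (CL.blockIdem hb) le_rfl
  have heps : PS M N e := ((CL.blockIdem hB).ps N).mul hFps
  have hFF : F * F = F := by rw [hF, ← embH_mul, blockIdem_mul_self]
  have hee : e * e = e := by
    rw [he]
    calc eB * F * (eB * F) = eB * (F * eB) * F := by simp only [mul_assoc]
      _ = eB * (eB * F) * F := by rw [(hcen F).eq]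
      _ = eB * eB * (F * F) := by simp only [mul_assoc]
      _ = eB * F := by rw [hFF, heB, blockIdem_mul_self]
  have hbr := brFun_bot_eq_zero_of_graded hM heps hee fun q r hr hrq θ' => by
    have hres : resH N (r * cosetPart N q e) = resH N (r * e) := by
      conv_rhs => rw [← sum_cosetPart (N := N) e, Finset.mul_sum, resH_sum]
      rw [Finset.sum_eq_single q (fun q' _ hq' => ?_) (fun h => absurd (Finset.mem_univ _) h)]
      exact resH_cosetPart_of_ne (fun h => hq' (inv_mul_eq_one.1 h).symm)
        (hrq.mul (inCoset_cosetPart q' e))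
    rw [hres, he, ← mul_assoc, hF, resH_mul_embH]
    have hps := hr.mul ((CL.blockIdem hB).ps N)
    rw [ro_mul θ' (cl_resH hps) (CL.blockIdem hb)]
    by_cases hθ' : θ' ∈ b
    · have h0 : resH N (r * eB) * blockIdem {θ} = 0 := by
        rw [← resH_mul_embH, mul_assoc, hann, mul_zero]
        exact MonoidAlgebra.ext (Finsupp.ext fun h => by simp)
      have h1 := congrArg (omega (θ : N → ℂ)) h0
      rw [omega_mul θ (cl_resH hps).1 (isCentralElt_blockIdem _), omega_blockIdem, omega_zero,
        if_pos (Set.mem_singleton θ), mul_one] at h1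
      have h2 : ro M θ (resH N (r * eB)) = 0 := by rw [ro, h1, resC_zero]
      rw [ro_congr hb hθ' hθ (cl_resH hps), h2, zero_mul]
    · rw [ro_blockIdem_notMem hθ', mul_zero]
  -- all conjugates vanish modulo `M`
  obtain ⟨y, hy⟩ := exists_isDefectClass hB
  refine hy.2.1 ?_
  have hzero := (brFun_bot_eq_zero_iff heps.1).1 hbr
  obtain ⟨χ₀, hχ₀, θ₀, hθ₀, hin⟩ := hc
  have hsum : eB * blockOrbit M b = eB := by
    refine eq_of_omega_eq ((isCentralElt_blockIdem B).mul (cl_blockOrbit b).1) (isCentralElt_blockIdem B)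
      fun χ => ?_
    rw [omega_mul χ (isCentralElt_blockIdem B) (cl_blockOrbit b).1, omega_blockIdem]
    by_cases hχ : χ ∈ B
    · rw [if_pos hχ, one_mul]
      obtain ⟨φ, hφ⟩ := exists_constituent' (N := N) χ
      have h1 := ro_congr hB hχ hχ₀ (cl_blockOrbit (M := M) b)
      rw [(exists_constituent_iff hb χ₀).1 ⟨θ₀, hθ₀, hin⟩] at h1
      have h01 : omega (χ : G → ℂ) (blockOrbit M b) = 0 ∨ omega (χ : G → ℂ) (blockOrbit M b) = 1 := by
        rw [omega_eq_of_constituent χ φ hφ (cl_blockOrbit b).1 (inCoset_blockOrbit b), blockOrbit,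
          orbitSum, resH_sum, omega_sum]
        simp only [resH_embH, omega_blockIdem]
        by_cases hex : ∃ b' ∈ orbitBlocks M ⊤ (fun x _ => mem_normalizer_of_normal x) b, φ ∈ b'
        · obtain ⟨b', hb', hφb⟩ := hex
          refine Or.inr ?_
          rw [Finset.sum_eq_single b' (fun d hd hne => if_neg fun h => hne
            (isPBlock_eq_of_mem (mem_orbitBlocks.1 hd).1 (mem_orbitBlocks.1 hb').1 h hφb))
            (fun h => absurd hb' h), if_pos hφb]
        · push Not at hex
          exact Or.inl (Finset.sum_eq_zero fun d hd => if_neg (hex d hd))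
      rcases h01 with h | h
      · rw [ro, h, resC_zero] at h1; exact absurd h1 zero_ne_one
      · exact h
    · rw [if_neg hχ, zero_mul]
  rw [coeff_blockIdem, ← heB, ← hsum, blockOrbit, orbitSum, Finset.mul_sum, MonoidAlgebra.coeff_sum,
    Finsupp.finsetSum_apply]
  refine memLocalIdeal_sum _ _ fun b' hb' => ?_
  obtain ⟨-, ⟨g, -⟩, rfl⟩ := mem_orbitBlocks.1 hb'
  have hconj : embH N (blockIdem (conjBlk (mem_normalizer_of_normal g) b)) =
      MonoidAlgebra.single g (1 : ℂ) * F * MonoidAlgebra.single g⁻¹ 1 :=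
    MonoidAlgebra.ext (Finsupp.ext fun x => by
      rw [coeff_embH_blockIdem_conj, MonoidAlgebra.coeff_mul_single_apply,
        MonoidAlgebra.coeff_single_mul_apply, one_mul, mul_one, inv_inv, hF, mul_assoc])
  rw [hconj, ← mul_assoc, ← mul_assoc, (hcen (MonoidAlgebra.single g 1)).eq,
    mul_assoc (MonoidAlgebra.single g (1 : ℂ)) eB F, ← he, MonoidAlgebra.coeff_mul_single_apply,
    MonoidAlgebra.coeff_single_mul_apply, one_mul, mul_one]
  exact hzero _

/-- In a normal subgroup of `p`-power index the covering block is unique. -/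
theorem covers_unique (hM : IsPModular p M) (hidx : ∃ k : ℕ, N.index = p ^ k) {B B' : Set (IrrCharacter G)}
    {b : Set (IrrCharacter N)} (hB : IsPBlock M B) (hB' : IsPBlock M B') (hb : IsPBlock M b)
    (hc : Covers B b) (hc' : Covers B' b) : B = B' := by
  have hs : InCoset N 1 (blockIdem B) := fun x hx => by
    rw [← coeff_blockIdem]
    refine blockCoeff_eq_zero_of_dvd hM hB ?_
    by_contra hreg
    refine hx ?_
    obtain ⟨k, hk⟩ := hidx
    exact (by
      have h1 : orderOf (x : G ⧸ N) ∣ p ^ k := by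
        rw [← hk, Subgroup.index_eq_card]; exact orderOf_dvd_natCard _
      have h2 : orderOf (x : G ⧸ N) ∣ orderOf x := orderOf_map_dvd (QuotientGroup.mk' N) x
      refine orderOf_eq_one_iff.1 (Nat.eq_one_of_dvd_one ?_)
      rw [← (((Nat.Prime.coprime_iff_not_dvd hM.1).2 hreg).pow_left k)]
      exact Nat.dvd_gcd h1 h2)
  obtain ⟨χ, hχ⟩ := isPBlock_nonempty hB
  obtain ⟨χ', hχ'⟩ := isPBlock_nonempty hB'
  obtain ⟨θ, hθ⟩ := isPBlock_nonempty hb
  have h1 := ro_eq_of_covers hB hb hc hχ hθ (CL.blockIdem hB) hs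
  rw [← ro_eq_of_covers hB' hb hc' hχ' hθ (CL.blockIdem hB) hs, ro_blockIdem_mem hχ] at h1
  by_contra hne
  rw [ro_blockIdem_notMem fun h => hne (isPBlock_eq_of_mem hB hB' h hχ')] at h1
  exact one_ne_zero h1

end Cfsg.Agent.Block
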