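import Cfsg.Agent.Lib.Block.CoverSylow

/-!
# Stable blocks of normal subgroups of `p`-power index
-/

set_option autoImplicit false

open Cfsg.Agent.Char
open scoped ComplexConjugate Pointwise

namespace Cfsg.Agent.Block

universe u

variable {G : Type u} [Group G] [Fintype G] {M : Ideal AlgInt} [hMp : M.IsPrime] {p : ℕ}
  {N : Subgroup G} [hN : N.Normal] [Fintype N] {B : Set (IrrCharacter G)} {c : Set (IrrCharacter N)}

omit [Fintype N] in
theorem blockOrbit_of_stable (hc : IsPBlock M c)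
    (hst : ∀ g : G, conjBlk (mem_normalizer_of_normal (N := N) g) c = c) :
    blockOrbit M c = embH N (blockIdem c) := by
  have hmem : c ∈ orbitBlocks M ⊤ (fun x (_ : x ∈ (⊤ : Subgroup G)) => mem_normalizer_of_normal (N := N) x) c :=
    mem_orbitBlocks.2 ⟨hc, 1, (conjBlk_one _ c).symm⟩
  rw [blockOrbit, orbitSum, Finset.sum_eq_single c (fun d hd hne => ?_) (fun h => absurd hmem h)]
  obtain ⟨-, n, rfl⟩ := mem_orbitBlocks.1 hd
  exact absurd (hst n) hne

/-- The idempotent of a stable block is that of the block covering it. -/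
theorem blockCoeff_eq_of_covers (hM : IsPModular p M) (hidx : ∃ k : ℕ, N.index = p ^ k)
    (hc : IsPBlock M c) (hst : ∀ g : G, conjBlk (mem_normalizer_of_normal (N := N) g) c = c)
    (hB : IsPBlock M B) (hcov : Covers B c) (g : G) :
    blockCoeff B g = subgroupBlockCoeff N c g := by
  classical
  rw [coe_subgroupBlockCoeff, ← blockOrbit_of_stable hc hst, coeff_blockIdem]
  refine congrArg (fun a : MonoidAlgebra ℂ G => a.coeff g) ?_
  refine eq_of_omega_eq (isCentralElt_blockIdem B) (cl_blockOrbit c).1 fun χ => ?_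
  rw [omega_blockIdem]
  split
  next hχ => rw [omega_blockOrbit_eq_one hB hc hcov hχ]
  next hχ =>
    rcases omega_blockOrbit_zero_or_one (M := M) c χ with h | h
    · rw [h]
    · obtain ⟨θ, hθ, hin⟩ := (exists_constituent_iff (M := M) hc χ).2 (by rw [ro, h, resC_one])
      exact absurd (covers_unique hM hidx hB (isPBlock_blockOf χ) hc hcov
        ⟨χ, self_mem_blockOf χ, θ, hθ, hin⟩ ▸ self_mem_blockOf χ) hχ

/-- The covering block of a stable block. -/
theorem exists_block_of_stable (hM : IsPModular p M) (hidx : ∃ k : ℕ, N.index = p ^ k)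
    (hc : IsPBlock M c) (hst : ∀ g : G, conjBlk (mem_normalizer_of_normal (N := N) g) c = c) :
    ∃ B : Set (IrrCharacter G), IsPBlock M B ∧ Covers B c ∧
      ∀ g : G, blockCoeff B g = subgroupBlockCoeff N c g := by
  obtain ⟨θ, hθ⟩ := isPBlock_nonempty hc
  obtain ⟨χ, hχ⟩ := exists_above_char (G := G) θ
  have hcov : Covers (blockOf M (χ : G → ℂ)) c := ⟨χ, self_mem_blockOf χ, θ, hθ, hχ⟩
  exact ⟨_, isPBlock_blockOf χ, hcov,
    blockCoeff_eq_of_covers hM hidx hc hst (isPBlock_blockOf χ) hcov⟩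

theorem covers_of_blockCoeff_eq (hc : IsPBlock M c)
    (hst : ∀ g : G, conjBlk (mem_normalizer_of_normal (N := N) g) c = c) (hB : IsPBlock M B)
    (he : ∀ g : G, blockCoeff B g = subgroupBlockCoeff N c g) : Covers B c := by
  obtain ⟨χ, hχ⟩ := isPBlock_nonempty hB
  have h : ro M χ (blockOrbit M c) = 1 := by
    rw [blockOrbit_of_stable hc hst, show embH N (blockIdem c) = blockIdem B from
      MonoidAlgebra.ext (Finsupp.ext fun g => by rw [← coeff_blockIdem, he, coe_subgroupBlockCoeff]),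
      ro_blockIdem_mem hχ]
  obtain ⟨θ, hθ, hin⟩ := (exists_constituent_iff (M := M) hc χ).2 h
  exact ⟨χ, hχ, θ, hθ, hin⟩

theorem defectGroup_of_stable [Fact p.Prime] (hM : IsPModular p M) (hidx : ∃ k : ℕ, N.index = p ^ k)
    (hc : IsPBlock M c) (hst : ∀ g : G, conjBlk (mem_normalizer_of_normal (N := N) g) c = c)
    (hB : IsPBlock M B) (hcov : Covers B c) {P : Subgroup G} (hP : IsDefectGroup p M B P) :
    N ⊔ P = ⊤ ∧ IsDefectGroup p M c ((P ⊓ N).subgroupOf N) := by
  obtain ⟨h1, h2, -⟩ := fong_max hM hc hst hB hcov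
    (fun B' hB' hc' => (covers_unique hM hidx hB' hB hc hc' hcov ▸ le_refl _)) hP
  refine ⟨?_, h2⟩
  obtain ⟨k, hk⟩ := hidx
  have hdvd : (P ⊔ N).index ∣ p ^ k := hk ▸ Subgroup.index_dvd_of_le le_sup_right
  obtain ⟨j, -, hj⟩ := (Nat.dvd_prime_pow (Fact.out : p.Prime)).1 hdvd
  rcases j with _ | j
  · rw [pow_zero, Subgroup.index_eq_one] at hj
    rw [sup_comm]; exact hj
  · exact absurd (hj ▸ dvd_pow_self p j.succ_ne_zero) h1

end Cfsg.Agent.Block
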