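import Cfsg.Agent.Lib.Block.CoverSylow
import Cfsg.Agent.Lib.Block.CompBlock
import Cfsg.Agent.Lib.Block.CoverPPower

/-!
# Covering through an intermediate normal subgroup of p-power index
-/

set_option autoImplicit false
set_option linter.style.haveILetI false
set_option linter.unusedSectionVars false

open Cfsg.Agent.Char
open scoped ComplexConjugate Pointwise

namespace Cfsg.Agent.Block

universe u

variable {G : Type u} [Group G] [Fintype G] {M : Ideal AlgInt} [hMp : M.IsPrime] {p : ℕ} [Fact p.Prime]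
  {N L : Subgroup G} [hN : N.Normal] [hL : L.Normal] [Fintype N]

theorem conjIrr_self_of_mem (n : N) (θ : IrrCharacter N) :
    conjIrr (mem_normalizer_of_normal (N := N) (n : G)) θ = θ := by
  refine Subtype.ext (funext fun k => ?_)
  rw [conjIrr_apply]
  have h := IsCharacter.isClassFunction (IsIrrCharacter.isCharacter θ.2) k n⁻¹
  rw [inv_inv] at h
  refine Eq.trans (congrArg (θ : N → ℂ) (Subtype.ext ?_)) h
  simp

theorem conjBlk_ext' {x y : G} (h : x = y) (c : Set (IrrCharacter N)) :
    conjBlk (mem_normalizer_of_normal (N := N) x) c = conjBlk (mem_normalizer_of_normal (N := N) y) c := by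
  subst h; rfl

theorem conjBlk_mul' (x y : G) (c : Set (IrrCharacter N)) :
    conjBlk (mem_normalizer_of_normal (N := N) (x * y)) c =
      conjBlk (mem_normalizer_of_normal (N := N) x) (conjBlk (mem_normalizer_of_normal (N := N) y) c) :=
  conjBlk_mul _ _ c

/-- A stabiliser in `L` of a covered block has trivial `p`-part outside `N`, when the defect group
of the covering block lies in `N`. -/
theorem stab_le_of_defect_le (hM : IsPModular p M) (hNL : N ≤ L) (hLN : ∃ k : ℕ, (N.subgroupOf L).index = p ^ k)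
    {B : Set (IrrCharacter G)} (hB : IsPBlock M B) {c : Set (IrrCharacter N)} (hc : IsPBlock M c)
    (hcov : Covers B c) {D : Subgroup G} (hD : IsDefectGroup p M B D) (hDN : D ≤ N) {x : G} (hxL : x ∈ L)
    (hxp : ∃ k : ℕ, orderOf x = p ^ k) (hx : conjBlk (mem_normalizer_of_normal (N := N) x) c = c) : x ∈ N := by
  classical
  haveI := Fintype.ofFinite L
  let N' : Subgroup L := N.subgroupOf L
  haveI := Fintype.ofFinite N'
  let e : N' ≃* N := Subgroup.subgroupOfEquivOfLe hNL
  obtain ⟨χ, hχ, hχc⟩ := hcov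
  obtain ⟨η, hη⟩ := exists_constituent' (N := L) χ
  obtain ⟨φ', hφ'⟩ := exists_constituent' (N := N') η
  let φ : IrrCharacter N := compIrr e.symm φ'
  have hφ : compIrr e φ = φ' := Subtype.ext (funext fun k => by
    rw [compIrr_apply, compIrr_apply, MulEquiv.symm_apply_apply])
  -- the block of `φ` is conjugate to `c`
  have hX := cl_blockOrbit (M := M) (G := G) c
  have hXs : InCoset L 1 (blockOrbit M c) := fun g hg => inCoset_blockOrbit c g fun h => hg
    ((QuotientGroup.eq_one_iff g).2 (hNL ((QuotientGroup.eq_one_iff g).1 h)))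
  have hXs' : InCoset N' 1 (resH L (blockOrbit M c)) := fun g hg => by
    rw [coeff_resH]
    exact inCoset_blockOrbit c _ fun h => hg ((QuotientGroup.eq_one_iff g).2 ((QuotientGroup.eq_one_iff (g : G)).1 h))
  have h1 : ro M φ (resH N (blockOrbit M c)) = 1 := by
    have h0 := (exists_constituent_iff (M := M) hc χ).1 hχc
    rw [ro, omega_eq_of_constituent χ η hη hX.1 hXs,
      omega_eq_of_constituent η φ' hφ' (isCentralElt_resH L hX.1) hXs'] at h0
    rw [← h0, ro, omega_eq_sum, omega_eq_sum]
    congr 2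
    · refine (Fintype.sum_equiv e.toEquiv _ _ fun k => ?_).symm
      show _ = (resH N (blockOrbit M c)).coeff (e k) * _
      rw [compIrr_apply, show e.symm (e.toEquiv k) = k from e.symm_apply_apply k]
      rfl
  have horb : blockOf M (φ : N → ℂ) ∈ orbitBlocks M ⊤ (fun y _ => mem_normalizer_of_normal y) c := by
    by_contra h
    exact one_ne_zero (h1.symm.trans ((lam_orbitSum (M := M)
      (fun y (_ : y ∈ (⊤ : Subgroup G)) => mem_normalizer_of_normal (N := N) y) c (isPBlock_blockOf φ)
      (self_mem_blockOf φ)).2 h))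
  obtain ⟨-, ⟨g, hgT⟩, hg⟩ := mem_orbitBlocks.1 horb
  -- `y = g x g⁻¹` fixes `d`
  set d := blockOf M (φ : N → ℂ) with hd
  change d = conjBlk (mem_normalizer_of_normal (N := N) g) c at hg
  set y := g * x * g⁻¹ with hy
  have hyd : ∀ i : ℤ, conjBlk (mem_normalizer_of_normal (N := N) (y ^ i)) d = d := by
    have hpos : conjBlk (mem_normalizer_of_normal (N := N) y) d = d := by
      rw [hg, ← conjBlk_mul', conjBlk_ext' (show y * g = g * x by rw [hy]; group), conjBlk_mul', hx]
    have hneg : conjBlk (mem_normalizer_of_normal (N := N) y⁻¹) d = d := by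
      conv_lhs => rw [← hpos, ← conjBlk_mul', conjBlk_ext' (inv_mul_cancel y)]
      exact conjBlk_one _ d
    intro i
    induction i with
    | zero => rw [conjBlk_ext' (zpow_zero y)]; exact conjBlk_one _ d
    | succ i ih => rw [conjBlk_ext' (zpow_add_one y _), conjBlk_mul', hpos, ih]
    | pred i ih => rw [conjBlk_ext' (zpow_sub_one y _), conjBlk_mul', hneg, ih]
  have hyL : y ∈ L := hL.conj_mem x hxL g
  -- everything inside `L`
  let d' : Set (IrrCharacter N') := compIrr e '' d
  have hd' : IsPBlock M d' := isPBlock_comp e (isPBlock_blockOf φ)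
  let y' : L := ⟨y, hyL⟩
  have hfix : ∀ t ∈ Subgroup.zpowers y', conjBlk (mem_normalizer_of_normal (N := N') t) d' = d' := by
    intro t ht
    obtain ⟨i, rfl⟩ := Subgroup.mem_zpowers_iff.1 ht
    show conjIrr (mem_normalizer_of_normal (N := N') (y' ^ i)) '' (compIrr e '' d) = compIrr e '' d
    conv_rhs => rw [← hyd i]
    rw [conjBlk, Set.image_image, Set.image_image]
    refine Set.image_congr fun θ _ => Subtype.ext (funext fun k => ?_)
    rw [conjIrr_apply, compIrr_apply, compIrr_apply, conjIrr_apply]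
    exact congrArg (θ : N → ℂ) (Subtype.ext (by
      show (((y' ^ i : L))⁻¹ * (k : L) * (y' ^ i) : L).val = (y ^ i)⁻¹ * ((k : L) : G) * y ^ i
      simp [y']))
  have hS : IsPGroup p (Subgroup.zpowers y') := by
    obtain ⟨k, hk⟩ := hxp
    refine IsPGroup.of_card (n := k) ?_
    rw [Nat.card_zpowers, ← hk, show orderOf y' = orderOf ((y' : L) : G) from (Subgroup.orderOf_coe y').symm]
    exact orderOf_injective (MulAut.conj g).toMonoidHom (MulAut.conj g).injective x
  obtain ⟨b', P, hb', hcb', hP, hle⟩ := exists_covers_card_ge hM hS hd' hfix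
  have hcη : Covers (blockOf M (η : L → ℂ)) d' :=
    ⟨η, self_mem_blockOf η, φ', ⟨φ, self_mem_blockOf φ, hφ⟩, hφ'⟩
  obtain rfl := covers_unique hM hLN hb' (isPBlock_blockOf η) hd' hcb' hcη
  obtain ⟨h, -, hDh⟩ := exists_covered_defectGroup hM hB (isPBlock_blockOf η) ⟨χ, hχ, η, self_mem_blockOf η, hη⟩ hD
  have hP' : P ≤ N' := by
    have h2 := isDefectGroup_comp (normConj (mem_normalizer_of_normal (N := L) h⁻¹)) hDh
    have himg : compIrr (normConj (mem_normalizer_of_normal (N := L) h⁻¹)) ''
        conjBlk (mem_normalizer_of_normal (N := L) h) (blockOf M (η : L → ℂ)) = blockOf M (η : L → ℂ) := by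
      show conjBlk (mem_normalizer_of_normal h⁻¹) (conjBlk (mem_normalizer_of_normal h) _) = _
      rw [← conjBlk_mul]
      convert conjBlk_one (one_mem _) (blockOf M (η : L → ℂ))
      exact inv_mul_cancel h
    rw [himg] at h2
    obtain ⟨l, hl⟩ := isDefectGroup_conj hM hb' h2 hP
    rw [hl]
    rintro _ ⟨_, ⟨q, hq, rfl⟩, rfl⟩
    have hqN : (q : G) ∈ N := hDN hq.1
    show ((MulAut.conj l ((normConj (mem_normalizer_of_normal (N := L) h⁻¹)).symm q) : L) : G) ∈ N
    exact hN.conj_mem _ (hN.conj_mem _ hqN _) _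
  have hP1 : P.map (QuotientGroup.mk' N') = ⊥ := by
    rw [eq_bot_iff]
    rintro _ ⟨q, hq, rfl⟩
    exact Subgroup.mem_bot.2 ((QuotientGroup.eq_one_iff q).2 (hP' hq))
  rw [hP1, Subgroup.card_bot] at hle
  have hbot := Subgroup.eq_bot_of_card_le _ hle
  have hyN : y ∈ N := by
    have := Subgroup.mem_map_of_mem (QuotientGroup.mk' N') (Subgroup.mem_zpowers y')
    rw [hbot, Subgroup.mem_bot] at this
    exact (QuotientGroup.eq_one_iff y').1 this
  have h3 := hN.conj_mem y hyN g⁻¹
  rw [hy] at h3
  simpa [mul_assoc] using h3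

end Cfsg.Agent.Block
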