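import Cfsg.Agent.Lib.Block.StabBlock

/-!
# Normalisers in a maximal pair and blocks of stabilisers
-/

set_option autoImplicit false

open Cfsg.Agent.Char
open scoped ComplexConjugate Pointwise

namespace Cfsg.Agent.Block

universe u

local notation "CG(" P ")" => Subgroup.centralizer (SetLike.coe P)

variable {G : Type u} [Group G] [Finite G] {M : Ideal AlgInt} [hMp : M.IsPrime] {p : ℕ}
  {P Q T : Subgroup G} {e : Set (IrrCharacter (Subgroup.centralizer (P : Set G)))}
  {f : Set (IrrCharacter (Subgroup.centralizer (Q : Set G)))} {B : Set (IrrCharacter G)}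

/-- The block of `T` with the idempotent of `f`. -/
def IsBlockOfStab (M : Ideal AlgInt) (Q T : Subgroup G)
    (f : Set (IrrCharacter (Subgroup.centralizer (Q : Set G)))) (F : Set (IrrCharacter T)) : Prop :=
  IsPBlock M F ∧
    ∀ t : T, blockCoeff F t = subgroupBlockCoeff (Subgroup.centralizer (Q : Set G)) f (t : G)

/-- `T` is the stabiliser of `f` in the normaliser of `Q`. -/
def IsStab (Q T : Subgroup G) (f : Set (IrrCharacter (Subgroup.centralizer (Q : Set G)))) : Prop :=
  ∀ y : G, y ∈ T ↔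
    y ∈ Subgroup.normalizer (Q : Set G) ∧ StabilizesBlock (Subgroup.centralizer (Q : Set G)) f y

omit [Finite G] in
theorem mem_map_conj_iff (T : Subgroup G) (x y : G) :
    y ∈ T.map (MulAut.conj x).toMonoidHom ↔ x⁻¹ * y * x ∈ T := by
  rw [Subgroup.mem_map_equiv]
  rfl

theorem conjBlk_conjBlock (Q : Subgroup G) (x y : G)
    (f : Set (IrrCharacter (Subgroup.centralizer (Q : Set G))))
    (hy : y ∈ Subgroup.normalizer (Subgroup.centralizer
      ((Q.map (MulAut.conj x).toMonoidHom : Subgroup G) : Set G) : Set G))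
    (hy' : x⁻¹ * y * x ∈ Subgroup.normalizer (Subgroup.centralizer (Q : Set G) : Set G)) :
    conjBlk hy (conjBlock Q x f) = conjBlock Q x (conjBlk hy' f) := by
  rw [conjBlock_eq, conjBlock_eq, conjBlk, conjBlk, Set.image_image, Set.image_image]
  refine Set.image_congr fun θ _ => Subtype.ext (funext fun c => ?_)
  simp only [compIrr_apply, conjIrr_apply]
  refine congrArg (θ : Subgroup.centralizer (Q : Set G) → ℂ) (Subtype.ext ?_)
  show x⁻¹ * (y⁻¹ * (c : G) * y) * x = (x⁻¹ * y * x)⁻¹ * (x⁻¹ * (c : G) * x) * (x⁻¹ * y * x)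
  group

theorem conjBlock_injective (Q : Subgroup G) (x : G) :
    Function.Injective (fun f : Set (IrrCharacter (Subgroup.centralizer (Q : Set G))) =>
      conjBlock Q x f) := by
  intro a b h
  simp only [conjBlock_eq] at h
  exact Set.image_injective.2 (compIrr_injective _) h

theorem IsStab.map (hT : IsStab Q T f) (hf : IsPBlock M f) (x : G) :
    IsStab (Q.map (MulAut.conj x).toMonoidHom) (T.map (MulAut.conj x).toMonoidHom)
      (conjBlock Q x f) := by
  intro y
  have hN : y ∈ Subgroup.normalizer ((Q.map (MulAut.conj x).toMonoidHom : Subgroup G) : Set G) ↔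
      x⁻¹ * y * x ∈ Subgroup.normalizer (Q : Set G) := by
    rw [show Q.map (MulAut.conj x).toMonoidHom = Q.map (MulAut.conj x : G ≃* G).toMonoidHom from rfl,
      ← Subgroup.map_equiv_normalizer_eq Q (MulAut.conj x : G ≃* G), ← mem_map_conj_iff]
  rw [mem_map_conj_iff, hT, hN]
  refine and_congr_right fun h => ?_
  rw [stabilizesBlock_iff hf, stabilizesBlock_iff (isPBlock_conjBlock x hf)]
  have hy' := le_normalizer_centralizer le_rfl h
  have hy := le_normalizer_centralizer le_rfl (hN.2 h)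
  exact ⟨fun ⟨_, h1⟩ => ⟨hy, by rw [conjBlk_conjBlock Q x y f hy hy', h1]⟩,
    fun ⟨_, h1⟩ => ⟨hy', conjBlock_injective Q x ((conjBlk_conjBlock Q x y f hy hy').symm.trans h1)⟩⟩

theorem IsStab.le_normalizer (hT : IsStab Q T f) : T ≤ Subgroup.normalizer (Q : Set G) :=
  fun _ ht => ((hT _).1 ht).1

theorem IsStab.mem_of_fixed (hT : IsStab Q T f) (hf : IsPBlock M f) {y : G}
    (hy : y ∈ Subgroup.normalizer (Q : Set G))
    (h : ∃ hq : y ∈ Subgroup.normalizer (Subgroup.centralizer (Q : Set G) : Set G),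
      conjBlk hq f = f) : y ∈ T :=
  (hT y).2 ⟨hy, (stabilizesBlock_iff hf).2 h⟩

theorem IsStab.sup_le (hT : IsStab Q T f) (hf : IsPBlock M f) :
    Q ⊔ Subgroup.centralizer (Q : Set G) ≤ T := fun _ hy =>
  hT.mem_of_fixed hf ((_root_.sup_le Subgroup.le_normalizer (centralizer_le_normalizer' Q)) hy)
    (conjBlk_of_mem_sup hy)

theorem IsStab.fixed (hT : IsStab Q T f) (hf : IsPBlock M f) :
    ∀ t ∈ T, ∃ ht : t ∈ Subgroup.normalizer (Subgroup.centralizer (Q : Set G) : Set G),
      conjBlk ht f = f := fun t ht => (stabilizesBlock_iff hf).1 ((hT t).1 ht).2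

theorem IsBlockOfStab.unique {F F' : Set (IrrCharacter T)} (h : IsBlockOfStab M Q T f F)
    (h' : IsBlockOfStab M Q T f F') : F = F' :=
  eq_of_blockCoeff_eq fun t => by rw [h.2, h'.2]

variable [Fact p.Prime]

theorem IsStab.exists_block (hT : IsStab Q T f) (hM : IsPModular p M) (hf : IsBrauerPair p M Q f) :
    ∃ F, IsBlockOfStab M Q T f F :=
  exists_stab_block hM hf.1 (le_sup_left.trans (hT.sup_le hf.2)) hT.le_normalizer
    (le_sup_right.trans (hT.sup_le hf.2)) hf.2 (hT.fixed hf.2)

/-- `N_P(Q)` is contained in a defect group. -/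
theorem exists_defectGroup_normalizerIn (hM : IsPModular p M) (hPe : IsBrauerPair p M P e)
    (hle : SubpairLE p M Q f P e) (hT : IsStab Q T f) {F : Set (IrrCharacter T)}
    (hF : IsBlockOfStab M Q T f F) :
    P ⊓ Subgroup.normalizer (Q : Set G) ≤ T ∧ ∃ D : Subgroup T, IsDefectGroup p M F D ∧
      (P ⊓ Subgroup.normalizer (Q : Set G)).subgroupOf T ≤ D := by
  have hQR : Q ≤ P ⊓ Subgroup.normalizer (Q : Set G) := le_inf (SubpairLE.le hle) Subgroup.le_normalizer
  obtain ⟨g, hg, -⟩ := existsUnique_subpair hM P e hPe _ (inf_le_left (b := Subgroup.normalizer (Q : Set G)))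
  have hgp := isBrauerPair_of_le hg hPe
  obtain ⟨f', hf', -⟩ := existsUnique_normalSubpair hM hgp hQR inf_le_right
  obtain rfl : f' = f := (existsUnique_subpair hM P e hPe Q (SubpairLE.le hle)).unique
    (Relation.ReflTransGen.head (show NormalSubpairRel p M ⟨Q, f'⟩ ⟨_, g⟩ from hf') hg) hle
  have hRT : P ⊓ Subgroup.normalizer (Q : Set G) ≤ T := fun y hy =>
    hT.mem_of_fixed hf'.1.2 hy.2 (IsNormalSubpair.fixed hf' y hy)
  exact ⟨hRT, exists_defectGroup_stab hM hf' hRT (le_sup_right.trans (hT.sup_le hf'.1.2)) hF.1 hF.2⟩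

theorem card_defectGroup_stab_map (hM : IsPModular p M) (x : G) {F : Set (IrrCharacter T)}
    (hF : IsBlockOfStab M Q T f F)
    {F' : Set (IrrCharacter (T.map (MulAut.conj x).toMonoidHom : Subgroup G))}
    (hF' : IsBlockOfStab M (Q.map (MulAut.conj x).toMonoidHom) _ (conjBlock Q x f) F')
    {D : Subgroup T} (hD : IsDefectGroup p M F D)
    {D' : Subgroup (T.map (MulAut.conj x).toMonoidHom : Subgroup G)}
    (hD' : IsDefectGroup p M F' D') : Nat.card D' = Nat.card D := by
  let ε : (T.map (MulAut.conj x).toMonoidHom : Subgroup G) ≃* T :=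
    (T.equivMapOfInjective _ (MulAut.conj x).injective).symm
  have hcoe : ∀ t, x * ((ε t : T) : G) * x⁻¹ = (t : G) := fun t =>
    congrArg Subtype.val ((T.equivMapOfInjective (MulAut.conj x).toMonoidHom
      (MulAut.conj x).injective).apply_symm_apply t)
  obtain rfl : F' = compIrr ε '' F := eq_of_blockCoeff_eq fun t => by
    rw [hF'.2, blockCoeff_comp, hF.2, coe_subgroupBlockCoeff, coe_subgroupBlockCoeff,
      coeff_embH_conjBlock]
    congr 1
    conv_lhs => rw [← hcoe t]
    group
  rw [card_defectGroup hM hF'.1 hD', ← card_defectGroup hM hF'.1 (isDefectGroup_comp ε hD)]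
  exact Nat.card_congr (D.equivMapOfInjective _ ε.symm.injective).toEquiv.symm

theorem card_normalizerIn_le (hM : IsPModular p M) (hPe : IsBrauerPair p M P e)
    (hf : IsBrauerPair p M Q f) (hT : IsStab Q T f) {F : Set (IrrCharacter T)}
    (hF : IsBlockOfStab M Q T f F) {D : Subgroup T} (hD : IsDefectGroup p M F D) {y : G}
    (hy : SubpairLE p M (Q.map (MulAut.conj y).toMonoidHom) (conjBlock Q y f) P e) :
    Nat.card (P ⊓ Subgroup.normalizer ((Q.map (MulAut.conj y).toMonoidHom : Subgroup G) : Set G) :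
      Subgroup G) ≤ Nat.card D := by
  have hT' := hT.map hf.2 y
  obtain ⟨F', hF'⟩ := hT'.exists_block hM (IsBrauerPair.conj hf y)
  obtain ⟨hR, D', hD', hle⟩ := exists_defectGroup_normalizerIn hM hPe hy hT' hF'
  rw [← card_defectGroup_stab_map hM y hF hF' hD hD',
    ← Nat.card_congr (Subgroup.subgroupOfEquivOfLe hR).toEquiv]
  exact Subgroup.card_le_of_le hle

theorem exists_card_normalizerIn_ge (hM : IsPModular p M) (hmax : IsMaximalBrauerPair p M B P e)
    (hle : SubpairLE p M Q f P e) (hT : IsStab Q T f) {F : Set (IrrCharacter T)}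
    (hF : IsBlockOfStab M Q T f F) {D : Subgroup T} (hD : IsDefectGroup p M F D) :
    ∃ x : G, SubpairLE p M (Q.map (MulAut.conj x).toMonoidHom) (conjBlock Q x f) P e ∧
      Nat.card D ≤ Nat.card (P ⊓
        Subgroup.normalizer ((Q.map (MulAut.conj x).toMonoidHom : Subgroup G) : Set G) : Subgroup G) := by
  have hpair := (SubpairLE.pairOf_iff hM hle B).1 hmax.1
  have hf := hpair.1.2
  have hQT : Q ≤ T := le_sup_left.trans (hT.sup_le hf)
  have hCT : CG(Q) ≤ T := le_sup_right.trans (hT.sup_le hf)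
  haveI : (Q.subgroupOf T).Normal :=
    (Subgroup.normal_subgroupOf_iff_le_normalizer hQT).2 hT.le_normalizer
  have hDT : D.map T.subtype ≤ T := Subgroup.map_subtype_le D
  have hQD : Q ≤ D.map T.subtype := fun q hq =>
    ⟨⟨q, hQT hq⟩, pCore_le_defectGroup hM hF.1 hD (Q.subgroupOf T) hpair.1.1.comap_subtype hq, rfl⟩
  obtain ⟨g, hg, S, hS⟩ := id hD
  have hne : brFun M (D.map T.subtype) (embH CG(Q) (blockIdem f)) ≠ 0 := fun h0 => by
    have hy : (g : G) ∈ Subgroup.centralizer ((D.map T.subtype : Subgroup G) : Set G) := by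
      refine mem_centralizer_subgroup.2 ?_
      rintro _ ⟨d, hd, rfl⟩
      rw [mem_centralizer_singleton]
      have hd' : d ∈ Subgroup.centralizer ({g} : Set T) := sylowImage_le S (hS.le hd)
      exact (mem_centralizer_singleton.1 hd').map T.subtype
    have h1 := (brFun_eq_zero_iff (isLocElt_embH _ (isLocElt_blockIdem hf))).1 h0 _ hy
    rw [← coe_subgroupBlockCoeff, ← hF.2] at h1
    exact hg.2.1 h1
  obtain ⟨e', he'⟩ := exists_extension hM hpair.1 ((isPGroup_of_isDefectGroup hD).map _) hQD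
    (hDT.trans hT.le_normalizer) (fun q hq => hT.fixed hf q (hDT hq)) hne
  obtain ⟨x, hx⟩ := exists_conj_le_maximal hM hmax ((IsNormalSubpair.pairOf_iff hM he' B).2 hpair)
  refine ⟨x, Relation.ReflTransGen.trans (SubpairLE.conj (Relation.ReflTransGen.single
    (show NormalSubpairRel p M ⟨Q, f⟩ ⟨_, e'⟩ from he')) x) hx, ?_⟩
  rw [← Subgroup.card_map_of_injective T.subtype_injective (K := D), ← card_map_conj (D.map T.subtype) x]
  exact Subgroup.card_le_of_le
    (le_inf (SubpairLE.le hx) (map_conj_normalizer (hDT.trans hT.le_normalizer) x))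

theorem isDefectGroup_normalizerIn_iff (hM : IsPModular p M) (hPe : IsBrauerPair p M P e)
    (hle : SubpairLE p M Q f P e) (hT : IsStab Q T f) {F : Set (IrrCharacter T)}
    (hF : IsBlockOfStab M Q T f F) {D : Subgroup T} (hD : IsDefectGroup p M F D) :
    IsDefectGroup p M F ((P ⊓ Subgroup.normalizer (Q : Set G)).subgroupOf T) ↔
      Nat.card (P ⊓ Subgroup.normalizer (Q : Set G) : Subgroup G) = Nat.card D := by
  obtain ⟨hR, D', hD', hle'⟩ := exists_defectGroup_normalizerIn hM hPe hle hT hF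
  have hc := Nat.card_congr (Subgroup.subgroupOfEquivOfLe hR).toEquiv
  refine ⟨fun h => ?_, fun h => ?_⟩
  · rw [← hc, card_defectGroup hM hF.1 h, card_defectGroup hM hF.1 hD]
  · rwa [Subgroup.eq_of_le_of_card_ge hle' (by
      rw [hc, h, card_defectGroup hM hF.1 hD', card_defectGroup hM hF.1 hD])]

end Cfsg.Agent.Block
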