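import Cfsg.Agent.Lib.Block.Cover
import Cfsg.Agent.Lib.Block.StabPair
import Cfsg.Agent.Lib.Block.Height

/-!
# Defect groups of covering and covered blocks
-/

set_option autoImplicit false

open Cfsg.Agent.Char
open scoped ComplexConjugate Pointwise

namespace Cfsg.Agent.Block

universe u

variable {G : Type u} [Group G] [Fintype G] {M : Ideal AlgInt} [hMp : M.IsPrime] {p : ℕ}
  {N : Subgroup G} [hN : N.Normal] [Fintype N] {B : Set (IrrCharacter G)} {b : Set (IrrCharacter N)}

theorem omega_blockOrbit_zero_or_one (b : Set (IrrCharacter N)) (χ : IrrCharacter G) :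
    omega (χ : G → ℂ) (blockOrbit M b) = 0 ∨ omega (χ : G → ℂ) (blockOrbit M b) = 1 := by
  classical
  obtain ⟨φ, hφ⟩ := exists_constituent' (N := N) χ
  rw [omega_eq_of_constituent χ φ hφ (cl_blockOrbit b).1 (inCoset_blockOrbit b), blockOrbit,
    orbitSum, resH_sum, omega_sum]
  simp only [resH_embH, omega_blockIdem]
  by_cases hex : ∃ b' ∈ orbitBlocks M ⊤ (fun x _ => mem_normalizer_of_normal x) b, φ ∈ b'
  · obtain ⟨b', hb', hφb⟩ := hex
    refine Or.inr ?_
    rw [Finset.sum_eq_single b' (fun d hd hne => if_neg fun h => hne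
      (isPBlock_eq_of_mem (mem_orbitBlocks.1 hd).1 (mem_orbitBlocks.1 hb').1 h hφb))
      (fun h => absurd hb' h), if_pos hφb]
  · push Not at hex
    exact Or.inl (Finset.sum_eq_zero fun d hd => if_neg (hex d hd))

theorem omega_blockOrbit_eq_one (hB : IsPBlock M B) (hb : IsPBlock M b) (hc : Covers B b)
    {χ : IrrCharacter G} (hχ : χ ∈ B) : omega (χ : G → ℂ) (blockOrbit M b) = 1 := by
  obtain ⟨χ₀, hχ₀, θ₀, hθ₀, hin⟩ := hc
  have h1 := ro_congr hB hχ hχ₀ (cl_blockOrbit (M := M) b)
  rw [(exists_constituent_iff hb χ₀).1 ⟨θ₀, hθ₀, hin⟩] at h1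
  rcases omega_blockOrbit_zero_or_one (M := M) b χ with h | h
  · rw [ro, h, resC_zero] at h1; exact absurd h1 zero_ne_one
  · exact h

theorem blockIdem_mul_blockOrbit (hB : IsPBlock M B) (hb : IsPBlock M b) (hc : Covers B b) :
    blockIdem B * blockOrbit M b = blockIdem B := by
  classical
  refine eq_of_omega_eq ((isCentralElt_blockIdem B).mul (cl_blockOrbit b).1) (isCentralElt_blockIdem B)
    fun χ => ?_
  rw [omega_mul χ (isCentralElt_blockIdem B) (cl_blockOrbit b).1, omega_blockIdem]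
  by_cases hχ : χ ∈ B
  · rw [if_pos hχ, one_mul, omega_blockOrbit_eq_one hB hb hc hχ]
  · rw [if_neg hχ, zero_mul]

omit hMp [Fintype N] in
theorem coeff_mul_conj (g : G) {a : MonoidAlgebra ℂ G} (ha : IsCentralElt a) (b : Set (IrrCharacter N))
    (x : G) :
    (a * embH N (blockIdem (conjBlk (mem_normalizer_of_normal g) b))).coeff x =
      (a * embH N (blockIdem b)).coeff (g⁻¹ * x * g) := by
  have hconj : embH N (blockIdem (conjBlk (mem_normalizer_of_normal g) b)) =
      MonoidAlgebra.single g (1 : ℂ) * embH N (blockIdem b) * MonoidAlgebra.single g⁻¹ 1 :=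
    MonoidAlgebra.ext (Finsupp.ext fun x => by
      rw [coeff_embH_blockIdem_conj, MonoidAlgebra.coeff_mul_single_apply,
        MonoidAlgebra.coeff_single_mul_apply, one_mul, mul_one, inv_inv, mul_assoc])
  rw [hconj, ← mul_assoc, ← mul_assoc, (ha.commute (MonoidAlgebra.single g 1)).eq,
    mul_assoc (MonoidAlgebra.single g (1 : ℂ)) a, MonoidAlgebra.coeff_mul_single_apply,
    MonoidAlgebra.coeff_single_mul_apply, one_mul, mul_one, inv_inv, mul_assoc]

omit [Fintype N] in
theorem covers_conjBlk [Fintype N] (hc : Covers B b) (g : G) :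
    Covers B (conjBlk (mem_normalizer_of_normal g) b) := by
  obtain ⟨χ, hχ, θ, hθ, h⟩ := hc
  exact ⟨χ, hχ, _, ⟨θ, hθ, rfl⟩, by rw [classInner_restrict_conjIrr]; exact h⟩

/-- A `p`-group fixing a visible central element fixes one of the covered blocks visibly. -/
theorem exists_fixed_covered (hM : IsPModular p M) {P : Subgroup G} (hP : IsPGroup p P)
    (hB : IsPBlock M B) (hb : IsPBlock M b) (hc : Covers B b) {y : G}
    (hy : y ∈ Subgroup.centralizer (P : Set G)) (hyu : ¬ MemLocalIdeal M (blockCoeff B y)) :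
    ∃ g : G, (∀ q ∈ P, ∃ hq : q ∈ Subgroup.normalizer (N : Set G),
        conjBlk hq (conjBlk (mem_normalizer_of_normal g) b) = conjBlk (mem_normalizer_of_normal g) b) ∧
      brFun M P (embH N (blockIdem (conjBlk (mem_normalizer_of_normal g) b))) ≠ 0 := by
  classical
  haveI := Fact.mk hM.1
  have hN' : ∀ x ∈ (⊤ : Subgroup G), x ∈ Subgroup.normalizer (N : Set G) :=
    fun x _ => mem_normalizer_of_normal x
  let X := {b' // b' ∈ orbitBlocks M ⊤ hN' b}
  letI : MulAction P X :=
    { smul := fun q b' => ⟨conjBlk (mem_normalizer_of_normal (q : G)) b'.1, by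
        obtain ⟨hb', n, hn⟩ := mem_orbitBlocks.1 b'.2
        refine mem_orbitBlocks.2 ⟨isPBlock_conjBlk _ hb', ⟨(q : G), Subgroup.mem_top _⟩ * n, ?_⟩
        rw [hn]; exact (conjBlk_mul _ _ _).symm⟩
      one_smul := fun b' => Subtype.ext (conjBlk_one (mem_normalizer_of_normal ((1 : P) : G)) b'.1)
      mul_smul := fun q r b' => Subtype.ext (conjBlk_mul (mem_normalizer_of_normal (q : G))
        (mem_normalizer_of_normal (r : G)) b'.1) }
  have hcen := isCentralElt_blockIdem (G := G) B
  have hsum : blockCoeff B y = ∑ b' : X, (blockIdem B * embH N (blockIdem b'.1)).coeff y := by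
    rw [coeff_blockIdem]
    conv_lhs => rw [← blockIdem_mul_blockOrbit hB hb hc]
    rw [blockOrbit, orbitSum, Finset.mul_sum, MonoidAlgebra.coeff_sum, Finsupp.finsetSum_apply]
    exact (Finset.sum_coe_sort _ (fun b' => (blockIdem B * embH N (blockIdem b')).coeff y)).symm
  have hinv : ∀ (q : P) (b' : X), (blockIdem B * embH N (blockIdem (q • b').1)).coeff y =
      (blockIdem B * embH N (blockIdem b'.1)).coeff y := fun q b' => by
    show (blockIdem B * embH N (blockIdem (conjBlk (mem_normalizer_of_normal (q : G)) b'.1))).coeff y = _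
    rw [coeff_mul_conj (q : G) hcen, mul_assoc, ← Subgroup.mem_centralizer_iff.1 hy q q.2,
      inv_mul_cancel_left]
  have hloc : ∀ b' : X, (blockIdem B * embH N (blockIdem b'.1)).coeff y ∈ locRing M := fun b' =>
    ((isLocElt_blockIdem hB).mul (isLocElt_embH N (isLocElt_blockIdem (mem_orbitBlocks.1 b'.2).1))) y
  have hcong := sum_congr_fixed hM hP (fun b' : X => (blockIdem B * embH N (blockIdem b'.1)).coeff y)
    hinv hloc
  obtain ⟨b', hfix, hbu⟩ : ∃ b' : X, (∀ q : P, q • b' = b') ∧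
      ¬ MemLocalIdeal M ((blockIdem B * embH N (blockIdem b'.1)).coeff y) := by
    by_contra! hcon
    refine hyu ?_
    rw [hsum]
    have h2 : MemLocalIdeal M (∑ b' : X, if (∀ q : P, q • b' = b') then
        (blockIdem B * embH N (blockIdem b'.1)).coeff y else 0) :=
      memLocalIdeal_sum _ _ fun b' _ => by
        split
        next h => exact hcon b' h
        · exact memLocalIdeal_zero
    simpa using memLocalIdeal_add hcong h2
  obtain ⟨hb', ⟨g, hgt⟩, hg⟩ := mem_orbitBlocks.1 b'.2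
  have hfix' : ∀ q ∈ P, ∃ hq : q ∈ Subgroup.normalizer (N : Set G),
      conjBlk hq (conjBlk (mem_normalizer_of_normal g) b) = conjBlk (mem_normalizer_of_normal g) b := by
    intro q hq
    refine ⟨mem_normalizer_of_normal q, ?_⟩
    have h := congrArg Subtype.val (hfix ⟨q, hq⟩)
    change conjBlk (mem_normalizer_of_normal q) b'.1 = b'.1 at h
    rwa [hg] at h
  refine ⟨g, hfix', fun h0 => hbu ?_⟩
  rw [hg]
  have hps := ps_embH_blockIdem (isPBlock_conjBlk (mem_normalizer_of_normal g) hb) hfix'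
  have h1 : brFun M P (blockIdem B * embH N (blockIdem (conjBlk (mem_normalizer_of_normal g) b))) = 0 := by
    rw [brFun_mul hM hP ((CL.blockIdem hB).ps P) hps, h0, mul_zero]
  exact (brFun_eq_zero_iff ((((CL.blockIdem hB).ps P).mul hps).1)).1 h1 y hy

theorem brFun_bot_cover_ne_zero (hB : IsPBlock M B) (hb : IsPBlock M b) (hc : Covers B b) :
    brFun M (⊥ : Subgroup G) (blockIdem B * embH N (blockIdem b)) ≠ 0 := fun h => by
  obtain ⟨y, hy⟩ := exists_isDefectClass hB
  refine hy.2.1 ?_
  have hzero := (brFun_bot_eq_zero_iff ((isLocElt_blockIdem hB).mul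
    (isLocElt_embH N (isLocElt_blockIdem hb)))).1 h
  rw [coeff_blockIdem, ← blockIdem_mul_blockOrbit hB hb hc, blockOrbit, orbitSum, Finset.mul_sum,
    MonoidAlgebra.coeff_sum, Finsupp.finsetSum_apply]
  refine memLocalIdeal_sum _ _ fun b' hb' => ?_
  obtain ⟨-, ⟨g, -⟩, rfl⟩ := mem_orbitBlocks.1 hb'
  rw [coeff_mul_conj g (isCentralElt_blockIdem B)]
  exact hzero _

/-- A defect group of a covered block is visible in the covering block. -/
theorem brFun_defect_cover_ne_zero (hM : IsPModular p M) (hB : IsPBlock M B) (hb : IsPBlock M b)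
    (hc : Covers B b) {Q : Subgroup N} (hQ : IsDefectGroup p M b Q) :
    brFun M (Q.map N.subtype) (blockIdem B) ≠ 0 := by
  classical
  haveI := Fintype.ofFinite (G ⧸ N)
  haveI := Fact.mk hM.1
  intro h0
  set F := embH N (blockIdem b) with hF
  set e := blockIdem B * F with he
  have hQN : Q.map N.subtype ≤ N := Subgroup.map_subtype_le Q
  have hQp : IsPGroup p (Q.map N.subtype) := (isPGroup_of_isDefectGroup hQ).map _
  have hFps : PS M N F := ps_embH (CL.blockIdem hb) le_rfl
  have heps : PS M N e := ((CL.blockIdem hB).ps N).mul hFps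
  have hcen : ∀ y, Commute (blockIdem B) y := fun y => (isCentralElt_blockIdem B).commute y
  have hee : e * e = e := by
    have hFF : F * F = F := by rw [hF, ← embH_mul, blockIdem_mul_self]
    rw [he]
    calc blockIdem B * F * (blockIdem B * F) = blockIdem B * (F * blockIdem B) * F := by
          simp only [mul_assoc]
      _ = blockIdem B * (blockIdem B * F) * F := by rw [(hcen F).eq]
      _ = blockIdem B * blockIdem B * (F * F) := by simp only [mul_assoc]
      _ = blockIdem B * F := by rw [hFF, blockIdem_mul_self]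
  refine brFun_bot_cover_ne_zero hB hb hc (brFun_bot_eq_zero_of_graded hM heps hee fun q r hr hrq θ => ?_)
  have hres : resH N (r * cosetPart N q e) = resH N (r * e) := by
    conv_rhs => rw [← sum_cosetPart (N := N) e, Finset.mul_sum, resH_sum]
    rw [Finset.sum_eq_single q (fun q' _ hq' => ?_) (fun h => absurd (Finset.mem_univ _) h)]
    exact resH_cosetPart_of_ne (fun h => hq' (inv_mul_eq_one.1 h).symm)
      (hrq.mul (inCoset_cosetPart q' e))
  rw [hres, he, ← mul_assoc, hF, resH_mul_embH]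
  have hps := hr.mul ((CL.blockIdem hB).ps N)
  rw [ro_mul θ (cl_resH hps) (CL.blockIdem hb)]
  by_cases hθ : θ ∈ b
  · rw [ro_eq_zero_of_brFun hM hb hQ hθ (cl_resH hps) ?_, zero_mul]
    refine (brFun_eq_zero_iff (cl_resH hps).2).2 fun x hx => ?_
    rw [coeff_resH]
    have hxG : (x : G) ∈ Subgroup.centralizer ((Q.map N.subtype : Subgroup G) : Set G) := by
      rw [Subgroup.mem_centralizer_iff]
      rintro _ ⟨a, ha, rfl⟩
      exact congrArg Subtype.val (Subgroup.mem_centralizer_iff.1 hx a ha)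
    refine (brFun_eq_zero_iff (P := Q.map N.subtype) hps.1).1 ?_ _ hxG
    rw [brFun_mul hM hQp (hr.mono hQN) (((CL.blockIdem hB).ps N).mono hQN), h0, mul_zero]
  · rw [ro_blockIdem_notMem hθ, mul_zero]

/-- Defect groups of covered blocks. -/
theorem exists_covered_defectGroup (hM : IsPModular p M) (hB : IsPBlock M B) (hb : IsPBlock M b)
    (hc : Covers B b) {P : Subgroup G} (hP : IsDefectGroup p M B P) :
    ∃ g : G, (∀ q ∈ P, ∃ hq : q ∈ Subgroup.normalizer (N : Set G),
        conjBlk hq (conjBlk (mem_normalizer_of_normal g) b) = conjBlk (mem_normalizer_of_normal g) b) ∧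
      IsDefectGroup p M (conjBlk (mem_normalizer_of_normal g) b) ((P ⊓ N).subgroupOf N) := by
  haveI := Fact.mk hM.1
  obtain ⟨y, hy, S, hS⟩ := id hP
  have hyC : y ∈ Subgroup.centralizer (P : Set G) := by
    refine mem_centralizer_subgroup.2 fun d hd => ?_
    exact sylowImage_le S (hS.le hd)
  obtain ⟨g, hfix, hne⟩ := exists_fixed_covered hM (isPGroup_of_isDefectGroup hP) hB hb hc hyC hy.2.1
  refine ⟨g, hfix, ?_⟩
  have hcb := isPBlock_conjBlk (mem_normalizer_of_normal g) hb
  obtain ⟨z, hzC, hzu⟩ :=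
    exists_unit_coeff_of_brFun_ne_zero (isLocElt_embH N (isLocElt_blockIdem hcb)) hne
  have hzN : z ∈ N := by
    by_contra h
    exact hzu (by rw [coeff_embH_of_notMem _ _ h]; exact memLocalIdeal_zero)
  rw [show z = ((⟨z, hzN⟩ : N) : G) from rfl, coeff_embH, ← coeff_blockIdem] at hzu
  obtain ⟨Q, hQ⟩ := exists_isDefectGroup (p := p) hcb
  obtain ⟨n, hn⟩ := defectLE_of_coeff_unit hM hcb hQ hzu ((P ⊓ N).subgroupOf N)
    ((isPGroup_of_isDefectGroup hP).to_le inf_le_left).comap_subtype fun q hq =>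
      mem_centralizer_singleton.2 (Subtype.ext (Subgroup.mem_centralizer_iff.1 hzC (q : G) hq.1).symm)
  obtain ⟨w, hwC, hwu⟩ := exists_unit_coeff_of_brFun_ne_zero (isLocElt_blockIdem hB)
    (brFun_defect_cover_ne_zero hM hB hcb (covers_conjBlk hc g) hQ)
  obtain ⟨v, hv⟩ := defectLE_of_coeff_unit hM hB hP (h := w) (by rw [coeff_blockIdem]; exact hwu)
    (Q.map N.subtype) ((isPGroup_of_isDefectGroup hQ).map _) (mem_centralizer_subgroup.1 hwC)
  have hv' : (Q.map N.subtype).map (MulAut.conj v).toMonoidHom ≤ P ⊓ N := le_inf hv (by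
    rintro _ ⟨a, ha, rfl⟩
    exact hN.conj_mem a (Subgroup.map_subtype_le Q ha) v)
  have hcard : Nat.card Q ≤ Nat.card ((P ⊓ N).subgroupOf N) := by
    rw [Nat.card_congr (Subgroup.subgroupOfEquivOfLe inf_le_right).toEquiv,
      ← Subgroup.card_map_of_injective N.subtype_injective (K := Q),
      ← card_map_conj (Q.map N.subtype) v]
    exact Subgroup.card_le_of_le hv'
  have heq := Subgroup.eq_of_le_of_card_ge hn (by rw [card_map_conj]; exact hcard)
  have hback := isDefectGroup_map_conj hQ n⁻¹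
  rw [← heq, Subgroup.map_map, show (MulAut.conj n⁻¹).toMonoidHom.comp (MulAut.conj n).toMonoidHom =
    MonoidHom.id N from MonoidHom.ext fun a => by simp [mul_assoc], Subgroup.map_id] at hback
  exact hback

/-- A defect group of the covering block meets `N` in a given defect group of a covered block. -/
theorem exists_defectGroup_inf_eq (hM : IsPModular p M) (hB : IsPBlock M B) (hb : IsPBlock M b)
    (hc : Covers B b) {Q : Subgroup G} (hQN : Q ≤ N) (hQ : IsDefectGroup p M b (Q.subgroupOf N)) :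
    ∃ P : Subgroup G, IsDefectGroup p M B P ∧ P ⊓ N = Q := by
  haveI := Fact.mk hM.1
  obtain ⟨P, hP⟩ := exists_isDefectGroup (p := p) hB
  obtain ⟨g, -, hD⟩ := exists_covered_defectGroup hM hB hb hc hP
  -- transport back to `b`
  have hD' := isDefectGroup_comp (normConj (mem_normalizer_of_normal (N := N) g⁻¹)) hD
  have himg : compIrr (normConj (mem_normalizer_of_normal (N := N) g⁻¹)) ''
      conjBlk (mem_normalizer_of_normal g) b = b := by
    show conjBlk (mem_normalizer_of_normal g⁻¹) (conjBlk (mem_normalizer_of_normal g) b) = b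
    rw [← conjBlk_mul]
    convert conjBlk_one (one_mem _) b
    exact inv_mul_cancel g
  rw [himg] at hD'
  obtain ⟨n, hn⟩ := isDefectGroup_conj hM hb hD' hQ
  refine ⟨P.map (MulAut.conj ((n : G) * g⁻¹)).toMonoidHom, isDefectGroup_map_conj hP _, ?_⟩
  ext x
  have key : x ∈ Q ↔ ((n : G) * g⁻¹)⁻¹ * x * ((n : G) * g⁻¹) ∈ P ∧ x ∈ N := by
    constructor
    · intro hx
      have hxQ : (⟨x, hQN hx⟩ : N) ∈ Q.subgroupOf N := hx
      rw [hn] at hxQ
      obtain ⟨_, ⟨a, ha, rfl⟩, hax⟩ := hxQ
      refine ⟨?_, hQN hx⟩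
      have h2 := congrArg Subtype.val hax
      change (n : G) * (g⁻¹ * (a : G) * g⁻¹⁻¹) * (n : G)⁻¹ = x at h2
      rw [← h2, show ((n : G) * g⁻¹)⁻¹ * ((n : G) * (g⁻¹ * (a : G) * g⁻¹⁻¹) * (n : G)⁻¹) * ((n : G) * g⁻¹) =
        (a : G) by group]
      exact ha.1
    · rintro ⟨hxP, hxN⟩
      have haN : ((n : G) * g⁻¹)⁻¹ * x * ((n : G) * g⁻¹) ∈ N := by
        simpa using hN.conj_mem x hxN ((n : G) * g⁻¹)⁻¹
      have hxQ : (⟨x, hxN⟩ : N) ∈ Q.subgroupOf N := by
        rw [hn]
        refine ⟨_, ⟨⟨_, haN⟩, (⟨hxP, haN⟩ : _ ∈ P ⊓ N), rfl⟩, Subtype.ext ?_⟩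
        show (n : G) * (g⁻¹ * (((n : G) * g⁻¹)⁻¹ * x * ((n : G) * g⁻¹)) * g⁻¹⁻¹) * (n : G)⁻¹ = x
        group
      exact hxQ
  rw [Subgroup.mem_inf, mem_map_conj_iff, key]

end Cfsg.Agent.Block
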