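import Cfsg.Agent.Lib.Block.StabBlock
import Mathlib.RingTheory.Jacobson.Ideal

/-!
# The centraliser algebra of a normal subgroup, graded by the quotient
-/

set_option autoImplicit false

open Cfsg.Agent.Char
open scoped ComplexConjugate

namespace Cfsg.Agent.Block

universe u

variable {G : Type u} [Group G] [Finite G] {M : Ideal AlgInt} [hMp : M.IsPrime] {p : ℕ}
  {N : Subgroup G} [hN : N.Normal]

/-- The part of an element in one coset of `N`. -/
noncomputable def cosetPart (N : Subgroup G) (q : G ⧸ N) (a : MonoidAlgebra ℂ G) : MonoidAlgebra ℂ G :=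
  mkA fun x => by classical exact if (x : G ⧸ N) = q then a.coeff x else 0

/-- The coefficients vanish outside a coset. -/
def InCoset (N : Subgroup G) (q : G ⧸ N) (a : MonoidAlgebra ℂ G) : Prop :=
  ∀ x : G, (x : G ⧸ N) ≠ q → a.coeff x = 0

omit hN in
theorem inCoset_cosetPart (q : G ⧸ N) (a : MonoidAlgebra ℂ G) : InCoset N q (cosetPart N q a) :=
  fun x hx => by classical simp [cosetPart, hx]

omit hMp in
theorem ps_cosetPart [M.IsPrime] (q : G ⧸ N) {a : MonoidAlgebra ℂ G} (ha : PS M N a) :
    PS M N (cosetPart N q a) := by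
  classical
  refine ⟨fun x => ?_, fun n hn x => ?_⟩
  · simp only [cosetPart, coeff_mkA]
    split
    · exact ha.1 x
    · exact zero_mem (locRing M)
  · have h1 : ((n * x * n⁻¹ : G) : G ⧸ N) = (x : G ⧸ N) := by
      rw [QuotientGroup.mk_mul, QuotientGroup.mk_mul, QuotientGroup.mk_inv,
        (QuotientGroup.eq_one_iff n).2 hn, one_mul, inv_one, mul_one]
    simp only [cosetPart, coeff_mkA, h1, ha.2 n hn x]

omit hN in
theorem sum_cosetPart [Fintype (G ⧸ N)] (a : MonoidAlgebra ℂ G) :
    ∑ q : G ⧸ N, cosetPart N q a = a := by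
  classical
  refine MonoidAlgebra.ext (Finsupp.ext fun x => ?_)
  simp [cosetPart, MonoidAlgebra.coeff_sum, Finsupp.finsetSum_apply, Finset.sum_ite_eq]

omit [Finite G] in
theorem inCoset_one : InCoset N 1 (1 : MonoidAlgebra ℂ G) := by
  classical
  intro x hx
  rw [MonoidAlgebra.one_def, MonoidAlgebra.coeff_single, Finsupp.single_apply, if_neg]
  rintro rfl
  exact hx rfl

theorem inCoset_embH (a : MonoidAlgebra ℂ N) : InCoset N 1 (embH N a) := fun x hx =>
  coeff_embH_of_notMem _ _ fun h => hx ((QuotientGroup.eq_one_iff x).2 h)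

theorem InCoset.mul {q r : G ⧸ N} {a b : MonoidAlgebra ℂ G} (ha : InCoset N q a) (hb : InCoset N r b) :
    InCoset N (q * r) (a * b) := by
  classical
  intro x hx
  rw [MonoidAlgebra.coeff_mul_apply_left, Finsupp.sum]
  refine Finset.sum_eq_zero fun t ht => ?_
  by_cases htq : (t : G ⧸ N) = q
  · rw [hb (t⁻¹ * x) fun h => hx ?_, mul_zero]
    rw [← h, ← htq, ← QuotientGroup.mk_mul, mul_inv_cancel_left]
  · exact absurd (ha t htq) (Finsupp.mem_support_iff.1 ht)

theorem embH_resH_of_inCoset {a : MonoidAlgebra ℂ G} (ha : InCoset N 1 a) : embH N (resH N a) = a :=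
  embH_resH_of_support fun g hg => ha g fun h => hg ((QuotientGroup.eq_one_iff g).1 h)

variable (M N) in
/-- The elements of the residue group algebra commuting with `N`. -/
noncomputable def centAlg : Subring (MonoidAlgebra (ResK M) G) :=
  Subring.centralizer (Set.range fun n : N => MonoidAlgebra.single (n : G) (1 : ResK M))

omit hN in
theorem brFun_bot_mem_centAlg {a : MonoidAlgebra ℂ G} (ha : PS M N a) :
    brFun M (⊥ : Subgroup G) a ∈ centAlg M N := by
  rw [centAlg, Subring.mem_centralizer_iff]
  rintro _ ⟨n, rfl⟩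
  refine MonoidAlgebra.ext (Finsupp.ext fun x => ?_)
  have hmem : ∀ z : G, z ∈ Subgroup.centralizer ((⊥ : Subgroup G) : Set G) := fun z => by
    rw [centralizer_bot]; trivial
  rw [MonoidAlgebra.coeff_single_mul_apply, MonoidAlgebra.coeff_mul_single_apply, one_mul, mul_one,
    coeff_brFun_of_mem a (hmem _), coeff_brFun_of_mem a (hmem _)]
  have := ha.2 (n : G) n.2 ((n : G)⁻¹ * x)
  simp only [mul_inv_cancel_left] at this
  rw [this]

variable (M) in
/-- Reduction modulo `M` into the centraliser algebra. -/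
noncomputable def redC {a : MonoidAlgebra ℂ G} (ha : PS M N a) : centAlg M N :=
  ⟨brFun M (⊥ : Subgroup G) a, brFun_bot_mem_centAlg ha⟩

omit hN in
theorem redC_congr {a b : MonoidAlgebra ℂ G} (ha : PS M N a) (hb : PS M N b) (h : a = b) :
    redC M ha = redC M hb := by subst h; rfl

omit hN in
theorem redC_mul (hM : IsPModular p M) {a b : MonoidAlgebra ℂ G} (ha : PS M N a) (hb : PS M N b) :
    redC M (ha.mul hb) = redC M ha * redC M hb :=
  Subtype.ext (brFun_mul hM IsPGroup.of_bot (ha.mono bot_le) (hb.mono bot_le))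

/-- An element of `N` with nilpotent reduction is in the radical of the centraliser algebra. -/
theorem redC_mem_jacobson (hM : IsPModular p M) {w : MonoidAlgebra ℂ G} (hw : PS M N w)
    (hin : InCoset N 1 w) (h : ∀ θ : IrrCharacter N, ro M θ (resH N w) = 0) :
    redC M hw ∈ Ideal.jacobson (⊥ : Ideal (centAlg M N)) := by
  have hcl : CL M (resH N w) := cl_resH hw
  obtain ⟨m, hm⟩ := exists_pow_memLocalIdeal hM hcl h
  have hnil : IsNilpotent (redC M hw) := by
    refine ⟨m, Subtype.ext ?_⟩
    show (brFun M (⊥ : Subgroup G) w) ^ m = 0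
    rw [← (brFun_pow hM IsPGroup.of_bot (hw.mono bot_le) m).1]
    refine (brFun_bot_eq_zero_iff ((brFun_pow hM IsPGroup.of_bot (hw.mono bot_le) m).2).1).2 fun x => ?_
    rw [← embH_resH_of_inCoset hin,
      show embH N (resH N w) ^ m = embH N (resH N w ^ m) from (map_pow _ _ m).symm]
    by_cases hx : x ∈ N
    · rw [show x = ((⟨x, hx⟩ : N) : G) from rfl, coeff_embH]; exact hm _
    · rw [coeff_embH_of_notMem _ _ hx]; exact memLocalIdeal_zero
  have hcen : ∀ z : centAlg M N, Commute z (redC M hw) := by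
    intro z
    refine Subtype.ext ?_
    show (z : MonoidAlgebra (ResK M) G) * brFun M (⊥ : Subgroup G) w =
      brFun M (⊥ : Subgroup G) w * (z : MonoidAlgebra (ResK M) G)
    have hz := Subring.mem_centralizer_iff.1 z.2
    classical
    have key : ∀ b : MonoidAlgebra (ResK M) G, (∀ t, b.coeff t ≠ 0 → t ∈ N) →
        (z : MonoidAlgebra (ResK M) G) * b = b * (z : MonoidAlgebra (ResK M) G) := by
      intro b hb
      rw [← MonoidAlgebra.sum_coeff_single b, Finsupp.sum, Finset.mul_sum, Finset.sum_mul]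
      refine Finset.sum_congr rfl fun t ht => ?_
      rw [show (MonoidAlgebra.single t (b.coeff t) : MonoidAlgebra (ResK M) G) =
        b.coeff t • MonoidAlgebra.single t (1 : ResK M) by simp, mul_smul_comm, smul_mul_assoc,
        hz _ ⟨⟨t, hb t (Finsupp.mem_support_iff.1 ht)⟩, rfl⟩]
    refine key _ fun x hx => ?_
    by_contra hxN
    refine hx ?_
    have hmem : x ∈ Subgroup.centralizer ((⊥ : Subgroup G) : Set G) := by
      rw [centralizer_bot]; trivial
    rw [coeff_brFun_of_mem w hmem, hin x fun h => hxN ((QuotientGroup.eq_one_iff x).1 h), resC_zero]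
  rw [Ideal.mem_jacobson_iff]
  intro y
  obtain ⟨u, hu⟩ := ((hcen y).isNilpotent_mul_left hnil).isUnit_one_add
  refine ⟨((u⁻¹ : (centAlg M N)ˣ) : centAlg M N), ?_⟩
  rw [Ideal.mem_bot, mul_assoc, ← mul_add_one, add_comm _ (1 : centAlg M N), ← hu, Units.inv_mul,
    sub_self]

/-- An idempotent all of whose left translates of coset parts are radical vanishes modulo `M`. -/
theorem brFun_bot_eq_zero_of_graded (hM : IsPModular p M) {e : MonoidAlgebra ℂ G} (he : PS M N e)
    (hee : e * e = e)
    (h : ∀ (q : G ⧸ N) (r : MonoidAlgebra ℂ G), PS M N r → InCoset N q⁻¹ r →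
      ∀ θ : IrrCharacter N, ro M θ (resH N (r * cosetPart N q e)) = 0) :
    brFun M (⊥ : Subgroup G) e = 0 := by
  classical
  haveI := Fintype.ofFinite (G ⧸ N)
  set J := Ideal.jacobson (⊥ : Ideal (centAlg M N)) with hJ
  have key : ∀ (m : ℕ) (D : Finset (G ⧸ N)) (c : G ⧸ N) (u : MonoidAlgebra ℂ G) (hu : PS M N u),
      InCoset N c u → Fintype.card (G ⧸ N) + 1 ≤ D.card + m →
      (∀ d ∈ D, ∃ x y : MonoidAlgebra ℂ G, PS M N x ∧ PS M N y ∧ InCoset N (d⁻¹ * c) y ∧ u = x * y) →
      redC M hu * (redC M he) ^ m ∈ J := by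
    intro m
    induction m with
    | zero =>
      intro D c u hu _ hcard
      exact absurd D.card_le_univ (by omega)
    | succ m ih =>
      intro D c u hu huc hcard hD
      have hsum : redC M hu * redC M he = ∑ q : G ⧸ N, redC M (hu.mul (ps_cosetPart q he)) := by
        refine Subtype.ext ?_
        rw [← redC_mul hM hu he, AddSubmonoidClass.coe_finsetSum]
        show brFun M (⊥ : Subgroup G) (u * e) = ∑ q, brFun M (⊥ : Subgroup G) (u * cosetPart N q e)
        rw [← brFun_sum _ _ fun q _ => (hu.mul (ps_cosetPart q he)).1, ← Finset.mul_sum, sum_cosetPart]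
      rw [pow_succ', ← mul_assoc, hsum, Finset.sum_mul]
      refine Ideal.sum_mem _ fun q _ => ?_
      by_cases hq : c * q ∈ D
      · obtain ⟨x, y, hx, hy, hyc, hxy⟩ := hD _ hq
        have hyc' : InCoset N q⁻¹ y := by
          have h1 : (c * q)⁻¹ * c = q⁻¹ := by group
          rwa [h1] at hyc
        have hin : InCoset N 1 (y * cosetPart N q e) := by
          have := hyc'.mul (inCoset_cosetPart q e)
          rwa [inv_mul_cancel] at this
        have hwJ := redC_mem_jacobson hM (hy.mul (ps_cosetPart q he)) hin (h q y hy hyc')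
        have hdec : redC M (hu.mul (ps_cosetPart q he)) =
            redC M hx * redC M (hy.mul (ps_cosetPart q he)) := by
          rw [← redC_mul hM hx]
          exact redC_congr _ _ (by rw [hxy, mul_assoc])
        rw [hdec]
        exact Ideal.mul_mem_right _ _ (J.mul_mem_left _ hwJ)
      · refine ih (insert (c * q) D) (c * q) _ (hu.mul (ps_cosetPart q he))
          (huc.mul (inCoset_cosetPart q e)) (by rw [Finset.card_insert_of_notMem hq]; omega) fun d hd => ?_
        rcases Finset.mem_insert.1 hd with rfl | hd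
        · exact ⟨u * cosetPart N q e, 1, hu.mul (ps_cosetPart q he), PS.one N,
            by rw [inv_mul_cancel]; exact inCoset_one, (mul_one _).symm⟩
        · obtain ⟨x, y, hx, hy, hyc, hxy⟩ := hD d hd
          refine ⟨x, y * cosetPart N q e, hx, hy.mul (ps_cosetPart q he), ?_, by rw [hxy, mul_assoc]⟩
          rw [← mul_assoc]
          exact hyc.mul (inCoset_cosetPart q e)
  have h1 := key (Fintype.card (G ⧸ N) + 1) ∅ 1 1 (PS.one N) inCoset_one (by simp) (by simp)
  rw [show redC M (PS.one (M := M) N) = 1 from Subtype.ext (brFun_one _), one_mul] at h1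
  have hidem : IsIdempotentElem (redC M he) :=
    (redC_mul hM he he).symm.trans (redC_congr _ _ hee)
  rw [hidem.pow_succ_eq] at h1
  obtain ⟨z, hz⟩ := Ideal.mem_jacobson_iff.1 h1 (-1)
  rw [Ideal.mem_bot, sub_eq_zero, mul_assoc, neg_one_mul, ← mul_add_one] at hz
  have h2 : redC M he = 0 := by
    calc redC M he = z * (-redC M he + 1) * redC M he := by rw [hz, one_mul]
      _ = 0 := by rw [mul_assoc, add_mul, neg_mul, hidem.eq, one_mul, neg_add_cancel, mul_zero]
  exact congrArg Subtype.val h2

end Cfsg.Agent.Block
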