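import Cfsg.Agent.Lib.Block.Cover

/-!
# Covering above a normal `p`-subgroup
-/

set_option autoImplicit false

open Cfsg.Agent.Char
open scoped ComplexConjugate

namespace Cfsg.Agent.Block

universe u

variable {G : Type u} [Group G] [Fintype G] {M : Ideal AlgInt} [hMp : M.IsPrime] {p : ℕ}

theorem induced_of_covers_core [Fact p.Prime] (hM : IsPModular p M) (Q : Subgroup G) [hQn : Q.Normal]
    (hQ : IsPGroup p Q) {N : Subgroup G} [hN : N.Normal] [Fintype N] (hQN : Q ≤ N)
    (hCN : Subgroup.centralizer (Q : Set G) ≤ N) {b : Set (IrrCharacter N)} (hb : IsPBlock M b) :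
    InducedBlockDefined M N b ∧
      ∀ B : Set (IrrCharacter G), IsPBlock M B → Covers B b → IsInducedBlock M N b B := by
  classical
  obtain ⟨ξ, hξ⟩ := isPBlock_nonempty hb
  have hNQ : N ≤ Subgroup.normalizer (Q : Set G) := fun x _ => mem_normalizer_of_normal (N := Q) x
  have hfac := Factors.of_normal hM hQ hQN hNQ ξ
  have hh := isResHom_lam hM hQ hCN (Or.inl hQN) hfac
  constructor
  · obtain ⟨B, hB, h1⟩ := hh.exists_block
    exact ⟨B, isInducedBlock_of_lam hb hξ hh hB (h1 ▸ one_ne_zero)⟩
  intro B hB hc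
  refine (isInducedBlock_iff_lam hb hξ hh hB).2 ?_
  -- the part supported in `N` has the same Brauer image
  set x : MonoidAlgebra ℂ G := mkA fun g => if g ∈ N then blockCoeff B g else 0 with hx
  have hxcl : CL M x := by
    refine ⟨fun g h => ?_, fun g => ?_⟩
    · have hiff : h * g * h⁻¹ ∈ N ↔ g ∈ N :=
        (Subgroup.mem_normalizer_iff.1 (mem_normalizer_of_normal (N := N) h) g).symm
      have h1 : blockCoeff B (h * g * h⁻¹) = blockCoeff B g := by
        rw [coeff_blockIdem, coeff_blockIdem]; exact isCentralElt_blockIdem B g h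
      simp only [hx, coeff_mkA, h1, hiff]
    · simp only [hx, coeff_mkA]
      split
      · exact blockCoeff_mem_locRing hB g
      · exact zero_mem (locRing M)
  have hxs : InCoset N 1 x := fun g hg => by
    simp only [hx, coeff_mkA]
    exact if_neg fun h => hg ((QuotientGroup.eq_one_iff g).2 h)
  obtain ⟨χ, hχ⟩ := isPBlock_nonempty hB
  have h1 := ro_eq_of_covers hB hb hc hχ hξ hxcl hxs
  have hbr : brFun M Q x = brFun M Q (blockIdem B) := brFun_congr fun g hg => by
    simp only [hx, coeff_mkA, if_pos (hCN hg), ← coeff_blockIdem]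
  have h3 : resH N x = resH N (blockIdem B) := MonoidAlgebra.ext (Finsupp.ext fun n => by
    simp only [coeff_resH, hx, coeff_mkA, if_pos n.2, ← coeff_blockIdem])
  rw [h3] at h1
  rw [lam, ← h1, ← ro_blockIdem_mem (M := M) hχ]
  refine (resC_eq_iff (omega_mem_locRing χ hxcl.1 hxcl.2)
    (omega_mem_locRing χ (CL.blockIdem hB).1 (CL.blockIdem hB).2)).2 ?_
  rw [← omega_sub]
  haveI := Fintype.ofFinite (ConjClasses G)
  have hd := hxcl.sub (CL.blockIdem hB)
  rw [omega_eq_sum_classes χ hd.1]
  refine memLocalIdeal_sum _ _ fun C _ => ?_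
  by_cases hC : classRep C ∈ Subgroup.centralizer (Q : Set G)
  · refine memLocalIdeal_mul_right (centralChar_mem_locRing χ _) ?_
    refine (brFun_eq_zero_iff (P := Q) hd.2).1 ?_ _ hC
    rw [brFun_sub hxcl.2 (isLocElt_blockIdem hB), hbr, sub_self]
  · exact memLocalIdeal_mul_left (hd.2 _) (centralChar_memLocalIdeal_of_avoid hM χ Q hQ hC)

end Cfsg.Agent.Block
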