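import Cfsg.Agent.Lib.Block.CoverDefect

/-!
# Covering blocks of maximal defect
-/

set_option autoImplicit false

open Cfsg.Agent.Char
open scoped ComplexConjugate Pointwise

namespace Cfsg.Agent.Block

universe u

variable {G : Type u} [Group G] [Fintype G] {M : Ideal AlgInt} [hMp : M.IsPrime] {p : ℕ}
  [Fact p.Prime] {N : Subgroup G} [hN : N.Normal] [Fintype N] {B : Set (IrrCharacter G)}
  {b : Set (IrrCharacter N)}

omit [Fintype N] in
/-- A `p`-group fixing a block of `N` fixes a class that is visible in the block. -/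
theorem exists_fixed_class_normal [Fintype N] (hM : IsPModular p M) {S : Subgroup G} (hS : IsPGroup p S)
    (hb : IsPBlock M b)
    (hfix : ∀ t ∈ S, conjBlk (mem_normalizer_of_normal (N := N) t) b = b)
    {θ : IrrCharacter N} (hθ : θ ∈ b) {x : MonoidAlgebra ℂ G} (hx : CL M x)
    (hne : ro M θ (resH N x) ≠ 0) :
    ∃ y : N, ¬ MemLocalIdeal M (x.coeff (y : G)) ∧ ∀ s ∈ S, ∃ h ∈ N, Commute (h * s) (y : G) := by
  classical
  haveI := Fintype.ofFinite (ConjClasses N)
  let cf : S → (N ≃* N) := fun s => normConj (mem_normalizer_of_normal (N := N) (s : G))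
  letI : MulAction S (ConjClasses N) :=
    { smul := fun s => ConjClasses.map (cf s⁻¹).toMonoidHom
      one_smul := fun C => by
        induction C using Quotient.inductionOn with
        | h y => exact congrArg ConjClasses.mk (Subtype.ext (by simp [cf]))
      mul_smul := fun s r C => by
        induction C using Quotient.inductionOn with
        | h y => exact congrArg ConjClasses.mk (Subtype.ext (by simp [cf, mul_assoc])) }
  have hsmul : ∀ (s : S) (y : N), s • ConjClasses.mk y = ConjClasses.mk (cf s⁻¹ y) := fun _ _ => rfl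
  let a := resH N x
  have hacl : CL M a := cl_resH (hx.ps N)
  let z : ConjClasses N → ℂ := fun C => a.coeff (classRep C) * centralChar (θ : N → ℂ) (classRep C)
  have hzl : ∀ C, z C ∈ locRing M := fun C => mul_mem (hacl.2 _) (centralChar_mem_locRing θ _)
  let sec : ResK M → ℂ := fun r => ((Function.surjInv IsLocalRing.residue_surjective r : locRing M) : ℂ)
  have hsec : ∀ r, resC M (sec r) = r := fun r => by
    rw [resC_of_mem (SetLike.coe_mem _)]
    exact Function.surjInv_eq IsLocalRing.residue_surjective r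
  have hcc : ∀ y y' : N, IsConj y y' →
      centralChar (θ : N → ℂ) y = centralChar (θ : N → ℂ) y' := fun y y' h => by
    rw [← omega_classSum, ← omega_classSum]
    congr 1
    refine MonoidAlgebra.ext (Finsupp.ext fun x => ?_)
    simp only [classSum, coeff_mkA]
    by_cases h1 : IsConj y x
    · rw [if_pos h1, if_pos (h.symm.trans h1)]
    · rw [if_neg h1, if_neg fun h2 => h1 (h.trans h2)]
  have hzinv : ∀ (s : S) (C : ConjClasses N), resC M (z (s • C)) = resC M (z C) := by
    intro s C
    have hsfix := hfix _ (s⁻¹).2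
    have e1 : s • C = ConjClasses.mk (cf s⁻¹ (classRep C)) := by
      rw [← hsmul s, mk_classRep]
    have hc' : IsConj (classRep (s • C)) (cf s⁻¹ (classRep C)) := by
      rw [e1]; exact (isConj_classRep_mk _).symm
    have ha' : a.coeff (classRep (s • C)) = a.coeff (classRep C) := by
      rw [IsClassFunction.apply_isConj hacl.1 hc', coeff_resH, coeff_resH]
      have := hx.1 ((classRep C : N) : G) (s : G)
      simpa [cf] using this
    have hcz : MemLocalIdeal M (centralChar (θ : N → ℂ) (classRep (s • C)) -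
        centralChar (θ : N → ℂ) (classRep C)) := by
      rw [hcc _ _ hc']
      have hmem : conjIrr (mem_normalizer_of_normal ((s⁻¹ : S) : G)) θ ∈ b := by
        have h := (mem_conjBlk_iff (mem_normalizer_of_normal (N := N) ((s⁻¹ : S) : G)) b θ).2 hθ
        rwa [hsfix] at h
      have h2 := isPBlock_sameBlock hb hmem hθ (classRep C)
      have h3 : centralChar ((conjIrr (mem_normalizer_of_normal ((s⁻¹ : S) : G)) θ : IrrCharacter N) : N → ℂ)
          (classRep C) = centralChar (θ : N → ℂ) (cf s⁻¹ (classRep C)) := by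
        rw [← centralChar_comp_mulEquiv (cf s⁻¹)]
        rfl
      rw [h3] at h2
      exact h2
    refine (resC_eq_iff (hzl _) (hzl _)).2 ?_
    show MemLocalIdeal M (_ * _ - _ * _)
    rw [ha', ← mul_sub]
    exact memLocalIdeal_mul_left (hacl.2 _) hcz
  have hsum := sum_congr_fixed hM hS (fun C => sec (resC M (z C)))
    (fun s C => by rw [hzinv]) fun C => SetLike.coe_mem _
  obtain ⟨C, hfixC, hC⟩ : ∃ C : ConjClasses N, (∀ s : S, s • C = C) ∧ resC M (z C) ≠ 0 := by
    by_contra! hnofix
    have h0 : resC M (∑ C, sec (resC M (z C))) = 0 := by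
      refine resC_eq_zero_of_memLocalIdeal ?_
      have : MemLocalIdeal M
          (∑ C, if (∀ s : S, s • C = C) then sec (resC M (z C)) else 0) :=
        memLocalIdeal_sum _ _ fun C _ => by
          split
          next h => exact (resC_eq_zero_iff (SetLike.coe_mem _)).1 (by rw [hsec, hnofix C h])
          · exact memLocalIdeal_zero
      simpa using memLocalIdeal_add hsum this
    refine hne ?_
    rw [ro, omega_eq_sum_classes θ hacl.1, resC_sum _ _ fun C _ => hzl C]
    rw [resC_sum _ _ fun C _ => SetLike.coe_mem _] at h0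
    rw [Finset.sum_congr rfl fun C _ => hsec (resC M (z C))] at h0
    exact h0
  refine ⟨classRep C, fun h => hC (resC_eq_zero_of_memLocalIdeal
    (memLocalIdeal_mul_right (centralChar_mem_locRing θ _) (by simpa [a] using h))), fun s hs => ?_⟩
  have h1 := hfixC ⟨s, hs⟩
  rw [show C = ConjClasses.mk (classRep C) from (mk_classRep C).symm, hsmul] at h1
  obtain ⟨h, hh⟩ := isConj_iff.1 (ConjClasses.mk_eq_mk_iff_isConj.1 h1)
  have hh' : (h : G) * (s * ((classRep C : N) : G) * s⁻¹) * (h : G)⁻¹ = ((classRep C : N) : G) := by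
    have := congrArg (fun v : N => (v : G)) hh
    simpa [cf] using this
  refine ⟨h, h.2, ?_⟩
  show (h : G) * s * ((classRep C : N) : G) = ((classRep C : N) : G) * ((h : G) * s)
  conv_rhs => rw [← hh']
  group

omit hMp [Fintype N] in
/-- The image of `S` is covered by a `p`-group centralising the fixed element. -/
theorem exists_pgroup_image {S : Subgroup G} (hS : IsPGroup p S) {y : G}
    (hy : ∀ s ∈ S, ∃ h ∈ N, Commute (h * s) y) :
    ∃ R : Subgroup G, IsPGroup p R ∧ R ≤ Subgroup.centralizer ({y} : Set G) ∧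
      S.map (QuotientGroup.mk' N) ≤ R.map (QuotientGroup.mk' N) := by
  set π := QuotientGroup.mk' N
  let W : Subgroup G := Subgroup.centralizer ({y} : Set G) ⊓ (S.map π).comap π
  let ψ : W →* S.map π := (π.comp W.subtype).codRestrict _ fun w => w.2.2
  have hψ : Function.Surjective ψ := by
    rintro ⟨_, s, hs, rfl⟩
    obtain ⟨h, hh, hc⟩ := hy s hs
    have himg : π (h * s) = π s := by
      rw [map_mul, (QuotientGroup.eq_one_iff h).2 hh |> fun e => (show π h = 1 from e), one_mul]
    exact ⟨⟨h * s, mem_centralizer_singleton.2 hc.symm, ⟨s, hs, himg.symm⟩⟩, Subtype.ext himg⟩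
  obtain ⟨R⟩ : Nonempty (Sylow p W) := inferInstance
  have hR : ((R.mapSurjective hψ : Sylow p _) : Subgroup (S.map π)) = ⊤ :=
    (R.mapSurjective hψ).3 ((hS.map π).of_equiv Subgroup.topEquiv.symm) le_top |>.symm
  refine ⟨(R : Subgroup W).map W.subtype, R.isPGroup'.map _, ?_, ?_⟩
  · rintro _ ⟨w, -, rfl⟩
    exact w.2.1
  · intro a ha
    have h1 : (⟨a, ha⟩ : S.map π) ∈ ((R.mapSurjective hψ : Sylow p _) : Subgroup (S.map π)) := by
      rw [hR]; trivial
    rw [Sylow.coe_mapSurjective] at h1
    obtain ⟨u, hu, hua⟩ := h1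
    exact ⟨(u : G), ⟨u, hu, rfl⟩, congrArg Subtype.val hua⟩

/-- A `p`-group fixing `b` gives a covering block with a large defect group. -/
theorem exists_covers_card_ge (hM : IsPModular p M) {S : Subgroup G} (hS : IsPGroup p S)
    (hb : IsPBlock M b) (hfix : ∀ t ∈ S, conjBlk (mem_normalizer_of_normal (N := N) t) b = b) :
    ∃ (B : Set (IrrCharacter G)) (P : Subgroup G), IsPBlock M B ∧ Covers B b ∧ IsDefectGroup p M B P ∧
      Nat.card (S.map (QuotientGroup.mk' N)) ≤ Nat.card (P.map (QuotientGroup.mk' N)) := by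
  classical
  obtain ⟨θ, hθ⟩ := isPBlock_nonempty hb
  have h1 : ro M θ (resH N (blockOrbit M b)) = 1 :=
    lam_orbitSum_self (fun y (_ : y ∈ (⊤ : Subgroup G)) => mem_normalizer_of_normal (N := N) y) hb hθ
  obtain ⟨y, hyu, hy⟩ := exists_fixed_class_normal hM hS hb hfix hθ (cl_blockOrbit b)
    (by rw [h1]; exact one_ne_zero)
  obtain ⟨B, hB, hBu⟩ : ∃ B ∈ pBlocks M G,
      ¬ MemLocalIdeal M ((blockIdem B * blockOrbit M b).coeff (y : G)) := by
    by_contra! hcon
    refine hyu ?_
    rw [← one_mul (blockOrbit M b), ← sum_pBlocks_blockIdem (M := M), Finset.sum_mul,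
      MonoidAlgebra.coeff_sum, Finsupp.finsetSum_apply]
    exact memLocalIdeal_sum _ _ fun B hB => hcon B hB
  rw [mem_pBlocks] at hB
  have hcov : Covers B b := by
    by_contra hn
    refine hBu ?_
    have h0 : blockIdem B * blockOrbit M b = 0 := by
      refine eq_of_omega_eq ((isCentralElt_blockIdem B).mul (cl_blockOrbit b).1) IsCentralElt.zero
        fun χ => ?_
      rw [omega_mul χ (isCentralElt_blockIdem B) (cl_blockOrbit b).1, omega_blockIdem, omega_zero]
      by_cases hχ : χ ∈ B
      · rcases omega_blockOrbit_zero_or_one (M := M) b χ with h | h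
        · rw [h, mul_zero]
        · exact absurd (by
            obtain ⟨θ', hθ', hin⟩ := (exists_constituent_iff (M := M) hb χ).2 (by rw [ro, h, resC_one])
            exact ⟨χ, hχ, θ', hθ', hin⟩) hn
      · rw [if_neg hχ, zero_mul]
    rw [h0]
    exact memLocalIdeal_zero
  obtain ⟨P, hP⟩ := exists_isDefectGroup (p := p) hB
  refine ⟨B, P, hB, hcov, hP, ?_⟩
  obtain ⟨R, hR, hRy, hSR⟩ := exists_pgroup_image hS hy
  rw [blockIdem_mul_blockOrbit hB hb hcov, ← coeff_blockIdem] at hBu
  obtain ⟨v, hv⟩ := defectLE_of_coeff_unit hM hB hP hBu R hR hRy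
  refine (Subgroup.card_le_of_le hSR).trans ?_
  rw [← card_map_conj (R.map (QuotientGroup.mk' N)) (QuotientGroup.mk' N v), Subgroup.map_map,
    show (MulAut.conj (QuotientGroup.mk' N v)).toMonoidHom.comp (QuotientGroup.mk' N) =
      (QuotientGroup.mk' N).comp (MulAut.conj v).toMonoidHom from MonoidHom.ext fun t => by simp,
    ← Subgroup.map_map]
  exact Subgroup.card_le_of_le (Subgroup.map_mono hv)

omit hMp [Fact p.Prime] [Fintype N] in
theorem card_eq_inf_mul_image (P : Subgroup G) :
    Nat.card P = Nat.card (P ⊓ N : Subgroup G) * Nat.card (P.map (QuotientGroup.mk' N)) := by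
  let f : P →* P.map (QuotientGroup.mk' N) :=
    ((QuotientGroup.mk' N).comp P.subtype).codRestrict _ fun a => ⟨a, a.2, rfl⟩
  have hf : Function.Surjective f := by
    rintro ⟨_, a, ha, rfl⟩
    exact ⟨⟨a, ha⟩, rfl⟩
  rw [← f.ker.card_mul_index, Subgroup.index_ker, MonoidHom.range_eq_top.2 hf, Subgroup.card_top]
  congr 1
  have hk : f.ker = (P ⊓ N).subgroupOf P := by
    ext a
    rw [MonoidHom.mem_ker, Subtype.ext_iff]
    exact (QuotientGroup.eq_one_iff (a : G)).trans ⟨fun h => ⟨a.2, h⟩, fun h => h.2⟩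
  rw [hk]
  exact Nat.card_congr (Subgroup.subgroupOfEquivOfLe inf_le_left).toEquiv

omit hMp [Fintype N] in
theorem card_image_le {P : Subgroup G} (hP : IsPGroup p P) (S : Sylow p G) :
    Nat.card (P.map (QuotientGroup.mk' N)) ≤ Nat.card ((S : Subgroup G).map (QuotientGroup.mk' N)) := by
  obtain ⟨R, hR⟩ := hP.exists_le_sylow
  refine (Subgroup.card_le_of_le (Subgroup.map_mono hR)).trans (le_of_eq ?_)
  have h1 := (R.mapSurjective (QuotientGroup.mk'_surjective N)).card_eq_multiplicity
  have h2 := (S.mapSurjective (QuotientGroup.mk'_surjective N)).card_eq_multiplicity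
  rw [Sylow.coe_mapSurjective] at h1 h2
  rw [h1, h2]

/-- Fong: covering blocks of maximal defect. -/
theorem fong_max (hM : IsPModular p M) (hb : IsPBlock M b)
    (hinv : ∀ g : G, conjBlk (mem_normalizer_of_normal (N := N) g) b = b) (hB : IsPBlock M B)
    (hc : Covers B b)
    (hmax : ∀ B' : Set (IrrCharacter G), IsPBlock M B' → Covers B' b → blockDefect p B' ≤ blockDefect p B)
    {P : Subgroup G} (hP : IsDefectGroup p M B P) :
    ¬ p ∣ (P ⊔ N).index ∧ IsDefectGroup p M b ((P ⊓ N).subgroupOf N) ∧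
      blockDefect p B = blockDefect p b + N.index.factorization p := by
  have hp := (Fact.out : p.Prime)
  have hD : ∀ {B' : Set (IrrCharacter G)} {P' : Subgroup G}, IsPBlock M B' → Covers B' b →
      IsDefectGroup p M B' P' → IsDefectGroup p M b ((P' ⊓ N).subgroupOf N) := fun hB' hc' hP' => by
    obtain ⟨g, -, hD⟩ := exists_covered_defectGroup hM hB' hb hc' hP'
    rwa [hinv g] at hD
  have hcard : ∀ {B' : Set (IrrCharacter G)} {P' : Subgroup G}, IsPBlock M B' → Covers B' b →
      IsDefectGroup p M B' P' →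
        p ^ blockDefect p B' = p ^ blockDefect p b * Nat.card (P'.map (QuotientGroup.mk' N)) :=
    fun hB' hc' hP' => by
    rw [← card_defectGroup hM hB' hP', card_eq_inf_mul_image (N := N),
      ← card_defectGroup hM hb (hD hB' hc' hP'),
      Nat.card_congr (Subgroup.subgroupOfEquivOfLe inf_le_right).toEquiv]
  obtain ⟨S⟩ : Nonempty (Sylow p G) := inferInstance
  obtain ⟨B', P', hB', hc', hP', hle⟩ :=
    exists_covers_card_ge hM S.isPGroup' hb fun t _ => hinv t
  have h1 : Nat.card (P.map (QuotientGroup.mk' N)) = Nat.card ((S : Subgroup G).map (QuotientGroup.mk' N)) := by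
    refine le_antisymm (card_image_le (isPGroup_of_isDefectGroup hP) S) (hle.trans ?_)
    refine Nat.le_of_mul_le_mul_left ?_ (pow_pos hp.pos (blockDefect p b))
    rw [← hcard hB' hc' hP', ← hcard hB hc hP]
    exact Nat.pow_le_pow_right hp.pos (hmax B' hB' hc')
  have h2 := (S.mapSurjective (QuotientGroup.mk'_surjective N)).card_eq_multiplicity
  rw [Sylow.coe_mapSurjective, ← Subgroup.index_eq_card] at h2
  rw [h2] at h1
  refine ⟨?_, hD hB hc hP, ?_⟩
  · have hidx : (P ⊔ N).index = (P.map (QuotientGroup.mk' N)).index := by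
      rw [Subgroup.index_map_eq (f := QuotientGroup.mk' N) (H := P ⊔ N) (QuotientGroup.mk'_surjective N)
        (by rw [QuotientGroup.ker_mk']; exact le_sup_right) |>.symm]
      congr 1
      rw [Subgroup.map_sup, QuotientGroup.map_mk'_self, sup_bot_eq]
    rw [hidx]
    intro hdvd
    have h3 := (P.map (QuotientGroup.mk' N)).card_mul_index
    rw [h1, ← Subgroup.index_eq_card] at h3
    exact Nat.pow_succ_factorization_not_dvd Subgroup.index_ne_zero_of_finite hp
      (h3 ▸ (pow_succ p _ ▸ Nat.mul_dvd_mul_left _ hdvd))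
  · have h4 := hcard hB hc hP
    rw [h1, ← pow_add] at h4
    exact Nat.pow_right_injective hp.two_le h4

theorem conjBlk_eq_of_forall (hb : IsPBlock M b) {g : G}
    (hinv : ∀ θ ∈ b, ∀ θ' : IrrCharacter N,
      (∀ n : N, (θ' : N → ℂ) n = (θ : N → ℂ) ⟨g * n * g⁻¹, hN.conj_mem n n.2 g⟩) → θ' ∈ b) :
    conjBlk (mem_normalizer_of_normal (N := N) g⁻¹) b = b := by
  obtain ⟨θ, hθ⟩ := isPBlock_nonempty hb
  refine isPBlock_eq_of_mem (isPBlock_conjBlk _ hb) hb ((mem_conjBlk_iff _ b θ).2 hθ)
    (hinv θ hθ _ fun n => ?_)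
  rw [conjIrr_apply]
  exact congrArg (θ : N → ℂ) (Subtype.ext (by simp [mul_assoc]))

end Cfsg.Agent.Block
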