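import Cfsg.Agent.Lib.Block.AlgNorm
import Mathlib.RingTheory.Trace.Basic
import Mathlib.RingTheory.Polynomial.Cyclotomic.Roots
import Mathlib.FieldTheory.PrimitiveElement

/-!
# Traces from the cyclotomic field

The sum of the conjugates of `∑ z i * conj (z i)` is at least the number of the `z i` times the
degree, and the trace of a root of unity of `2`-power order other than `±1` vanishes.
-/

set_option autoImplicit false

open Cfsg Cfsg.Agent.Char
open scoped ComplexConjugate

namespace Cfsg.Agent.Block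

theorem cycF_mono {N N' : ℕ} (h : N ∣ N') : cycF N ≤ cycF N' := by
  refine IntermediateField.adjoin.mono ℚ _ _ fun r hr => ?_
  obtain ⟨c, rfl⟩ := h
  show r ^ (N * c) = 1
  rw [pow_mul, show r ^ N = 1 from hr, one_pow]

instance finiteDimensional_cycF (N : ℕ) [NeZero N] : FiniteDimensional ℚ (cycF N) := by
  haveI : Finite {r : ℂ | r ^ N = 1} := by
    refine Set.Finite.to_subtype ((Polynomial.X ^ N - Polynomial.C (1 : ℂ)).roots.toFinset.finite_toSet.subset ?_)
    intro r hr
    have hne : (Polynomial.X ^ N - Polynomial.C (1 : ℂ)) ≠ 0 :=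
      (Polynomial.monic_X_pow_sub_C 1 (NeZero.ne N)).ne_zero
    simp only [Finset.mem_coe, Multiset.mem_toFinset, Polynomial.mem_roots hne, Polynomial.IsRoot,
      Polynomial.eval_sub, Polynomial.eval_pow, Polynomial.eval_X, Polynomial.eval_C]
    rw [show r ^ N = 1 from hr, sub_self]
  exact IntermediateField.finiteDimensional_adjoin fun x (hx : x ^ N = 1) =>
    ⟨Polynomial.X ^ N - Polynomial.C 1, Polynomial.monic_X_pow_sub_C 1 (NeZero.ne N), by simp [hx]⟩

theorem alghom_mem_cycF {N : ℕ} (σ : cycF N →ₐ[ℚ] ℂ) {v : ℂ} (hv : v ∈ cycF N) :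
    σ ⟨v, hv⟩ ∈ cycF N := by
  induction hv using IntermediateField.adjoin_induction with
  | mem x hx =>
    refine root_mem_cycF ?_
    rw [← map_pow]
    rw [show (⟨x, root_mem_cycF hx⟩ : cycF N) ^ N = 1 from Subtype.ext (by simpa using hx), map_one]
  | algebraMap q =>
    rw [show (⟨algebraMap ℚ ℂ q, _⟩ : cycF N) = algebraMap ℚ (cycF N) q from Subtype.ext rfl,
      AlgHom.commutes]
    exact IntermediateField.algebraMap_mem _ q
  | add x y hx hy h h' =>
    rw [show (⟨x + y, _⟩ : cycF N) = ⟨x, hx⟩ + ⟨y, hy⟩ from Subtype.ext rfl, map_add]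
    exact add_mem h h'
  | inv x hx h =>
    rw [show (⟨x⁻¹, _⟩ : cycF N) = (⟨x, hx⟩ : cycF N)⁻¹ from Subtype.ext rfl, map_inv₀]
    exact inv_mem h
  | mul x y hx hy h h' =>
    rw [show (⟨x * y, _⟩ : cycF N) = ⟨x, hx⟩ * ⟨y, hy⟩ from Subtype.ext rfl, map_mul]
    exact mul_mem h h'

theorem card_mul_finrank_le_trace {ι : Type*} {N : ℕ} [NeZero N] (s : Finset ι) (z : ι → ℂ)
    (hz : ∀ i ∈ s, z i ∈ cycF N) (hint : ∀ i ∈ s, IsIntegral ℤ (z i)) (hne : ∀ i ∈ s, z i ≠ 0)
    (α : cycF N) (hα : ∑ i ∈ s, z i * conj (z i) = (α : ℂ)) :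
    (s.card : ℚ) * (Module.finrank ℚ (cycF N) : ℚ) ≤ Algebra.trace ℚ (cycF N) α := by
  classical
  have hN : N ≠ 0 := NeZero.ne N
  have key := card_le_of_sum_mul_conj hN (s.attach ×ˢ (Finset.univ : Finset (cycF N →ₐ[ℚ] ℂ)))
    (fun w => w.2 ⟨z w.1.1, hz w.1.1 w.1.2⟩) (fun w _ => alghom_mem_cycF w.2 _)
    (fun w _ => ?_) (fun w _ h => hne w.1.1 w.1.2 (congrArg Subtype.val ((map_eq_zero w.2).1 h)))
    (T := Algebra.trace ℚ (cycF N) α) ?_
  · rw [Finset.card_product, Finset.card_attach, Finset.card_univ, AlgHom.card, Nat.cast_mul] at key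
    exact key
  · refine IsIntegral.map (RingHom.toIntAlgHom (w.2 : cycF N →+* ℂ)) ?_
    exact (isIntegral_algebraMap_iff (A := cycF N) (B := ℂ) (algebraMap (cycF N) ℂ).injective).mp
      (hint w.1.1 w.1.2)
  · rw [Finset.sum_product, Finset.sum_comm]
    refine Eq.trans ?_ ((trace_eq_sum_embeddings (K := ℚ) (E := ℂ) (x := α)).symm.trans (eq_ratCast _ _))
    refine Finset.sum_congr rfl fun σ _ => ?_
    have e : α = ∑ i ∈ s.attach, (⟨z i.1, hz i.1 i.2⟩ : cycF N) * ⟨conj (z i.1), conj_mem_cycF (hz i.1 i.2)⟩ := by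
      refine Subtype.ext ?_
      rw [← hα, show ((∑ i ∈ s.attach, (⟨z i.1, hz i.1 i.2⟩ : cycF N) *
        ⟨conj (z i.1), conj_mem_cycF (hz i.1 i.2)⟩ : cycF N) : ℂ) = ∑ i ∈ s.attach, z i.1 * conj (z i.1) from
          map_sum (cycF N).val _ _]
      exact (Finset.sum_attach s (fun i => z i * conj (z i))).symm
    rw [e, map_sum]
    exact Finset.sum_congr rfl fun i _ => by rw [map_mul, alghom_conj hN σ (hz i.1 i.2)]

/-- The trace of a root of unity of `2`-power order. -/
theorem exists_trace_root {N : ℕ} [NeZero N] (x : cycF N) {k : ℕ} (hx : x ^ 2 ^ k = 1) :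
    ∃ e : ℤ, (e = if x = 1 then 1 else if x = -1 then -1 else 0) ∧
      Algebra.trace ℚ (cycF N) x = (Module.finrank ℚ (cycF N) : ℚ) * e := by
  classical
  refine ⟨_, rfl, ?_⟩
  by_cases h1 : x = 1
  · subst h1
    rw [show (1 : cycF N) = algebraMap ℚ (cycF N) 1 from (map_one _).symm, Algebra.trace_algebraMap]
    simp
  by_cases h2 : x = -1
  · subst h2
    rw [if_neg h1, if_pos rfl, map_neg, show (1 : cycF N) = algebraMap ℚ (cycF N) 1 from (map_one _).symm,
      Algebra.trace_algebraMap]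
    simp
  rw [if_neg h1, if_neg h2, Int.cast_zero, mul_zero, trace_eq_finrank_mul_minpoly_nextCoeff]
  obtain ⟨j, _, hj⟩ := (Nat.dvd_prime_pow Nat.prime_two).1 (orderOf_dvd_of_pow_eq_one hx)
  have hprim : IsPrimitiveRoot x (2 ^ j) := hj ▸ IsPrimitiveRoot.orderOf x
  rw [← Polynomial.cyclotomic_eq_minpoly_rat hprim (by positivity)]
  rcases j with _ | _ | j
  · exact absurd (orderOf_eq_one_iff.1 (hj.trans (pow_zero 2))) h1
  · refine absurd ?_ h2
    have hsq : x * x = 1 := by
      have := pow_orderOf_eq_one x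
      rwa [hj, pow_one, pow_two] at this
    exact (mul_self_eq_one_iff.1 hsq).resolve_left h1
  rw [Polynomial.cyclotomic_prime_pow_eq_geom_sum Nat.prime_two, Finset.sum_range_succ,
    Finset.sum_range_succ, Finset.sum_range_zero, zero_add, pow_zero, pow_one, add_comm,
    ← Polynomial.C_1]
  have hpos : 1 < 2 ^ (j + 1) := Nat.one_lt_pow (by omega) one_lt_two
  rw [Polynomial.nextCoeff_of_natDegree_pos (by rw [Polynomial.natDegree_X_pow_add_C]; omega),
    Polynomial.natDegree_X_pow_add_C, Polynomial.coeff_add, Polynomial.coeff_X_pow,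
    Polynomial.coeff_C, if_neg (by omega), if_neg (by omega)]
  simp

/-- Symmetric sums modulo two are their diagonals. -/
theorem sum_sum_symm_eq {ι : Type*} (s : Finset ι) (f : ι → ι → ZMod 2)
    (hf : ∀ i ∈ s, ∀ j ∈ s, f i j = f j i) : ∑ i ∈ s, ∑ j ∈ s, f i j = ∑ i ∈ s, f i i := by
  classical
  induction s using Finset.induction_on with
  | empty => simp
  | insert a t ha ih =>
    simp only [Finset.sum_insert ha, Finset.sum_add_distrib]
    rw [ih fun i hi j hj => hf i (Finset.mem_insert_of_mem hi) j (Finset.mem_insert_of_mem hj),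
      Finset.sum_congr rfl fun i hi => hf i (Finset.mem_insert_of_mem hi) a (Finset.mem_insert_self a t),
      show ∀ u v w : ZMod 2, u + v + (v + w) = u + w from by decide]

end Cfsg.Agent.Block
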