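import Cfsg.Agent.Lib.Block.BlockNilpotent
import Cfsg.Agent.Lib.Block.StabSylow
import Cfsg.Agent.Lib.Block.Columns
import Mathlib.RingTheory.ZMod.UnitsCyclic
import Mathlib.GroupTheory.SpecificGroups.Cyclic

/-!
# The inertial quotient for an abelian or cyclic defect group
-/

set_option autoImplicit false
set_option linter.style.haveILetI false

open Cfsg Cfsg.Agent.Char

namespace Cfsg.Agent.Block

universe u

variable {G : Type u} [Group G] [Finite G] {p : ℕ} [Fact p.Prime] {M : Ideal AlgInt}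
  {P T : Subgroup G}

/-- A block of the centraliser of an abelian defect group inducing `B` gives a maximal pair. -/
theorem isMaximal_of_induced (hM : IsPModular p M) {B : Set (IrrCharacter G)} (hB : IsPBlock M B)
    (hPD : IsDefectGroup p M B P) (hab : ∀ x ∈ P, ∀ y ∈ P, x * y = y * x)
    {c : Set (IrrCharacter (Subgroup.centralizer (P : Set G)))}
    (hc : IsInducedBlock M (Subgroup.centralizer (P : Set G)) c B) :
    IsMaximalBrauerPair p M B P c := by
  haveI := prime_of_isPModular hM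
  have hP := isPGroup_of_isDefectGroup hPD
  have hPC : P ≤ Subgroup.centralizer (P : Set G) := fun x hx =>
    Subgroup.mem_centralizer_iff.2 fun y hy => hab y hy x hx
  exact isMaximal_of_defectGroup hM
    ⟨⟨hP, hc.1⟩, hB, (isInducedBlock_iff_brauerOmega hM hP hPC hB hc.1).1 hc⟩ hPD

/-- The inertial quotient of an abelian maximal pair has order prime to `p`. -/
theorem not_dvd_card_range_of_abelian (hM : IsPModular p M) {B : Set (IrrCharacter G)}
    {c : Set (IrrCharacter (Subgroup.centralizer (P : Set G)))} (hmax : IsMaximalBrauerPair p M B P c)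
    (hab : ∀ x ∈ P, ∀ y ∈ P, x * y = y * x) (hT : IsStab P T c) :
    ¬ p ∣ Nat.card (stabAct P T hT.le_normalizer).range := by
  haveI := prime_of_isPModular hM
  have hle : SubpairLE p M P c P c := Relation.ReflTransGen.refl
  obtain ⟨F, hF⟩ := IsStab.exists_block (p := p) hT hM hmax.1.1
  obtain ⟨D, hD⟩ := exists_isDefectGroup (p := p) hF.1
  obtain ⟨hR, D', hD', hle'⟩ := exists_defectGroup_normalizerIn hM hmax.1.1 hle hT hF
  obtain ⟨x, -, hcard⟩ := exists_card_normalizerIn_ge hM hmax hle hT hF hD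
  have hPN : P ⊓ Subgroup.normalizer (P : Set G) = P := inf_eq_left.2 Subgroup.le_normalizer
  rw [hPN] at hle' hR
  have hD'P : P.subgroupOf T = D' := by
    refine Subgroup.eq_of_le_of_card_ge hle' ?_
    rw [Nat.card_congr (Subgroup.subgroupOfEquivOfLe hR).toEquiv, card_defectGroup hM hF.1 hD',
      ← card_defectGroup hM hF.1 hD]
    exact hcard.trans (Subgroup.card_le_of_le inf_le_left)
  have h := not_dvd_relIndex_stabAct hM hT hmax.1.1.2 hF hD'
  rwa [show D'.map (stabAct P T hT.le_normalizer) = ⊥ from eq_bot_iff.2 (by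
    rw [← hD'P]
    rintro _ ⟨t, ht, rfl⟩
    refine Subgroup.mem_bot.2 ((stabAct_eq_one_iff t).2 ?_)
    exact Subgroup.mem_centralizer_iff.2 fun y hy => hab y hy _ ht), Subgroup.relIndex_bot_left] at h

/-- The inertial quotient for a cyclic defect group: cyclic, of order dividing `p - 1`, acting freely. -/
theorem cyclic_inertial_structure (hM : IsPModular p M) {B : Set (IrrCharacter G)}
    {c : Set (IrrCharacter (Subgroup.centralizer (P : Set G)))} (hmax : IsMaximalBrauerPair p M B P c)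
    (hP1 : P ≠ ⊥) (hcyc : IsCyclic P) (hT : IsStab P T c) :
    IsCyclic (stabAct P T hT.le_normalizer).range ∧
      Nat.card (stabAct P T hT.le_normalizer).range ∣ p - 1 ∧
      ∀ g ∈ T, ∀ x ∈ P, x ≠ 1 → g * x * g⁻¹ = x → g ∈ Subgroup.centralizer (P : Set G) := by
  have hp : p.Prime := Fact.out
  haveI := hcyc
  have hab : ∀ x ∈ P, ∀ y ∈ P, x * y = y * x := fun x hx y hy =>
    congrArg Subtype.val (hcyc.commutative.is_comm.comm (⟨x, hx⟩ : P) ⟨y, hy⟩)
  set π := stabAct P T hT.le_normalizer with hπ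
  have hnd := not_dvd_card_range_of_abelian hM hmax hab hT
  obtain ⟨a, ha⟩ := hmax.1.1.1.exists_card_eq
  obtain ⟨a', rfl⟩ : ∃ a', a = a' + 1 := ⟨a - 1, by
    rcases Nat.eq_zero_or_pos a with rfl | h
    · exact absurd (Subgroup.eq_bot_of_card_eq P (by rw [ha, pow_zero])) hP1
    · omega⟩
  have hφ : Nat.card (MulAut P) = p ^ a' * (p - 1) := by
    rw [IsCyclic.card_mulAut, ha, Nat.totient_prime_pow hp (Nat.succ_pos _)]
    rfl
  have hdvd : Nat.card π.range ∣ p - 1 :=
    ((hp.coprime_iff_not_dvd.2 hnd).symm.pow_right a').dvd_of_dvd_mul_left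
      (hφ ▸ π.range.card_subgroup_dvd_card)
  refine ⟨?_, hdvd, ?_⟩
  · by_cases hp2 : p = 2
    · subst hp2
      haveI : Subsingleton π.range :=
        (Nat.card_eq_one_iff_unique.1 (Nat.dvd_one.1 (by simpa using hdvd))).1
      exact isCyclic_of_subsingleton
    · haveI : IsCyclic (ZMod (Nat.card P))ˣ := by
        rw [ha]; exact ZMod.isCyclic_units_of_prime_pow p hp hp2 _
      haveI : IsCyclic (MulAut P) :=
        isCyclic_of_surjective (IsCyclic.mulAutMulEquiv (G := P)).symm.toMonoidHom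
          (IsCyclic.mulAutMulEquiv (G := P)).symm.surjective
      infer_instance
  · intro g hg x hx hx1 hfix
    refine (stabAct_eq_one_iff (hTN := hT.le_normalizer) (⟨g, hg⟩ : T)).1 ?_
    set α := π ⟨g, hg⟩ with hα
    show α = 1
    obtain ⟨v, hv⟩ := IsCyclic.exists_generator (α := P)
    obtain ⟨k, hk⟩ := (Submonoid.mem_powers_iff _ _).1 (mem_powers_iff_mem_zpowers.2 (hv (α v)))
    have hall : ∀ w : P, α w = w ^ k := by
      intro w
      obtain ⟨i, rfl⟩ := Subgroup.mem_zpowers_iff.1 (hv w)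
      rw [map_zpow, ← hk, ← zpow_natCast, ← zpow_mul, ← zpow_natCast, ← zpow_mul, mul_comm]
    have hpow : ∀ (j : ℕ) (w : P), (α ^ j) w = w ^ k ^ j := by
      intro j
      induction j with
      | zero => intro w; simp
      | succ j ih =>
        intro w
        rw [pow_succ', MulAut.mul_apply, ih, map_pow, hall, ← pow_mul, pow_succ', mul_comm]
    have hxfix : (⟨x, hx⟩ : P) ^ k = ⟨x, hx⟩ := by
      rw [← hall]; exact Subtype.ext hfix
    have hk0 : k ≠ 0 := fun h0 => by
      rw [h0, pow_zero] at hxfix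
      exact hx1 (congrArg Subtype.val hxfix).symm
    obtain ⟨k', rfl⟩ : ∃ k', k = k' + 1 := ⟨k - 1, by omega⟩
    rw [pow_succ, mul_eq_right] at hxfix
    have hpk : p ∣ k' := by
      have h1 : orderOf (⟨x, hx⟩ : P) ≠ 1 := fun h => hx1 (congrArg Subtype.val (orderOf_eq_one_iff.1 h))
      obtain ⟨j, -, hj⟩ := (Nat.dvd_prime_pow hp).1 (ha ▸ orderOf_dvd_natCard (⟨x, hx⟩ : P))
      have hj0 : j ≠ 0 := fun h0 => h1 (by rw [hj, h0, pow_zero])
      exact ((dvd_pow_self p hj0).trans (hj ▸ dvd_refl _)).trans (orderOf_dvd_of_pow_eq_one hxfix)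
    have hlift : ((p : ℤ) ^ (a' + 1)) ∣ ((k' + 1 : ℕ) : ℤ) ^ p ^ a' - 1 := by
      have h := dvd_sub_pow_of_dvd_sub (R := ℤ) (p := p) (a := ((k' + 1 : ℕ) : ℤ)) (b := 1)
        (by push_cast; simpa using Int.natCast_dvd_natCast.2 hpk) a'
      simpa using h
    have h1 : α ^ p ^ a' = 1 := by
      refine MulEquiv.ext fun w => ?_
      rw [hpow, MulAut.one_apply]
      have h2 : (w : P) ^ ((((k' + 1 : ℕ) : ℤ) ^ p ^ a') - 1) = 1 := by
        refine orderOf_dvd_iff_zpow_eq_one.1 (dvd_trans ?_ hlift)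
        rw [← Nat.cast_pow, Int.natCast_dvd_natCast, ← ha]
        exact orderOf_dvd_natCard w
      rw [zpow_sub, zpow_one, mul_inv_eq_one, ← Nat.cast_pow, zpow_natCast] at h2
      exact h2
    have h2 : orderOf α ∣ Nat.card π.range := by
      rw [← Subgroup.orderOf_mk α (show α ∈ π.range from ⟨⟨g, hg⟩, rfl⟩)]
      exact orderOf_dvd_natCard _
    exact orderOf_eq_one_iff.1 (Nat.eq_one_of_dvd_coprimes
      ((hp.coprime_iff_not_dvd.2 hnd).pow_left a') (orderOf_dvd_of_pow_eq_one h1) h2)

end Cfsg.Agent.Block
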