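import Cfsg.Agent.Lib.Block.PairDefect
import Cfsg.Agent.Lib.Block.Height
import Cfsg.Prelude.Def_BlockFusion

/-!
# The fusion system of a block: conjugates and defect groups
-/

set_option autoImplicit false

open Cfsg.Agent.Char
open scoped ComplexConjugate Pointwise

namespace Cfsg.Agent.Block

universe u

local notation "CG(" P ")" => Subgroup.centralizer (SetLike.coe P)

variable {G : Type u} [Group G] [Finite G] {M : Ideal AlgInt} {p : ℕ}

theorem isConj_iff_subpair (hM : IsPModular p M) {B : Set (IrrCharacter G)} {P : Subgroup G}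
    {e : Set (IrrCharacter (Subgroup.centralizer (P : Set G)))}
    (hmax : IsMaximalBrauerPair p M B P e) {F : FusionSystem P}
    (hF : IsBlockFusionSystemOn p M B P e F) {Q : Subgroup G}
    {f : Set (IrrCharacter (Subgroup.centralizer (Q : Set G)))} (hle : SubpairLE p M Q f P e)
    (Q' : Subgroup G) :
    F.IsConj Q Q' ↔ ∃ g : G, Q.map (MulAut.conj g).toMonoidHom = Q' ∧
      SubpairLE p M (Q.map (MulAut.conj g).toMonoidHom) (conjBlock Q g f) P e := by
  haveI := prime_of_isPModular hM
  haveI := Fact.mk hM.1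
  constructor
  · rintro ⟨φ, hφ, rfl⟩
    obtain ⟨hQP, g, hg, hgP, f', hf', hgf⟩ := (hF.2 Q φ).1 hφ
    obtain rfl : f' = f := (existsUnique_subpair hM P e hmax.1.1 Q hQP).unique hf' hle
    refine ⟨g, ?_, hgf⟩
    refine le_antisymm ?_ ?_
    · rintro _ ⟨x, hx, rfl⟩
      exact ⟨⟨x, hx⟩, hg ⟨x, hx⟩⟩
    · rintro _ ⟨x, rfl⟩
      exact ⟨x, x.2, (hg x).symm⟩
  · rintro ⟨g, rfl, hg⟩
    refine ⟨conjHom Q g, (hF.2 Q _).2 ⟨SubpairLE.le hle, g, fun _ => rfl, SubpairLE.le hg, f, hle, hg⟩,
      ?_⟩
    refine le_antisymm ?_ ?_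
    · rintro _ ⟨x, rfl⟩
      exact ⟨x, x.2, rfl⟩
    · rintro _ ⟨x, hx, rfl⟩
      exact ⟨⟨x, hx⟩, rfl⟩

variable [Fact p.Prime]

theorem card_defectGroup_conjBlock (hM : IsPModular p M) {Q : Subgroup G} (y : G)
    {f : Set (IrrCharacter (Subgroup.centralizer (Q : Set G)))} (hf : IsPBlock M f)
    {D : Subgroup (Subgroup.centralizer (Q : Set G))} (hD : IsDefectGroup p M f D)
    {D' : Subgroup (Subgroup.centralizer ((Q.map (MulAut.conj y).toMonoidHom : Subgroup G) : Set G))}
    (hD' : IsDefectGroup p M (conjBlock Q y f) D') : Nat.card D' = Nat.card D := by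
  haveI := prime_of_isPModular hM
  rw [conjBlock_eq] at hD'
  have hb := isPBlock_comp (centConj Q y) hf
  rw [card_defectGroup hM hb hD', ← card_defectGroup hM hb (isDefectGroup_comp _ hD)]
  exact Nat.card_congr (D.equivMapOfInjective _ (centConj Q y).symm.injective).toEquiv.symm

theorem card_centralizerIn (P R : Subgroup G) :
    Nat.card ((P ⊓ Subgroup.centralizer (R : Set G)).subgroupOf (Subgroup.centralizer (R : Set G))) =
      Nat.card (P ⊓ Subgroup.centralizer (R : Set G) : Subgroup G) :=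
  Nat.card_congr (Subgroup.subgroupOfEquivOfLe inf_le_right).toEquiv

variable {B : Set (IrrCharacter G)} {P Q : Subgroup G}
  {e : Set (IrrCharacter (Subgroup.centralizer (P : Set G)))}
  {f : Set (IrrCharacter (Subgroup.centralizer (Q : Set G)))}
  {D : Subgroup (Subgroup.centralizer (Q : Set G))}

theorem card_centralizerIn_le (hM : IsPModular p M) (hmax : IsMaximalBrauerPair p M B P e)
    (hf : IsPBlock M f) (hD : IsDefectGroup p M f D) {y : G}
    (hy : SubpairLE p M (Q.map (MulAut.conj y).toMonoidHom) (conjBlock Q y f) P e) :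
    Nat.card (P ⊓ Subgroup.centralizer ((Q.map (MulAut.conj y).toMonoidHom : Subgroup G) : Set G) :
      Subgroup G) ≤ Nat.card D := by
  haveI := prime_of_isPModular hM
  obtain ⟨D', hD', hle⟩ := exists_defectGroup_centralizer hM hmax.1.1 (isPBlock_conjBlock y hf) hy
  rw [← card_defectGroup_conjBlock hM y hf hD hD', ← card_centralizerIn]
  exact Subgroup.card_le_of_le hle

theorem exists_card_centralizerIn_eq (hM : IsPModular p M) (hmax : IsMaximalBrauerPair p M B P e)
    (hf : IsPBlock M f) (hD : IsDefectGroup p M f D) (hle : SubpairLE p M Q f P e) :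
    ∃ x : G, SubpairLE p M (Q.map (MulAut.conj x).toMonoidHom) (conjBlock Q x f) P e ∧
      Nat.card (P ⊓ Subgroup.centralizer ((Q.map (MulAut.conj x).toMonoidHom : Subgroup G) : Set G) :
        Subgroup G) = Nat.card D := by
  haveI := prime_of_isPModular hM
  obtain ⟨x, hx, hD'⟩ := exists_conj_defectGroup hM hmax hf hle
  exact ⟨x, hx, by rw [← card_defectGroup_conjBlock hM x hf hD hD', card_centralizerIn]⟩

theorem isDefectGroup_centralizerIn_iff (hM : IsPModular p M) (hmax : IsMaximalBrauerPair p M B P e)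
    (hf : IsPBlock M f) (hD : IsDefectGroup p M f D) (hle : SubpairLE p M Q f P e) :
    IsDefectGroup p M f
        ((P ⊓ Subgroup.centralizer (Q : Set G)).subgroupOf (Subgroup.centralizer (Q : Set G))) ↔
      Nat.card (P ⊓ Subgroup.centralizer (Q : Set G) : Subgroup G) = Nat.card D := by
  haveI := prime_of_isPModular hM
  refine ⟨fun h => ?_, fun h => ?_⟩
  · rw [← card_centralizerIn, card_defectGroup hM hf h, card_defectGroup hM hf hD]
  · obtain ⟨D', hD', hle'⟩ := exists_defectGroup_centralizer hM hmax.1.1 hf hle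
    rwa [Subgroup.eq_of_le_of_card_ge hle' (by
      rw [card_centralizerIn, h, card_defectGroup hM hf hD', card_defectGroup hM hf hD])]

theorem card_center_map (Q : Subgroup G) (g : G) :
    Nat.card (Q.map (MulAut.conj g).toMonoidHom ⊓
        Subgroup.centralizer ((Q.map (MulAut.conj g).toMonoidHom : Subgroup G) : Set G) : Subgroup G) =
      Nat.card (Q ⊓ Subgroup.centralizer (Q : Set G) : Subgroup G) := by
  have h : (Q ⊓ Subgroup.centralizer (Q : Set G)).map (MulAut.conj g).toMonoidHom =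
      Q.map (MulAut.conj g).toMonoidHom ⊓
        Subgroup.centralizer ((Q.map (MulAut.conj g).toMonoidHom : Subgroup G) : Set G) := by
    refine le_antisymm ?_ ?_
    · rintro _ ⟨x, hx, rfl⟩
      exact ⟨⟨x, hx.1, rfl⟩, ((centConj Q g).symm ⟨x, hx.2⟩).2⟩
    · rintro _ ⟨⟨x, hx, rfl⟩, hc⟩
      refine ⟨x, ⟨hx, ?_⟩, rfl⟩
      have h2 := (centConj Q g ⟨_, hc⟩).2
      change g⁻¹ * (g * x * g⁻¹) * g ∈ _ at h2
      rwa [show g⁻¹ * (g * x * g⁻¹) * g = x by group] at h2
  rw [← h, card_map_conj]

end Cfsg.Agent.Block
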