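import Cfsg.Agent.Lib.Block.CoreKernel
import Cfsg.Agent.Lib.Block.SubgroupPair
import Cfsg.Agent.Lib.Block.PairFusion
import Cfsg.Agent.Lib.Block.AbelianPExtension

/-!
# The major subsections of a block in the centre of a defect group
-/

set_option autoImplicit false

open Cfsg.Agent.Char
open scoped ComplexConjugate

namespace Cfsg.Agent.Block

universe u

local notation "CG(" y ")" => Subgroup.centralizer ({y} : Set _)

variable {G : Type u} [Group G] [Finite G] {M : Ideal AlgInt} [hMp : M.IsPrime] {p : ℕ} [Fact p.Prime]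

theorem SubpairLE.eq_of_same (hM : IsPModular p M) {a b : BrauerPairIdx G}
    (h : Relation.ReflTransGen (NormalSubpairRel p M) a b) (he : a.1 = b.1) : a = b := by
  rcases SubpairLE.cases_last hM h with h' | ⟨c, hlt, hac, -⟩
  · exact h'
  · exact absurd ((SubpairLE.le hac).trans_lt hlt) (by rw [he]; exact lt_irrefl _)

theorem blockIdem_injective {L : Subgroup G} {c c' : Set (IrrCharacter L)} (hc : IsPBlock M c)
    (hc' : IsPBlock M c') (h : ∀ k : L, blockCoeff c k = blockCoeff c' k) : c = c' := by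
  obtain ⟨θ, hθ⟩ := isPBlock_nonempty hc
  have he : blockIdem c = blockIdem c' := MonoidAlgebra.ext (Finsupp.ext fun k => by
    simp only [blockIdem, coeff_mkA, h])
  have h1 := ro_blockIdem_mem (M := M) hθ
  rw [he] at h1
  by_contra hne
  rw [ro_blockIdem_notMem fun h' => hne (isPBlock_eq_of_mem hc hc' hθ h')] at h1
  exact zero_ne_one h1

theorem liftBlk_idx_congr {K : Subgroup G} {a b : BrauerPairIdx K} (h : a = b)
    (ha : Subgroup.centralizer ((a.1.map K.subtype : Subgroup G) : Set G) ≤ K)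
    (hb : Subgroup.centralizer ((b.1.map K.subtype : Subgroup G) : Set G) ≤ K) :
    (⟨a.1.map K.subtype, liftBlk a.1 ha a.2⟩ : BrauerPairIdx G) =
      ⟨b.1.map K.subtype, liftBlk b.1 hb b.2⟩ := by
  subst h; rfl

variable {B : Set (IrrCharacter G)} {D : Subgroup G}
  {e : Set (IrrCharacter (Subgroup.centralizer (D : Set G)))}

/-- The block at a central element of the defect group has defect group `D`. -/
theorem central_pair_defect (hM : IsPModular p M) (hBD : IsDefectGroup p M B D)
    (he : IsBrauerPairOf p M B D e) {u : G} (hu : u ∈ D) (hc : ∀ d ∈ D, d * u = u * d)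
    {f : Set (IrrCharacter (Subgroup.centralizer ((Subgroup.zpowers u : Subgroup G) : Set G)))}
    (hf : IsNormalSubpair p M (Subgroup.zpowers u) f D e) :
    D ≤ Subgroup.centralizer ((Subgroup.zpowers u : Subgroup G) : Set G) ∧
      IsBrauerPairOf p M B (Subgroup.zpowers u) f ∧
      blockDefect p f = blockDefect p B ∧
      IsDefectGroup p M f
        (D.subgroupOf (Subgroup.centralizer ((Subgroup.zpowers u : Subgroup G) : Set G))) := by
  have hQP : Subgroup.zpowers u ≤ D := Subgroup.zpowers_le.2 hu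
  have hpairQ := (IsNormalSubpair.pairOf_iff hM hf B).1 he
  have hDC : D ≤ Subgroup.centralizer ((Subgroup.zpowers u : Subgroup G) : Set G) := fun d hd => by
    rw [centralizer_zpowers, mem_centralizer_singleton]
    exact (hc d hd).symm
  have hind := (isInducedBlock_iff_brauerOmega hM (he.1.1.to_le hQP) (zpowers_le_centralizer_zpowers _)
    he.2.1 hpairQ.1.2).2 hpairQ.2.2
  obtain ⟨D', hD', hle⟩ := exists_defectGroup_centralizer hM he.1 hpairQ.1.2
    (Relation.ReflTransGen.single (show NormalSubpairRel p M ⟨_, f⟩ ⟨D, e⟩ from hf))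
  rw [inf_eq_left.2 hDC] at hle
  have hd1 := blockDefect_le_of_induced hM hind
  have hcD := card_defectGroup hM he.2.1 hBD
  have hcD' := card_defectGroup hM hpairQ.1.2 hD'
  have heq := Subgroup.eq_of_le_of_card_ge hle (by
    rw [Nat.card_congr (Subgroup.subgroupOfEquivOfLe hDC).toEquiv, hcD, hcD']
    exact Nat.pow_le_pow_right hM.1.pos hd1)
  refine ⟨hDC, hpairQ, le_antisymm hd1 ?_, heq ▸ hD'⟩
  rw [← Nat.pow_le_pow_iff_right hM.1.one_lt, ← hcD, ← hcD',
    ← Nat.card_congr (Subgroup.subgroupOfEquivOfLe hDC).toEquiv, heq]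

/-- A major subsection at the conjugate of a central element. -/
theorem exists_major_conj (hM : IsPModular p M) (hBD : IsDefectGroup p M B D)
    (he : IsBrauerPairOf p M B D e) (g : G) {u : G} (hu : u ∈ D) (hc : ∀ d ∈ D, d * u = u * d)
    {f : Set (IrrCharacter (Subgroup.centralizer ((Subgroup.zpowers u : Subgroup G) : Set G)))}
    (hf : IsNormalSubpair p M (Subgroup.zpowers u) f D e) :
    ∃ b : Set (IrrCharacter (CG(g * u * g⁻¹))), IsInducedBlock M (CG(g * u * g⁻¹)) b B ∧
      blockDefect p b = blockDefect p B ∧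
      ∀ y : G, (embH (CG(g * u * g⁻¹)) (blockIdem b)).coeff y =
        (embH (Subgroup.centralizer ((Subgroup.zpowers u : Subgroup G) : Set G)) (blockIdem f)).coeff
          (g⁻¹ * y * g) := by
  obtain ⟨-, hpair, hdef, hdg⟩ := central_pair_defect hM hBD he hu hc hf
  have hz : (Subgroup.zpowers u).map (MulAut.conj g).toMonoidHom = Subgroup.zpowers (g * u * g⁻¹) := by
    rw [MonoidHom.map_zpowers]; rfl
  suffices h : ∀ C : Subgroup G, Subgroup.centralizer
      (((Subgroup.zpowers u).map (MulAut.conj g).toMonoidHom : Subgroup G) : Set G) = C →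
      ∃ b : Set (IrrCharacter C), IsInducedBlock M C b B ∧ blockDefect p b = blockDefect p B ∧
        ∀ y : G, (embH C (blockIdem b)).coeff y =
          (embH (Subgroup.centralizer ((Subgroup.zpowers u : Subgroup G) : Set G)) (blockIdem f)).coeff
            (g⁻¹ * y * g) from h _ (by rw [hz, centralizer_zpowers])
  rintro C rfl
  have hQ' := IsBrauerPairOf.conj hpair g
  refine ⟨conjBlock _ g f, (isInducedBlock_iff_brauerOmega hM hQ'.1.1 (by
    rw [hz]; exact zpowers_le_centralizer_zpowers _) he.2.1 hQ'.1.2).2 hQ'.2.2, ?_,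
    fun y => coeff_embH_conjBlock _ g y f⟩
  obtain ⟨D', hD'⟩ := exists_isDefectGroup (p := p) hQ'.1.2
  have h1 := card_defectGroup_conjBlock hM g hpair.1.2 hdg hD'
  rw [card_defectGroup hM hpair.1.2 hdg, card_defectGroup hM hQ'.1.2 hD'] at h1
  rw [← hdef]
  exact Nat.pow_right_injective hM.1.two_le h1

/-- Conjugate central subsections come from the stabiliser of the maximal pair. -/
theorem exists_stab_of_conj_central (hM : IsPModular p M) (hBD : IsDefectGroup p M B D)
    (he : IsBrauerPairOf p M B D e) {u v : G} (hu : u ∈ D) (hcu : ∀ d ∈ D, d * u = u * d)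
    (hv : v ∈ D) (hcv : ∀ d ∈ D, d * v = v * d)
    {f : Set (IrrCharacter (Subgroup.centralizer ((Subgroup.zpowers u : Subgroup G) : Set G)))}
    (hf : IsNormalSubpair p M (Subgroup.zpowers u) f D e)
    {f' : Set (IrrCharacter (Subgroup.centralizer ((Subgroup.zpowers v : Subgroup G) : Set G)))}
    (hf' : IsNormalSubpair p M (Subgroup.zpowers v) f' D e) {t : G} (ht : t * u * t⁻¹ = v)
    (hidem : ∀ y : G,
      (embH (Subgroup.centralizer ((Subgroup.zpowers v : Subgroup G) : Set G)) (blockIdem f')).coeff y =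
      (embH (Subgroup.centralizer ((Subgroup.zpowers u : Subgroup G) : Set G)) (blockIdem f)).coeff
        (t⁻¹ * y * t)) :
    ∃ t' : G, t' * u * t'⁻¹ = v ∧
      (⟨D.map (MulAut.conj t').toMonoidHom, conjBlock D t' e⟩ : BrauerPairIdx G) = ⟨D, e⟩ := by
  obtain ⟨hDK, -, -, hdg⟩ := central_pair_defect hM hBD he hv hcv hf'
  obtain ⟨hDC, -, -, -⟩ := central_pair_defect hM hBD he hu hcu hf
  set K := Subgroup.centralizer ((Subgroup.zpowers v : Subgroup G) : Set G) with hKdef
  set Q' := (Subgroup.zpowers u).map (MulAut.conj t).toMonoidHom with hQ'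
  set D' := D.map (MulAut.conj t).toMonoidHom with hD'
  have hzQ : Q' = Subgroup.zpowers v := by
    rw [hQ', MonoidHom.map_zpowers, ← ht]; rfl
  have hCQ : Subgroup.centralizer (Q' : Set G) ≤ K := by rw [hzQ]
  have hD'K : D' ≤ K := by
    refine le_trans ?_ hCQ
    rintro _ ⟨d, hd, rfl⟩
    rw [Subgroup.mem_centralizer_iff]
    rintro _ ⟨q, hq, rfl⟩
    rw [← map_mul, ← map_mul]
    exact congrArg _ (Subgroup.mem_centralizer_iff.1 (hDC hd) q hq)
  have hn' := IsNormalSubpair.conj hf t
  have hp1 := IsNormalSubpair.restr_pairOf hn' hD'K hCQ hf'.1.2 fun k => by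
    rw [coeff_blockIdem, coe_subgroupBlockCoeff, coeff_embH_conjBlock, ← hidem, coeff_embH]
  have hp2 := IsNormalSubpair.restr_pairOf hf' hDK le_rfl hf'.1.2 fun k => by
    rw [coeff_blockIdem, coe_subgroupBlockCoeff, coeff_embH]
  have hmax := isMaximal_of_defectGroup hM hp2 hdg
  obtain ⟨x, hx⟩ := exists_conj_le_maximal hM hmax hp1
  have hgrp : (D'.subgroupOf K).map (MulAut.conj x).toMonoidHom = D.subgroupOf K := by
    refine Subgroup.eq_of_le_of_card_ge (SubpairLE.le hx) ?_
    rw [card_map_conj, Nat.card_congr (Subgroup.subgroupOfEquivOfLe hD'K).toEquiv, hD', card_map_conj,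
      Nat.card_congr (Subgroup.subgroupOfEquivOfLe hDK).toEquiv]
  have heq := SubpairLE.eq_of_same hM hx hgrp
  have hCD : Subgroup.centralizer (D : Set G) ≤ K := centralizer_le_of_le (Subgroup.zpowers_le.2 hv)
  have hCD' : Subgroup.centralizer (D' : Set G) ≤ K :=
    (centralizer_le_of_le (Subgroup.map_mono (Subgroup.zpowers_le.2 hu))).trans hCQ
  have hb : Subgroup.centralizer (((D.subgroupOf K).map K.subtype : Subgroup G) : Set G) ≤ K := by
    rwa [Subgroup.map_subgroupOf_eq_of_le hDK]
  have hb' : Subgroup.centralizer (((D'.subgroupOf K).map K.subtype : Subgroup G) : Set G) ≤ K := by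
    rwa [Subgroup.map_subgroupOf_eq_of_le hD'K]
  have ha : Subgroup.centralizer ((((D'.subgroupOf K).map (MulAut.conj x).toMonoidHom).map K.subtype :
      Subgroup G) : Set G) ≤ K := by
    rw [hgrp]; exact hb
  have h1 := liftBlk_idx_congr heq ha hb
  rw [liftBlk_conjBlock _ x hb' ha, liftBlk_restrBlk D hDK hCD hb] at h1
  have h2 := liftBlk_restrBlk D' hD'K hCD' hb' (conjBlock D t e)
  have h3 : (⟨(((D'.subgroupOf K).map K.subtype)).map (MulAut.conj (x : G)).toMonoidHom,
      conjBlock _ (x : G) (liftBlk _ hb' (restrBlk D' hD'K hCD' (conjBlock D t e)))⟩ : BrauerPairIdx G) =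
      ⟨D'.map (MulAut.conj (x : G)).toMonoidHom, conjBlock _ (x : G) (conjBlock D t e)⟩ :=
    congrArg (fun a : BrauerPairIdx G =>
      (⟨a.1.map (MulAut.conj (x : G)).toMonoidHom, conjBlock a.1 (x : G) a.2⟩ : BrauerPairIdx G)) h2
  refine ⟨(x : G) * t, ?_, ?_⟩
  · have hxv : (x : G) * v = v * x := by
      have := Subgroup.mem_centralizer_iff.1 x.2 v (Subgroup.mem_zpowers v)
      exact this.symm
    calc (x : G) * t * u * ((x : G) * t)⁻¹ = (x : G) * (t * u * t⁻¹) * (x : G)⁻¹ := by group
      _ = v := by rw [ht, hxv, mul_inv_cancel_right]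
  · rw [← conjBlock_conjBlock, ← h3]
    exact h1

/-- There are at least `|Z(D)| / e` major subsections, counted with multiplicity. -/
theorem major_classes_ge [Fintype G] (hM : IsPModular p M) (hBD : IsDefectGroup p M B D)
    {H : Subgroup G} (hH : H = D ⊔ Subgroup.centralizer (D : Set G)) {b : Set (IrrCharacter H)}
    (hind : IsInducedBlock M H b B) {T : Subgroup G}
    (hT : ∀ g : G, g ∈ T ↔ (g ∈ Subgroup.normalizer (D : Set G) ∧ ∀ θ ∈ b, ∀ θ' : IrrCharacter H,
      (∀ h h' : H, (h' : G) = g * h * g⁻¹ → (θ' : H → ℂ) h' = (θ : H → ℂ) h) → θ' ∈ b)) :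
    ∃ S : Finset (Σ x : G, Set (IrrCharacter (CG(x)))),
      (∀ s ∈ S, (∃ k : ℕ, orderOf s.1 = p ^ k) ∧ IsInducedBlock M (CG(s.1)) s.2 B ∧
        blockDefect p s.2 = blockDefect p B) ∧
      Nat.card G * Nat.card (Subgroup.center D) ≤ H.relIndex T * ∑ s ∈ S, Nat.card CG(s.1) := by
  classical
  have hDp := isPGroup_of_isDefectGroup hBD
  have hDH : D ≤ H := hH ▸ le_sup_left
  have hCH : Subgroup.centralizer (D : Set G) ≤ H := hH ▸ le_sup_right
  have hHN : H ≤ Subgroup.normalizer (D : Set G) :=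
    hH ▸ sup_le Subgroup.le_normalizer (centralizer_le_normalizer' D)
  have hne : brFun M D (embH H (blockIdem b)) ≠ 0 := fun h0 => by
    obtain ⟨η, hη⟩ := isPBlock_nonempty hind.1
    have := Factors.of_normal hM hDp hDH hHN η _ (CL.blockIdem hind.1) h0
    rw [ro_blockIdem_mem hη] at this
    exact one_ne_zero this
  obtain ⟨e, hep, hlam⟩ := exists_pair_over hM hDp hDH hCH hind.1 hne
  have he := pairOf_of_over hM hDH hCH hep hlam hind
  set Z' := (Subgroup.center D).map D.subtype with hZ'
  have hZD : Z' ≤ D := Subgroup.map_subtype_le _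
  have hZc : ∀ u ∈ Z', ∀ d ∈ D, d * u = u * d := by
    rintro _ ⟨z, hz, rfl⟩ d hd
    exact congrArg Subtype.val (Subgroup.mem_center_iff.1 hz ⟨d, hd⟩)
  have hfex : ∀ u : Z', ∃ f, IsNormalSubpair p M (Subgroup.zpowers (u : G)) f D e := fun u => by
    refine (existsUnique_normalSubpair hM hep (Subgroup.zpowers_le.2 (hZD u.2)) ?_).exists
    refine le_trans (fun d hd => ?_) (centralizer_le_normalizer' _)
    rw [centralizer_zpowers, mem_centralizer_singleton]
    exact (hZc u u.2 d hd).symm
  choose f hf using hfex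
  have hbex := fun (a : G × Z') => exists_major_conj hM hBD he a.1 (hZD a.2.2) (hZc a.2 a.2.2) (hf a.2)
  choose bb hbb1 hbb2 hbb3 using hbex
  haveI := Fintype.ofFinite Z'
  set φ : G × Z' → (Σ x : G, Set (IrrCharacter (CG(x)))) := fun a => ⟨a.1 * (a.2 : G) * a.1⁻¹, bb a⟩ with hφ
  refine ⟨Finset.univ.image φ, ?_, ?_⟩
  · intro s hs
    obtain ⟨a, -, rfl⟩ := Finset.mem_image.1 hs
    refine ⟨?_, hbb1 a, hbb2 a⟩
    obtain ⟨k, hk⟩ := IsPGroup.iff_orderOf.1 hDp ⟨_, hZD a.2.2⟩
    rw [Subgroup.orderOf_mk] at hk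
    exact ⟨k, by rw [← hk]; exact orderOf_conj_eq _ _⟩
  have hfib : ∀ s ∈ Finset.univ.image φ, (Finset.univ.filter fun a => φ a = s).card ≤
      H.relIndex T * Nat.card CG(s.1) := by
    intro s hs
    obtain ⟨⟨g0, u0⟩, -, rfl⟩ := Finset.mem_image.1 hs
    set x := g0 * (u0 : G) * g0⁻¹ with hx
    -- conjugates of `u0` under `T`
    haveI := Fintype.ofFinite (T ⧸ H.subgroupOf T)
    set R : Finset G := Finset.univ.image fun q : T ⧸ H.subgroupOf T =>
      ((q.out : T) : G) * (u0 : G) * ((q.out : T) : G)⁻¹ with hR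
    have hRcard : R.card ≤ H.relIndex T := by
      refine Finset.card_image_le.trans ?_
      rw [Finset.card_univ, ← Nat.card_eq_fintype_card]
      exact le_of_eq (Subgroup.index_eq_card _).symm
    have hmemR : ∀ a : G × Z', φ a = φ (g0, u0) → (a.2 : G) ∈ R ∧ a.1 * (a.2 : G) * a.1⁻¹ = x := by
      rintro ⟨g, u⟩ ha
      have hfst : g * (u : G) * g⁻¹ = x := congrArg Sigma.fst ha
      have hsnd : ∀ y : G, (embH (CG((g, u).1 * ((g, u).2 : G) * (g, u).1⁻¹)) (blockIdem (bb (g, u)))).coeff y =
          (embH (CG((g0, u0).1 * ((g0, u0).2 : G) * (g0, u0).1⁻¹)) (blockIdem (bb (g0, u0)))).coeff y := by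
        intro y
        have key : ∀ w w' : (Σ x : G, Set (IrrCharacter (CG(x)))), w = w' →
            (embH (CG(w.1)) (blockIdem w.2)).coeff y = (embH (CG(w'.1)) (blockIdem w'.2)).coeff y := by
          rintro w _ rfl; rfl
        exact key ⟨_, bb (g, u)⟩ ⟨_, bb (g0, u0)⟩ ha
      refine ⟨?_, hfst⟩
      have ht : (g0⁻¹ * g) * (u : G) * (g0⁻¹ * g)⁻¹ = (u0 : G) := by
        calc (g0⁻¹ * g) * (u : G) * (g0⁻¹ * g)⁻¹ = g0⁻¹ * (g * (u : G) * g⁻¹) * g0 := by group
          _ = (u0 : G) := by rw [hfst, hx]; group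
      obtain ⟨t, htu, hte⟩ := exists_stab_of_conj_central hM hBD he (hZD u.2) (hZc u u.2)
        (hZD u0.2) (hZc u0 u0.2) (hf u) (hf u0) ht fun y => by
          have h := hsnd (g0 * y * g0⁻¹)
          rw [hbb3, hbb3] at h
          rw [show g0⁻¹ * (g0 * y * g0⁻¹) * g0 = y by group] at h
          rw [← h]
          congr 1
          group
      -- `t` stabilises `b`
      have htN : t ∈ Subgroup.normalizer (D : Set G) := by
        have h1 : D.map (MulAut.conj t).toMonoidHom = D := congrArg Sigma.fst hte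
        refine Subgroup.mem_normalizer_fintype fun d hd => ?_
        have : t * d * t⁻¹ ∈ D.map (MulAut.conj t).toMonoidHom := ⟨d, hd, rfl⟩
        rwa [h1] at this
      have htC := le_normalizer_centralizer (le_refl (Subgroup.normalizer (D : Set G))) htN
      have htH : t ∈ Subgroup.normalizer (H : Set G) := by
        refine Subgroup.mem_normalizer_fintype fun y hy => ?_
        have hy' : (MulAut.conj t).toMonoidHom y ∈ H.map (MulAut.conj t).toMonoidHom := ⟨y, hy, rfl⟩
        have hle : H.map (MulAut.conj t).toMonoidHom ≤ H := by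
          rw [hH, Subgroup.map_sup]
          refine sup_le_sup ?_ ?_
          · rintro _ ⟨d, hd, rfl⟩
            exact (Subgroup.mem_normalizer_iff.1 htN d).1 hd
          · rintro _ ⟨c, hc, rfl⟩
            exact (Subgroup.mem_normalizer_iff.1 htC c).1 hc
        exact hle hy'
      have hfixb : conjBlk htH b = b := by
        obtain ⟨ξ, hξ⟩ := isPBlock_nonempty hep.2
        have hbt := isPBlock_conjBlk (M := M) htH hind.1
        have hall : ∀ ξ' ∈ conjBlock D t e, lam M _ ξ' (embH H (blockIdem (conjBlk htH b))) = 1 := by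
          intro ξ' hξ'
          rw [conjBlock_eq] at hξ'
          obtain ⟨ξ₀, hξ₀, rfl⟩ := hξ'
          rw [lam_conj t ξ₀ (fun y => coeff_embH_blockIdem_conj htH b y)]
          exact hlam ξ₀ hξ₀
        have hmove : ∀ a a' : BrauerPairIdx G, a = a' →
            (∀ ξ' ∈ a.2, lam M _ ξ' (embH H (blockIdem (conjBlk htH b))) = 1) →
            ∀ ξ' ∈ a'.2, lam M _ ξ' (embH H (blockIdem (conjBlk htH b))) = 1 := by
          rintro a _ rfl h; exact h
        have h1 := hmove _ _ hte hall ξ hξ
        exact (isResHom_embH hM hDp hDH hCH ξ).eq_of_ne_zero hbt hind.1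
          (h1 ▸ one_ne_zero) (hlam ξ hξ ▸ one_ne_zero)
      have htT : t ∈ T := by
        refine (hT t).2 ⟨htN, fun θ hθ θ' hθ' => ?_⟩
        have h2 : θ' = conjIrr htH θ := by
          refine Subtype.ext (funext fun k => ?_)
          rw [conjIrr_apply]
          exact hθ' _ k (show (k : G) = t * (t⁻¹ * (k : G) * t) * t⁻¹ by group)
        rw [h2, ← hfixb]
        exact ⟨θ, hθ, rfl⟩
      refine Finset.mem_image.2 ⟨((⟨t, htT⟩ : T)⁻¹ : T), Finset.mem_univ _, ?_⟩
      obtain ⟨h, hh⟩ := QuotientGroup.mk_out_eq_mul (H.subgroupOf T) ((⟨t, htT⟩ : T)⁻¹)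
      rw [hh, Subgroup.coe_mul]
      have hcom : ((h : T) : G) * (u0 : G) = (u0 : G) * ((h : T) : G) := by
        have hmem : ((h : T) : G) ∈ H := h.2
        have hle : H ≤ Subgroup.centralizer ({(u0 : G)} : Set G) := by
          rw [hH]
          refine sup_le (fun d hd => mem_centralizer_singleton.2 (hZc u0 u0.2 d hd).symm) fun c hc => ?_
          exact mem_centralizer_singleton.2 (Subgroup.mem_centralizer_iff.1 hc (u0 : G) (hZD u0.2))
        exact ((mem_centralizer_singleton.1 (hle hmem)).eq).symm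
      calc (((⟨t, htT⟩ : T)⁻¹ : T) : G) * ((h : T) : G) * (u0 : G) *
          ((((⟨t, htT⟩ : T)⁻¹ : T) : G) * ((h : T) : G))⁻¹
          = t⁻¹ * (((h : T) : G) * (u0 : G) * ((h : T) : G)⁻¹) * t := by
            simp only [InvMemClass.coe_inv]; group
        _ = (u : G) := by rw [hcom, mul_inv_cancel_right, ← htu]; group
    calc (Finset.univ.filter fun a => φ a = φ (g0, u0)).card
        ≤ ((Finset.univ : Finset G) ×ˢ R |>.filter fun a => a.1 * a.2 * a.1⁻¹ = x).card := by
          refine Finset.card_le_card_of_injOn (fun a => (a.1, (a.2 : G))) (fun a ha => ?_) ?_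
          · obtain ⟨h1, h2⟩ := hmemR a (Finset.mem_filter.1 ha).2
            exact Finset.mem_filter.2 ⟨Finset.mem_product.2 ⟨Finset.mem_univ _, h1⟩, h2⟩
          · rintro ⟨g, u⟩ _ ⟨g', u'⟩ _ he'
            simp only [Prod.mk.injEq] at he' ⊢
            exact ⟨he'.1, Subtype.ext he'.2⟩
      _ ≤ R.card * Nat.card CG(x) := by
          rw [mul_comm R.card]
          refine Finset.card_le_mul_card_image_of_maps_to (f := Prod.snd) ?_ _ fun v hv => ?_
          · intro a ha
            exact (Finset.mem_product.1 (Finset.mem_filter.1 ha).1).2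
          · haveI := Fintype.ofFinite CG(x)
            rw [Nat.card_eq_fintype_card]
            by_cases hex : ∃ g1 : G, g1 * v * g1⁻¹ = x
            · obtain ⟨g1, hg1⟩ := hex
              rw [← Finset.card_univ, ← Finset.card_image_of_injective Finset.univ
                (f := fun c : CG(x) => ((c : G) * g1, v)) fun c c' hcc =>
                  Subtype.ext (mul_right_cancel (congrArg Prod.fst hcc))]
              refine Finset.card_le_card fun a ha => ?_
              obtain ⟨⟨-, ha1⟩, rfl⟩ := (⟨Finset.mem_filter.1 (Finset.mem_filter.1 ha).1,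
                (Finset.mem_filter.1 ha).2⟩ : _ ∧ a.2 = v)
              refine Finset.mem_image.2 ⟨⟨a.1 * g1⁻¹, mem_centralizer_singleton.2 ?_⟩, Finset.mem_univ _,
                by simp⟩
              show x * (a.1 * g1⁻¹) = a.1 * g1⁻¹ * x
              calc x * (a.1 * g1⁻¹) = a.1 * a.2 * a.1⁻¹ * (a.1 * g1⁻¹) := by rw [ha1]
                _ = a.1 * g1⁻¹ * (g1 * a.2 * g1⁻¹) := by group
                _ = a.1 * g1⁻¹ * x := by rw [hg1]
            · rw [Finset.card_eq_zero.2 (Finset.filter_eq_empty_iff.2 fun a ha h => hex ⟨a.1, by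
                rw [← h]; exact (Finset.mem_filter.1 ha).2⟩)]
              exact Nat.zero_le _
      _ ≤ H.relIndex T * Nat.card CG(x) := Nat.mul_le_mul_right _ hRcard
  calc Nat.card G * Nat.card (Subgroup.center D)
      = (Finset.univ : Finset (G × Z')).card := by
        rw [Finset.card_univ, Fintype.card_prod, ← Nat.card_eq_fintype_card, ← Nat.card_eq_fintype_card, hZ',
          Subgroup.card_map_of_injective D.subtype_injective]
    _ = ∑ s ∈ Finset.univ.image φ, (Finset.univ.filter fun a => φ a = s).card :=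
        Finset.card_eq_sum_card_image _ _
    _ ≤ ∑ s ∈ Finset.univ.image φ, H.relIndex T * Nat.card CG(s.1) := Finset.sum_le_sum hfib
    _ = H.relIndex T * ∑ s ∈ Finset.univ.image φ, Nat.card CG(s.1) := (Finset.mul_sum _ _ _).symm

end Cfsg.Agent.Block
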