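import Cfsg.Agent.Lib.Block.MajorBound
import Cfsg.Agent.Lib.Block.MajorPairs
import Cfsg.Agent.Lib.Block.AbelianPExtension
import Cfsg.Agent.Lib.Block.CentralExtDefect
import Cfsg.Agent.Lib.Block.BlockNilpotent
import Cfsg.Agent.Lib.Block.CyclicInertial

/-!
# A nilpotent block with cyclic defect group has rank one
-/

set_option autoImplicit false
set_option linter.style.haveILetI false

open Cfsg Cfsg.Agent.Char
open scoped ComplexConjugate

namespace Cfsg.Agent.Block

universe u

local notation "CG(" y ")" => Subgroup.centralizer ({y} : Set _)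

variable {G : Type u} [Group G] [Finite G] {M : Ideal AlgInt} {p : ℕ} [Fact p.Prime]

/-- A block of full defect over a central `p`-subgroup has rank one. -/
theorem blockRank_eq_one_of_central_defect (hM : IsPModular p M) {P : Subgroup G}
    (hP : IsPGroup p P) (hG : P ⊔ Subgroup.centralizer (P : Set G) = ⊤)
    {B : Set (IrrCharacter G)} (hB : IsPBlock M B) (hD : IsDefectGroup p M B P) :
    blockRank p B = 1 := by
  classical
  haveI := prime_of_isPModular hM
  haveI := Fintype.ofFinite G
  haveI := Fintype.ofFinite P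
  haveI := normal_of_sup_centralizer hG
  obtain ⟨-, θ, hθ, hker⟩ := exists_mem_ker_normal hM hP hB
  obtain ⟨F, -, -, hrange, hF⟩ := exists_equiv_block_core hM hP hG hB hD hθ hker
  obtain ⟨hc, -⟩ := coreChar_of_defectGroup hM hP hG hB hD hθ hker
  refine le_antisymm ?_ (blockRank_pos hM.1 ⟨θ, hθ⟩)
  have hle : Submodule.span ℂ ((fun χ : IrrCharacter G => pRegularPart p (χ : G → ℂ)) '' B) ≤
      Submodule.span ℂ {pRegularPart p (θ : G → ℂ)} := by
    refine Submodule.span_le.2 ?_
    rintro _ ⟨χ, hχ, rfl⟩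
    rw [← hrange] at hχ
    obtain ⟨φ, rfl⟩ := hχ
    refine Submodule.mem_span_singleton.2 ⟨(φ : P → ℂ) 1, funext fun y => ?_⟩
    simp only [Pi.smul_apply, smul_eq_mul, pRegularPart_apply, hF]
    by_cases hy : p ∣ orderOf y
    · simp [hy]
    · have h := coreExt_apply hM.1 hP hG (φ : P → ℂ) hc 1 hy
      rw [Subgroup.coe_one, one_mul] at h
      rw [if_neg hy, if_neg hy, h]
  rw [blockRank]
  refine (Submodule.finrank_mono hle).trans ((finrank_span_le_card _).trans ?_)
  simp

/-- There is one local block at the identity. -/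
theorem localBlock_one_unique (hM : IsPModular p M) {B : Set (IrrCharacter G)}
    {c c' : Set (IrrCharacter CG((1 : G)))} (h : IsInducedBlock M CG((1 : G)) c B)
    (h' : IsInducedBlock M CG((1 : G)) c' B) : c = c' := by
  classical
  haveI := prime_of_isPModular hM
  have hC : ∀ g : G, g ∈ CG((1 : G)) := fun g => Subgroup.mem_centralizer_singleton_iff.2 (by simp)
  obtain ⟨ξ, hξ⟩ := isPBlock_nonempty h.1
  obtain ⟨η, hη⟩ := isPBlock_nonempty h'.1
  obtain ⟨χ, hχ⟩ := isPBlock_nonempty h.2.1
  refine isPBlock_eq_of_mem h.1 h'.1 hξ ((isPBlock_mem_iff h'.1 hη).2 fun y => ?_)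
  have key : ∀ θ : IrrCharacter CG((1 : G)),
      inducedCentralChar CG((1 : G)) (θ : CG((1 : G)) → ℂ) (y : G) =
        centralChar (θ : CG((1 : G)) → ℂ) y := by
    intro θ
    rw [inducedCentralChar_eq_omega, ← omega_classSum]
    congr 1
    refine MonoidAlgebra.ext (Finsupp.ext fun k => ?_)
    have hiff : IsConj (y : G) (k : G) ↔ IsConj y k := by
      refine ⟨fun hc => ?_, fun hc => MonoidHom.map_isConj (Subgroup.subtype _) hc⟩
      obtain ⟨g, hg⟩ := isConj_iff.1 hc
      exact isConj_iff.2 ⟨⟨g, hC g⟩, Subtype.ext hg⟩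
    simp only [coeff_resH, classSum, coeff_mkA]
    exact if_congr hiff rfl rfl
  have h1 := h.2.2 ξ hξ χ hχ (y : G)
  have h2 := h'.2.2 η hη χ hχ (y : G)
  rw [key] at h1 h2
  simpa using memLocalIdeal_sub h2 h1

/-- A nilpotent block with a cyclic defect group has rank one. -/
theorem blockRank_eq_one_of_cyclic_nilpotent (hM : IsPModular p M) {B : Set (IrrCharacter G)}
    (hB : IsPBlock M B) {P : Subgroup G} (hPD : IsDefectGroup p M B P) (hcyc : IsCyclic P)
    (hnil : IsNilpotentBlock p M B) : blockRank p B = 1 := by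
  classical
  haveI := prime_of_isPModular hM
  haveI := Fintype.ofFinite G
  have hp : p.Prime := Fact.out
  have hPp := isPGroup_of_isDefectGroup hPD
  have hab : ∀ x ∈ P, ∀ y ∈ P, x * y = y * x := fun x hx y hy =>
    congrArg Subtype.val (hcyc.commutative.is_comm.comm (⟨x, hx⟩ : P) ⟨y, hy⟩)
  haveI := hcyc
  obtain ⟨⟨u, huP⟩, hgen⟩ := IsCyclic.exists_generator (α := P)
  have huz : P = Subgroup.zpowers u := by
    refine le_antisymm (fun x hx => ?_) (Subgroup.zpowers_le.2 huP)
    obtain ⟨i, hi⟩ := Subgroup.mem_zpowers_iff.1 (hgen ⟨x, hx⟩)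
    exact Subgroup.mem_zpowers_iff.2 ⟨i, by simpa using congrArg Subtype.val hi⟩
  have huk : ∃ k : ℕ, orderOf u = p ^ k := by
    obtain ⟨k, hk⟩ := IsPGroup.iff_orderOf.1 hPp ⟨u, huP⟩
    exact ⟨k, by rwa [Subgroup.orderOf_mk] at hk⟩
  -- the major subsection at a generator
  obtain ⟨b, hind, hdef⟩ := exists_major_at hM hB hPD huP (fun d hd => hab d hd u huP)
  have hPC : P ≤ CG(u) := fun d hd =>
    Subgroup.mem_centralizer_singleton_iff.2 (hab d hd u huP)
  have hl : blockRank p b = 1 := by
    obtain ⟨E, hE⟩ := exists_isDefectGroup (p := p) hind.1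
    have hPE : P.subgroupOf CG(u) = E := by
      haveI : (P.subgroupOf CG(u)).Normal := ⟨fun n hn g => by
        have hg : (g : G) * (n : G) * (g : G)⁻¹ = (n : G) := by
          have h1 : (n : G) ∈ Subgroup.zpowers u := huz ▸ hn
          obtain ⟨i, hi⟩ := Subgroup.mem_zpowers_iff.1 h1
          rw [← hi, (Commute.zpow_right (show Commute (g : G) u from
            Subgroup.mem_centralizer_singleton_iff.1 g.2) i).eq, mul_inv_cancel_right]
        show (g : G) * (n : G) * (g : G)⁻¹ ∈ P
        rw [hg]; exact hn⟩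
      refine Subgroup.eq_of_le_of_card_ge (pCore_le_defectGroup hM hind.1 hE _ hPp.comap_subtype) ?_
      rw [Nat.card_congr (Subgroup.subgroupOfEquivOfLe hPC).toEquiv, card_defectGroup hM hind.1 hE,
        card_defectGroup hM hB hPD, hdef]
    refine blockRank_eq_one_of_central_defect hM (P := P.subgroupOf CG(u)) hPp.comap_subtype ?_ hind.1
      (hPE ▸ hE)
    refine eq_top_iff.2 (le_sup_of_le_right fun g _ => Subgroup.mem_centralizer_iff.2 fun n hn => ?_)
    have h1 : (n : G) ∈ Subgroup.zpowers u := huz ▸ hn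
    obtain ⟨i, hi⟩ := Subgroup.mem_zpowers_iff.1 h1
    refine Subtype.ext ?_
    show (n : G) * g = g * n
    rw [← hi]
    exact (Commute.zpow_right (show Commute (g : G) u from
      Subgroup.mem_centralizer_singleton_iff.1 g.2) i).eq.symm
  have hupper := card_block_le_major hM hB huk hind hdef
  rw [hl, mul_one, ← card_defectGroup hM hB hPD] at hupper
  -- the major subsections
  set C := Subgroup.centralizer (P : Set G) with hCdef
  obtain ⟨e, he⟩ := exists_pairOf_defectGroup hM hB hPD
  have hmax := isMaximal_of_defectGroup hM he hPD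
  have hPC' : P ≤ C := fun x hx => Subgroup.mem_centralizer_iff.2 fun y hy => hab y hy x hx
  have hindC : IsInducedBlock M C e B :=
    (isInducedBlock_iff_brauerOmega hM hPp hPC' hB he.1.2).2 he.2.2
  obtain ⟨S, hS, hSc⟩ := major_classes_ge hM hPD (H := C) (sup_eq_right.2 hPC').symm hindC (T := C)
    (fun g => by
      constructor
      · intro hg
        refine ⟨Subgroup.centralizer_le_normalizer _ hg, fun θ hθ θ' h => ?_⟩
        have : θ' = θ := Subtype.ext (funext fun k => by
          have h1 := h k (⟨g, hg⟩ * k * (⟨g, hg⟩ : C)⁻¹) (by simp)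
          have hcl := IsCharacter.isClassFunction (IsIrrCharacter.isCharacter θ'.2) k ⟨g, hg⟩
          rw [← hcl, h1])
        rwa [this]
      · rintro ⟨hgN, hst⟩
        have hgC : g ∈ Subgroup.normalizer (C : Set G) := le_normalizer_centralizer (le_refl _) hgN
        refine inertial_trivial_of_nilpotent hM hmax hab hnil hgN ⟨hgC, fun θ hθ => ?_⟩
        have key : ∀ k k' : C, (k' : G) = g * k * g⁻¹ →
            (conjIrr hgC θ : C → ℂ) k' = (θ : C → ℂ) k := fun k k' hk => by
          rw [conjIrr_apply]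
          exact congrArg (θ : C → ℂ) (Subtype.ext (by rw [coe_normConj, hk]; group))
        exact ⟨conjIrr hgC θ, hst θ hθ _ key, key⟩)
  rw [Subgroup.relIndex_self, one_mul] at hSc
  have hZ : Nat.card (Subgroup.center P) = Nat.card P := by
    rw [show Subgroup.center P = ⊤ from eq_top_iff.2 fun x _ => Subgroup.mem_center_iff.2 fun y =>
      Subtype.ext (hab y y.2 x x.2), Subgroup.card_top]
  rw [hZ] at hSc
  -- count
  set X : Finset G := Finset.univ.filter fun z : G => ∃ k : ℕ, orderOf z = p ^ k with hX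
  have hk : (Nat.card G : ℂ) * (Nat.card B : ℂ) = ∑ z ∈ X, (Nat.card CG(z) : ℂ) *
      ∑ c ∈ localBlocks M z B, (blockRank p c : ℂ) := by
    rw [← natCast_mul_card_block]
    have h2 : ∀ z ∈ X, (Nat.card CG(z) : ℂ) * ∑ c ∈ localBlocks M z B, (blockRank p c : ℂ) =
        sectionDiag p B z := fun z hz => (sectionDiag_eq hM hB (Finset.mem_filter.1 hz).2).symm
    rw [Finset.sum_congr rfl h2]
    show _ = ∑ z ∈ X, ∑ g : G, if IsPPart p g z then blockKernel B g g else 0
    rw [Finset.sum_comm]
    refine Finset.sum_congr rfl fun g _ => ?_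
    obtain ⟨z, hz⟩ := isPPart_exists hM.1 g
    rw [Finset.sum_eq_single z]
    · rw [if_pos hz]
    · exact fun w _ hw => if_neg fun h => hw (isPPart_unique hM.1 h hz)
    · intro h
      obtain ⟨y, -, -, hk', -⟩ := hz
      exact absurd (Finset.mem_filter.2 ⟨Finset.mem_univ z, hk'⟩) h
  have hk' : Nat.card G * Nat.card B =
      ∑ z ∈ X, Nat.card CG(z) * ∑ c ∈ localBlocks M z B, blockRank p c := by exact_mod_cast hk
  rw [show ∑ z ∈ X, Nat.card CG(z) * ∑ c ∈ localBlocks M z B, blockRank p c =
    ∑ s ∈ X.sigma (fun z => localBlocks M z B), Nat.card CG(s.1) * blockRank p s.2 from by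
      rw [Finset.sum_sigma]; exact Finset.sum_congr rfl fun z _ => Finset.mul_sum _ _ _] at hk'
  set W := X.sigma (fun z => localBlocks M z B)
  have hSW : S ⊆ W := fun s hs => Finset.mem_sigma.2 ⟨Finset.mem_filter.2
    ⟨Finset.mem_univ _, (hS s hs).1⟩, mem_localBlocks.2 (hS s hs).2.1⟩
  have h1W : ∀ c ∈ localBlocks M (1 : G) B, (⟨1, c⟩ : Σ z : G, Set (IrrCharacter CG(z))) ∈ W :=
    fun c hc => Finset.mem_sigma.2 ⟨Finset.mem_filter.2 ⟨Finset.mem_univ _, 0, by simp⟩, hc⟩
  have hsplit := Finset.sum_filter_add_sum_filter_not W (fun s => s.1 = 1)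
    (fun s => Nat.card CG(s.1) * blockRank p s.2)
  have hC1 : Nat.card CG((1 : G)) = Nat.card G := by
    rw [show CG((1 : G)) = ⊤ from eq_top_iff.2 fun g _ => Subgroup.mem_centralizer_singleton_iff.2 (by simp),
      Subgroup.card_top]
  have hfst : Nat.card G * blockRank p B ≤ ∑ s ∈ W.filter (fun s => s.1 = 1), Nat.card CG(s.1) * blockRank p s.2 := by
    rw [← sum_localBlocks_one hM hB, Finset.mul_sum]
    calc ∑ c ∈ localBlocks M (1 : G) B, Nat.card G * blockRank p c
        = ∑ s ∈ (localBlocks M (1 : G) B).map ⟨fun c => (⟨1, c⟩ : Σ z : G, Set (IrrCharacter CG(z))),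
            fun a b h => by simpa using h⟩, Nat.card CG(s.1) * blockRank p s.2 := by
          rw [Finset.sum_map]
          exact Finset.sum_congr rfl fun c _ => by
            show Nat.card G * blockRank p c = Nat.card CG((1 : G)) * blockRank p c
            rw [hC1]
      _ ≤ _ := Finset.sum_le_sum_of_subset fun s hs => by
          obtain ⟨c, hc, rfl⟩ := Finset.mem_map.1 hs
          exact Finset.mem_filter.2 ⟨h1W c hc, rfl⟩
  have hSsplit := Finset.sum_filter_add_sum_filter_not S (fun s => s.1 = 1) (fun s => Nat.card CG(s.1))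
  have hS1 : ∑ s ∈ S.filter (fun s => s.1 = 1), Nat.card CG(s.1) ≤ Nat.card G := by
    rcases (S.filter (fun s => s.1 = 1)).eq_empty_or_nonempty with h | ⟨s₀, hs₀⟩
    · rw [h, Finset.sum_empty]; exact Nat.zero_le _
    rw [show S.filter (fun s => s.1 = 1) = {s₀} from Finset.eq_singleton_iff_unique_mem.2 ⟨hs₀,
      fun s hs => ?_⟩, Finset.sum_singleton]
    · rw [(Finset.mem_filter.1 hs₀).2, hC1]
    obtain ⟨x, c⟩ := s
    obtain ⟨x₀, c₀⟩ := s₀
    obtain ⟨hsS, hx⟩ := Finset.mem_filter.1 hs
    obtain ⟨hs₀S, hx₀⟩ := Finset.mem_filter.1 hs₀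
    change x = 1 at hx
    change x₀ = 1 at hx₀
    subst hx hx₀
    exact congrArg (Sigma.mk 1) (localBlock_one_unique hM (hS _ hsS).2.1 (hS _ hs₀S).2.1)
  have hW2 : ∑ s ∈ S.filter (fun s => ¬ s.1 = 1), Nat.card CG(s.1) ≤
      ∑ s ∈ W.filter (fun s => ¬ s.1 = 1), Nat.card CG(s.1) * blockRank p s.2 := by
    refine le_trans (Finset.sum_le_sum fun s hs => ?_)
      (Finset.sum_le_sum_of_subset (Finset.filter_subset_filter _ hSW))
    exact Nat.le_mul_of_pos_right _
      (blockRank_pos hp (isPBlock_nonempty (hS s (Finset.mem_filter.1 hs).1).2.1.1))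
  have hmain : Nat.card G * blockRank p B + Nat.card G * Nat.card P ≤
      Nat.card G * Nat.card P + Nat.card G * 1 := by
    have := Nat.mul_le_mul_left (Nat.card G) hupper
    omega
  have h3 : blockRank p B ≤ 1 := Nat.le_of_mul_le_mul_left (Nat.add_le_add_iff_left.1
    (by rw [add_comm] at hmain; exact hmain)) Nat.card_pos
  exact le_antisymm h3 (blockRank_pos hp (isPBlock_nonempty hB))

end Cfsg.Agent.Block
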