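import Cfsg.Agent.Lib.Block.OrbitBlock
import Cfsg.Agent.Lib.Block.Glauberman
import Cfsg.Agent.Lib.Block.Columns

/-!
# The defect group of the block of the normaliser above a block of a normal subgroup
-/

set_option autoImplicit false

open Cfsg.Agent.Char
open scoped ComplexConjugate

namespace Cfsg.Agent.Block

universe u

variable {G : Type u} [Group G] [Finite G] {M : Ideal AlgInt} [hMp : M.IsPrime] {p : ℕ}
  [Fact p.Prime] {P L N : Subgroup G} {b : Set (IrrCharacter L)} {c : Set (IrrCharacter N)}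
  {ξ : IrrCharacter L}

omit [Finite G] in
/-- A `p`-element of `T` lies in a normal subgroup of index prime to `p`. -/
theorem mem_of_not_dvd_relIndex {T : Subgroup G} (hLT : L ≤ T) (hnorm : T ≤ Subgroup.normalizer (L : Set G))
    (h : ¬ p ∣ L.relIndex T) {q : G} (hq : q ∈ T) (hqp : ∃ k : ℕ, orderOf q = p ^ k) : q ∈ L := by
  haveI : (L.subgroupOf T).Normal := (Subgroup.normal_subgroupOf_iff_le_normalizer hLT).2 hnorm
  obtain ⟨k, hk⟩ := hqp
  set x : T ⧸ L.subgroupOf T := QuotientGroup.mk (⟨q, hq⟩ : T) with hx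
  have h1 : x ^ (p ^ k) = 1 := by
    rw [hx, ← QuotientGroup.mk_pow, show (⟨q, hq⟩ : T) ^ (p ^ k) = 1 from
      Subtype.ext (by rw [SubmonoidClass.coe_pow, ← hk, pow_orderOf_eq_one]; rfl)]
    rfl
  have h2 : x ^ L.relIndex T = 1 := by
    rw [Subgroup.relIndex, ← Subgroup.index_eq_card (L.subgroupOf T) |>.symm]
    exact pow_card_eq_one'
  have h3 : orderOf x = 1 := by
    refine Nat.eq_one_of_dvd_one ?_
    rw [← ((Nat.Prime.coprime_iff_not_dvd Fact.out).2 h).pow_left k]
    exact Nat.dvd_gcd (orderOf_dvd_of_pow_eq_one h1) (orderOf_dvd_of_pow_eq_one h2)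
  rw [orderOf_eq_one_iff, hx, QuotientGroup.eq_one_iff] at h3
  exact h3

theorem isDefectGroup_above_of_not_dvd (hM : IsPModular p M) (hP : IsPGroup p P) (hPL : P ≤ L)
    (hCL : Subgroup.centralizer (P : Set G) ≤ L) (hLN : L ≤ N)
    (hNP : N ≤ Subgroup.normalizer (P : Set G)) (hN : N ≤ Subgroup.normalizer (L : Set G))
    (hb : IsPBlock M b) (hbP : IsDefectGroup p M b (P.subgroupOf L)) (hξ : ξ ∈ b)
    (hc : Above M L N ξ c) {T : Subgroup G} (hTN : T ≤ N) (hLT : L ≤ T)
    (hT : ∀ q (hq : q ∈ N), conjBlk (hN hq) b = b → q ∈ T) (hdvd : ¬ p ∣ L.relIndex T) :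
    IsDefectGroup p M c (P.subgroupOf N) := by
  classical
  have hPN := hPL.trans hLN
  have hCN := hCL.trans hLN

  obtain ⟨η, hη⟩ := isPBlock_nonempty hc.isBlock
  have hps := ps_orbitSum (M := M) hN b
  have hroa : ro M η (resH N (orbitSum M N hN b)) = 1 := by
    rw [← lam, ← hc.lam_eq hLN hη hps, lam_orbitSum_self hN hb hξ]
  -- the orbit sum is supported on elements with `P` as Sylow subgroup of the centraliser
  have key : ∀ y : N, (y : G) ∈ Subgroup.centralizer (P : Set G) →
      ¬ MemLocalIdeal M ((orbitSum M N hN b).coeff (y : G)) →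
      DefectLE p (P.subgroupOf N) y := by
    intro y hy hu
    refine defectLE_of_maxIn hP.comap_subtype ⟨(mem_centralizer_subgroupOf hPN y).2 hy,
      fun Q hQ hPQ hQy => ?_⟩
    let X := {b' // b' ∈ orbitBlocks M N hN b}
    letI : MulAction Q X :=
      { smul := fun q b' => ⟨conjBlk (hN (q : N).2) b'.1, by
          obtain ⟨hb', n, hn⟩ := mem_orbitBlocks.1 b'.2
          refine mem_orbitBlocks.2 ⟨isPBlock_conjBlk _ hb', (q : N) * n, ?_⟩
          rw [hn]; exact (conjBlk_mul _ _ _).symm⟩
        one_smul := fun b' => Subtype.ext (conjBlk_one (hN ((1 : Q) : N).2) b'.1)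
        mul_smul := fun q r b' => Subtype.ext (conjBlk_mul (hN (q : N).2) (hN (r : N).2) b'.1) }
    have hsum : (orbitSum M N hN b).coeff (y : G) =
        ∑ b' : X, (embH L (blockIdem b'.1)).coeff (y : G) := by
      rw [orbitSum, MonoidAlgebra.coeff_sum, Finsupp.finsetSum_apply]
      exact (Finset.sum_coe_sort _ (fun b' => (embH L (blockIdem b')).coeff (y : G))).symm
    have hinv : ∀ (q : Q) (b' : X), (embH L (blockIdem (q • b').1)).coeff (y : G) =
        (embH L (blockIdem b'.1)).coeff (y : G) := fun q b' => by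
      show (embH L (blockIdem (conjBlk (hN (q : N).2) b'.1))).coeff (y : G) = _
      rw [coeff_embH_blockIdem_conj]
      have h1 : Commute (y : G) ((q : N) : G) :=
        (mem_centralizer_singleton.1 (hQy q.2)).map N.subtype
      rw [mul_assoc, h1.eq, inv_mul_cancel_left]
    have hcong := sum_congr_fixed hM hQ (fun b' : X => (embH L (blockIdem b'.1)).coeff (y : G)) hinv
      fun b' => isLocElt_embH L (isLocElt_blockIdem (mem_orbitBlocks.1 b'.2).1) _
    obtain ⟨b', hfix, hbu⟩ : ∃ b' : X, (∀ q : Q, q • b' = b') ∧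
        ¬ MemLocalIdeal M ((embH L (blockIdem b'.1)).coeff (y : G)) := by
      by_contra! hcon
      refine hu ?_
      rw [hsum]
      have h2 : MemLocalIdeal M (∑ b' : X, if (∀ q : Q, q • b' = b') then
          (embH L (blockIdem b'.1)).coeff (y : G) else 0) :=
        memLocalIdeal_sum _ _ fun b' _ => by
          split
          next h => exact hcon b' h
          · exact memLocalIdeal_zero
      simpa using memLocalIdeal_add hcong h2
    obtain ⟨-, n, hn⟩ := mem_orbitBlocks.1 b'.2
    -- move everything back to `b`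
    have hyL : (n : G)⁻¹ * (y : G) * (n : G) ∈ L := by
      by_contra h
      rw [hn, coeff_embH_blockIdem_conj, coeff_embH_of_notMem _ _ h] at hbu
      exact hbu memLocalIdeal_zero
    rw [hn, coeff_embH_blockIdem_conj,
      show (n : G)⁻¹ * (y : G) * (n : G) = ((⟨_, hyL⟩ : L) : G) from rfl, coeff_embH] at hbu
    have hdef := (defIdeal_blockIdem hM hb hbP).2.2 _ hbu
    have hyC : (n : G)⁻¹ * (y : G) * (n : G) ∈ Subgroup.centralizer (P : Set G) := by
      rw [Subgroup.mem_centralizer_iff]
      intro q hq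
      have h1 := Subgroup.mem_centralizer_iff.1 hy _
        ((Subgroup.mem_normalizer_iff.1 (hNP n.2) q).1 hq)
      have h2 := congrArg (fun z => (n : G)⁻¹ * z * (n : G)) h1
      simpa [mul_assoc] using h2
    have hmax := maxIn_of_defectLE ((mem_centralizer_subgroupOf hPL ⟨_, hyL⟩).2 hyC) hdef
    -- the conjugate of `Q` fixes `b`
    let Q' : Subgroup G := (Q.map N.subtype).map (MulAut.conj (n : G)⁻¹).toMonoidHom
    have hQ'p : IsPGroup p Q' := (hQ.map _).map _
    have hQ'L : Q' ≤ L := by
      rintro _ ⟨_, ⟨q, hq, rfl⟩, rfl⟩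
      refine mem_of_not_dvd_relIndex (p := p) hLT (hTN.trans hN) hdvd (hT _ ?_ ?_) ?_
      · exact mul_mem (mul_mem (inv_mem n.2) q.2) (by simp)
      · have h1 := congrArg Subtype.val (hfix ⟨q, hq⟩)
        change conjBlk (hN q.2) b'.1 = b'.1 at h1
        rw [hn, ← conjBlk_mul] at h1
        have h2 := congrArg (conjBlk (hN (inv_mem n.2))) h1
        rw [← conjBlk_mul, ← conjBlk_mul] at h2
        convert h2 using 1
        · congr 1
          simp [mul_assoc]
        · convert (conjBlk_one (one_mem _) b).symm using 2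
          simp
      · obtain ⟨k, hk⟩ := IsPGroup.iff_orderOf.1 hQ ⟨q, hq⟩
        refine ⟨k, ?_⟩
        rw [← hk, orderOf_injective _ (MulAut.conj (n : G)⁻¹).injective,
          orderOf_injective _ N.subtype_injective]
        exact (Subgroup.orderOf_mk _ _).symm
    have hPQ' : P ≤ Q' := by
      intro x hx
      have h1 : (n : G) * x * (n : G)⁻¹ ∈ P := (Subgroup.mem_normalizer_iff.1 (hNP n.2) x).1 hx
      exact ⟨(n : G) * x * (n : G)⁻¹, ⟨⟨_, hPN h1⟩, hPQ (by exact h1), rfl⟩, by simp [mul_assoc]⟩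
    have h3 := hmax.2 (Q'.subgroupOf L) hQ'p.comap_subtype (Subgroup.comap_mono hPQ') (by
      intro z hz
      rw [mem_centralizer_singleton]
      obtain ⟨_, ⟨q, hq, rfl⟩, hzq⟩ := (hz : (z : G) ∈ Q')
      refine Subtype.ext ?_
      have h4 : Commute (y : G) ((q : G)) := (mem_centralizer_singleton.1 (hQy hq)).map N.subtype
      have h5 := h4.map (MulAut.conj (n : G)⁻¹).toMonoidHom
      rw [show (MulAut.conj (n : G)⁻¹).toMonoidHom ((q : N) : G) = (z : G) from hzq] at h5
      simpa using h5.eq)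
    refine le_antisymm (fun q hq => ?_) hPQ
    have hz : (n : G)⁻¹ * (q : G) * (n : G) ∈ Q' :=
      ⟨(q : G), ⟨q, hq, rfl⟩, by simp⟩
    have h6 : (⟨_, hQ'L hz⟩ : L) ∈ Q'.subgroupOf L := hz
    rw [h3] at h6
    have h7 := (Subgroup.mem_normalizer_iff.1 (hNP n.2) _).1 h6
    show (q : G) ∈ P
    simpa [mul_assoc] using h7
  set u : MonoidAlgebra ℂ N := mkA fun y => if DefectLE p (P.subgroupOf N) y then
    (orbitSum M N hN b).coeff (y : G) else 0 with hu'
  have hu : DefIdeal p M (P.subgroupOf N) u := by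
    refine ⟨fun g h => ?_, fun g => ?_, fun g hg => ?_⟩
    · simp only [hu', coeff_mkA]
      have hc' : IsConj (h * g * h⁻¹) g := (isConj_iff.2 ⟨h, rfl⟩).symm
      have he : (orbitSum M N hN b).coeff ((h * g * h⁻¹ : N) : G) =
          (orbitSum M N hN b).coeff (g : G) := hps.2 (h : G) h.2 (g : G)
      rw [he]
      exact if_congr ⟨defectLE_of_isConj hc', defectLE_of_isConj hc'.symm⟩ rfl rfl
    · simp only [hu', coeff_mkA]
      split
      · exact hps.1 _
      · exact zero_mem (locRing M)
    · simp only [hu', coeff_mkA] at hg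
      by_contra hd
      rw [if_neg hd] at hg
      exact hg memLocalIdeal_zero
  have hf := Factors.of_normal hM hP hPN hNP η
  have hub : brFun M P (embH N u) = brFun M P (embH N (resH N (orbitSum M N hN b))) := by
    refine brFun_congr fun y hy => ?_
    rw [show y = ((⟨y, hCN hy⟩ : N) : G) from rfl, coeff_embH, coeff_embH, coeff_resH, hu', coeff_mkA]
    split
    · rfl
    next h =>
      rw [resC_zero, eq_comm]
      exact resC_eq_zero_of_memLocalIdeal (by_contra fun hh => h (key ⟨y, hCN hy⟩ hy hh))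
  have hru : ro M η u = 1 := by
    rw [hf.ro_eq ⟨hu.1, hu.2.1⟩ (cl_resH hps) hub, hroa]
  refine isDefectGroup_of_defIdeal hM hP.comap_subtype hc.isBlock
    (defIdeal_blockIdem_of_ro hM hu hc.isBlock hη (by rw [hru]; exact one_ne_zero)) fun h0 => ?_
  have := hf _ (CL.blockIdem hc.isBlock)
    ((brFun_subgroupOf_eq_zero_iff hPN (isLocElt_blockIdem hc.isBlock)).1 h0)
  rw [ro_blockIdem_mem hη] at this
  exact one_ne_zero this

theorem not_dvd_of_isDefectGroup_above (hM : IsPModular p M) (hP : IsPGroup p P) (hPL : P ≤ L)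
    (hLN : L ≤ N) (hLP : L ≤ Subgroup.normalizer (P : Set G))
    (hN : N ≤ Subgroup.normalizer (L : Set G)) (hb : IsPBlock M b) (hξ : ξ ∈ b)
    (hc : Above M L N ξ c) {T : Subgroup G} (hTN : T ≤ N) (hLT : L ≤ T)
    (hT : ∀ t (ht : t ∈ T), conjBlk (hN (hTN ht)) b = b)
    (hcP : IsDefectGroup p M c (P.subgroupOf N)) : ¬ p ∣ L.relIndex T := by
  classical
  intro hdvd
  have hPN := hPL.trans hLN
  obtain ⟨η, hη⟩ := isPBlock_nonempty hc.isBlock
  obtain ⟨g, hg, S, hS⟩ := id hcP
  have hPp : IsPGroup p (P.subgroupOf N) := hP.comap_subtype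
  have hgmax : DefectLE p (P.subgroupOf N) g := hS ▸ defectLE_sylowImage S
  -- a `p`-element of `T` outside `L`
  obtain ⟨t, htT, htp, htL⟩ : ∃ t ∈ T, (∃ k : ℕ, orderOf t = p ^ k) ∧ t ∉ L := by
    by_contra! hcon
    obtain ⟨R⟩ : Nonempty (Sylow p T) := inferInstance
    have hle : (R : Subgroup T) ≤ L.subgroupOf T := fun r hr => hcon (r : G) r.2 (by
      obtain ⟨k, hk⟩ := IsPGroup.iff_orderOf.1 R.2 ⟨r, hr⟩
      exact ⟨k, by rw [← hk, Subgroup.orderOf_coe]; exact (Subgroup.orderOf_mk _ _).symm⟩)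
    exact R.not_dvd_index (hdvd.trans (Subgroup.index_dvd_of_le hle))
  haveI := Fintype.ofFinite (ConjClasses L)
  let cf : Subgroup.zpowers t → (L ≃* L) := fun s => normConj (hN (hTN (by
    exact (Subgroup.zpowers_le.2 htT) s.2)))
  letI : MulAction (Subgroup.zpowers t) (ConjClasses L) :=
    { smul := fun s => ConjClasses.map (cf s⁻¹).toMonoidHom
      one_smul := fun C => by
        induction C using Quotient.inductionOn with
        | h y => exact congrArg ConjClasses.mk (Subtype.ext (by simp [cf]))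
      mul_smul := fun s r C => by
        induction C using Quotient.inductionOn with
        | h y => exact congrArg ConjClasses.mk (Subtype.ext (by simp [cf, mul_assoc])) }
  have hsmul : ∀ (s : Subgroup.zpowers t) (y : L),
      s • ConjClasses.mk y = ConjClasses.mk (cf s⁻¹ y) := fun _ _ => rfl
  set a := resH L (embH N (classSum g)) with ha
  have hps : PS M N (embH N (classSum g)) := ps_embH (CL.classSum g) le_rfl
  have hacl : CL M a := cl_resH (hps.mono hLN)
  let z : ConjClasses L → ℂ := fun C => a.coeff (classRep C) * centralChar (ξ : L → ℂ) (classRep C)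
  have hzl : ∀ C, z C ∈ locRing M := fun C => mul_mem (hacl.2 _) (centralChar_mem_locRing ξ _)
  let sec : ResK M → ℂ := fun r => ((Function.surjInv IsLocalRing.residue_surjective r : locRing M) : ℂ)
  have hsec : ∀ r, resC M (sec r) = r := fun r => by
    rw [resC_of_mem (SetLike.coe_mem _)]
    exact Function.surjInv_eq IsLocalRing.residue_surjective r
  have hcc : ∀ y y' : L, IsConj y y' →
      centralChar (ξ : L → ℂ) y = centralChar (ξ : L → ℂ) y' := fun y y' h => by
    rw [← omega_classSum, ← omega_classSum]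
    congr 1
    refine MonoidAlgebra.ext (Finsupp.ext fun x => ?_)
    simp only [classSum, coeff_mkA]
    exact if_congr ⟨fun h' => h.symm.trans h', fun h' => h.trans h'⟩ rfl rfl
  have hzinv : ∀ (s : Subgroup.zpowers t) (C : ConjClasses L),
      resC M (z (s • C)) = resC M (z C) := by
    intro s C
    have hs : (s : G)⁻¹ ∈ T := inv_mem ((Subgroup.zpowers_le.2 htT) s.2)
    have e1 : s • C = ConjClasses.mk (cf s⁻¹ (classRep C)) := by
      rw [← hsmul s, mk_classRep]
    have hc' : IsConj (classRep (s • C)) (cf s⁻¹ (classRep C)) := by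
      rw [e1]; exact (isConj_classRep_mk _).symm
    have ha' : a.coeff (classRep (s • C)) = a.coeff (classRep C) := by
      rw [IsClassFunction.apply_isConj hacl.1 hc', ha, coeff_resH, coeff_resH]
      have := hps.2 _ (hTN (inv_mem hs)) ((classRep C : L) : G)
      simpa [cf] using this
    have hcz : MemLocalIdeal M (centralChar (ξ : L → ℂ) (classRep (s • C)) -
        centralChar (ξ : L → ℂ) (classRep C)) := by
      rw [hcc _ _ hc']
      have hmem : conjIrr (hN (hTN hs)) ξ ∈ b := by
        have h := (mem_conjBlk_iff (hN (hTN hs)) b ξ).2 hξ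
        rwa [hT _ hs] at h
      have h2 := isPBlock_sameBlock hb hmem hξ (classRep C)
      have h3 : centralChar ((conjIrr (hN (hTN hs)) ξ : IrrCharacter L) : L → ℂ) (classRep C) =
          centralChar (ξ : L → ℂ) (cf s⁻¹ (classRep C)) := by
        rw [← centralChar_comp_mulEquiv (cf s⁻¹)]
        rfl
      rw [h3] at h2
      exact h2
    refine (resC_eq_iff (hzl _) (hzl _)).2 ?_
    show MemLocalIdeal M (a.coeff (classRep (s • C)) * _ - a.coeff (classRep C) * _)
    rw [ha', ← mul_sub]
    exact memLocalIdeal_mul_left (hacl.2 _) hcz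
  have hnofix : ∀ C : ConjClasses L, (∀ s : Subgroup.zpowers t, s • C = C) → resC M (z C) = 0 := by
    intro C hC
    by_contra hne
    have hy : ((classRep C : L) : G) ∈ Subgroup.centralizer (P : Set G) := by
      by_contra hy
      haveI : (P.subgroupOf L).Normal := (Subgroup.normal_subgroupOf_iff_le_normalizer hPL).2 hLP
      exact hne (resC_eq_zero_of_memLocalIdeal (memLocalIdeal_mul_left (hacl.2 _)
        (centralChar_memLocalIdeal_of_avoid hM ξ (P.subgroupOf L) hP.comap_subtype
          fun h => hy ((mem_centralizer_subgroupOf hPL _).1 h))))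
    set yN : N := ⟨((classRep C : L) : G), hLN (classRep C).2⟩ with hyN
    have hconj : IsConj g yN := by
      by_contra hnc
      refine hne (resC_eq_zero_of_memLocalIdeal (memLocalIdeal_mul_right (centralChar_mem_locRing ξ _) ?_))
      rw [ha, coeff_resH, show (((classRep C : L) : G)) = (yN : G) from rfl, coeff_embH, classSum, coeff_mkA,
        if_neg hnc]
      exact memLocalIdeal_zero
    have hdef := defectLE_of_isConj hconj hgmax
    have h1 := hC ⟨t, Subgroup.mem_zpowers t⟩
    rw [show C = ConjClasses.mk (classRep C) from (mk_classRep C).symm, hsmul] at h1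
    obtain ⟨h, hh⟩ := isConj_iff.1 (ConjClasses.mk_eq_mk_iff_isConj.1 h1)
    have hh' : (h : G) * (t * ((classRep C : L) : G) * t⁻¹) * (h : G)⁻¹ = ((classRep C : L) : G) := by
      have := congrArg (fun v : L => (v : G)) hh
      simpa [cf] using this
    have hzT : (h : G) * t ∈ T := mul_mem (hLT h.2) htT
    have hzc : Commute ((h : G) * t) ((classRep C : L) : G) := by
      show (h : G) * t * ((classRep C : L) : G) = ((classRep C : L) : G) * ((h : G) * t)
      conv_rhs => rw [← hh']
      group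
    -- its `p`-part lies in `L`
    obtain ⟨k, hk⟩ := htp
    haveI : (L.subgroupOf T).Normal :=
      (Subgroup.normal_subgroupOf_iff_le_normalizer hLT).2 (hTN.trans hN)
    have hq0 : (QuotientGroup.mk (⟨(h : G) * t, hzT⟩ : T) : T ⧸ L.subgroupOf T) =
        QuotientGroup.mk (⟨t, htT⟩ : T) := by
      rw [show (⟨(h : G) * t, hzT⟩ : T) = ⟨(h : G), hLT h.2⟩ * ⟨t, htT⟩ from rfl, QuotientGroup.mk_mul,
        (QuotientGroup.eq_one_iff _).2 (show ((⟨(h : G), hLT h.2⟩ : T)) ∈ L.subgroupOf T from h.2),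
        one_mul]
    have hne0 := (orderOf_pos ((h : G) * t)).ne'
    have hdecomp := Nat.ordProj_mul_ordCompl_eq_self (orderOf ((h : G) * t)) p
    set m := ordCompl[p] (orderOf ((h : G) * t)) with hm'
    have hm : ¬ p ∣ m := Nat.not_dvd_ordCompl Fact.out hne0
    have hzm : ((h : G) * t) ^ m ∈ L := by
      set zN : N := ⟨((h : G) * t) ^ m, pow_mem (hTN hzT) _⟩ with hzN
      have hordz : orderOf zN = p ^ (orderOf ((h : G) * t)).factorization p := by
        rw [← Subgroup.orderOf_coe]
        show orderOf (((h : G) * t) ^ m) = _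
        rw [orderOf_pow_of_dvd (fun (h0 : m = 0) => hm (h0 ▸ dvd_zero p)) ⟨_, (mul_comm _ _).trans hdecomp |>.symm⟩]
        exact Nat.div_eq_of_eq_mul_left (Nat.pos_of_ne_zero fun h0 => hm (h0 ▸ dvd_zero p)) hdecomp.symm
      obtain ⟨x, hx⟩ := hdef (Subgroup.zpowers zN) (isPGroup_zpowers_of_orderOf ⟨_, hordz⟩)
        (Subgroup.zpowers_le.2 (mem_centralizer_singleton.2
          (Subtype.ext (((hzc.pow_left _).symm).eq))))
      have h2 : (x : G) * ((h : G) * t) ^ m * (x : G)⁻¹ ∈ L :=
        hPL (hx ⟨zN, Subgroup.mem_zpowers _, rfl⟩)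
      exact (Subgroup.mem_normalizer_iff.1 (hN x.2) _).2 h2
    have h3 : (QuotientGroup.mk (⟨t, htT⟩ : T) : T ⧸ L.subgroupOf T) ^ m = 1 := by
      rw [← hq0, ← QuotientGroup.mk_pow, QuotientGroup.eq_one_iff]
      exact hzm
    have h4 : (QuotientGroup.mk (⟨t, htT⟩ : T) : T ⧸ L.subgroupOf T) ^ (p ^ k) = 1 := by
      rw [← QuotientGroup.mk_pow, show (⟨t, htT⟩ : T) ^ (p ^ k) = 1 from
        Subtype.ext (by rw [SubmonoidClass.coe_pow, ← hk, pow_orderOf_eq_one]; rfl)]
      rfl
    have h5 : orderOf (QuotientGroup.mk (⟨t, htT⟩ : T) : T ⧸ L.subgroupOf T) = 1 := by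
      refine Nat.eq_one_of_dvd_one ?_
      rw [← ((Nat.Prime.coprime_iff_not_dvd Fact.out).2 hm).pow_left k]
      exact Nat.dvd_gcd (orderOf_dvd_of_pow_eq_one h4) (orderOf_dvd_of_pow_eq_one h3)
    rw [orderOf_eq_one_iff, QuotientGroup.eq_one_iff] at h5
    exact htL h5
  have hsum := sum_congr_fixed hM (isPGroup_zpowers_of_orderOf htp) (fun C => sec (resC M (z C)))
    (fun s C => by rw [hzinv]) fun C => SetLike.coe_mem _
  have h0 : resC M (∑ C, sec (resC M (z C))) = 0 := by
    refine resC_eq_zero_of_memLocalIdeal ?_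
    have : MemLocalIdeal M
        (∑ C, if (∀ s : Subgroup.zpowers t, s • C = C) then sec (resC M (z C)) else 0) :=
      memLocalIdeal_sum _ _ fun C _ => by
        split
        next h => exact (resC_eq_zero_iff (SetLike.coe_mem _)).1 (by rw [hsec, hnofix C h])
        · exact memLocalIdeal_zero
    simpa using memLocalIdeal_add hsum this
  have h1 : ro M ξ a = 0 := by
    rw [ro, omega_eq_sum_classes ξ hacl.1, resC_sum _ _ fun C _ => hzl C]
    rw [resC_sum _ _ fun C _ => SetLike.coe_mem _] at h0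
    rw [Finset.sum_congr rfl fun C _ => hsec (resC M (z C))] at h0
    exact h0
  have h2 := hc.eq η hη _ (CL.classSum g)
  rw [lam, ← ha, h1, ro_classSum] at h2
  exact hg.2.2 η hη ((resC_eq_zero_iff (centralChar_mem_locRing η g)).1 h2.symm)

end Cfsg.Agent.Block
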