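import Cfsg.Agent.Lib.Block.Height
import Cfsg.Agent.Lib.Block.BrauerHom

/-!
# Blocks are separated by regular classes of the same defect
-/

set_option autoImplicit false

open Cfsg Cfsg.Agent.Char

namespace Cfsg.Agent.Block

universe u

variable {G : Type u} [Group G] [Finite G] {M : Ideal AlgInt} [hMp : M.IsPrime] {p : ℕ}

/-- The regular classes whose defect lies between those of two blocks compute `ω_χ(e_B)`. -/
theorem sum_resC_coeff_mul [Fintype (ConjClasses G)] (hM : IsPModular p M)
    {B B' : Set (IrrCharacter G)} (hB : IsPBlock M B) (hB' : IsPBlock M B') {χ : IrrCharacter G}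
    (hχ : χ ∈ B') (P : ConjClasses G → Prop) [DecidablePred P]
    (hP : ∀ C, ¬ p ∣ orderOf (classRep C) → ¬ MemLocalIdeal M (blockCoeff B (classRep C)) →
      minVal p B ≤ classExp p (classRep C) → classExp p (classRep C) ≤ minVal p B' → P C) :
    ∑ C : {C // P C}, resC M (blockCoeff B (classRep C.1)) *
      resC M (centralChar (χ : G → ℂ) (classRep C.1)) =
      resC M (omega (χ : G → ℂ) (blockIdem B)) := by
  classical
  rw [omega_eq_sum_classes χ (isCentralElt_blockIdem B),
    resC_sum _ _ fun C _ => mul_mem (by simpa [blockIdem, mem_locRing] using blockCoeff_mem_locRing hB _)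
      (centralChar_mem_locRing χ _)]
  simp only [blockIdem, coeff_mkA]
  rw [Finset.sum_congr rfl fun C _ => resC_mul (blockCoeff_mem_locRing hB (classRep C))
    (centralChar_mem_locRing χ (classRep C))]
  rw [← Finset.sum_subtype (Finset.univ.filter P) (by simp)
    (fun C => resC M (blockCoeff B (classRep C)) * resC M (centralChar (χ : G → ℂ) (classRep C)))]
  refine Finset.sum_subset (Finset.filter_subset _ _) fun C _ hC => ?_
  have hC' : ¬ P C := by simpa using hC
  by_cases h1 : MemLocalIdeal M (blockCoeff B (classRep C))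
  · rw [resC_eq_zero_of_memLocalIdeal h1, zero_mul]
  by_cases h2 : MemLocalIdeal M (centralChar (χ : G → ℂ) (classRep C))
  · rw [resC_eq_zero_of_memLocalIdeal h2, mul_zero]
  exfalso
  refine hC' (hP C (fun hd => h1 ?_) h1 (minVal_le_classExp hM hB h1) (classExp_le_minVal hM hB' hχ h2))
  rw [blockCoeff_eq_zero_of_dvd hM hB hd]; exact memLocalIdeal_zero

/-- Blocks with defect in a range are at most as many as the regular classes of the same range. -/
theorem card_blocks_le_classes (hM : IsPModular p M) (Q : Set (IrrCharacter G) → Prop)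
    (P : ConjClasses G → Prop)
    (hP : ∀ B B' : Set (IrrCharacter G), Q B → Q B' → ∀ C, ¬ p ∣ orderOf (classRep C) →
      minVal p B ≤ classExp p (classRep C) → classExp p (classRep C) ≤ minVal p B' → P C) :
    Nat.card {B : Set (IrrCharacter G) // IsPBlock M B ∧ Q B} ≤ Nat.card {C // P C} := by
  classical
  haveI := Fintype.ofFinite (ConjClasses G)
  haveI := Fintype.ofFinite {B : Set (IrrCharacter G) // IsPBlock M B ∧ Q B}
  choose χ hχ using fun B : {B : Set (IrrCharacter G) // IsPBlock M B ∧ Q B} =>
    isPBlock_nonempty B.2.1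
  let L : ({B : Set (IrrCharacter G) // IsPBlock M B ∧ Q B} → ResK M) →ₗ[ResK M]
      ({C // P C} → ResK M) :=
    { toFun := fun a C => ∑ B, a B * resC M (centralChar ((χ B : IrrCharacter G) : G → ℂ) (classRep C.1))
      map_add' := fun a a' => by ext C; simp [add_mul, Finset.sum_add_distrib]
      map_smul' := fun c a => by ext C; simp [Finset.mul_sum, mul_assoc] }
  have hker : Function.Injective L := by
    refine (injective_iff_map_eq_zero L).2 fun a ha => funext fun B₀ => ?_
    have h : ∑ C : {C // P C}, resC M (blockCoeff B₀.1 (classRep C.1)) * L a C = 0 := by simp [ha]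
    simp only [L, LinearMap.coe_mk, AddHom.coe_mk, Finset.mul_sum, mul_left_comm _ (a _)] at h
    rw [Finset.sum_comm, Finset.sum_eq_single B₀] at h
    · rw [← Finset.mul_sum, sum_resC_coeff_mul hM B₀.2.1 B₀.2.1 (hχ B₀) P (fun C a _ => hP _ _ B₀.2.2 B₀.2.2 C a),
        omega_blockIdem, if_pos (hχ B₀), resC_one, mul_one] at h
      exact h
    · intro B _ hne
      rw [← Finset.mul_sum, sum_resC_coeff_mul hM B₀.2.1 B.2.1 (hχ B) P (fun C a _ => hP _ _ B₀.2.2 B.2.2 C a),
        omega_blockIdem, if_neg, resC_zero, mul_zero]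
      exact fun hmem => hne (Subtype.ext (isPBlock_eq_of_mem B.2.1 B₀.2.1 (hχ B) hmem))
    · simp
  have := LinearMap.finrank_le_finrank_of_injective hker
  rw [Module.finrank_pi, Module.finrank_pi] at this
  rwa [Nat.card_eq_fintype_card, Nat.card_eq_fintype_card]

/-- Blocks of equal defect are separated by the regular classes of that defect. -/
theorem mem_of_agree (hM : IsPModular p M) {B B' : Set (IrrCharacter G)} (hB : IsPBlock M B)
    (hB' : IsPBlock M B') (hd : minVal p B = minVal p B') {χ ψ : IrrCharacter G} (hχ : χ ∈ B)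
    (hψ : ψ ∈ B')
    (h : ∀ x : G, ¬ p ∣ orderOf x → classExp p x = minVal p B →
      MemLocalIdeal M (centralChar (χ : G → ℂ) x - centralChar (ψ : G → ℂ) x)) : ψ ∈ B := by
  classical
  haveI := Fintype.ofFinite (ConjClasses G)
  set P : ConjClasses G → Prop :=
    fun C => ¬ p ∣ orderOf (classRep C) ∧ classExp p (classRep C) = minVal p B with hP
  have h1 := sum_resC_coeff_mul hM hB hB hχ P fun C a _ b c => ⟨a, le_antisymm c b⟩
  have h2 := sum_resC_coeff_mul hM hB hB' hψ P fun C a _ b c => ⟨a, le_antisymm (hd ▸ c) b⟩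
  rw [omega_blockIdem, if_pos hχ, resC_one] at h1
  by_contra hn
  rw [omega_blockIdem, if_neg hn, resC_zero] at h2
  refine one_ne_zero (h1.symm.trans (Eq.trans (Finset.sum_congr rfl fun C _ => ?_) h2))
  rw [(resC_eq_iff (centralChar_mem_locRing χ _) (centralChar_mem_locRing ψ _)).2
    (h _ C.2.1 C.2.2)]

end Cfsg.Agent.Block
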