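import Cfsg.Agent.Lib.Block.Basic
import Cfsg.Agent.Lib.Char.Clifford
import Cfsg.Prelude.Def_BlockLocal

/-!
Blocks under isomorphisms, and conjugation inside a normaliser.
-/

namespace Cfsg.Agent.Block

open Cfsg Cfsg.Agent.Char

universe u v

variable {G : Type u} [Group G] {H : Type v} [Group H] {M : Ideal AlgInt}

theorem index_centralizer_mulEquiv (e : H ≃* G) (h : H) :
    (Subgroup.centralizer ({e h} : Set G)).index = (Subgroup.centralizer ({h} : Set H)).index := by
  have : Subgroup.centralizer ({h} : Set H) =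
      (Subgroup.centralizer ({e h} : Set G)).comap e.toMonoidHom := by
    ext x
    simp only [Subgroup.mem_comap, MulEquiv.coe_toMonoidHom, Subgroup.mem_centralizer_singleton_iff]
    rw [← map_mul, ← map_mul, e.injective.eq_iff]
  rw [this, Subgroup.index_comap_of_surjective _ e.surjective]

theorem centralChar_comp_mulEquiv (e : H ≃* G) (χ : G → ℂ) (h : H) :
    centralChar (fun x => χ (e x)) h = centralChar χ (e h) := by
  simp only [centralChar, index_centralizer_mulEquiv e h, map_one]

theorem sameBlock_comp_mulEquiv (e : H ≃* G) {χ ψ : G → ℂ} (h : SameBlock M χ ψ) :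
    SameBlock M (fun x => χ (e x)) (fun x => ψ (e x)) := fun g => by
  rw [centralChar_comp_mulEquiv e χ g, centralChar_comp_mulEquiv e ψ g]
  exact h (e g)

/-- Conjugation by a normalising element. -/
noncomputable def normConj {K : Subgroup G} {x : G} (hx : x ∈ Subgroup.normalizer (K : Set G)) :
    K ≃* K where
  toFun k := ⟨x⁻¹ * (k : G) * x, by
    simpa using (Subgroup.mem_normalizer_iff.1 (inv_mem hx) (k : G)).1 k.2⟩
  invFun k := ⟨x * (k : G) * x⁻¹, (Subgroup.mem_normalizer_iff.1 hx (k : G)).1 k.2⟩
  left_inv k := Subtype.ext (by simp [mul_assoc])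
  right_inv k := Subtype.ext (by simp [mul_assoc])
  map_mul' a b := Subtype.ext (by simp [mul_assoc])

theorem stabilizesBlock_principal [Finite G] (K : Subgroup G) {x : G}
    (hx : x ∈ Subgroup.normalizer (K : Set G)) : StabilizesBlock K (principalBlock M K) x := by
  refine ⟨hx, fun χ hχ => ⟨⟨fun k => (χ : K → ℂ) (normConj hx k), isIrrCharacter_comp_mulEquiv _ χ.2⟩, ?_, ?_⟩⟩
  · exact sameBlock_comp_mulEquiv (normConj hx) hχ
  · intro k k' h
    show (χ : K → ℂ) (normConj hx k') = (χ : K → ℂ) k
    refine congrArg (χ : K → ℂ) (Subtype.ext ?_)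
    show x⁻¹ * (k' : G) * x = (k : G)
    rw [h]
    group

end Cfsg.Agent.Block
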