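import Cfsg.Agent.Lib.Block.Columns
import Cfsg.Agent.Lib.Block.BrauerFeit
import Cfsg.Agent.Lib.Block.NormalComplement
import Cfsg.Agent.Lib.Block.CentralExtDefect
import Cfsg.Agent.Lib.Block.DefectCore
import Cfsg.Agent.Lib.Block.Congr
import Cfsg.Agent.Lib.Block.Transport

/-!
2-blocks with a defect group of order two.
-/

namespace Cfsg.Agent.Block

open Cfsg Cfsg.Agent.Char
open scoped Classical ComplexConjugate

set_option linter.style.haveILetI false
set_option linter.unusedSectionVars false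

universe u

variable {G : Type u} [Group G] [Finite G] {p : ℕ} {M : Ideal AlgInt}

theorem blockRank_pos (hp : p.Prime) {B : Set (IrrCharacter G)} (hB : B.Nonempty) : 0 < blockRank p B := by
  obtain ⟨χ, hχ⟩ := hB
  by_contra h
  have h0 : blockRank p B = 0 := by omega
  rw [blockRank, Submodule.finrank_eq_zero] at h0
  have hm : pRegularPart p (χ : G → ℂ) ∈ Submodule.span ℂ ((fun χ : IrrCharacter G => pRegularPart p (χ : G → ℂ)) '' B) :=
    Submodule.subset_span ⟨χ, hχ, rfl⟩
  rw [h0, Submodule.mem_bot] at hm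
  have := congrFun hm 1
  rw [pRegularPart_apply, orderOf_one, if_neg hp.not_dvd_one, Pi.zero_apply] at this
  exact IsIrrCharacter.apply_one_ne_zero χ.2 this

theorem blockPart_self [Fintype G] {B : Set (IrrCharacter G)} {χ : IrrCharacter G} (hχ : χ ∈ B) (g : G) :
    blockPart B (χ : G → ℂ) g = (χ : G → ℂ) g := by
  rw [blockPart_eq_sum, sum_mul_blockKernel, if_pos hχ,
    inv_mul_cancel_left₀ (Nat.cast_ne_zero.2 Nat.card_pos.ne')]

/-- Defect cannot go down under block induction. -/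
theorem blockDefect_le_of_induced (hM : IsPModular p M) {H : Subgroup G} {b : Set (IrrCharacter H)}
    {B : Set (IrrCharacter G)} (hind : IsInducedBlock M H b B) : blockDefect p b ≤ blockDefect p B := by
  haveI := prime_of_isPModular hM
  haveI := Fact.mk hM.1
  haveI := Fintype.ofFinite (ConjClasses H)
  obtain ⟨g, hg⟩ := exists_isDefectClass hind.2.1
  obtain ⟨ξ, hξ⟩ := isPBlock_nonempty hind.1
  obtain ⟨χ, hχ⟩ := isPBlock_nonempty hind.2.1
  have hunit : ¬ MemLocalIdeal M (inducedCentralChar H (ξ : H → ℂ) g) := fun h => hg.2.2 χ hχ <| by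
    have := memLocalIdeal_sub h (hind.2.2 ξ hξ χ hχ g)
    rwa [sub_sub_cancel] at this
  rw [inducedCentralChar_eq_omega, omega_eq_sum_classes ξ (isCentralElt_resH H (isCentralElt_classSum g))] at hunit
  obtain ⟨C, hC, hCu⟩ : ∃ C : ConjClasses H, IsConj g ((classRep C : H) : G) ∧
      ¬ MemLocalIdeal M (centralChar (ξ : H → ℂ) (classRep C)) := by
    by_contra hno
    push Not at hno
    refine hunit (memLocalIdeal_sum _ _ fun C _ => ?_)
    rw [coeff_resH, classSum, coeff_mkA]
    by_cases h : IsConj g ((classRep C : H) : G)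
    · rw [if_pos h, one_mul]; exact hno C h
    · rw [if_neg h, zero_mul]; exact memLocalIdeal_zero
  set h := classRep C
  have h1 := classExp_le_minVal hM hind.1 hξ hCu
  have h2 := classExp_eq_minVal_of_isDefectClass hM hind.2.1 hg
  have h3 : classExp p (h : G) = classExp p g := by
    obtain ⟨t, ht⟩ := isConj_iff.1 hC
    simp only [classExp]
    rw [← ht]
    congr 2
    exact index_centralizer_mulEquiv (MulAut.conj t) g
  have h4 : (Nat.card (Subgroup.centralizer ({h} : Set H))).factorization p ≤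
      (Nat.card (Subgroup.centralizer ({(h : G)} : Set G))).factorization p := by
    refine (Nat.factorization_le_iff_dvd Nat.card_pos.ne' Nat.card_pos.ne').2 ?_ p
    rw [← Nat.card_congr ((Subgroup.centralizer ({h} : Set H)).equivMapOfInjective H.subtype
      H.subtype_injective).toEquiv.symm]
    refine Subgroup.card_dvd_of_le ?_
    rintro _ ⟨c, hc, rfl⟩
    exact mem_centralizer_singleton.2 ((mem_centralizer_singleton.1 hc).map H.subtype)
  have e1 := classExp_add p h
  have e2 := classExp_add p (h : G)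
  rw [blockDefect_eq, blockDefect_eq]
  omega

theorem card_block_defect_one (hM : IsPModular 2 M) {B : Set (IrrCharacter G)} (hB : IsPBlock M B)
    (hd : blockDefect 2 B = 1) : Nat.card B = 2 := by
  haveI := prime_of_isPModular hM
  haveI := Fintype.ofFinite G
  have hle := brauer_feit hM hB
  rw [hd] at hle
  obtain ⟨χ, hχ, h0⟩ := exists_height_zero 2 (isPBlock_nonempty hB)
  obtain ⟨z, hz, hsum, hdiv, -⟩ := exists_qRow hM hB hχ
  rw [hd, pow_one] at hsum
  by_contra hne
  have hsing : B.toFinite.toFinset = {χ} := by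
    refine Finset.eq_singleton_iff_unique_mem.2 ⟨B.toFinite.mem_toFinset.2 hχ, fun ψ hψ => ?_⟩
    by_contra hψχ
    have h2 : 1 < B.toFinite.toFinset.card :=
      Finset.one_lt_card.2 ⟨ψ, hψ, χ, B.toFinite.mem_toFinset.2 hχ, hψχ⟩
    rw [Nat.card_eq_card_finite_toFinset B.toFinite] at hle hne
    omega
  rw [hsing, Finset.sum_singleton] at hsum
  push_cast at hsum
  have hz2 : z χ = 2 := by nlinarith
  exact (hdiv χ hχ).2.1 (by rw [hz2, h0]; norm_num) h0

/-- Representatives of the classes of p-elements containing two given ones. -/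
theorem exists_reps_pair (hp : p.Prime) {x : G} (hx : ∃ k : ℕ, orderOf x = p ^ k) (hx1 : x ≠ 1) :
    ∃ X : Finset G, 1 ∈ X ∧ x ∈ X ∧ (∀ y ∈ X, ∃ k : ℕ, orderOf y = p ^ k) ∧
      ∀ g : G, (∃ k : ℕ, orderOf g = p ^ k) → ∃! y, y ∈ X ∧ IsConj g y := by
  haveI := Fintype.ofFinite (ConjClasses G)
  let f : ConjClasses G → G := fun C =>
    if C = ConjClasses.mk x then x else if C = ConjClasses.mk 1 then 1 else classRep C
  have hf : ∀ C, ConjClasses.mk (f C) = C := by
    intro C
    simp only [f]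
    split
    · exact Eq.symm ‹_›
    split
    · exact Eq.symm ‹_›
    · exact Quotient.out_eq C
  have hpc : ∀ g h : G, IsConj g h → (∃ k : ℕ, orderOf g = p ^ k) → ∃ k : ℕ, orderOf h = p ^ k := by
    intro g h hgh ⟨k, hk⟩
    obtain ⟨t, rfl⟩ := isConj_iff.1 hgh
    exact ⟨k, by rw [orderOf_conj_eq, hk]⟩
  refine ⟨((Finset.univ.image f).filter fun y => ∃ k : ℕ, orderOf y = p ^ k), ?_, ?_, fun y hy => (Finset.mem_filter.1 hy).2, fun g hg => ?_⟩
  · refine Finset.mem_filter.2 ⟨Finset.mem_image.2 ⟨ConjClasses.mk 1, Finset.mem_univ _, ?_⟩, 0, by simp⟩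
    have : ConjClasses.mk (1 : G) ≠ ConjClasses.mk x := fun h =>
      hx1 (isConj_one_right.1 (ConjClasses.mk_eq_mk_iff_isConj.1 h))
    simp only [f, if_neg this, if_pos]
  · exact Finset.mem_filter.2 ⟨Finset.mem_image.2 ⟨ConjClasses.mk x, Finset.mem_univ _, if_pos rfl⟩, hx⟩
  · have hcj : IsConj g (f (ConjClasses.mk g)) := (ConjClasses.mk_eq_mk_iff_isConj.1 (hf _)).symm
    refine ⟨f (ConjClasses.mk g), ⟨Finset.mem_filter.2 ⟨Finset.mem_image.2 ⟨_, Finset.mem_univ _, rfl⟩,
      hpc _ _ hcj hg⟩, hcj⟩, fun y hy => ?_⟩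
    obtain ⟨hy1, hy2⟩ := hy
    obtain ⟨C, -, rfl⟩ := Finset.mem_image.1 (Finset.mem_filter.1 hy1).1
    rw [ConjClasses.mk_eq_mk_iff_isConj.2 hy2, hf]

/-- A local block at an involution of a block of defect one: two characters with a common
regular restriction. -/
theorem local_block_defect_one (hM : IsPModular 2 M) {x : G} (hx : orderOf x = 2)
    {B : Set (IrrCharacter G)} (hd : blockDefect 2 B = 1)
    {b : Set (IrrCharacter (Subgroup.centralizer ({x} : Set G)))}
    (hb : IsInducedBlock M (Subgroup.centralizer ({x} : Set G)) b B)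
    {θ : IrrCharacter (Subgroup.centralizer ({x} : Set G))} (hθ : θ ∈ b)
    (hθx : ∀ z : Subgroup.centralizer ({x} : Set G), (z : G) = x → (θ : Subgroup.centralizer ({x} : Set G) → ℂ) z = (θ : Subgroup.centralizer ({x} : Set G) → ℂ) 1) :
    (∀ y : Subgroup.centralizer ({x} : Set G), ¬ 2 ∣ orderOf y →
      blockKernel b y y = 2 * ((θ : Subgroup.centralizer ({x} : Set G) → ℂ) y * conj ((θ : Subgroup.centralizer ({x} : Set G) → ℂ) y))) ∧
    ∀ χ : IrrCharacter G, ∃ c : ℤ, ∀ y : Subgroup.centralizer ({x} : Set G), ¬ 2 ∣ orderOf y →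
      blockPart b (fun w : Subgroup.centralizer ({x} : Set G) => (χ : G → ℂ) (x * (w : G))) y =
        (c : ℂ) * (θ : Subgroup.centralizer ({x} : Set G) → ℂ) y := by
  haveI := prime_of_isPModular hM
  haveI : Fact (Nat.Prime 2) := ⟨Nat.prime_two⟩
  haveI := Fintype.ofFinite (Subgroup.centralizer ({x} : Set G))
  set xc : Subgroup.centralizer ({x} : Set G) := ⟨x, mem_centralizer_singleton.2 (Commute.refl x)⟩
  have hxo : orderOf xc = 2 := by rw [← Subgroup.orderOf_coe]; exact hx
  have hcen : ∀ w : Subgroup.centralizer ({x} : Set G), xc * w = w * xc := fun w =>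
    Subtype.ext (mem_centralizer_singleton.1 w.2).eq
  set P := Subgroup.zpowers xc
  have hPcard : Nat.card P = 2 := by rw [Nat.card_zpowers, hxo]
  have hP : IsPGroup 2 P := IsPGroup.of_card (n := 1) (by rw [hPcard, pow_one])
  have hG : P ⊔ Subgroup.centralizer (P : Set (Subgroup.centralizer ({x} : Set G))) = ⊤ := by
    refine eq_top_iff.2 fun w _ => Subgroup.mem_sup_right (mem_centralizer_subgroup.2 ?_)
    rw [Subgroup.zpowers_le, mem_centralizer_singleton]
    exact (hcen w).symm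
  haveI := normal_of_sup_centralizer hG
  have hbb := hb.1
  obtain ⟨D, hD⟩ := exists_isDefectGroup (p := 2) hbb
  have hPD : P ≤ D := pCore_le_defectGroup hM hbb hD P hP
  have hDP : P = D := by
    refine Subgroup.eq_of_le_of_card_ge hPD ?_
    rw [card_defectGroup hM hbb hD, hPcard]
    have := blockDefect_le_of_induced hM hb
    rw [hd] at this
    exact (Nat.pow_le_pow_right (by norm_num) this).trans_eq (pow_one 2)
  rw [← hDP] at hD
  have hker : ∀ w ∈ P, (θ : Subgroup.centralizer ({x} : Set G) → ℂ) w = (θ : Subgroup.centralizer ({x} : Set G) → ℂ) 1 := by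
    intro w hw
    obtain ⟨i, rfl⟩ := Subgroup.mem_zpowers_iff.1 hw
    rw [← zpow_mod_orderOf, hxo]
    rcases Int.emod_two_eq_zero_or_one i with h | h <;> rw [Nat.cast_ofNat, h]
    · rw [zpow_zero]
    · rw [zpow_one]
      exact hθx xc rfl
  obtain ⟨F, hFb, hinj, hrange, hF⟩ := exists_equiv_block_core hM hP hG hbb hD hθ hker
  obtain ⟨hcore, -⟩ := coreChar_of_defectGroup hM hP hG hbb hD hθ hker
  haveI := Fintype.ofFinite (IrrCharacter P)
  have happ : ∀ (φ : IrrCharacter P) (y : Subgroup.centralizer ({x} : Set G)), ¬ 2 ∣ orderOf y →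
      (F φ : _ → ℂ) y = (φ : P → ℂ) 1 * (θ : Subgroup.centralizer ({x} : Set G) → ℂ) y := by
    intro φ y hy
    rw [hF]
    have h := coreExt_apply Nat.prime_two hP hG (φ : P → ℂ) hcore 1 hy
    rwa [Subgroup.coe_one, one_mul] at h
  have hbF : b.toFinite.toFinset = Finset.univ.image F := by
    ext ξ; simp [← hrange]
  constructor
  · intro y hy
    rw [blockKernel, finsum_mem_eq_finite_toFinset_sum _ b.toFinite, hbF, Finset.sum_image hinj.injOn]
    have h2 := sum_sq_degree (G := P)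
    rw [hPcard, Nat.cast_ofNat] at h2
    rw [← h2, Finset.sum_mul]
    refine Finset.sum_congr rfl fun φ _ => ?_
    rw [happ φ y hy, map_mul, conj_irr_one]
    ring
  · intro χ
    have hint : ∀ ξ : IrrCharacter (Subgroup.centralizer ({x} : Set G)), ∃ c : ℤ,
        classInner (fun w : Subgroup.centralizer ({x} : Set G) => (χ : G → ℂ) (x * (w : G))) (ξ : _ → ℂ) = (c : ℂ) := by
      intro ξ
      obtain ⟨n, ρ, hρ, hρχ⟩ := ξ.2
      obtain ⟨s, hs, hsρ⟩ := exists_scalar_of_central ρ hρ hcen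
      rw [hρχ] at hsρ
      rw [hxo, sq_eq_one_iff] at hs
      obtain ⟨m, hm⟩ := classInner_natCast_of_isCharacter
        (IsCharacter.restrict (IsIrrCharacter.isCharacter χ.2) (Subgroup.centralizer ({x} : Set G)))
        (IsIrrCharacter.isCharacter ξ.2)
      have he : classInner (fun w : Subgroup.centralizer ({x} : Set G) => (χ : G → ℂ) (x * (w : G))) (ξ : _ → ℂ) =
          s * classInner (fun w : Subgroup.centralizer ({x} : Set G) => (χ : G → ℂ) w) (ξ : _ → ℂ) := by
        rw [classInner, classInner, mul_left_comm s, Finset.mul_sum (a := s)]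
        congr 1
        refine Fintype.sum_equiv (Equiv.mulLeft xc) _ _ fun w => ?_
        simp only [Equiv.coe_mulLeft, Subgroup.coe_mul, xc]
        rw [hsρ, map_mul]
        rcases hs with rfl | rfl <;> simp
      rw [hm] at he
      rcases hs with rfl | rfl
      · exact ⟨m, by rw [he]; simp⟩
      · exact ⟨-m, by rw [he]; simp⟩
    choose c hc using hint
    choose d hd' using fun φ : IrrCharacter P => IsCharacter.exists_degree (IsIrrCharacter.isCharacter φ.2)
    refine ⟨∑ φ : IrrCharacter P, c (F φ) * (d φ : ℤ), fun y hy => ?_⟩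
    have hbp : blockPart b (fun w : Subgroup.centralizer ({x} : Set G) => (χ : G → ℂ) (x * (w : G))) y =
        ∑ ξ ∈ b.toFinite.toFinset, classInner (fun w : Subgroup.centralizer ({x} : Set G) => (χ : G → ℂ) (x * (w : G))) (ξ : _ → ℂ) *
          (ξ : _ → ℂ) y := by
      simp only [blockPart, finsum_mem_eq_finite_toFinset_sum _ b.toFinite]
      refine Finset.sum_congr rfl fun ξ _ => ?_
      congr 2
      congr; exact Subsingleton.elim _ _
    rw [hbp, hbF, Finset.sum_image hinj.injOn, Int.cast_sum, Finset.sum_mul]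
    refine Finset.sum_congr rfl fun φ _ => ?_
    rw [hc, happ φ y hy, hd']
    push_cast
    ring

/-- A 2-block with defect group generated by an involution. -/
theorem two_block_defect_one (hM : IsPModular 2 M) {x : G} (hx : orderOf x = 2)
    {B : Set (IrrCharacter G)} (hB : IsPBlock M B) (hBD : IsDefectGroup 2 M B (Subgroup.zpowers x))
    {b : Set (IrrCharacter (Subgroup.centralizer ({x} : Set G)))}
    (hb : IsInducedBlock M (Subgroup.centralizer ({x} : Set G)) b B)
    {θ : IrrCharacter (Subgroup.centralizer ({x} : Set G))} (hθ : θ ∈ b)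
    (hθx : ∀ z : Subgroup.centralizer ({x} : Set G), (z : G) = x → (θ : Subgroup.centralizer ({x} : Set G) → ℂ) z = (θ : Subgroup.centralizer ({x} : Set G) → ℂ) 1) :
    Nat.card B = 2 ∧ (∀ χ ∈ B, ∀ ψ ∈ B, ∀ g : G, ¬ 2 ∣ orderOf g → (χ : G → ℂ) g = (ψ : G → ℂ) g) ∧
      ∃ χ₁ ∈ B, ∃ χ₂ ∈ B, χ₁ ≠ χ₂ ∧ ∃ ε₁ ε₂ : ℤ, (ε₁ = 1 ∨ ε₁ = -1) ∧ (ε₂ = 1 ∨ ε₂ = -1) ∧ ε₁ * ε₂ = -1 ∧
        ∀ y : Subgroup.centralizer ({x} : Set G), ¬ 2 ∣ orderOf y →
          (χ₁ : G → ℂ) (x * y) = (ε₁ : ℂ) * (θ : Subgroup.centralizer ({x} : Set G) → ℂ) y ∧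
          (χ₂ : G → ℂ) (x * y) = (ε₂ : ℂ) * (θ : Subgroup.centralizer ({x} : Set G) → ℂ) y := by
  haveI := prime_of_isPModular hM
  haveI := Fintype.ofFinite G
  haveI := Fintype.ofFinite (Subgroup.centralizer ({x} : Set G))
  have hxk : ∃ k : ℕ, orderOf x = 2 ^ k := ⟨1, by rw [hx, pow_one]⟩
  have hx1 : x ≠ 1 := fun h => by rw [h, orderOf_one] at hx; norm_num at hx
  have hd : blockDefect 2 B = 1 := by
    have h := card_defectGroup hM hB hBD
    rw [Nat.card_zpowers, hx] at h
    exact (Nat.pow_right_injective (le_refl 2) (by simpa using h : 2 ^ 1 = 2 ^ blockDefect 2 B)).symm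
  have hk := card_block_defect_one hM hB hd
  obtain ⟨X, h1X, hxX, hX, hXrep⟩ := exists_reps_pair Nat.prime_two hxk hx1
  have hsum := card_block_eq_sum hM hB X hX hXrep
  have hpair : ∑ b' ∈ localBlocks M (1 : G) B, blockRank 2 b' + ∑ b' ∈ localBlocks M x B, blockRank 2 b' ≤ 2 := by
    refine le_trans ?_ (le_of_eq (hsum.symm.trans hk))
    exact Finset.add_le_sum (f := fun i => ∑ b ∈ localBlocks M i B, blockRank 2 b) (fun i _ => Nat.zero_le _) h1X hxX (Ne.symm hx1)
  rw [sum_localBlocks_one hM hB] at hpair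
  have hposB := blockRank_pos Nat.prime_two (isPBlock_nonempty hB)
  have hbmem : b ∈ localBlocks M x B := mem_localBlocks.2 hb
  have hloc : localBlocks M x B = {b} := by
    refine Finset.eq_singleton_iff_unique_mem.2 ⟨hbmem, fun b' hb' => ?_⟩
    by_contra hne
    have h2 : blockRank 2 b + blockRank 2 b' ≤ ∑ b'' ∈ localBlocks M x B, blockRank 2 b'' :=
      Finset.add_le_sum (fun i _ => Nat.zero_le _) hbmem hb' (Ne.symm hne)
    have := blockRank_pos Nat.prime_two (isPBlock_nonempty hb.1)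
    have := blockRank_pos Nat.prime_two (isPBlock_nonempty (mem_localBlocks.1 hb').1)
    omega
  have hrank : blockRank 2 B = 1 := by
    rw [hloc, Finset.sum_singleton] at hpair
    have := blockRank_pos Nat.prime_two (isPBlock_nonempty hb.1)
    omega
  have hprop : ∀ χ ∈ B, ∀ ψ ∈ B, ∀ g : G, ¬ 2 ∣ orderOf g →
      (ψ : G → ℂ) g * (χ : G → ℂ) 1 = (χ : G → ℂ) g * (ψ : G → ℂ) 1 := by
    intro χ hχ ψ hψ g hg
    set W := Submodule.span ℂ ((fun χ : IrrCharacter G => pRegularPart 2 (χ : G → ℂ)) '' B)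
    have hne : (⟨_, Submodule.subset_span ⟨χ, hχ, rfl⟩⟩ : W) ≠ 0 := fun h => by
      have h' := congrFun (congrArg Subtype.val h) 1
      simp only [pRegularPart_apply, orderOf_one, Nat.dvd_one, (by norm_num : (2 : ℕ) ≠ 1), if_false,
        ZeroMemClass.coe_zero, Pi.zero_apply] at h'
      exact IsIrrCharacter.apply_one_ne_zero χ.2 h'
    obtain ⟨c, hc⟩ := exists_smul_eq_of_finrank_eq_one hrank hne (⟨_, Submodule.subset_span ⟨ψ, hψ, rfl⟩⟩ : W)
    have e1 := congrFun (congrArg Subtype.val hc) 1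
    have e2 := congrFun (congrArg Subtype.val hc) g
    simp only [SetLike.val_smul, Pi.smul_apply, smul_eq_mul, pRegularPart_apply, orderOf_one,
      Nat.dvd_one, (by norm_num : (2 : ℕ) ≠ 1), hg, if_false] at e1 e2
    rw [← e1, ← e2]; ring
  obtain ⟨hK, hc⟩ := local_block_defect_one hM hx hd hb hθ hθx
  choose c hc using hc
  have hval : ∀ χ ∈ B, ∀ y : Subgroup.centralizer ({x} : Set G), ¬ 2 ∣ orderOf y →
      (χ : G → ℂ) (x * y) = (c χ : ℂ) * (θ : Subgroup.centralizer ({x} : Set G) → ℂ) y := by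
    intro χ hχ y hy
    have h := blockPart_mul_eq_sum_local hM hxk hB (IsCharacter.isClassFunction (IsIrrCharacter.isCharacter χ.2)) hy
    rw [blockPart_self hχ, hloc, Finset.sum_singleton] at h
    exact h.trans (hc χ y hy)
  obtain ⟨a, a', hne, heq⟩ := Set.ncard_eq_two.1 ((Nat.card_coe_set_eq B).symm.trans hk)
  have ha : a ∈ B := by rw [heq]; exact Set.mem_insert _ _
  have ha' : a' ∈ B := by rw [heq]; exact Set.mem_insert_of_mem _ rfl
  have hfin : B.toFinite.toFinset = {a, a'} := by ext ξ; simp [heq]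
  have h1r : ¬ 2 ∣ orderOf (1 : Subgroup.centralizer ({x} : Set G)) := by simp
  have hθ1 : (θ : Subgroup.centralizer ({x} : Set G) → ℂ) 1 ≠ 0 := IsIrrCharacter.apply_one_ne_zero θ.2
  have hv1 : ∀ χ ∈ B, (χ : G → ℂ) x = (c χ : ℂ) * (θ : Subgroup.centralizer ({x} : Set G) → ℂ) 1 := fun χ hχ => by
    simpa using hval χ hχ 1 h1r
  have hsq : c a ^ 2 + c a' ^ 2 = 2 := by
    have h := blockKernel_section hM hxk hB (c := 1) (c' := 1) h1r h1r
    rw [hloc, Finset.sum_singleton, hK 1 h1r, Subgroup.coe_one, mul_one, blockKernel,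
      finsum_mem_eq_finite_toFinset_sum _ B.toFinite, hfin, Finset.sum_pair hne, hv1 a ha, hv1 a' ha',
      map_mul, map_mul, map_intCast, map_intCast, conj_irr_one] at h
    have h2 : ((c a ^ 2 + c a' ^ 2 : ℤ) : ℂ) * ((θ : Subgroup.centralizer ({x} : Set G) → ℂ) 1 * (θ : Subgroup.centralizer ({x} : Set G) → ℂ) 1) = 2 * ((θ : Subgroup.centralizer ({x} : Set G) → ℂ) 1 * (θ : Subgroup.centralizer ({x} : Set G) → ℂ) 1) := by
      push_cast; linear_combination h
    exact_mod_cast mul_right_cancel₀ (mul_ne_zero hθ1 hθ1) h2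
  have hpm : ∀ u w : ℤ, u ^ 2 + w ^ 2 = 2 → u = 1 ∨ u = -1 := by
    intro u w h
    have h1 : -1 ≤ u ∧ u ≤ 1 := by constructor <;> nlinarith
    have h3 : -1 ≤ w ∧ w ≤ 1 := by constructor <;> nlinarith
    obtain ⟨h1, h2⟩ := h1
    obtain ⟨h3, h4⟩ := h3
    interval_cases u <;> interval_cases w <;> first | omega | (exfalso; norm_num at h)
  have hca := hpm _ _ hsq
  have hca' := hpm (c a') (c a) (by linarith)
  have horth : (c a : ℤ) * charDegree (a : G → ℂ) + (c a' : ℤ) * charDegree (a' : G → ℂ) = 0 := by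
    have h := blockKernel_eq_zero hM hB (g := x) (y := (1 : G)) (by rw [hx, orderOf_one]; decide)
    rw [blockKernel, finsum_mem_eq_finite_toFinset_sum _ B.toFinite, hfin, Finset.sum_pair hne, hv1 a ha, hv1 a' ha',
      conj_irr_one, conj_irr_one, ← charDegree_cast (IsIrrCharacter.isCharacter a.2),
      ← charDegree_cast (IsIrrCharacter.isCharacter a'.2)] at h
    have h2 : (((c a : ℤ) * charDegree (a : G → ℂ) + (c a' : ℤ) * charDegree (a' : G → ℂ) : ℤ) : ℂ) *
        (θ : Subgroup.centralizer ({x} : Set G) → ℂ) 1 = 0 := by push_cast; linear_combination h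
    exact_mod_cast (mul_eq_zero.1 h2).resolve_right hθ1
  have hpa : (0 : ℤ) < charDegree (a : G → ℂ) := by exact_mod_cast charDegree_pos a.2
  have hpa' : (0 : ℤ) < charDegree (a' : G → ℂ) := by exact_mod_cast charDegree_pos a'.2
  have hdeg : (charDegree (a : G → ℂ) : ℤ) = charDegree (a' : G → ℂ) ∧ c a * c a' = -1 := by
    rcases hca with h | h <;> rcases hca' with h' | h' <;> rw [h, h'] at horth ⊢ <;> constructor <;> linarith
  have hdegC : (a : G → ℂ) 1 = (a' : G → ℂ) 1 := by
    rw [← charDegree_cast (IsIrrCharacter.isCharacter a.2), ← charDegree_cast (IsIrrCharacter.isCharacter a'.2)]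
    exact_mod_cast hdeg.1
  refine ⟨hk, fun χ hχ ψ hψ g hg => ?_, a, ha, a', ha', hne, c a, c a', hca, hca', hdeg.2,
    fun y hy => ⟨hval a ha y hy, hval a' ha' y hy⟩⟩
  have h1 : ∀ ξ ∈ B, (ξ : G → ℂ) 1 = (a : G → ℂ) 1 := fun ξ hξ => by
    rw [heq] at hξ
    rcases hξ with rfl | rfl
    exacts [rfl, hdegC.symm]
  have h := hprop χ hχ ψ hψ g hg
  rw [h1 χ hχ, h1 ψ hψ] at h
  exact (mul_right_cancel₀ (IsIrrCharacter.apply_one_ne_zero a.2) h).symm

end Cfsg.Agent.Block
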