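import Cfsg.Agent.Lib.Block.FirstMain
import Cfsg.Agent.Lib.Block.DefectBound
import Cfsg.Agent.Lib.Block.DefectOne
import Cfsg.Agent.S0917

/-!
# Classes on which the central character of a block does not vanish
-/

set_option autoImplicit false

open Cfsg.Agent.Char

namespace Cfsg.Agent.Block

universe u

variable {G : Type u} [Group G] [Finite G] {p : ℕ} {M : Ideal AlgInt} [hMp : M.IsPrime] [Fact p.Prime]

/-- The `p`-part lies in a defect group. -/
theorem exists_defectGroup_mem_pPart (hM : IsPModular p M) {B : Set (IrrCharacter G)} (hB : IsPBlock M B)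
    {χ : IrrCharacter G} (hχ : χ ∈ B) {g z : G} (hu : ¬ MemLocalIdeal M (centralChar (χ : G → ℂ) g))
    (hz : IsPPart p g z) : ∃ E : Subgroup G, IsDefectGroup p M B E ∧ z ∈ E := by
  classical
  haveI := Fintype.ofFinite G
  obtain ⟨y, hzy, hc, hzk, hy⟩ := hz
  have hyC : y ∈ Subgroup.centralizer ({z} : Set G) := mem_centralizer_singleton.2 hc
  have hne : (localBlocks M z B).Nonempty := by
    rw [Finset.nonempty_iff_ne_empty]
    intro h0
    have h := blockPart_mul_eq_sum_local hM hzk hB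
      (IsCharacter.isClassFunction (IsIrrCharacter.isCharacter χ.2)) (y := ⟨y, hyC⟩)
      (by rwa [Subgroup.orderOf_mk])
    rw [h0, Finset.sum_empty, blockPart_self hχ] at h
    refine hu ?_
    rw [centralChar, ← hzy, h, mul_zero, zero_div]
    exact memLocalIdeal_zero
  obtain ⟨b, hb⟩ := hne
  rw [mem_localBlocks] at hb
  obtain ⟨D', hD'⟩ := exists_isDefectGroup (p := p) hb.1
  set z' : Subgroup.centralizer ({z} : Set G) := ⟨z, mem_centralizer_singleton.2 (Commute.refl z)⟩ with hz'
  have hcen : Subgroup.zpowers z' ≤ Subgroup.center _ := Subgroup.zpowers_le.2 (Subgroup.mem_center_iff.2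
    fun c => Subtype.ext (by
      have := mem_centralizer_singleton.1 c.2
      first | exact this | exact this.symm))
  haveI : (Subgroup.zpowers z').Normal := ⟨fun a ha c => by
    rw [Subgroup.mem_center_iff.1 (hcen ha) c, mul_inv_cancel_right]; exact ha⟩
  have hle := pCore_le_defectGroup hM hb.1 hD' (Subgroup.zpowers z') (isPGroup_zpowers_of_orderOf (by
    obtain ⟨k, hk⟩ := hzk
    exact ⟨k, by rw [hz', Subgroup.orderOf_mk, hk]⟩))
  obtain ⟨E, hE, hDE⟩ := Cfsg.Agent.S0917.result p M hM _ b hb.1 B hB hb D' hD'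
  exact ⟨E, hE, hDE ⟨z', hle (Subgroup.mem_zpowers _), rfl⟩⟩

omit [Fact p.Prime] in
/-- A unit value of an induced central character comes from a conjugate with unit value. -/
theorem exists_isConj_unit_of_induced (hM : IsPModular p M) {H : Subgroup G} {b : Set (IrrCharacter H)}
    {B : Set (IrrCharacter G)} (hind : IsInducedBlock M H b B) {χ : IrrCharacter G} (hχ : χ ∈ B) {g : G}
    (hu : ¬ MemLocalIdeal M (centralChar (χ : G → ℂ) g)) {ξ : IrrCharacter H} (hξ : ξ ∈ b) :
    ∃ h : H, IsConj g (h : G) ∧ ¬ MemLocalIdeal M (centralChar (ξ : H → ℂ) h) := by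
  classical
  haveI := Fintype.ofFinite (ConjClasses H)
  have hnot : ¬ MemLocalIdeal M (inducedCentralChar H (ξ : H → ℂ) g) := fun h => hu (by
    simpa using memLocalIdeal_add (memLocalIdeal_neg (hind.2.2 ξ hξ χ hχ g)) h)
  rw [inducedCentralChar_eq_omega, omega_eq_sum_classes ξ (isCentralElt_resH H (isCentralElt_classSum g))] at hnot
  by_contra hcon
  push Not at hcon
  refine hnot (memLocalIdeal_sum _ _ fun C _ => ?_)
  by_cases hC : IsConj g ((classRep C : H) : G)
  · exact memLocalIdeal_mul_left (isLocElt_resH H (isLocElt_classSum g) _) (hcon _ hC)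
  · rw [isConj_iff] at hC
    simp [classSum, hC, memLocalIdeal_zero]

/-- A class with unit central character has a representative with `p`-part central in a defect group. -/
theorem exists_isConj_pPart_center (hM : IsPModular p M) {B : Set (IrrCharacter G)} (hB : IsPBlock M B)
    {P : Subgroup G} (hP : IsDefectGroup p M B P) {χ : IrrCharacter G} (hχ : χ ∈ B) {g : G}
    (hu : ¬ MemLocalIdeal M (centralChar (χ : G → ℂ) g)) :
    ∃ x : G, IsConj g x ∧ x ∈ Subgroup.centralizer (P : Set G) ∧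
      ∀ z : G, IsPPart p x z → z ∈ P ∧ ∀ w ∈ P, z * w = w * z := by
  classical
  haveI := Fintype.ofFinite G
  have hPp := isPGroup_of_isDefectGroup hP
  set N : Subgroup G := Subgroup.normalizer (P : Set G) with hN
  have hPN : P ≤ N := Subgroup.le_normalizer
  have hCN : Subgroup.centralizer (P : Set G) ≤ N := Subgroup.centralizer_le_normalizer _
  obtain ⟨c, hc, hcD, hlam⟩ := exists_block_over hM hPN hCN hB hP
  obtain ⟨ξ, hξ⟩ := isPBlock_nonempty hc
  have hind : IsInducedBlock M N c B := isInducedBlock_of_lam hc hξ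
    (isResHom_lam hM hPp hCN (Or.inl hPN) (Factors.of_defectGroup hM hPN hc hcD hξ)) hB
    (by rw [hlam ξ hξ]; exact one_ne_zero)
  obtain ⟨h, hgh, hhu⟩ := exists_isConj_unit_of_induced hM hind hχ hu hξ
  haveI hPn : (P.subgroupOf N).Normal := Subgroup.normal_in_normalizer
  obtain ⟨S⟩ : Nonempty (Sylow p (Subgroup.centralizer ({h} : Set N))) := inferInstance
  obtain ⟨t, ht⟩ := exists_conj_le_of_centralChar_unit hM hc hcD ⟨ξ, hξ, hhu⟩ S
  have hhP : (h : G) ∈ Subgroup.centralizer (P : Set G) := Subgroup.mem_centralizer_iff.2 fun q hq => by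
    have hm : (⟨q, hPN hq⟩ : N) ∈ (P.subgroupOf N).map (MulAut.conj t).toMonoidHom :=
      ⟨t⁻¹ * ⟨q, hPN hq⟩ * t, by simpa using hPn.conj_mem ⟨q, hPN hq⟩ hq t⁻¹, by simp [mul_assoc]⟩
    have h1 := mem_centralizer_singleton.1 (sylowImage_le S (ht hm))
    first
      | exact congrArg Subtype.val h1
      | exact (congrArg Subtype.val h1).symm
  refine ⟨h, hgh, hhP, fun z hz => ?_⟩
  obtain ⟨z₀, y₀, hmul, hco, hz0, hy0, hzmem, -⟩ := exists_isPPart (Fact.out : p.Prime) (h : G)
  have hzz : z = z₀ := isPPart_unique Fact.out hz ⟨y₀, hmul, hco, hz0, hy0⟩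
  subst hzz
  obtain ⟨n, hn⟩ := hzmem
  have hzN : z ∈ N := hn ▸ zpow_mem h.2 n
  refine ⟨?_, fun w hw => ?_⟩
  · have hzpart : IsPPart p h ⟨z, hzN⟩ := by
      have hy : y₀ = z⁻¹ * (h : G) := by rw [← hmul, inv_mul_cancel_left]
      refine ⟨⟨y₀, hy ▸ mul_mem (inv_mem hzN) h.2⟩, Subtype.ext hmul, Subtype.ext hco, ?_, ?_⟩
      · obtain ⟨k, hk⟩ := hz0
        exact ⟨k, by rw [Subgroup.orderOf_mk, hk]⟩
      · rwa [Subgroup.orderOf_mk]
    obtain ⟨E, hE, hzE⟩ := exists_defectGroup_mem_pPart hM hc hξ hhu hzpart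
    obtain ⟨t', ht'⟩ := isDefectGroup_conj hM hc hcD hE
    obtain ⟨q, hq, hqz⟩ : (⟨z, hzN⟩ : N) ∈ (P.subgroupOf N).map (MulAut.conj t').toMonoidHom := ht' ▸ hzE
    have := hPn.conj_mem q hq t'
    rw [show t' * q * t'⁻¹ = (⟨z, hzN⟩ : N) from hqz] at this
    exact this
  · have h1 := Subgroup.mem_centralizer_iff.1 hhP w hw
    rw [← hn]
    exact ((show Commute w (h : G) from h1).zpow_right n).symm.eq

/-- For `y` central in a defect group `P` some `y * g` has unit central character. -/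
theorem exists_unit_central_mul (hM : IsPModular p M) {B : Set (IrrCharacter G)} (hB : IsPBlock M B)
    {P : Subgroup G} (hP : IsDefectGroup p M B P) {y : G} (hyP : y ∈ P)
    (hyc : ∀ w ∈ P, y * w = w * y) :
    ∃ (g : G) (χ : IrrCharacter G), χ ∈ B ∧ IsPPart p (y * g) y ∧
      ¬ MemLocalIdeal M (centralChar (χ : G → ℂ) (y * g)) := by
  classical
  haveI := Fintype.ofFinite G
  have hp : p.Prime := Fact.out
  obtain ⟨g, hg, hS⟩ := id hP
  set Cg : Subgroup G := Subgroup.centralizer ({g} : Set G) with hCg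
  obtain ⟨S, hPdef⟩ := hS
  have hDp : IsPGroup p P := isPGroup_of_isDefectGroup hP
  have hcD := card_defectGroup hM hB hP
  have hgD : ∀ d ∈ P, Commute d g := fun d hd => by
    rw [hPdef] at hd
    obtain ⟨s, -, rfl⟩ := hd
    exact (mem_centralizer_singleton.1 s.2).symm
  have hypow : ∃ k : ℕ, orderOf y = p ^ k := by
    obtain ⟨k, hk⟩ := IsPGroup.iff_orderOf.1 hDp ⟨y, hyP⟩
    exact ⟨k, by rwa [Subgroup.orderOf_mk] at hk⟩
  have hgreg := not_dvd_orderOf_defectClass hM hB hg
  have hyg : Commute y g := hgD y hyP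

  have hcop : Nat.Coprime (orderOf y) (orderOf g) := by
    obtain ⟨k, hk⟩ := hypow
    rw [hk]
    exact Nat.Coprime.pow_left _ (hp.coprime_iff_not_dvd.2 hgreg)
  obtain ⟨χ, hχ, hχ0⟩ := exists_height_zero p (isPBlock_nonempty hB)
  refine ⟨g, χ, hχ, ⟨g, rfl, hyg, hypow, hgreg⟩, fun hω => ?_⟩
  -- the two centralisers
  have hle : Subgroup.centralizer ({y * g} : Set G) ≤ Subgroup.centralizer ({g} : Set G) := by
    intro c hc
    rw [mem_centralizer_singleton] at hc ⊢
    have hb := Nat.gcdA (orderOf y) (orderOf g)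
    have e : g = (y * g) ^ ((orderOf y : ℤ) * Nat.gcdA (orderOf y) (orderOf g)) := by
      rw [hyg.mul_zpow]
      have h1 : y ^ ((orderOf y : ℤ) * Nat.gcdA (orderOf y) (orderOf g)) = 1 := by
        rw [zpow_mul, zpow_natCast, pow_orderOf_eq_one, one_zpow]
      rw [h1, one_mul]
      have h2 := Nat.gcd_eq_gcd_ab (orderOf y) (orderOf g)
      rw [hcop.gcd_eq_one, Nat.cast_one] at h2
      conv_lhs => rw [← zpow_one g, h2, zpow_add, zpow_mul g (orderOf g : ℤ), zpow_natCast, pow_orderOf_eq_one, one_zpow, mul_one]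
    rw [e]
    first
      | exact Commute.zpow_right hc _
      | exact Commute.zpow_left hc _
  have hDle : P ≤ Subgroup.centralizer ({y * g} : Set G) := fun d hd => by
    rw [mem_centralizer_singleton]
    have h1 : Commute d y := (hyc d hd).symm
    first
      | exact h1.mul_right (hgD d hd)
      | exact (h1.mul_right (hgD d hd)).symm
  set Cy : Subgroup G := Subgroup.centralizer ({y * g} : Set G)
  have hm : Cy.relIndex Cg * Cg.index = Cy.index := Subgroup.relIndex_mul_index hle
  have hmd : ¬ p ∣ Cy.relIndex Cg := by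
    intro hd
    have h2 : p ^ blockDefect p B ∣ Nat.card Cy := hcD ▸ Subgroup.card_dvd_of_le hDle
    have h3 : Nat.card Cg = Cy.relIndex Cg * Nat.card Cy := by
      have := Cy.subgroupOf Cg |>.index_mul_card
      rw [Nat.card_congr (Subgroup.subgroupOfEquivOfLe hle).toEquiv] at this
      exact this.symm
    have h4 : p ^ (blockDefect p B + 1) ∣ Nat.card Cg := by
      rw [h3, pow_succ']
      exact mul_dvd_mul hd h2
    have h5 : Nat.card S = p ^ blockDefect p B := by
      rw [← hcD, hPdef]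
      exact (Subgroup.card_map_of_injective (K := (S : Subgroup (Subgroup.centralizer ({g} : Set G)))) (Subgroup.subtype_injective (Subgroup.centralizer ({g} : Set G)))).symm
    rw [S.card_eq_multiplicity] at h5
    have h6 := Nat.pow_right_injective hp.two_le h5
    exact Nat.pow_succ_factorization_not_dvd Nat.card_pos.ne' hp (h6 ▸ h4)
  -- the scalar `[G : C(g)] / χ(1)` is a local unit
  set v := minVal p B with hv
  have hcl : (Cg.index).factorization p = v := classExp_eq_minVal_of_isDefectClass hM hB hg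
  have hdv : (charDegree (χ : G → ℂ)).factorization p = v := (blockHeight_eq_zero_iff hχ).1 hχ0
  have hc : (Cg.index : ℂ) / (χ : G → ℂ) 1 ∈ locRing M := by
    have hn : (χ : G → ℂ) 1 = ((p ^ v : ℕ) : ℂ) * ((charDegree (χ : G → ℂ) / p ^ v : ℕ) : ℂ) := by
      rw [← hdv, ← Nat.cast_mul, Nat.ordProj_mul_ordCompl_eq_self,
        charDegree_cast (IsIrrCharacter.isCharacter χ.2)]
    have hi : (Cg.index : ℂ) = ((p ^ v : ℕ) : ℂ) * ((Cg.index / p ^ v : ℕ) : ℂ) := by
      rw [← hcl, ← Nat.cast_mul, Nat.ordProj_mul_ordCompl_eq_self]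
    rw [hn, hi, mul_div_mul_left _ _ (Nat.cast_ne_zero.2 (pow_ne_zero _ hp.ne_zero)), div_eq_mul_inv]
    refine mul_mem (natCast_mem _ _) (inv_natCast_mem_locRing hM.1 hM.2.2 ?_)
    rw [← hdv]
    exact Nat.not_dvd_ordCompl hp (charDegree_pos χ.2).ne'
  have hdiff : MemLocalIdeal M (centralChar (χ : G → ℂ) (y * g) - (Cy.relIndex Cg : ℂ) * centralChar (χ : G → ℂ) g) := by
    have e : centralChar (χ : G → ℂ) (y * g) - (Cy.relIndex Cg : ℂ) * centralChar (χ : G → ℂ) g =
        ((Cy.relIndex Cg : ℂ) * ((Cg.index : ℂ) / (χ : G → ℂ) 1)) * ((χ : G → ℂ) (y * g) - (χ : G → ℂ) g) := by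
      show (Cy.index : ℂ) * _ / _ - _ * ((Cg.index : ℂ) * _ / _) = _
      rw [← hm]
      push_cast
      ring
    rw [e]
    exact memLocalIdeal_mul_left (mul_mem (natCast_mem _ _) hc) (apply_mul_congr hM (IsIrrCharacter.isCharacter χ.2) hypow hyg)
  have hfin := memLocalIdeal_add hω (memLocalIdeal_neg hdiff)
  rw [← sub_eq_add_neg, sub_sub_cancel] at hfin
  refine hg.2.2 χ hχ ?_
  have h7 := memLocalIdeal_mul_left (inv_natCast_mem_locRing hM.1 hM.2.2 hmd) hfin
  rwa [inv_mul_cancel_left₀ (Nat.cast_ne_zero.2 fun e => hmd (by rw [e]; exact dvd_zero p))] at h7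

end Cfsg.Agent.Block
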