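import Cfsg.Agent.Lib.Block.DefectCore
import Mathlib.RingTheory.Nakayama

/-!
# Block idempotents are supported on the centraliser of a normal `p`-subgroup
-/

set_option autoImplicit false

open Cfsg.Agent.Char

namespace Cfsg.Agent.Block

universe u

variable {G : Type u} [Group G] {M : Ideal AlgInt}

/-- A product supported at `x` has factors supported on both sides. -/
theorem coeff_mul_eq_zero_of_support [Finite G] {R : Type*} [CommRing R] (a b : MonoidAlgebra R G)
    (x : G) (h : ∀ y : G, a.coeff y = 0 ∨ b.coeff (y⁻¹ * x) = 0) : (a * b).coeff x = 0 := by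
  classical
  haveI := Fintype.ofFinite G
  rw [MonoidAlgebra.coeff_mul_apply_left, Finsupp.sum_fintype _ _ (by simp)]
  refine Finset.sum_eq_zero fun y _ => ?_
  rcases h y with h | h <;> rw [h] <;> simp

/-- Off the centraliser of a normal `p`-subgroup the coefficients lie in the local ideal. -/
theorem blockCoeff_memLocalIdeal_of_notMem [Finite G] {p : ℕ} [Fact p.Prime] (hM : IsPModular p M)
    [hMp : M.IsPrime] {B : Set (IrrCharacter G)} (hB : IsPBlock M B) (Q : Subgroup G) [hQn : Q.Normal]
    (hQ : IsPGroup p Q) {h : G} (hh : h ∉ Subgroup.centralizer (Q : Set G)) :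
    MemLocalIdeal M (blockCoeff B h) := by
  classical
  haveI := Fintype.ofFinite G
  haveI := Fintype.ofFinite (ConjClasses G)
  haveI := locRing_charP hM.1 hM.2.2
  haveI hCn : (Subgroup.centralizer (Q : Set G)).Normal := Subgroup.normal_centralizer
  set res := IsLocalRing.residue (locRing M)
  set φ := MonoidAlgebra.mapRingHom G res
  have hl := isLocElt_blockIdem hB
  set e := φ (toLoc hl) with he
  have hcoe : ∀ x, (((toLoc hl).coeff x : locRing M) : ℂ) = blockCoeff B x := fun x => by
    rw [coe_toLoc, blockIdem, coeff_mkA]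
  have hzero : ∀ x, e.coeff x = 0 ↔ MemLocalIdeal M (blockCoeff B x) := fun x => by
    rw [he, MonoidAlgebra.coeff_mapRingHom, IsLocalRing.residue_eq_zero_iff, mem_maximalIdeal_locRing,
      hcoe]
  have hcl : ∀ x y, IsConj x y → e.coeff x = e.coeff y := fun x y hxy => by
    rw [he, MonoidAlgebra.coeff_mapRingHom, MonoidAlgebra.coeff_mapRingHom]
    congr 1
    apply Subtype.ext
    rw [hcoe, hcoe]
    have := IsClassFunction.apply_isConj (isCentralElt_blockIdem B) hxy
    simpa [blockIdem] using this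
  have hidem : e * e = e := by
    rw [he, ← map_mul]
    congr 1
    refine MonoidAlgebra.ext (Finsupp.ext fun t => Subtype.ext ?_)
    have := congrArg (fun b => b.coeff t) (blockIdem_mul_self B)
    simp only [MonoidAlgebra.coeff_mul_apply_left] at this ⊢
    rw [Finsupp.sum_fintype _ _ (by simp)] at this ⊢
    simpa [coe_toLoc] using this
  -- write `e` as a combination of class sums
  let X : ConjClasses G → Finset G := fun C => Finset.univ.filter fun x => ConjClasses.mk x = C
  let s : Finset (ConjClasses G) := Finset.univ.filter fun C => e.coeff (classRep C) ≠ 0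
  have hdec : e = ∑ C ∈ s, e.coeff (classRep C) •
      ∑ x ∈ X C, MonoidAlgebra.single x (1 : IsLocalRing.ResidueField (locRing M)) := by
    refine MonoidAlgebra.ext (Finsupp.ext fun t => ?_)
    simp only [MonoidAlgebra.coeff_sum, Finsupp.finsetSum_apply, MonoidAlgebra.coeff_smul,
      Finsupp.smul_apply, MonoidAlgebra.coeff_single, Finsupp.single_apply, smul_eq_mul,
      Finset.sum_ite_eq', X, Finset.mem_filter, Finset.mem_univ, true_and, mul_ite, mul_one, mul_zero,
      Finset.sum_ite_eq, s]
    have h1 := hcl t _ (isConj_classRep_mk t)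
    split
    · exact h1
    next h => exact h1.trans (not_not.1 h)
  have hcomm : ∀ C C', Commute
      (e.coeff (classRep C) • ∑ x ∈ X C, MonoidAlgebra.single x (1 : IsLocalRing.ResidueField (locRing M)))
      (e.coeff (classRep C') • ∑ x ∈ X C', MonoidAlgebra.single x (1 : IsLocalRing.ResidueField (locRing M))) := by
    intro C C'
    refine (Commute.sum_right _ _ _ fun y _ => ?_).smul_right _ |>.smul_left _
    show (∑ x ∈ X C, _) * _ = _
    rw [Finset.sum_mul, Finset.mul_sum]
    refine Finset.sum_equiv (MulAut.conj y⁻¹).toEquiv (fun x => ?_) fun x _ => ?_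
    · simp only [X, Finset.mem_filter, Finset.mem_univ, true_and]
      rw [show ConjClasses.mk ((MulAut.conj y⁻¹).toEquiv x) = ConjClasses.mk x from
        (ConjClasses.mk_eq_mk_iff_isConj.2 (isConj_iff.2 ⟨y⁻¹, rfl⟩)).symm]
    · simp [mul_assoc]
  have hmemC : ∀ (C : ConjClasses G) (x : G), x ∈ X C →
      (x ∈ Subgroup.centralizer (Q : Set G) ↔ classRep C ∈ Subgroup.centralizer (Q : Set G)) := by
    intro C x hx
    simp only [X, Finset.mem_filter, Finset.mem_univ, true_and] at hx
    obtain ⟨c, hc⟩ := isConj_iff.1 (hx ▸ isConj_classRep_mk x)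
    refine ⟨fun h' => hc ▸ hCn.conj_mem _ h' c, fun h' => ?_⟩
    have h2 := hCn.conj_mem _ h' c⁻¹
    rwa [show c⁻¹ * classRep C * c⁻¹⁻¹ = x by rw [← hc]; group] at h2
  let term : ConjClasses G → MonoidAlgebra (IsLocalRing.ResidueField (locRing M)) G := fun C =>
    e.coeff (classRep C) • ∑ x ∈ X C, MonoidAlgebra.single x 1
  set e1 := ∑ C ∈ s.filter (fun C => classRep C ∈ Subgroup.centralizer (Q : Set G)), term C with he1
  set e2 := ∑ C ∈ s.filter (fun C => classRep C ∉ Subgroup.centralizer (Q : Set G)), term C with he2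
  have he12 : e = e1 + e2 := by
    rw [he1, he2, Finset.sum_filter_add_sum_filter_not]
    exact hdec
  have hnil : IsNilpotent e2 := by
    rw [he2]
    refine Commute.isNilpotent_sum (fun C hC => ?_) fun C C' _ _ => hcomm C C'
    refine (isNilpotent_sum_of_no_fixed hQ (X C) (fun q _ x hx => ?_) fun x hx hxQ => ?_).smul _
    · simp only [X, Finset.mem_filter, Finset.mem_univ, true_and] at hx ⊢
      rw [← hx]
      exact (ConjClasses.mk_eq_mk_iff_isConj.2 (isConj_iff.2 ⟨q, rfl⟩)).symm
    · exact (Finset.mem_filter.1 hC).2 ((hmemC C x hx).1 hxQ)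
  have he1c : Commute e1 e2 := Commute.sum_left _ _ _ fun C _ => Commute.sum_right _ _ _ fun C' _ => hcomm C C'
  obtain ⟨n, hn⟩ := hnil
  haveI : CharP (MonoidAlgebra (IsLocalRing.ResidueField (locRing M)) G) p :=
    charP_of_injective_algebraMap
      (R := IsLocalRing.ResidueField (locRing M)) (fun a b hab => by
        have := congrArg (fun f => f.coeff (1 : G)) hab
        simpa [MonoidAlgebra.coe_algebraMap] using this) p
  have hpn : e2 ^ p ^ n = 0 := pow_eq_zero_of_le (Nat.lt_pow_self (Fact.out : p.Prime).one_lt).le hn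
  have hid : IsIdempotentElem e := hidem
  have hpow : e = e1 ^ p ^ n := by
    have h1 : e ^ p ^ n = e := by
      rw [show p ^ n = (p ^ n - 1) + 1 from (Nat.sub_add_cancel (Nat.one_le_pow _ _ (Fact.out : p.Prime).pos)).symm]
      exact hid.pow_succ_eq _
    rw [← h1, he12, add_pow_char_pow_of_commute p n he1c, hpn, add_zero]
  have hsupp : ∀ (m : ℕ) (x : G), x ∉ Subgroup.centralizer (Q : Set G) → (e1 ^ m).coeff x = 0 := by
    intro m
    induction m with
    | zero =>
      intro x hx
      rw [pow_zero, MonoidAlgebra.one_def, MonoidAlgebra.coeff_single, Finsupp.single_apply,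
        if_neg (fun e' : (1 : G) = x => hx (e' ▸ one_mem _))]
    | succ m ih =>
      intro x hx
      rw [pow_succ]
      refine coeff_mul_eq_zero_of_support _ _ x fun y => ?_
      by_cases hy : y ∈ Subgroup.centralizer (Q : Set G)
      · right
        have hyx : y⁻¹ * x ∉ Subgroup.centralizer (Q : Set G) := fun h' => hx (by
          simpa using mul_mem hy h')
        rw [he1, MonoidAlgebra.coeff_sum, Finsupp.finsetSum_apply]
        refine Finset.sum_eq_zero fun C hC => ?_
        simp only [term, MonoidAlgebra.coeff_smul, Finsupp.smul_apply, MonoidAlgebra.coeff_sum,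
          Finsupp.finsetSum_apply, MonoidAlgebra.coeff_single, Finsupp.single_apply, Finset.sum_ite_eq']
        rw [if_neg (fun h' => hyx ((hmemC C _ h').2 (Finset.mem_filter.1 hC).2)), smul_zero]
      · exact Or.inl (ih y hy)
  refine (hzero h).1 ?_
  rw [hpow]
  exact hsupp _ h hh

/-- The coefficients of a block idempotent off the centraliser of a normal `p`-subgroup vanish. -/
theorem blockCoeff_eq_zero_of_notMem [Finite G] {p : ℕ} [Fact p.Prime] (hM : IsPModular p M)
    {B : Set (IrrCharacter G)} (hB : IsPBlock M B) (Q : Subgroup G) [hQn : Q.Normal]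
    (hQ : IsPGroup p Q) {h : G} (hh : h ∉ Subgroup.centralizer (Q : Set G)) :
    blockCoeff B h = 0 := by
  classical
  haveI := prime_of_isPModular hM
  haveI := Fintype.ofFinite G
  haveI hCn : (Subgroup.centralizer (Q : Set G)).Normal := Subgroup.normal_centralizer
  set C := Subgroup.centralizer (Q : Set G) with hC
  set R := locRing M
  set E := toLoc (isLocElt_blockIdem hB) with hE
  have hcoe : ∀ x, ((E.coeff x : R) : ℂ) = blockCoeff B x := fun x => by
    rw [hE, coe_toLoc, blockIdem, coeff_mkA]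
  let I : Ideal R := Ideal.span (Set.range fun x : {x : G // x ∉ C} => E.coeff x.1)
  have hIm : I ≤ IsLocalRing.maximalIdeal R := Ideal.span_le.2 fun _ ⟨x, hx⟩ => hx ▸ by
    show E.coeff x.1 ∈ IsLocalRing.maximalIdeal R
    rw [mem_maximalIdeal_locRing, hcoe]
    exact blockCoeff_memLocalIdeal_of_notMem hM hB Q hQ x.2
  have hidem : E * E = E := by
    refine MonoidAlgebra.ext (Finsupp.ext fun t => Subtype.ext ?_)
    have := congrArg (fun b => b.coeff t) (blockIdem_mul_self B)
    simp only [MonoidAlgebra.coeff_mul_apply_left] at this ⊢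
    rw [Finsupp.sum_fintype _ _ (by simp)] at this ⊢
    simpa [hE, coe_toLoc] using this
  let q := Ideal.Quotient.mk (I * I)
  let f := MonoidAlgebra.mapRingHom G q
  set F := f E with hF
  have hFid : F * F = F := by rw [hF, ← map_mul, hidem]
  set F1 : MonoidAlgebra (R ⧸ I * I) G :=
    .ofCoeff (Finsupp.equivFunOnFinite.symm fun x => if x ∈ C then F.coeff x else 0) with hF1
  set F2 := F - F1 with hF2
  have h1in : ∀ x ∈ C, F1.coeff x = F.coeff x := fun x hx => by simp [hF1, hx]
  have h1out : ∀ x ∉ C, F1.coeff x = 0 := fun x hx => by simp [hF1, hx]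
  have h2in : ∀ x ∈ C, F2.coeff x = 0 := fun x hx => by simp [hF2, h1in x hx]
  have h2out : ∀ x ∉ C, F2.coeff x = q (E.coeff x) := fun x hx => by
    rw [hF2, MonoidAlgebra.coeff_sub, Finsupp.sub_apply, h1out x hx, sub_zero, hF, MonoidAlgebra.coeff_mapRingHom]
  have hsq : F2 * F2 = 0 := by
    refine MonoidAlgebra.ext (Finsupp.ext fun x => ?_)
    rw [MonoidAlgebra.coeff_mul_apply_left, Finsupp.sum_fintype _ _ (by simp), MonoidAlgebra.coeff_zero, Finsupp.zero_apply]
    refine Finset.sum_eq_zero fun y _ => ?_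
    by_cases hy : y ∈ C
    · rw [h2in y hy, zero_mul]
    by_cases hy' : y⁻¹ * x ∈ C
    · rw [h2in _ hy', mul_zero]
    rw [h2out y hy, h2out _ hy', ← map_mul, Ideal.Quotient.eq_zero_iff_mem]
    exact Ideal.mul_mem_mul (Ideal.subset_span ⟨⟨y, hy⟩, rfl⟩) (Ideal.subset_span ⟨⟨_, hy'⟩, rfl⟩)
  have hm12 : ∀ x ∈ C, (F1 * F2).coeff x = 0 := fun x hx =>
    coeff_mul_eq_zero_of_support _ _ x fun y => by
      by_cases hy : y ∈ C
      · exact Or.inr (h2in _ (mul_mem (inv_mem hy) hx))
      · exact Or.inl (h1out y hy)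
  have hm11 : ∀ x ∉ C, (F1 * F1).coeff x = 0 := fun x hx =>
    coeff_mul_eq_zero_of_support _ _ x fun y => by
      by_cases hy : y ∈ C
      · exact Or.inr (h1out _ fun h' => hx (by simpa using mul_mem hy h'))
      · exact Or.inl (h1out y hy)
  have hFc : ∀ x y : G, F.coeff (y * x * y⁻¹) = F.coeff x := fun x y => by
    rw [hF, MonoidAlgebra.coeff_mapRingHom, MonoidAlgebra.coeff_mapRingHom]
    congr 1
    apply Subtype.ext
    rw [hcoe, hcoe]
    simpa [blockIdem] using isCentralElt_blockIdem B x y
  have hcom : F2 * F1 = F1 * F2 := by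
    refine MonoidAlgebra.ext (Finsupp.ext fun x => ?_)
    rw [MonoidAlgebra.coeff_mul_apply_left, Finsupp.sum_fintype _ _ (by simp),
      MonoidAlgebra.coeff_mul_apply_right, Finsupp.sum_fintype _ _ (by simp)]
    refine Finset.sum_congr rfl fun y _ => ?_
    have e1 : F1.coeff (y⁻¹ * x) = F1.coeff (x * y⁻¹) := by
      have hm : x * y⁻¹ = y * (y⁻¹ * x) * y⁻¹ := by group
      have hiff : y * (y⁻¹ * x) * y⁻¹ ∈ C ↔ y⁻¹ * x ∈ C :=
        ⟨fun h' => by simpa [mul_assoc] using hCn.conj_mem _ h' y⁻¹, fun h' => hCn.conj_mem _ h' y⟩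
      rw [hm]
      by_cases hc : y⁻¹ * x ∈ C
      · rw [h1in _ hc, h1in _ (hiff.2 hc), hFc]
      · rw [h1out _ hc, h1out _ (fun h' => hc (hiff.1 h'))]
    rw [e1]
    exact mul_comm _ _
  have hsplit : F1 * F1 + (F1 * F2 + F1 * F2) = F1 + F2 := by
    have h0 : (F1 + F2) * (F1 + F2) = F1 + F2 := by rw [hF2, add_sub_cancel, hFid]
    rw [add_mul, mul_add, mul_add, hsq, hcom, add_zero] at h0
    rw [← h0]; abel
  have heq1 : F1 * F1 = F1 := by
    refine MonoidAlgebra.ext (Finsupp.ext fun x => ?_)
    by_cases hx : x ∈ C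
    · have h' := congrArg (fun a => a.coeff x) hsplit
      simpa [hm12 x hx, h2in x hx] using h'
    · rw [hm11 x hx, h1out x hx]
  have heq2 : F1 * F2 + F1 * F2 = F2 := by
    rw [heq1] at hsplit
    exact add_left_cancel hsplit
  have hz : F1 * F2 = 0 := by
    have h' := congrArg (fun a => F1 * a) heq2
    simp only [mul_add, ← mul_assoc, heq1] at h'
    exact (add_eq_left).1 h'
  have hF20 : F2 = 0 := by rw [← heq2, hz, add_zero]
  have hle : I ≤ I • I := by
    rw [smul_eq_mul]
    refine Ideal.span_le.2 fun _ ⟨x, hx⟩ => hx ▸ ?_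
    have h' := h2out x.1 x.2
    rw [hF20, MonoidAlgebra.coeff_zero, Finsupp.zero_apply] at h'
    exact Ideal.Quotient.eq_zero_iff_mem.1 h'.symm
  have hI0 : I = ⊥ := Submodule.eq_bot_of_le_smul_of_le_jacobson_bot I I
    (Submodule.fg_span (Set.finite_range _)) hle
    (hIm.trans (IsLocalRing.jacobson_eq_maximalIdeal ⊥ bot_ne_top).ge)
  have : E.coeff h ∈ I := Ideal.subset_span ⟨⟨h, hh⟩, rfl⟩
  rw [hI0, Submodule.mem_bot] at this
  rw [← hcoe, this, ZeroMemClass.coe_zero]

end Cfsg.Agent.Block
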