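import Cfsg.Agent.Lib.Block.Height

/-!
# The sum of the squared degrees of a block
-/

set_option autoImplicit false

open Cfsg.Agent.Char
open scoped ComplexConjugate

namespace Cfsg.Agent.Block

universe u

variable {G : Type u} [Group G] [Finite G] {p : ℕ} {M : Ideal AlgInt} [hMp : M.IsPrime]

theorem not_memLocalIdeal_sum_coeff [Fintype (ConjClasses G)] (hM : IsPModular p M)
    {B : Set (IrrCharacter G)} (hB : IsPBlock M B) {φ : IrrCharacter G} (hφ : φ ∈ B)
    {c : IrrCharacter G → ℂ} (hc : ∀ χ, c χ ∈ locRing M)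
    (hsum : ∀ x : G, ¬ p ∣ orderOf x → blockCoeff B x = ∑ᶠ χ ∈ B, c χ * (χ : G → ℂ) x⁻¹) :
    ¬ MemLocalIdeal M (∑ χ ∈ B.toFinite.toFinset, c χ * (redDegree p B (χ : G → ℂ) : ℂ)) := by
  classical
  haveI := prime_of_isPModular hM
  set κ := ∑ χ ∈ B.toFinite.toFinset, c χ * (redDegree p B (χ : G → ℂ) : ℂ) with hκ
  have hκm : κ ∈ locRing M := Subring.sum_mem _ fun χ _ => mul_mem (hc χ) (natCast_mem _ _)
  have h1 : omega (φ : G → ℂ) (blockIdem B) = 1 := by rw [omega_blockIdem, if_pos hφ]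
  rw [omega_eq_sum_classes φ (isCentralElt_blockIdem B)] at h1
  intro hS
  have hS' : MemLocalIdeal M κ := hS
  refine not_memLocalIdeal_one (M := M) ?_
  rw [← h1]
  have h2 : MemLocalIdeal M (κ * defectSum p B (φ : G → ℂ)) := memLocalIdeal_mul_right (defectSum_mem hM B φ) hS'
  have h3 : MemLocalIdeal M ((∑ C : ConjClasses G, (blockIdem B).coeff (classRep C) *
      centralChar (φ : G → ℂ) (classRep C)) - κ * defectSum p B (φ : G → ℂ)) := by
    rw [defectSum, Finset.mul_sum, ← Finset.sum_sub_distrib]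
    refine memLocalIdeal_sum _ _ fun C _ => ?_
    set g := classRep C
    simp only [blockIdem, coeff_mkA]
    by_cases hg : p ∣ orderOf g
    · rw [blockCoeff_eq_zero_of_dvd hM hB hg, zero_mul, if_neg (fun h => h.1 hg), mul_zero, sub_zero]
      exact memLocalIdeal_zero
    rcases lt_trichotomy (classExp p g) (minVal p B) with hlt | he | hgt
    · rw [if_neg (fun h => hlt.ne h.2), mul_zero, sub_zero]
      exact memLocalIdeal_mul_right (centralChar_mem_locRing φ g)
        (not_not.1 fun h => absurd (minVal_le_classExp hM hB h) (not_le.2 hlt))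
    · rw [if_pos ⟨hg, he⟩, hsum g hg, finsum_mem_eq_finite_toFinset_sum _ B.toFinite, hκ,
        Finset.sum_mul, Finset.sum_mul, ← Finset.sum_sub_distrib]
      refine memLocalIdeal_sum _ _ fun χ hχ => ?_
      have hχB := B.toFinite.mem_toFinset.1 hχ
      have h4 := apply_congr_of_classExp_eq hM hB hχB hφ (g := g⁻¹) (by rw [classExp_inv]; exact he)
      have hcc : classCofactor p g⁻¹ = classCofactor p g := by
        rw [classCofactor, classCofactor, classExp_inv, centralizer_singleton_inv]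
      rw [hcc] at h4
      have e : c χ * (χ : G → ℂ) g⁻¹ * centralChar (φ : G → ℂ) g -
          c χ * (redDegree p B (χ : G → ℂ) : ℂ) * (centralChar (φ : G → ℂ) g *
            centralChar (φ : G → ℂ) g⁻¹ * ((classCofactor p g : ℂ))⁻¹) =
          c χ * centralChar (φ : G → ℂ) g * ((χ : G → ℂ) g⁻¹ - centralChar (φ : G → ℂ) g⁻¹ *
            (redDegree p B (χ : G → ℂ) : ℂ) * ((classCofactor p g : ℂ))⁻¹) := by ring
      rw [e]
      exact memLocalIdeal_mul_left (mul_mem (hc χ) (centralChar_mem_locRing φ g)) h4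
    · rw [if_neg (fun h => hgt.ne' h.2), mul_zero, sub_zero]
      exact memLocalIdeal_mul_left (blockCoeff_mem_locRing hB g)
        (not_not.1 fun h => absurd (classExp_le_minVal hM hB hφ h) (not_le.2 hgt))
  simpa using memLocalIdeal_add h3 h2


/-- The exact power of `p` in the sum of the squared degrees of a block. -/
theorem sum_sq_degree_eq (hM : IsPModular p M) {B : Set (IrrCharacter G)} (hB : IsPBlock M B) :
    ∃ u : ℕ, ¬ p ∣ u ∧ ∑ᶠ χ ∈ B, charDegree (χ : G → ℂ) ^ 2 =
      p ^ ((Nat.card G).factorization p + minVal p B) * u := by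
  classical
  haveI := Fintype.ofFinite G
  haveI := Fintype.ofFinite (ConjClasses G)
  haveI := prime_of_isPModular hM
  obtain ⟨φ, hφ⟩ := isPBlock_nonempty hB
  obtain ⟨c, hc, hsum⟩ := exists_blockCoeff_eq_sum hM hB
  have hκ := not_memLocalIdeal_sum_coeff hM hB hφ hc hsum
  set T := B.toFinite.toFinset with hT
  set v := minVal p B
  set a := (Nat.card G).factorization p
  set m := Nat.card G / p ^ a
  have hm : (Nat.card G : ℂ) = ((p ^ a : ℕ) : ℂ) * (m : ℂ) := by
    rw [← Nat.cast_mul, Nat.ordProj_mul_ordCompl_eq_self]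
  have hmd : ¬ p ∣ m := Nat.not_dvd_ordCompl hM.1 Nat.card_pos.ne'
  have hdeg : ∀ χ ∈ T, charDegree (χ : G → ℂ) = p ^ v * redDegree p B (χ : G → ℂ) := by
    intro χ hχ
    have hχB : χ ∈ B := by simpa [hT] using hχ
    rw [redDegree, Nat.mul_div_cancel' ((pow_dvd_pow p (minVal_le hχB)).trans (Nat.ordProj_dvd _ _))]
  set r := ∑ χ ∈ T, redDegree p B (χ : G → ℂ) ^ 2 with hr
  have h1 : blockCoeff B (1 : G) = (Nat.card G : ℂ)⁻¹ * ((p ^ (2 * v) * r : ℕ) : ℂ) := by
    rw [blockCoeff_eq_blockKernel, blockKernel, finsum_mem_eq_finite_toFinset_sum _ B.toFinite, hr,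
      Finset.mul_sum (a := p ^ (2 * v))]
    rw [Nat.cast_sum]
    congr 1
    refine Finset.sum_congr rfl fun χ hχ => ?_
    rw [← charDegree_cast (IsIrrCharacter.isCharacter χ.2), Complex.conj_natCast, hdeg χ hχ]
    push_cast
    ring
  rw [hsum 1 (by rw [orderOf_one]; exact hM.1.not_dvd_one), finsum_mem_eq_finite_toFinset_sum _ B.toFinite,
    Finset.sum_congr rfl (g := fun χ : IrrCharacter G => ((p ^ v : ℕ) : ℂ) * (c χ * (redDegree p B (χ : G → ℂ) : ℂ)))
      (fun χ hχ => by rw [inv_one, ← charDegree_cast (IsIrrCharacter.isCharacter χ.2), hdeg χ hχ]; push_cast; ring),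
    ← Finset.mul_sum] at h1
  set κ := ∑ χ ∈ T, c χ * (redDegree p B (χ : G → ℂ) : ℂ) with hκd
  have hκm : κ ∈ locRing M := Subring.sum_mem _ fun χ _ => mul_mem (hc χ) (natCast_mem _ _)
  have hp0 : ∀ n : ℕ, ((p : ℂ)) ^ n ≠ 0 := fun n => pow_ne_zero _ (Nat.cast_ne_zero.2 hM.1.ne_zero)
  have hm0 : (m : ℂ) ≠ 0 := Nat.cast_ne_zero.2 fun e => hmd (by rw [e]; exact dvd_zero p)
  have h2 : ((p ^ v * r : ℕ) : ℂ) = ((p ^ a : ℕ) : ℂ) * ((m : ℂ) * κ) := by
    rw [hm] at h1
    push_cast at h1 ⊢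
    have := hp0 a
    have := hp0 v
    field_simp at h1
    refine mul_left_cancel₀ (hp0 v) ?_
    linear_combination -h1
  -- the exponent of `p` in `p ^ v * r`
  have hpos : p ^ v * r ≠ 0 := by
    intro e
    rw [e, Nat.cast_zero, eq_comm, mul_eq_zero, mul_eq_zero] at h2
    rcases h2 with h2 | h2 | h2
    · exact absurd h2 (by exact_mod_cast pow_ne_zero a hM.1.ne_zero)
    · exact hm0 h2
    · exact hκ (by rw [h2]; exact memLocalIdeal_zero)
  set b := (p ^ v * r).factorization p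
  set u := p ^ v * r / p ^ b
  have hu : p ^ b * u = p ^ v * r := Nat.ordProj_mul_ordCompl_eq_self _ p
  have hud : ¬ p ∣ u := Nat.not_dvd_ordCompl hM.1 hpos
  have hu0 : (u : ℂ) ≠ 0 := Nat.cast_ne_zero.2 fun e => hud (by rw [e]; exact dvd_zero p)
  have hb : b = a := by
    rw [← hu] at h2
    push_cast at h2
    rcases lt_trichotomy b a with hlt | he | hgt
    · exfalso
      obtain ⟨k, hk⟩ := Nat.exists_eq_add_of_lt hlt
      rw [hk, pow_add, pow_succ, pow_add] at h2
      have h3 : (u : ℂ) = (p : ℂ) * ((p : ℂ) ^ k * ((m : ℂ) * κ)) := by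
        have := hp0 b
        refine mul_left_cancel₀ this ?_
        rw [h2]; ring
      refine hud ((memLocalIdeal_natCast_iff hM.1 hM.2.2 u).1 ?_)
      rw [h3]
      exact memLocalIdeal_mul_right (mul_mem (pow_mem (natCast_mem _ _) _) (mul_mem (natCast_mem _ _) hκm))
        ((memLocalIdeal_natCast_iff hM.1 hM.2.2 p).2 dvd_rfl)
    · exact he
    · exfalso
      obtain ⟨k, hk⟩ := Nat.exists_eq_add_of_lt hgt
      rw [hk, pow_add, pow_succ, pow_add] at h2
      have h3 : (m : ℂ) * κ = (p : ℂ) * ((p : ℂ) ^ k * (u : ℂ)) := by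
        refine mul_left_cancel₀ (hp0 a) ?_
        rw [← h2]; ring
      refine hκ ?_
      have h4 : κ = (m : ℂ)⁻¹ * ((p : ℂ) * ((p : ℂ) ^ k * (u : ℂ))) := by
        rw [← h3, inv_mul_cancel_left₀ hm0]
      rw [h4]
      exact memLocalIdeal_mul_left (inv_natCast_mem_locRing hM.1 hM.2.2 hmd)
        (memLocalIdeal_mul_right (mul_mem (pow_mem (natCast_mem _ _) _) (natCast_mem _ _))
          ((memLocalIdeal_natCast_iff hM.1 hM.2.2 p).2 dvd_rfl))
  refine ⟨u, hud, ?_⟩
  rw [finsum_mem_eq_finite_toFinset_sum _ B.toFinite, pow_add, mul_comm (p ^ a), mul_assoc, ← hb, hu, hr,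
    Finset.mul_sum, Finset.mul_sum]
  refine Finset.sum_congr rfl fun χ hχ => ?_
  rw [hdeg χ hχ]
  ring

end Cfsg.Agent.Block
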