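import Cfsg.Agent.Lib.Block.QuotientBlocks
import Cfsg.Agent.Lib.Block.DefectSupport
import Cfsg.Agent.Lib.Solv.Coprime
import Cfsg.Agent.Lib.Struct.CoprimeMinimal

/-!
# Blocks modulo the derived subgroup of a normal `p`-subgroup
-/

set_option autoImplicit false
set_option linter.style.haveILetI false

open Cfsg Cfsg.Agent.Char
open scoped ComplexConjugate commutatorElement

namespace Cfsg.Agent.Block

universe u

variable {G : Type u} [Group G] [Finite G] {M : Ideal AlgInt} [hMp : M.IsPrime] {p : ℕ} [Fact p.Prime]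

/-- Blocks are separated by the regular classes inside the centraliser of a normal `p`-subgroup. -/
theorem sameBlock_of_centralizer_regular (hM : IsPModular p M) (Q : Subgroup G) [Q.Normal]
    (hQ : IsPGroup p Q) {χ φ : IrrCharacter G}
    (h : ∀ g : G, ¬ p ∣ orderOf g → g ∈ Subgroup.centralizer (Q : Set G) →
      MemLocalIdeal M (centralChar (φ : G → ℂ) g - centralChar (χ : G → ℂ) g)) :
    SameBlock M (χ : G → ℂ) (φ : G → ℂ) := by
  classical
  haveI := Fintype.ofFinite (ConjClasses G)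
  have hB := isPBlock_blockOf (M := M) χ
  have he := CL.blockIdem (M := M) hB
  suffices hm : φ ∈ blockOf M (χ : G → ℂ) from hm
  by_contra hn
  have h1 : ro M φ (blockIdem (blockOf M (χ : G → ℂ))) = ro M χ (blockIdem (blockOf M (χ : G → ℂ))) := by
    rw [ro, ro, omega_eq_sum_classes φ he.1, omega_eq_sum_classes χ he.1]
    have hl : ∀ (ψ : IrrCharacter G), ∀ C ∈ (Finset.univ : Finset (ConjClasses G)),
        (blockIdem (blockOf M (χ : G → ℂ))).coeff (classRep C) * centralChar (ψ : G → ℂ) (classRep C) ∈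
          locRing M :=
      fun ψ C _ => mul_mem (he.2 _) (centralChar_mem_locRing ψ _)
    rw [resC_sum _ _ (hl φ), resC_sum _ _ (hl χ)]
    refine Finset.sum_congr rfl fun C hC => (resC_eq_iff (hl φ C hC) (hl χ C hC)).2 ?_
    show MemLocalIdeal M (_ * _ - _ * _)
    rw [← mul_sub]
    by_cases hd : p ∣ orderOf (classRep C)
    · rw [show (blockIdem (blockOf M (χ : G → ℂ))).coeff (classRep C) = 0 by
        rw [← coeff_blockIdem]; exact blockCoeff_eq_zero_of_dvd hM hB hd, zero_mul]
      exact memLocalIdeal_zero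
    · by_cases hc : classRep C ∈ Subgroup.centralizer (Q : Set G)
      · exact memLocalIdeal_mul_left (he.2 _) (h _ hd hc)
      · rw [show (blockIdem (blockOf M (χ : G → ℂ))).coeff (classRep C) = 0 by
          rw [← coeff_blockIdem]; exact blockCoeff_eq_zero_of_notMem hM hB Q hQ hc, zero_mul]
        exact memLocalIdeal_zero
  rw [ro_blockIdem_notMem hn, ro_blockIdem_mem (self_mem_blockOf χ)] at h1
  exact zero_ne_one h1

omit hMp in
/-- A `p'`-element centralising `D` modulo `D'` centralises `D`. -/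
theorem centralizes_of_mod_derived (D : Subgroup G) [D.Normal] (hD : IsPGroup p D) {g : G}
    (hg : ¬ p ∣ orderOf g)
    (h : ∀ d ∈ D, (QuotientGroup.mk ⁅d, g⁆ : G ⧸ ⁅D, D⁆) = 1) :
    g ∈ Subgroup.centralizer (D : Set G) := by
  haveI := hD.isNilpotent
  set A := Subgroup.zpowers g
  have hAD : A ≤ Subgroup.normalizer (D : Set G) := by rw [Subgroup.normalizer_eq_top D]; exact le_top
  have hcop : (Nat.card A).Coprime (Nat.card D) := by
    obtain ⟨k, hk⟩ := IsPGroup.iff_card.1 hD
    rw [hk, Nat.card_zpowers]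
    exact Nat.Coprime.pow_right k (((Fact.out : p.Prime).coprime_iff_not_dvd.2 hg).symm)
  have hsolv : Group.IsSolvable A ∨ Group.IsSolvable D := Or.inr inferInstance
  have hC : ⁅D, A⁆ ≤ ⁅D, D⁆ := by
    rw [Subgroup.commutator_le]
    intro d hd a ha
    have hle : A ≤ (Subgroup.centralizer ((D.map (QuotientGroup.mk' ⁅D, D⁆) : Subgroup (G ⧸ ⁅D, D⁆)) :
        Set (G ⧸ ⁅D, D⁆))).comap (QuotientGroup.mk' ⁅D, D⁆) := by
      refine Subgroup.zpowers_le.2 (Subgroup.mem_centralizer_iff.2 ?_)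
      rintro _ ⟨x, hx, rfl⟩
      have h1 : QuotientGroup.mk' ⁅D, D⁆ ⁅x, g⁆ = 1 := h x hx
      rw [map_commutatorElement] at h1
      exact commutatorElement_eq_one_iff_mul_comm.1 h1
    have h2 : QuotientGroup.mk' ⁅D, D⁆ ⁅d, a⁆ = 1 := by
      rw [map_commutatorElement, commutatorElement_eq_one_iff_mul_comm]
      exact Subgroup.mem_centralizer_iff.1 (hle ha) _ ⟨d, hd, rfl⟩
    exact (QuotientGroup.eq_one_iff _).1 h2
  have hsup := Cfsg.Agent.Solv.commutator_sup_centralizer A D hAD hcop hsolv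
  have hFr : ∀ x : D, (x : G) ∈ ⁅D, D⁆ → x ∈ frattini D := fun x hx => by
    refine Cfsg.Agent.Solv.commutator_le_frattini ?_
    have e : (commutator D).map D.subtype = ⁅D, D⁆ := by
      rw [commutator_def, Subgroup.map_commutator, ← MonoidHom.range_eq_map, Subgroup.range_subtype]
    rw [← e] at hx
    obtain ⟨y, hy, hyx⟩ := hx
    rwa [← Subtype.ext hyx]
  have htop : (Subgroup.centralizer (A : Set G)).subgroupOf D = ⊤ := by
    refine frattini_nongenerating (eq_top_iff.2 fun x _ => ?_)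
    obtain ⟨w, hw, c, hc, e⟩ := Cfsg.Agent.Solv.exists_commutator_mul_centralizer A D hAD hcop hsolv x.2
    have hwD : w ∈ D := by
      have : w = (x : G) * c⁻¹ := eq_mul_inv_of_mul_eq e.symm
      rw [this]; exact mul_mem x.2 (inv_mem hc.1)
    rw [show x = (⟨w, hwD⟩ : D) * ⟨c, hc.1⟩ from Subtype.ext e]
    exact mul_mem (Subgroup.mem_sup_right (hFr _ (hC hw))) (Subgroup.mem_sup_left hc.2)
  refine Subgroup.mem_centralizer_iff.2 fun d hd => ?_
  have : (⟨d, hd⟩ : D) ∈ (Subgroup.centralizer (A : Set G)).subgroupOf D := htop ▸ Subgroup.mem_top _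
  exact (Subgroup.mem_centralizer_iff.1 this g (Subgroup.mem_zpowers g)).symm

/-- Blocks of `G ⧸ D'` are reflected by inflation. -/
theorem sameBlock_of_inflate_derived (hM : IsPModular p M) (D : Subgroup G) [D.Normal] (hD : IsPGroup p D)
    {χ ψ : IrrCharacter (G ⧸ ⁅D, D⁆)}
    (h : SameBlock M (inflate ⁅D, D⁆ χ : G → ℂ) (inflate ⁅D, D⁆ ψ : G → ℂ)) :
    SameBlock M (χ : G ⧸ ⁅D, D⁆ → ℂ) (ψ : G ⧸ ⁅D, D⁆ → ℂ) := by
  have hp := (Fact.out : p.Prime)
  set N := ⁅D, D⁆ with hN
  set π := QuotientGroup.mk' N with hπ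
  set Db := D.map π with hDb
  haveI : Db.Normal := Subgroup.Normal.map inferInstance _ (QuotientGroup.mk'_surjective N)
  refine sameBlock_of_centralizer_regular hM Db (hD.map π) fun q hq hqC => ?_
  obtain ⟨g₀, rfl⟩ := QuotientGroup.mk_surjective q
  obtain ⟨u, w, huw, hc, ⟨k, hk⟩, hw⟩ := isPPart_exists hp g₀
  have hu : π u = 1 := by
    have h1 : IsPPart p (π g₀) (π u) := by
      obtain ⟨j, -, hj⟩ := (Nat.dvd_prime_pow hp).1 (hk ▸ orderOf_map_dvd π u)
      exact ⟨π w, by rw [← map_mul, huw], hc.map π, ⟨j, hj⟩, fun hd => hw (hd.trans (orderOf_map_dvd π w))⟩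
    exact isPPart_unique hp h1 ((isPPart_one_iff hp).2 hq)
  have hgw : (QuotientGroup.mk g₀ : G ⧸ N) = QuotientGroup.mk w := by
    show π g₀ = π w
    rw [← huw, map_mul, hu, one_mul]
  rw [hgw] at hqC ⊢
  have hlift : ∀ x : G, ¬ p ∣ orderOf x →
      (QuotientGroup.mk x : G ⧸ N) ∈ Subgroup.centralizer (Db : Set (G ⧸ N)) →
      x ∈ Subgroup.centralizer (D : Set G) := fun x hx hxC =>
    centralizes_of_mod_derived D hD hx fun d hd => by
      show π ⁅d, x⁆ = 1
      rw [map_commutatorElement, commutatorElement_eq_one_iff_mul_comm]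
      exact Subgroup.mem_centralizer_iff.1 hxC _ ⟨d, hd, rfl⟩
  have hwD := hlift w hw hqC
  have hk1 : (Subgroup.centralizer ({w} : Set G)).relIndex
      ((Subgroup.centralizer ({(QuotientGroup.mk w : G ⧸ N)} : Set (G ⧸ N))).comap π) = 1 := by
    rw [Subgroup.relIndex_eq_one]
    intro x hx
    have hcx : Commute (π w) (π x) := mem_centralizer_singleton.1 hx
    have himg : π (x * w * x⁻¹) = π w := by
      rw [map_mul, map_mul, map_inv, ← hcx.eq, mul_inv_cancel_right]
    have hreg : ¬ p ∣ orderOf (x * w * x⁻¹) := by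
      rw [show orderOf (x * w * x⁻¹) = orderOf w from
        orderOf_injective (MulAut.conj x).toMonoidHom (MulAut.conj x).injective w]
      exact hw
    have hD' := hlift _ hreg (by rw [show (QuotientGroup.mk (x * w * x⁻¹) : G ⧸ N) = π w from himg]; exact hqC)
    set n := w⁻¹ * (x * w * x⁻¹) with hn
    have hnN : n ∈ N := (QuotientGroup.eq_one_iff n).1 (by
      show π n = 1
      rw [hn, map_mul, himg, map_inv, inv_mul_cancel])
    have hNle : N ≤ D := Subgroup.commutator_le_right D D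
    have hcwn : Commute w n := (Subgroup.mem_centralizer_iff.1 hwD n (hNle hnN)).symm
    obtain ⟨j, hj⟩ := IsPGroup.iff_orderOf.1 hD ⟨n, hNle hnN⟩
    rw [Subgroup.orderOf_mk] at hj
    rcases j with _ | j
    · have : x * w * x⁻¹ = w := (inv_mul_eq_one.1 (orderOf_eq_one_iff.1 (by simpa [hn] using hj))).symm
      exact mem_centralizer_singleton.2 (show w * x = x * w by rw [mul_inv_eq_iff_eq_mul] at this; exact this.symm)
    · exfalso
      have h3 := hcwn.orderOf_mul_eq_mul_orderOf_of_coprime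
        (by rw [hj]; exact ((hp.coprime_iff_not_dvd.2 hw).pow_left (j + 1)).symm)
      rw [hn, mul_inv_cancel_left] at h3
      exact hreg (h3 ▸ ((hn ▸ hj) ▸ dvd_pow_self p j.succ_ne_zero).mul_left _)
  have h0 := h w
  rw [centralChar_inflate, centralChar_inflate, hk1, Nat.cast_one, one_mul, one_mul] at h0
  simpa using memLocalIdeal_neg h0

/-- Every block contains an inflation from the quotient by a normal `p`-subgroup. -/
theorem exists_inflate_mem (hM : IsPModular p M) (N : Subgroup G) [N.Normal] (hN : IsPGroup p N)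
    {B : Set (IrrCharacter G)} (hB : IsPBlock M B) : ∃ φ : IrrCharacter (G ⧸ N), inflate N φ ∈ B := by
  obtain ⟨b, hb, hsub, -⟩ := exists_quotient_block_image_defect hM N hN hB
  obtain ⟨φ, hφ⟩ := isPBlock_nonempty hb
  exact ⟨φ, hsub φ hφ⟩

end Cfsg.Agent.Block
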