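import Cfsg.Agent.Lib.Block.AbelianTIPrincipal
import Cfsg.Agent.Lib.Block.CycTwo
import Cfsg.Agent.Lib.Block.PPart
import Mathlib.GroupTheory.SpecificGroups.Dihedral

/-!
# The principal 2-block for a dihedral Sylow 2-subgroup

The columns at the non-identity powers of a rotation `σ` form an integral matrix with a known Gram
matrix; no character of the principal block vanishes at the central involution.
-/

set_option autoImplicit false
set_option linter.style.haveILetI false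
set_option linter.unusedSectionVars false
set_option linter.unusedVariables false

namespace Cfsg.Agent.Block.DihPrincipal

open Cfsg Cfsg.Agent.Char Cfsg.Agent.Block
open scoped Classical ComplexConjugate

universe w

variable {G : Type w} [Group G] [Finite G] {M : Ideal AlgInt}

/-- If the centralizer of a `p`-element has a normal `p`-complement then the principal block characters
are constant on its section. -/
theorem apply_section_of_npc {p : ℕ} [Fact p.Prime] (hM : IsPModular p M) {z : G}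
    (hz : ∃ k, orderOf z = p ^ k)
    (hidx : ∃ k : ℕ, (pPrimeCore p (Subgroup.centralizer ({z} : Set G))).index = p ^ k)
    {χ : IrrCharacter G} (hχ : χ ∈ principalBlock M G) {c : G} (hc : Commute z c) (hco : ¬ p ∣ orderOf c) :
    (χ : G → ℂ) (z * c) = (χ : G → ℂ) z := by
  haveI := Fintype.ofFinite (Subgroup.centralizer ({z} : Set G))
  haveI := prime_of_isPModular hM
  let c' : Subgroup.centralizer ({z} : Set G) := ⟨c, mem_centralizer_singleton.2 hc⟩
  have hB : IsPBlock M (principalBlock M G) := ⟨⟨fun _ => 1, isIrrCharacter_one⟩, rfl⟩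
  have hc' : ¬ p ∣ orderOf c' := by rwa [← Subgroup.orderOf_coe]
  have hcO := (regular_iff_mem_pPrimeCore hidx c').2 hc'
  have hcore : ¬ p ∣ Nat.card (pPrimeCore p (Subgroup.centralizer ({z} : Set G))) := by
    intro hd
    obtain ⟨x, hx⟩ := exists_prime_orderOf_dvd_card' p hd
    exact (regular_iff_mem_pPrimeCore hidx (x : Subgroup.centralizer ({z} : Set G))).1 x.2
      (by rw [Subgroup.orderOf_coe, hx])
  set b := principalBlock M (Subgroup.centralizer ({z} : Set G)) with hb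
  have hone : ¬ p ∣ orderOf (1 : Subgroup.centralizer ({z} : Set G)) := by
    rw [orderOf_one]; exact (Fact.out : p.Prime).not_dvd_one
  have key : ∀ e e' : Subgroup.centralizer ({z} : Set G), (e = 1 ∨ e = c') → (e' = 1 ∨ e' = c') →
      blockKernel (principalBlock M G) (z * (e : G)) (z * (e' : G)) = blockKernel b 1 1 := by
    intro e e' he he'
    rw [blockKernel_section hM hz hB (by rcases he with rfl | rfl <;> assumption)
      (by rcases he' with rfl | rfl <;> assumption), localBlocks_principal hM hz, Finset.sum_singleton]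
    refine finsum_mem_congr rfl fun ψ hψ => ?_
    have hv : ∀ e : Subgroup.centralizer ({z} : Set G), (e = 1 ∨ e = c') →
        (ψ : Subgroup.centralizer ({z} : Set G) → ℂ) e = (ψ : Subgroup.centralizer ({z} : Set G) → ℂ) 1 := by
      rintro e (rfl | rfl)
      · rfl
      · exact apply_eq_one_of_mem_principal hM _ hcore hψ hcO
    rw [hv e he, hv e' he']
  have hsum : ∑ χ ∈ (principalBlock M G).toFinite.toFinset,
      Complex.normSq ((χ : G → ℂ) (z * c) - (χ : G → ℂ) z) = 0 := by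
    refine Complex.ofReal_injective ?_
    push_cast
    have e1 := key c' c' (Or.inr rfl) (Or.inr rfl)
    have e2 := key c' 1 (Or.inr rfl) (Or.inl rfl)
    have e3 := key 1 c' (Or.inl rfl) (Or.inr rfl)
    have e4 := key 1 1 (Or.inl rfl) (Or.inl rfl)
    simp only [OneMemClass.coe_one, mul_one, blockKernel,
      finsum_mem_eq_finite_toFinset_sum _ (principalBlock M G).toFinite] at e1 e2 e3 e4
    simp only [← Complex.mul_conj, map_sub, sub_mul, mul_sub, Finset.sum_sub_distrib]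
    simp only [c'] at e1 e2 e3
    linear_combination e1 - e2 - e3 + e4
  have := (Finset.sum_eq_zero_iff_of_nonneg fun ψ _ => Complex.normSq_nonneg _).1 hsum χ
    ((principalBlock M G).toFinite.mem_toFinset.2 hχ)
  exact sub_eq_zero.1 (Complex.normSq_eq_zero.1 this)

/-- The principal kernel on the diagonal at an element with `p`-nilpotent centraliser. -/
theorem kernel_self_of_npc {p : ℕ} [Fact p.Prime] (hM : IsPModular p M) {z : G}
    (hz : ∃ k, orderOf z = p ^ k)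
    (hidx : ∃ k : ℕ, (pPrimeCore p (Subgroup.centralizer ({z} : Set G))).index = p ^ k) :
    blockKernel (principalBlock M G) z z =
      ((p ^ (Nat.card (Subgroup.centralizer ({z} : Set G))).factorization p : ℕ) : ℂ) := by
  haveI := Fintype.ofFinite (Subgroup.centralizer ({z} : Set G))
  have h2 := card_mul_blockKernel_principal hM (regular_iff_mem_pPrimeCore hidx) (one_mem _)
  rw [← Subgroup.card_mul_index (pPrimeCore p (Subgroup.centralizer ({z} : Set G))), Nat.cast_mul,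
    index_eq_ordProj_of_regular hidx] at h2
  have hone : ¬ p ∣ orderOf (1 : Subgroup.centralizer ({z} : Set G)) := by
    rw [orderOf_one]; exact (Fact.out : p.Prime).not_dvd_one
  have h := blockKernel_section (c := 1) (c' := 1) hM hz
    (B := principalBlock M G) ⟨⟨fun _ => 1, isIrrCharacter_one⟩, rfl⟩ hone hone
  simp only [OneMemClass.coe_one, mul_one] at h
  rw [h, localBlocks_principal hM hz, Finset.sum_singleton,
    mul_left_cancel₀ (Nat.cast_ne_zero.2 Nat.card_pos.ne') h2]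

/-- A dihedral Sylow 2-subgroup with a rotation `σ` and a reflection `τ`. -/
structure Dih (P : Sylow 2 G) (n : ℕ) (σ τ : G) : Prop where
  hn : 3 ≤ n
  memσ : σ ∈ (P : Subgroup G)
  memτ : τ ∈ (P : Subgroup G)
  orderσ : orderOf σ = 2 ^ (n - 1)
  sqτ : τ * τ = 1
  rel : τ * σ * τ⁻¹ = σ⁻¹
  cover : ∀ x ∈ (P : Subgroup G), ∃ i : ℕ, x = σ ^ i ∨ x = σ ^ i * τ

variable {P : Sylow 2 G} {n : ℕ} {σ τ : G}

theorem Dih.half (h : Dih P n σ τ) : 2 ^ (n - 1) = 2 * 2 ^ (n - 2) ∧ 2 ≤ 2 ^ (n - 2) := by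
  have hn := h.hn
  constructor
  · rw [← pow_succ']; congr 1; omega
  · exact le_self_pow₀ (by norm_num : (1 : ℕ) ≤ 2) (by omega)

theorem Dih.refl_inv (h : Dih P n σ τ) (i : ℕ) : τ * σ ^ i * τ⁻¹ = (σ ^ i)⁻¹ := by
  rw [← conj_pow, h.rel, inv_pow]

theorem Dih.τ_conj (h : Dih P n σ τ) (i : ℕ) : τ * σ ^ i = (σ ^ i)⁻¹ * τ :=
  mul_inv_eq_iff_eq_mul.1 (h.refl_inv i)

theorem Dih.refl_sq (h : Dih P n σ τ) (i : ℕ) : σ ^ i * τ * (σ ^ i * τ) = 1 := by
  rw [mul_assoc, ← mul_assoc τ, h.τ_conj, mul_assoc _ τ τ, h.sqτ, mul_one, mul_inv_cancel]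

theorem Dih.pow_eq_pow (h : Dih P n σ τ) {i j : ℕ} :
    σ ^ i = σ ^ j ↔ i % 2 ^ (n - 1) = j % 2 ^ (n - 1) := by
  rw [pow_eq_pow_iff_modEq, h.orderσ]; rfl

theorem Dih.τ_notMem (h : Dih P n σ τ) (i : ℕ) : τ ≠ σ ^ i := by
  intro e
  have h1 : σ⁻¹ = σ := by
    rw [← h.rel, e, (Commute.pow_self σ i).eq, mul_inv_cancel_right]
  have h2 : σ ^ 2 = 1 := by rw [pow_two]; nth_rw 1 [← h1]; rw [inv_mul_cancel]
  have := Nat.le_of_dvd (by norm_num) (h.orderσ ▸ orderOf_dvd_of_pow_eq_one h2)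
  have h4 := h.half
  omega

theorem Dih.card (h : Dih P n σ τ) : Nat.card P = 2 ^ n := by
  have hq0 : 0 < 2 ^ (n - 1) := by positivity
  let f : Fin (2 ^ (n - 1)) × Bool → (P : Subgroup G) := fun z =>
    if z.2 then ⟨σ ^ (z.1 : ℕ) * τ, (P : Subgroup G).mul_mem ((P : Subgroup G).pow_mem h.memσ _) h.memτ⟩
    else ⟨σ ^ (z.1 : ℕ), (P : Subgroup G).pow_mem h.memσ _⟩
  have hne : ∀ i j : ℕ, σ ^ i * τ ≠ σ ^ j := fun i j e => by
    refine h.τ_notMem (j + (2 ^ (n - 1) - 1) * i) ?_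
    have hinv : σ ^ ((2 ^ (n - 1) - 1) * i) * σ ^ i = 1 := by
      rw [← pow_add, ← Nat.succ_mul, Nat.succ_eq_add_one, Nat.sub_add_cancel hq0, pow_mul, ← h.orderσ,
        pow_orderOf_eq_one, one_pow]
    rw [pow_add, ← (Commute.pow_pow_self σ _ _).eq, ← e, ← mul_assoc, hinv, one_mul]
  have hb : Function.Bijective f := by
    refine ⟨fun a b e => ?_, fun x => ?_⟩
    · obtain ⟨a, ba⟩ := a
      obtain ⟨b, bb⟩ := b
      have hab : ∀ {i j : Fin (2 ^ (n - 1))}, σ ^ (i : ℕ) = σ ^ (j : ℕ) → i = j := fun {i j} e => by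
        rw [h.pow_eq_pow, Nat.mod_eq_of_lt i.2, Nat.mod_eq_of_lt j.2] at e
        exact Fin.ext e
      cases ba <;> cases bb <;> simp only [f, Bool.false_eq_true, if_false, if_true, Subtype.mk.injEq] at e
      · rw [hab e]
      · exact absurd e.symm (hne _ _)
      · exact absurd e (hne _ _)
      · rw [hab (mul_right_cancel e)]
    · obtain ⟨i, hi | hi⟩ := h.cover x x.2
      · refine ⟨(⟨i % 2 ^ (n - 1), Nat.mod_lt _ hq0⟩, false), Subtype.ext ?_⟩
        simp only [f, Bool.false_eq_true, if_false, hi]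
        rw [h.pow_eq_pow, Nat.mod_mod]
      · refine ⟨(⟨i % 2 ^ (n - 1), Nat.mod_lt _ hq0⟩, true), Subtype.ext ?_⟩
        simp only [f, if_true, hi]
        congr 1
        rw [h.pow_eq_pow, Nat.mod_mod]
  have hn := h.hn
  rw [← Nat.card_eq_of_bijective f hb, Nat.card_prod, Nat.card_eq_fintype_card, Nat.card_eq_fintype_card,
    Fintype.card_fin, Fintype.card_bool, ← pow_succ]
  congr 1
  omega

/-- The central involution. -/
theorem Dih.orderJ (h : Dih P n σ τ) : orderOf (σ ^ (2 ^ (n - 2))) = 2 := by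
  obtain ⟨h1, h2⟩ := h.half
  rw [orderOf_pow, h.orderσ, Nat.gcd_eq_right ⟨2, by rw [h1, mul_comm]⟩, h1,
    Nat.mul_div_cancel _ (by positivity)]

theorem Dih.J_inv (h : Dih P n σ τ) : (σ ^ (2 ^ (n - 2)))⁻¹ = σ ^ (2 ^ (n - 2)) :=
  inv_eq_of_mul_eq_one_right (by
    have := pow_orderOf_eq_one (σ ^ (2 ^ (n - 2)))
    rwa [h.orderJ, pow_two] at this)

theorem Dih.J_comm (h : Dih P n σ τ) {x : G} (hx : x ∈ (P : Subgroup G)) :
    Commute (σ ^ (2 ^ (n - 2))) x := by
  have hτ : Commute (σ ^ (2 ^ (n - 2))) τ := by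
    show σ ^ (2 ^ (n - 2)) * τ = τ * σ ^ (2 ^ (n - 2))
    rw [h.τ_conj, h.J_inv]
  obtain ⟨i, rfl | rfl⟩ := h.cover x hx
  · exact Commute.pow_pow_self σ _ _
  · exact (Commute.pow_pow_self σ _ _).mul_right hτ

theorem Dih.eq_J_of_sq (h : Dih P n σ τ) {i : ℕ} (h2 : σ ^ i * σ ^ i = 1) (h1 : σ ^ i ≠ 1) :
    σ ^ i = σ ^ (2 ^ (n - 2)) := by
  obtain ⟨e1, e2⟩ := h.half
  rw [← pow_add, ← orderOf_dvd_iff_pow_eq_one, h.orderσ, e1, ← two_mul, Nat.mul_dvd_mul_iff_left two_pos] at h2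
  obtain ⟨k, rfl⟩ := h2
  rcases Nat.even_or_odd k with ⟨t, rfl⟩ | ⟨t, rfl⟩
  · exfalso
    apply h1
    rw [show 2 ^ (n - 2) * (t + t) = 2 ^ (n - 1) * t by rw [e1]; ring, pow_mul, ← h.orderσ,
      pow_orderOf_eq_one, one_pow]
  · rw [show 2 ^ (n - 2) * (2 * t + 1) = 2 ^ (n - 1) * t + 2 ^ (n - 2) by rw [e1]; ring, pow_add, pow_mul,
      ← h.orderσ, pow_orderOf_eq_one, one_pow, one_mul]

theorem Dih.centralizer_inf (h : Dih P n σ τ) {a : ℕ} (h2 : σ ^ a * σ ^ a ≠ 1) {x : G}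
    (hx : x ∈ (P : Subgroup G)) (hc : Commute (σ ^ a) x) : ∃ i : ℕ, x = σ ^ i := by
  obtain ⟨i, hi | hi⟩ := h.cover x hx
  · exact ⟨i, hi⟩
  · exfalso
    have : Commute (σ ^ a) τ := by
      have := ((Commute.pow_pow_self σ a i).inv_right).mul_right hc
      rwa [hi, inv_mul_cancel_left] at this
    apply h2
    nth_rw 2 [← mul_inv_eq_iff_eq_mul.2 this.symm.eq]
    rw [h.refl_inv, mul_inv_cancel]

theorem pow_orderOf_of_mem {x : G} (hx : x ∈ (P : Subgroup G)) : ∃ k : ℕ, orderOf x = 2 ^ k := by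
  haveI : Fact (Nat.Prime 2) := ⟨Nat.prime_two⟩
  exact AbTI.pow_orderOf_of_mem hx

theorem Dih.no_sylow_centralizes (h : Dih P n σ τ) {x : G} (hxJ : x * x ≠ 1) (Q : Sylow 2 G)
    (hx : x ∈ (Q : Subgroup G)) : ¬ ∀ z ∈ (Q : Subgroup G), Commute x z := by
  haveI : Fact (Nat.Prime 2) := ⟨Nat.prime_two⟩
  intro hall
  obtain ⟨d, rfl⟩ := MulAction.exists_smul_eq G P Q
  obtain ⟨r, hr, hrx⟩ := hx
  have hrx' : d * r * d⁻¹ = x := hrx
  obtain ⟨i, hi | hi⟩ := h.cover r hr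
  · refine hxJ ?_
    have hτ : Commute x (d * τ * d⁻¹) := hall _ ⟨τ, h.memτ, rfl⟩
    rw [← hrx'] at hτ
    have hc := (Commute.conj_iff d).1 hτ
    rw [hi] at hc
    have h2 : σ ^ i * σ ^ i = 1 := by
      nth_rw 2 [← mul_inv_eq_iff_eq_mul.2 hc.symm.eq]
      rw [h.refl_inv, mul_inv_cancel]
    rw [← hrx', hi, show d * σ ^ i * d⁻¹ * (d * σ ^ i * d⁻¹) = d * (σ ^ i * σ ^ i) * d⁻¹ by group, h2,
      mul_one, mul_inv_cancel]
  · exact hxJ (by
      rw [← hrx', show d * r * d⁻¹ * (d * r * d⁻¹) = d * (r * r) * d⁻¹ by group, hi, h.refl_sq, mul_one,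
        mul_inv_cancel])

/-- The centraliser of a rotation of order at least four has Sylow 2-subgroup `⟨σ⟩`. -/
theorem Dih.sylow_centralizer (h : Dih P n σ τ) {a : ℕ} (h2 : σ ^ a * σ ^ a ≠ 1) :
    ∃ R : Sylow 2 (Subgroup.centralizer ({σ ^ a} : Set G)),
      (R : Subgroup (Subgroup.centralizer ({σ ^ a} : Set G))).map (Subgroup.centralizer ({σ ^ a} : Set G)).subtype =
        Subgroup.zpowers σ := by
  haveI : Fact (Nat.Prime 2) := ⟨Nat.prime_two⟩
  set C := Subgroup.centralizer ({σ ^ a} : Set G) with hC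
  have hσC : Subgroup.zpowers σ ≤ C := Subgroup.zpowers_le.2 (mem_centralizer_singleton.2 (Commute.pow_self σ a))
  have hp : IsPGroup 2 ((Subgroup.zpowers σ).subgroupOf C) := by
    refine IsPGroup.of_card (n := n - 1) ?_
    rw [Nat.card_congr (Subgroup.subgroupOfEquivOfLe hσC).toEquiv, Nat.card_zpowers, h.orderσ]
  obtain ⟨R, hR⟩ := hp.exists_le_sylow
  refine ⟨R, ?_⟩
  set R' := (R : Subgroup C).map C.subtype with hR'
  have hle : Subgroup.zpowers σ ≤ R' := fun x hx => ⟨⟨x, hσC hx⟩, hR hx, rfl⟩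
  obtain ⟨Q, hQ⟩ := ((R.isPGroup').map C.subtype).exists_le_sylow
  have hQn : Nat.card Q = 2 ^ n := by rw [← h.card]; exact Nat.card_congr (Q.equiv P).toEquiv
  have hd : Nat.card R' ∣ 2 ^ n := hQn ▸ Subgroup.card_dvd_of_le hQ
  have hd' : 2 ^ (n - 1) ∣ Nat.card R' := by
    rw [← h.orderσ, ← Nat.card_zpowers]; exact Subgroup.card_dvd_of_le hle
  obtain ⟨j, hj, hje⟩ := (Nat.dvd_prime_pow Nat.prime_two).1 hd
  rw [hje, Nat.pow_dvd_pow_iff_le_right (by norm_num)] at hd'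
  rcases Nat.lt_or_ge j n with hlt | hge
  · refine (Subgroup.eq_of_le_of_card_ge hle ?_).symm
    rw [hje, Nat.card_zpowers, h.orderσ, show j = n - 1 by omega]
  · exfalso
    have hRQ : R' = (Q : Subgroup G) := Subgroup.eq_of_le_of_card_ge hQ (by
      rw [hje, show j = n by omega]; exact hQn.le)
    refine h.no_sylow_centralizes h2 Q (hRQ ▸ hle (Subgroup.pow_mem _ (Subgroup.mem_zpowers σ) a)) fun z hz => ?_
    rw [← hRQ] at hz
    obtain ⟨⟨z', hz'⟩, -, rfl⟩ := hz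
    exact mem_centralizer_singleton.1 hz'

theorem Dih.npc_centralizer (h : Dih P n σ τ) {a : ℕ} (h2 : σ ^ a * σ ^ a ≠ 1) :
    (∃ k : ℕ, (pPrimeCore 2 (Subgroup.centralizer ({σ ^ a} : Set G))).index = 2 ^ k) ∧
      2 ^ (Nat.card (Subgroup.centralizer ({σ ^ a} : Set G))).factorization 2 = 2 ^ (n - 1) := by
  haveI : Fact (Nat.Prime 2) := ⟨Nat.prime_two⟩
  obtain ⟨R, hR⟩ := h.sylow_centralizer h2
  have hcard : Nat.card R = 2 ^ (n - 1) := by
    rw [← h.orderσ, ← Nat.card_zpowers, ← hR]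
    exact Nat.card_congr (Subgroup.equivMapOfInjective _ _ (Subgroup.subtype_injective _)).toEquiv
  refine ⟨?_, by rw [← R.card_eq_multiplicity, hcard]⟩
  have hcyc : IsCyclic (R : Subgroup (Subgroup.centralizer ({σ ^ a} : Set G))) := by
    haveI : IsCyclic ((R : Subgroup (Subgroup.centralizer ({σ ^ a} : Set G))).map
        (Subgroup.centralizer ({σ ^ a} : Set G)).subtype) := by rw [hR]; infer_instance
    exact (Subgroup.equivMapOfInjective _ _ (Subgroup.subtype_injective _)).isCyclic.2 this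
  have heven : 2 ∣ Nat.card (Subgroup.centralizer ({σ ^ a} : Set G)) := by
    refine dvd_trans ?_ (Subgroup.card_subgroup_dvd_card (R : Subgroup _))
    rw [hcard]
    exact dvd_pow_self 2 (by have := h.hn; omega)
  exact Solv.hasNormalPComplement_iff_index.mp ⟨R, _, inferInstance,
    hcyc.isComplement' ((Nat.minFac_eq_two_iff _).2 heven)⟩

/-- Fusion of rotations of order at least four. -/
theorem Dih.fusion (h : Dih P n σ τ) {a b : ℕ} (h2 : σ ^ a * σ ^ a ≠ 1) {g : G}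
    (hg : g * σ ^ a * g⁻¹ = σ ^ b) : σ ^ b = σ ^ a ∨ σ ^ b = (σ ^ a)⁻¹ := by
  haveI : Fact (Nat.Prime 2) := ⟨Nat.prime_two⟩
  have hb2 : σ ^ b * σ ^ b ≠ 1 := fun e => h2 (by
    rw [← hg, show g * σ ^ a * g⁻¹ * (g * σ ^ a * g⁻¹) = g * (σ ^ a * σ ^ a) * g⁻¹ by group] at e
    exact conj_eq_one_iff.1 e)
  obtain ⟨Rb, hRb⟩ := h.sylow_centralizer hb2
  let C := Subgroup.centralizer ({σ ^ b} : Set G)
  have hgC : ∀ x ∈ Subgroup.zpowers σ, g * x * g⁻¹ ∈ C := fun x hx => by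
    obtain ⟨i, rfl⟩ := Subgroup.mem_zpowers_iff.1 hx
    refine mem_centralizer_singleton.2 ?_
    rw [← hg]
    exact (Commute.conj_iff g).2 (((Commute.refl σ).pow_left a).zpow_right i)
  let S : Subgroup C := ((Subgroup.zpowers σ).map (MulAut.conj g).toMonoidHom).subgroupOf C
  have hSle : (Subgroup.zpowers σ).map (MulAut.conj g).toMonoidHom ≤ C := by
    rintro _ ⟨x, hx, rfl⟩; exact hgC x hx
  have hScard : Nat.card S = 2 ^ (n - 1) := by
    rw [Nat.card_congr (Subgroup.subgroupOfEquivOfLe hSle).toEquiv, ← Nat.card_congr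
      (Subgroup.equivMapOfInjective _ _ (MulAut.conj g).injective).toEquiv, Nat.card_zpowers, h.orderσ]
  obtain ⟨R₁, hR₁⟩ := (IsPGroup.of_card (n := n - 1) hScard : IsPGroup 2 S).exists_le_sylow
  have hRcard : ∀ R : Sylow 2 C, Nat.card R = 2 ^ (n - 1) := fun R => by
    rw [Nat.card_congr (R.equiv Rb).toEquiv, ← h.orderσ, ← Nat.card_zpowers, ← hRb]
    exact Nat.card_congr (Subgroup.equivMapOfInjective _ _ (Subgroup.subtype_injective _)).toEquiv
  have hS : S = (R₁ : Subgroup C) := Subgroup.eq_of_le_of_card_ge hR₁ (by rw [hScard]; exact (hRcard R₁).le)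
  obtain ⟨c, hc⟩ := MulAction.exists_smul_eq C R₁ Rb
  set w := (c : G) * g with hw
  have hwx : w * σ ^ a * w⁻¹ = σ ^ b := by
    rw [hw, mul_inv_rev, show (c : G) * g * σ ^ a * (g⁻¹ * (c : G)⁻¹) = (c : G) * (g * σ ^ a * g⁻¹) * (c : G)⁻¹ by group,
      hg, ← (mem_centralizer_singleton.1 c.2).eq, mul_inv_cancel_right]
  have hmap : ∀ x ∈ Subgroup.zpowers σ, w * x * w⁻¹ ∈ Subgroup.zpowers σ := fun x hx => by
    have h1 : (⟨g * x * g⁻¹, hgC x hx⟩ : C) ∈ (R₁ : Subgroup C) := by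
      rw [← hS]; exact ⟨x, hx, rfl⟩
    have h2 : c * ⟨g * x * g⁻¹, hgC x hx⟩ * c⁻¹ ∈ (Rb : Subgroup C) := by
      rw [← hc]; exact ⟨_, h1, rfl⟩
    rw [← hRb]
    exact ⟨_, h2, by simp [hw, mul_assoc]⟩
  have hwN : w ∈ Subgroup.normalizer ((Subgroup.zpowers σ : Subgroup G) : Set G) := by
    refine Subgroup.mem_normalizer_iff.2 fun x => ⟨hmap x, fun hx => ?_⟩
    obtain ⟨y, hy⟩ := ((Finite.injective_iff_surjective
      (f := fun z : Subgroup.zpowers σ => (⟨w * z * w⁻¹, hmap z z.2⟩ : Subgroup.zpowers σ))).1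
      (fun u v e => Subtype.ext (mul_left_cancel (mul_right_cancel (congrArg Subtype.val e))))) ⟨_, hx⟩
    exact mul_left_cancel (mul_right_cancel (congrArg Subtype.val hy)) ▸ y.2
  set N := Subgroup.normalizer ((Subgroup.zpowers σ : Subgroup G) : Set G) with hN
  have hPN : (P : Subgroup G) ≤ N := by
    have hfwd : ∀ x ∈ (P : Subgroup G), ∀ y ∈ Subgroup.zpowers σ, x * y * x⁻¹ ∈ Subgroup.zpowers σ := by
      intro x hx y hy
      obtain ⟨k, rfl⟩ := Subgroup.mem_zpowers_iff.1 hy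
      obtain ⟨i, rfl | rfl⟩ := h.cover x hx
      · rw [((Commute.refl σ).pow_left i).zpow_right k |>.eq, mul_inv_cancel_right]
        exact Subgroup.zpow_mem _ (Subgroup.mem_zpowers σ) k
      · rw [show σ ^ i * τ * σ ^ k * (σ ^ i * τ)⁻¹ = σ ^ i * (τ * σ ^ k * τ⁻¹) * (σ ^ i)⁻¹ by group,
          ← conj_zpow, h.rel, inv_zpow, (((Commute.refl σ).pow_left i).zpow_right k).inv_right.eq,
          mul_inv_cancel_right]
        exact Subgroup.inv_mem _ (Subgroup.zpow_mem _ (Subgroup.mem_zpowers σ) k)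
    intro x hx
    refine Subgroup.mem_normalizer_iff.2 fun y => ⟨hfwd x hx y, fun hy => ?_⟩
    have := hfwd x⁻¹ ((P : Subgroup G).inv_mem hx) _ hy
    simpa [mul_assoc] using this
  let φ := (Subgroup.zpowers σ).normalizerMonoidHom
  haveI hKn : φ.ker.Normal := inferInstance
  let P' : Subgroup N := (P : Subgroup G).subgroupOf N
  have htop : P' ⊔ φ.ker = ⊤ := by
    rw [← Subgroup.index_eq_one]
    obtain ⟨k, -, hk⟩ : ∃ k ≤ n - 1 - 1, φ.ker.index = 2 ^ k := by
      refine (Nat.dvd_prime_pow Nat.prime_two).1 ?_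
      rw [Subgroup.index_ker]
      refine (Subgroup.card_subgroup_dvd_card φ.range).trans ?_
      rw [IsCyclic.card_mulAut, Nat.card_zpowers, h.orderσ,
        Nat.totient_prime_pow Nat.prime_two (by have := h.hn; omega)]
      simp
    have h1 : (P' ⊔ φ.ker).index ∣ 2 ^ k := hk ▸ Subgroup.index_dvd_of_le le_sup_right
    have h2 : ¬ 2 ∣ (P' ⊔ φ.ker).index := fun hd => P.not_dvd_index
      ((hd.trans (Subgroup.index_dvd_of_le le_sup_left)).trans (by
        show (P : Subgroup G).relIndex N ∣ _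
        exact Subgroup.relIndex_dvd_index_of_le hPN))
    obtain ⟨j, -, hj⟩ := (Nat.dvd_prime_pow Nat.prime_two).1 h1
    rcases j with _ | j
    · rw [hj, pow_zero]
    · exact absurd (hj ▸ dvd_pow_self 2 j.succ_ne_zero) h2
  obtain ⟨x, hx, y, hy, hxy⟩ := Subgroup.mem_sup_of_normal_right.1 (htop ▸ Subgroup.mem_top (⟨w, hwN⟩ : N))
  have hyc : (y : G) * σ ^ a * (y : G)⁻¹ = σ ^ a := by
    have hy' : y ∈ (Subgroup.centralizer ((Subgroup.zpowers σ : Subgroup G) : Set G)).subgroupOf N := by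
      rw [← Subgroup.normalizerMonoidHom_ker]; exact hy
    rw [← (Subgroup.mem_centralizer_iff.1 (Subgroup.mem_subgroupOf.1 hy') _
      (Subgroup.pow_mem _ (Subgroup.mem_zpowers σ) a)), mul_inv_cancel_right]
  have e : (x : G) * σ ^ a * (x : G)⁻¹ = σ ^ b := by
    rw [← hwx, show w = (x : G) * (y : G) from (congrArg Subtype.val hxy).symm,
      show (x : G) * (y : G) * σ ^ a * ((x : G) * (y : G))⁻¹ = (x : G) * ((y : G) * σ ^ a * (y : G)⁻¹) * (x : G)⁻¹ by group,
      hyc]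
  obtain ⟨i, hi | hi⟩ := h.cover (x : G) hx
  · left
    rw [← e, hi, (Commute.pow_pow_self σ i a).eq, mul_inv_cancel_right]
  · right
    rw [← e, hi, show σ ^ i * τ * σ ^ a * (σ ^ i * τ)⁻¹ = σ ^ i * (τ * σ ^ a * τ⁻¹) * (σ ^ i)⁻¹ by group,
      h.refl_inv, (Commute.pow_pow_self σ i a).inv_right.eq, mul_inv_cancel_right]

/-- The centraliser of the central involution has a normal 2-complement. -/
theorem Dih.npc_J (h : Dih P n σ τ) :
    (∃ k : ℕ, (pPrimeCore 2 (Subgroup.centralizer ({σ ^ (2 ^ (n - 2))} : Set G))).index = 2 ^ k) ∧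
      2 ^ (Nat.card (Subgroup.centralizer ({σ ^ (2 ^ (n - 2))} : Set G))).factorization 2 = 2 ^ n := by
  haveI : Fact (Nat.Prime 2) := ⟨Nat.prime_two⟩
  set J := σ ^ (2 ^ (n - 2)) with hJ
  set C := Subgroup.centralizer ({J} : Set G) with hC
  have hPC : (P : Subgroup G) ≤ C := fun x hx => mem_centralizer_singleton.2 (h.J_comm hx)
  refine ⟨?_, ?_⟩
  swap
  · rw [← (P.subtype hPC).card_eq_multiplicity, ← h.card]
    exact Nat.card_congr (Subgroup.subgroupOfEquivOfLe hPC).toEquiv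
  refine Solv.hasNormalPComplement_iff_index.mp (Solv.FrobeniusCond.hasNormalPComplement ?_)
  intro Q hQ g hg hgo
  rw [Subgroup.mem_centralizer_iff]
  intro q hq
  let J' : C := ⟨J, hPC ((P : Subgroup G).pow_mem h.memσ _)⟩
  have hJZ : ∀ z : C, Commute J' z := fun z => Subtype.ext (mem_centralizer_singleton.1 z.2).eq
  set R : Subgroup C := Q ⊔ Subgroup.zpowers J' with hR
  have hJn : (Subgroup.zpowers J') ≤ Subgroup.normalizer ((Q : Subgroup C) : Set C) := by
    rw [Subgroup.zpowers_le]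
    exact Subgroup.mem_normalizer_iff.2 fun z => by rw [(hJZ z).eq, mul_inv_cancel_right]
  have hRp : IsPGroup 2 R := hQ.to_sup_of_normal_left'
    (IsPGroup.of_card (n := 1) (by
      rw [Nat.card_zpowers, ← Subgroup.orderOf_coe, show ((J' : C) : G) = J from rfl, h.orderJ, pow_one])) hJn
  obtain ⟨S, hS⟩ := hRp.exists_le_sylow
  obtain ⟨d, rfl⟩ := MulAction.exists_smul_eq C (P.subtype hPC) S
  set g' : C := d⁻¹ * g * d with hg'
  have hodd : Odd (orderOf g') := by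
    rw [hg', show d⁻¹ * g * d = MulAut.conj d⁻¹ g by simp, MulEquiv.orderOf_eq]
    exact Nat.coprime_two_right.mp hgo
  have hin : ∀ z ∈ R, ((d⁻¹ * z * d : C) : G) ∈ (P : Subgroup G) := fun z hz => by
    obtain ⟨r, hr, hrz⟩ := hS hz
    have : d * r * d⁻¹ = z := hrz
    rw [← this, show d⁻¹ * (d * r * d⁻¹) * d = r by group]
    exact hr
  have hgR : ∀ z ∈ R, g * z * g⁻¹ ∈ R := by
    intro z hz
    have hle : R ≤ R.comap (MulAut.conj g).toMonoidHom := by
      rw [hR]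
      refine sup_le (fun x hx => ?_) ?_
      · exact Subgroup.mem_sup_left ((Subgroup.mem_normalizer_iff.1 hg x).1 hx)
      · rw [Subgroup.zpowers_le]
        show g * J' * g⁻¹ ∈ Q ⊔ Subgroup.zpowers J'
        rw [(hJZ g).symm.eq, mul_inv_cancel_right]
        exact Subgroup.mem_sup_right (Subgroup.mem_zpowers J')
    exact hle hz
  have hstep : ∀ z ∈ R, g' * (d⁻¹ * z * d) * g'⁻¹ = d⁻¹ * (g * z * g⁻¹) * d := fun z _ => by
    rw [hg']; group
  have hrot : ∀ z ∈ R, (∃ i : ℕ, ((d⁻¹ * z * d : C) : G) = σ ^ i) →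
      g' * (d⁻¹ * z * d) * g'⁻¹ = d⁻¹ * z * d := by
    rintro z hz ⟨i, hi⟩
    apply Subtype.ext
    push_cast at hi ⊢
    rw [hi]
    by_cases h2 : σ ^ i * σ ^ i = 1
    · by_cases h1 : σ ^ i = 1
      · rw [h1, mul_one, mul_inv_cancel]
      · rw [h.eq_J_of_sq h2 h1, ← hJ, ← (mem_centralizer_singleton.1 g'.2).eq, mul_inv_cancel_right]
    · have him : (g' : G) * σ ^ i * (g' : G)⁻¹ ∈ (P : Subgroup G) := by
        have h3 := hin _ (hgR z hz)
        rw [← hstep z hz] at h3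
        push_cast at h3
        rwa [hi] at h3
      obtain ⟨j, hj | hj⟩ := h.cover _ him
      · rcases h.fusion h2 hj with e | e
        · rw [hj, e]
        · rw [e] at hj
          have hsq : Commute ((g' : G) ^ 2) (σ ^ i) := by
            refine mul_inv_eq_iff_eq_mul.1 ?_
            rw [pow_two, show (g' : G) * g' * σ ^ i * ((g' : G) * g')⁻¹ = g' * (g' * σ ^ i * (g' : G)⁻¹) * (g' : G)⁻¹ by group,
              hj, ← conj_inv, hj, inv_inv]
          obtain ⟨k, hk⟩ := hodd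
          have h1 := hsq.pow_left (k + 1)
          rw [← pow_mul, show 2 * (k + 1) = orderOf g' + 1 by omega, pow_succ, ← Subgroup.orderOf_coe,
            pow_orderOf_eq_one, one_mul] at h1
          rw [h1.eq, mul_inv_cancel_right]
      · exfalso
        apply h2
        have e := h.refl_sq j
        rw [← hj, show (g' : G) * σ ^ i * (g' : G)⁻¹ * (g' * σ ^ i * (g' : G)⁻¹) = g' * (σ ^ i * σ ^ i) * (g' : G)⁻¹ by group] at e
        exact conj_eq_one_iff.1 e
  suffices hfix : g' * (d⁻¹ * q * d) * g'⁻¹ = d⁻¹ * q * d by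
    rw [hstep q (Subgroup.mem_sup_left hq)] at hfix
    exact (mul_inv_eq_iff_eq_mul.1 (mul_left_cancel (mul_right_cancel hfix))).symm
  have hqR : q ∈ R := Subgroup.mem_sup_left hq
  set u := d⁻¹ * q * d with hu
  obtain ⟨i, hi | hi⟩ := h.cover _ (hin q hqR)
  · exact hrot q hqR ⟨i, hi⟩
  -- a reflection
  set q' := g * q * g⁻¹ with hq'
  have hq'R : q' ∈ R := hgR q hqR
  obtain ⟨j, hj | hj⟩ := h.cover _ (hin q' hq'R)
  · have h1 := hrot q' hq'R ⟨j, hj⟩
    rw [hq', ← hstep q hqR, ← hu] at h1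
    exact mul_left_cancel (mul_right_cancel h1)
  have hzR : q' * q⁻¹ ∈ R := R.mul_mem hq'R (R.inv_mem hqR)
  have hzσ : ∃ k : ℕ, ((d⁻¹ * (q' * q⁻¹) * d : C) : G) = σ ^ k := by
    have hmem : ((d⁻¹ * (q' * q⁻¹) * d : C) : G) ∈ Subgroup.zpowers σ := by
      rw [show d⁻¹ * (q' * q⁻¹) * d = (d⁻¹ * q' * d) * (d⁻¹ * q * d)⁻¹ by group, Subgroup.coe_mul,
        Subgroup.coe_inv, hj, ← hu, hi, mul_inv_rev, mul_assoc (σ ^ j), ← mul_assoc τ, mul_inv_cancel, one_mul]
      exact Subgroup.mul_mem _ (Subgroup.pow_mem _ (Subgroup.mem_zpowers σ) j)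
        (Subgroup.inv_mem _ (Subgroup.pow_mem _ (Subgroup.mem_zpowers σ) i))
    obtain ⟨k, -, hk⟩ := (IsOfFinOrder.mem_zpowers_iff_mem_range_orderOf (isOfFinOrder_of_finite σ)).1 hmem
      |> Finset.mem_image.1
    exact ⟨k, hk.symm⟩
  have hfix1 := hrot _ hzR hzσ
  set z := d⁻¹ * (q' * q⁻¹) * d with hz
  have hzu : g' * u * g'⁻¹ = z * u := by
    rw [hz, hu, hg', hq']; group
  have hiter : ∀ m : ℕ, g' ^ m * u * (g' ^ m)⁻¹ = z ^ m * u := by
    intro m
    induction m with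
    | zero => simp
    | succ m ih =>
      rw [pow_succ', show g' * g' ^ m * u * (g' * g' ^ m)⁻¹ = g' * (g' ^ m * u * (g' ^ m)⁻¹) * g'⁻¹ by group, ih,
        show g' * (z ^ m * u) * g'⁻¹ = (g' * z ^ m * g'⁻¹) * (g' * u * g'⁻¹) by group, ← conj_pow, hfix1, hzu,
        ← mul_assoc, ← pow_succ]
  have hm := hiter (orderOf g')
  rw [pow_orderOf_eq_one, one_mul, inv_one, mul_one, right_eq_mul] at hm
  obtain ⟨k, hk⟩ := hzσ
  have hz2 : ∃ e, orderOf z = 2 ^ e := by
    rw [← Subgroup.orderOf_coe, hk]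
    exact pow_orderOf_of_mem ((P : Subgroup G).pow_mem h.memσ k)
  obtain ⟨e, he⟩ := hz2
  have hd := orderOf_dvd_of_pow_eq_one hm
  rw [he] at hd
  have hz1 : z = 1 := by
    rcases e with _ | e
    · exact orderOf_eq_one_iff.1 (he.trans (pow_zero 2))
    · exact absurd ((dvd_pow_self 2 e.succ_ne_zero).trans hd) hodd.not_two_dvd_nat
  rw [hzu, hz1, one_mul]

theorem Dih.kernel (h : Dih P n σ τ) (hM : IsPModular 2 M) {a b : ℕ} (ha : σ ^ a ≠ 1) :
    blockKernel (principalBlock M G) (σ ^ a) (σ ^ b) =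
      (2 ^ (n - 1) : ℂ) * ((if σ ^ b = σ ^ a then 1 else 0) + (if σ ^ b = (σ ^ a)⁻¹ then 1 else 0)) := by
  haveI : Fact (Nat.Prime 2) := ⟨Nat.prime_two⟩
  have hka := pow_orderOf_of_mem ((P : Subgroup G).pow_mem h.memσ a)
  have hkb := pow_orderOf_of_mem ((P : Subgroup G).pow_mem h.memσ b)
  have hB : IsPBlock M (principalBlock M G) := ⟨⟨fun _ => 1, isIrrCharacter_one⟩, rfl⟩
  have h0 : ¬ IsConj (σ ^ a) (σ ^ b) → blockKernel (principalBlock M G) (σ ^ a) (σ ^ b) = 0 := fun hne =>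
    blockKernel_eq_zero_of_sections hM (isPPart_self hM.1 hka) (isPPart_self hM.1 hkb) hne hB
  have hself : ∀ c, IsConj (σ ^ a) (σ ^ c) → blockKernel (principalBlock M G) (σ ^ a) (σ ^ c) =
      blockKernel (principalBlock M G) (σ ^ a) (σ ^ a) := fun c hc => by
    simp only [blockKernel]
    exact finsum_mem_congr rfl fun χ _ => by rw [IsIrrCharacter.apply_isConj χ.2 hc.symm]
  have hconjinv : IsConj (σ ^ a) (σ ^ a)⁻¹ := isConj_iff.2 ⟨τ, h.refl_inv a⟩
  by_cases h2 : σ ^ a * σ ^ a = 1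
  · have hinv : (σ ^ a)⁻¹ = σ ^ a := inv_eq_of_mul_eq_one_right h2
    rw [hinv]
    split_ifs with hb
    · rw [hb, h.eq_J_of_sq h2 ha, kernel_self_of_npc hM ⟨1, by rw [h.orderJ, pow_one]⟩ h.npc_J.1, h.npc_J.2,
        show n = n - 1 + 1 by have := h.hn; omega]
      simp only [add_tsub_cancel_right]
      push_cast
      ring
    · rw [h0 fun hc => hb ?_, add_zero, mul_zero]
      obtain ⟨g, hg⟩ := isConj_iff.1 hc
      have hb2 : σ ^ b * σ ^ b = 1 := by
        rw [← hg, show g * σ ^ a * g⁻¹ * (g * σ ^ a * g⁻¹) = g * (σ ^ a * σ ^ a) * g⁻¹ by group, h2, mul_one, mul_inv_cancel]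
      have hb1 : σ ^ b ≠ 1 := fun e => ha (conj_eq_one_iff.1 (hg.trans e))
      rw [h.eq_J_of_sq hb2 hb1, h.eq_J_of_sq h2 ha]
  · have hne : σ ^ a ≠ (σ ^ a)⁻¹ := fun e => h2 (by nth_rw 2 [e]; rw [mul_inv_cancel])
    have hval : blockKernel (principalBlock M G) (σ ^ a) (σ ^ a) = (2 ^ (n - 1) : ℂ) := by
      rw [kernel_self_of_npc hM hka (h.npc_centralizer h2).1, (h.npc_centralizer h2).2]
      push_cast; rfl
    by_cases e1 : σ ^ b = σ ^ a
    · rw [if_pos e1, if_neg (e1 ▸ hne), hself b (e1 ▸ IsConj.refl _), hval, add_zero, mul_one]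
    by_cases e2 : σ ^ b = (σ ^ a)⁻¹
    · rw [if_neg e1, if_pos e2, hself b (e2 ▸ hconjinv), hval, zero_add, mul_one]
    rw [if_neg e1, if_neg e2, h0 fun hc => ?_, add_zero, mul_zero]
    obtain ⟨g, hg⟩ := isConj_iff.1 hc
    rcases h.fusion h2 hg with e | e
    exacts [e1 e, e2 e]

theorem Dih.section_value (h : Dih P n σ τ) (hM : IsPModular 2 M) {χ : IrrCharacter G}
    (hχ : χ ∈ principalBlock M G) {a : ℕ} (ha : σ ^ a ≠ 1) {c : G} (hc : Commute (σ ^ a) c)
    (hco : ¬ 2 ∣ orderOf c) : (χ : G → ℂ) (σ ^ a * c) = (χ : G → ℂ) (σ ^ a) := by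
  haveI : Fact (Nat.Prime 2) := ⟨Nat.prime_two⟩
  refine apply_section_of_npc hM (pow_orderOf_of_mem ((P : Subgroup G).pow_mem h.memσ a)) ?_ hχ hc hco
  by_cases h2 : σ ^ a * σ ^ a = 1
  · rw [h.eq_J_of_sq h2 ha]; exact h.npc_J.1
  · exact (h.npc_centralizer h2).1

section Combinatorics

variable {ι : Type*} {κ : Type*} [Fintype ι] [Fintype κ]

theorem unit_support (f : κ → ℤ) (h2 : ∑ x, f x * f x = 2) :
    ∃ (a b : κ) (ea eb : ℤ), a ≠ b ∧ (ea = 1 ∨ ea = -1) ∧ (eb = 1 ∨ eb = -1) ∧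
      ∀ x, f x = ea * (if x = a then 1 else 0) + eb * (if x = b then 1 else 0) := by
  have hb : ∀ x, f x = 1 ∨ f x = -1 ∨ f x = 0 := fun x => by
    have h := Finset.single_le_sum (fun y _ => mul_self_nonneg (f y)) (Finset.mem_univ x)
    rw [h2] at h
    have h1 : f x ≤ 1 := by nlinarith
    have h1' : -1 ≤ f x := by nlinarith
    omega
  have hcard : (Finset.univ.filter fun x => f x ≠ 0).card = 2 := by
    have e : ∀ x, f x * f x = if f x ≠ 0 then (1 : ℤ) else 0 := fun x => by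
      rcases hb x with h | h | h <;> simp [h]
    rw [Finset.sum_congr rfl fun x _ => e x, Finset.sum_boole] at h2
    exact_mod_cast h2
  obtain ⟨a, b, hab, hs⟩ := Finset.card_eq_two.1 hcard
  have hm : ∀ x, f x ≠ 0 ↔ x = a ∨ x = b := fun x => by
    have := Finset.ext_iff.1 hs x
    simpa using this
  refine ⟨a, b, f a, f b, hab, ?_, ?_, fun x => ?_⟩
  · have := (hm a).2 (Or.inl rfl); rcases hb a with h | h | h <;> [exact Or.inl h; exact Or.inr h; contradiction]
  · have := (hm b).2 (Or.inr rfl); rcases hb b with h | h | h <;> [exact Or.inl h; exact Or.inr h; contradiction]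
  · by_cases hxa : x = a
    · subst hxa; rw [if_pos rfl, if_neg hab, mul_one, mul_zero, add_zero]
    by_cases hxb : x = b
    · subst hxb; rw [if_neg hxa, if_pos rfl, mul_one, mul_zero, zero_add]
    rw [if_neg hxa, if_neg hxb, mul_zero, mul_zero, add_zero]
    by_contra hne
    exact ((hm x).1 hne).elim hxa hxb

theorem sum_signed (g : κ → ℤ) (a b : κ) (ea eb : ℤ) :
    ∑ x, g x * (ea * (if x = a then 1 else 0) + eb * (if x = b then 1 else 0)) = ea * g a + eb * g b := by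
  simp only [mul_add, mul_ite, mul_one, mul_zero, Finset.sum_add_distrib, Finset.sum_ite_eq',
    Finset.mem_univ, if_true, mul_comm]

/-- The integral solutions of the Gram equations of the dihedral columns. -/
theorem columns [Nonempty ι] (hι : Fintype.card ι ≠ 2) (deg : κ → ℤ) (hdeg : ∀ x, 0 < deg x)
    (u : κ → ι → ℤ) (s : κ → ℤ) (o : κ) (ho : deg o = 1)
    (hE : ∀ i k, ∑ x, u x i * u x k = (if i = k then 1 else 0) + 2) (hs : ∑ x, s x * s x = 4)
    (hus : ∀ i, ∑ x, u x i * s x = 2) (h0 : ∀ i, ∑ x, deg x * u x i = 0) (h0s : ∑ x, deg x * s x = 0)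
    (huo : ∀ i, u o i = -1) (hso : s o = -1) :
    ∃ (η : ι → κ) (x₁ x₂ x₃ : κ) (δ₁ δ₂ δ₃ : ℤ), (δ₁ = 1 ∨ δ₁ = -1) ∧ (δ₂ = 1 ∨ δ₂ = -1) ∧
      (δ₃ = 1 ∨ δ₃ = -1) ∧ Function.Injective η ∧ x₁ ≠ o ∧ x₂ ≠ o ∧ x₃ ≠ o ∧ x₁ ≠ x₂ ∧ x₁ ≠ x₃ ∧ x₂ ≠ x₃ ∧
      (∀ i, η i ≠ o ∧ η i ≠ x₁ ∧ η i ≠ x₂ ∧ η i ≠ x₃) ∧
      (∀ x i, u x i = -(if x = o then 1 else 0) - δ₁ * (if x = x₁ then 1 else 0) +
        δ₁ * (if x = η i then 1 else 0)) ∧
      ∀ x, s x = -(if x = o then 1 else 0) - δ₁ * (if x = x₁ then 1 else 0) -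
        δ₂ * (if x = x₂ then 1 else 0) - δ₃ * (if x = x₃ then 1 else 0) := by
  let f : κ → ι → ℤ := fun x i => u x i + if x = o then 1 else 0
  let g : κ → ℤ := fun x => s x + if x = o then 1 else 0
  have hfo : ∀ i, f o i = 0 := fun i => by simp [f, huo i]
  have hgo : g o = 0 := by simp [g, hso]
  have hff : ∀ i k, ∑ x, f x i * f x k = (if i = k then 1 else 0) + 1 := fun i k => by
    have e : ∀ x, f x i * f x k = u x i * u x k + (if x = o then u x i + u x k + 1 else 0) := fun x => by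
      simp only [f]; split_ifs <;> ring
    rw [Finset.sum_congr rfl fun x _ => e x, Finset.sum_add_distrib, hE, Finset.sum_ite_eq',
      if_pos (Finset.mem_univ _), huo, huo]
    ring
  have hfg : ∀ i, ∑ x, g x * f x i = 1 := fun i => by
    have e : ∀ x, g x * f x i = u x i * s x + (if x = o then u x i + s x + 1 else 0) := fun x => by
      simp only [f, g]; split_ifs <;> ring
    rw [Finset.sum_congr rfl fun x _ => e x, Finset.sum_add_distrib, hus, Finset.sum_ite_eq',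
      if_pos (Finset.mem_univ _), huo, hso]
    ring
  have hgg : ∑ x, g x * g x = 3 := by
    have e : ∀ x, g x * g x = s x * s x + (if x = o then 2 * s x + 1 else 0) := fun x => by
      simp only [g]; split_ifs <;> ring
    rw [Finset.sum_congr rfl fun x _ => e x, Finset.sum_add_distrib, hs, Finset.sum_ite_eq',
      if_pos (Finset.mem_univ _), hso]
    ring
  have hf0 : ∀ i, ∑ x, deg x * f x i = 1 := fun i => by
    simp only [f, mul_add, mul_ite, mul_one, mul_zero, Finset.sum_add_distrib, h0, zero_add,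
      Finset.sum_ite_eq', Finset.mem_univ, if_true, ho]
  have hg0 : ∑ x, deg x * g x = 1 := by
    simp only [g, mul_add, mul_ite, mul_one, mul_zero, Finset.sum_add_distrib, h0s, zero_add,
      Finset.sum_ite_eq', Finset.mem_univ, if_true, ho]
  have hsplit : ∀ i, ∃ A B : κ, A ≠ B ∧
      ∀ x, f x i = (if x = A then 1 else 0) - (if x = B then 1 else 0) := fun i => by
    obtain ⟨a, b, ea, eb, hab, ha, hb, hx⟩ := unit_support (fun x => f x i) (by rw [hff, if_pos rfl]; rfl)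
    have hd := hf0 i
    rw [Finset.sum_congr rfl fun x _ => congrArg (deg x * ·) (hx x), sum_signed] at hd
    have := hdeg a
    have := hdeg b
    rcases ha with rfl | rfl <;> rcases hb with rfl | rfl
    · omega
    · exact ⟨a, b, hab, fun x => by rw [hx x]; ring⟩
    · exact ⟨b, a, hab.symm, fun x => by rw [hx x]; ring⟩
    · omega
  choose A B hAB hval using hsplit
  have hpair : ∀ i k, i ≠ k → (A i = A k ∧ B i ≠ B k) ∨ (B i = B k ∧ A i ≠ A k) := fun i k hik => by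
    refine AbTI.pair_type (hAB i) (hAB k) ?_
    have := hff i k
    rw [if_neg hik, zero_add] at this
    simp only [hval] at this
    exact this
  obtain ⟨i₀⟩ := (inferInstance : Nonempty ι)
  obtain ⟨δ, a, b, hδ, hb, hbinj, hv⟩ : ∃ (δ : ℤ) (a : κ) (b : ι → κ),
      (δ = 1 ∨ δ = -1) ∧ (∀ i, b i ≠ a) ∧ Function.Injective b ∧
      ∀ i x, f x i = δ * ((if x = b i then 1 else 0) - (if x = a then 1 else 0)) := by
    by_cases hA : ∀ j k, A j = A k
    · refine ⟨-1, A i₀, B, Or.inr rfl, fun j => hA j i₀ ▸ (hAB j).symm, fun j k e => ?_, fun j x => ?_⟩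
      · by_contra hne
        rcases hpair j k hne with h | h
        exacts [h.2 e, h.2 (hA j k)]
      · rw [hval j x, hA j i₀]; ring
    · obtain ⟨j, hj⟩ := not_forall.1 hA
      obtain ⟨k, hjk⟩ := not_forall.1 hj
      have hBjk : B j = B k := ((hpair j k fun e => hjk (e ▸ rfl)).resolve_left fun h => hjk h.1).1
      have hall : ∀ l, B l = B j := fun l => by
        by_cases hlj : l = j
        · rw [hlj]
        rcases hpair l j hlj with h | h
        · by_cases hlk : l = k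
          · rw [hlk, hBjk]
          rcases hpair l k hlk with h' | h'
          · exact absurd (h.1.symm.trans h'.1) hjk
          · rw [h'.1, hBjk]
        · exact h.1
      refine ⟨1, B j, A, Or.inl rfl, fun l => hall l ▸ hAB l, fun l l' e => ?_, fun l x => ?_⟩
      · by_contra hne
        rcases hpair l l' hne with h | h
        exacts [h.2 ((hall l).trans (hall l').symm), h.2 e]
      · rw [one_mul, ← hall l]; exact hval l x
  have hsq : δ * δ = 1 := by rcases hδ with rfl | rfl <;> norm_num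
  have hgab : ∀ i, g (b i) - g a = δ := fun i => by
    have h := hfg i
    have e : ∀ x, g x * f x i = g x * (δ * (if x = b i then 1 else 0) + (-δ) * (if x = a then 1 else 0)) :=
      fun x => by rw [hv i x]; ring
    rw [Finset.sum_congr rfl fun x _ => e x, sum_signed] at h
    linear_combination δ * h - (g (b i) - g a) * hsq
  -- normalise so that `g` is supported on the common character
  obtain ⟨δ₁, x₁, η, hδ₁, hη1, hηinj, hv', hg1, hgη⟩ : ∃ (δ₁ : ℤ) (x₁ : κ) (η : ι → κ),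
      (δ₁ = 1 ∨ δ₁ = -1) ∧ (∀ i, η i ≠ x₁) ∧ Function.Injective η ∧
      (∀ i x, f x i = δ₁ * ((if x = η i then 1 else 0) - (if x = x₁ then 1 else 0))) ∧
      g x₁ = -δ₁ ∧ ∀ i, g (η i) = 0 := by
    have hbd : ∀ x, g x ≤ 1 ∧ -1 ≤ g x := fun x => by
      have h := Finset.single_le_sum (fun y _ => mul_self_nonneg (g y)) (Finset.mem_univ x)
      rw [hgg] at h
      constructor <;> nlinarith
    by_cases hga : g a = 0
    · have hgb : ∀ i, g (b i) = δ := fun i => by rw [← hgab i, hga, sub_zero]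
      have hsum : (Fintype.card ι : ℤ) ≤ 3 := by
        rw [← hgg]
        calc (Fintype.card ι : ℤ) = ∑ i : ι, g (b i) * g (b i) := by simp [hgb, hsq]
          _ = ∑ x ∈ Finset.univ.map ⟨b, hbinj⟩, g x * g x := by rw [Finset.sum_map]; rfl
          _ ≤ _ := Finset.sum_le_univ_sum_of_nonneg fun x => mul_self_nonneg _
      have hc : Fintype.card ι = 1 := by
        by_contra h1
        have h3 : Fintype.card ι = 3 := by
          have := Fintype.card_pos (α := ι)
          omega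
        have hrest : ∀ x, x ∉ Finset.univ.map ⟨b, hbinj⟩ → g x = 0 := by
          intro x hx
          have hle : ∑ y ∈ insert x (Finset.univ.map ⟨b, hbinj⟩), g y * g y ≤ ∑ y, g y * g y :=
            Finset.sum_le_univ_sum_of_nonneg fun y => mul_self_nonneg _
          rw [Finset.sum_insert hx, hgg, Finset.sum_map] at hle
          simp only [Function.Embedding.coeFn_mk, hgb, hsq, Finset.sum_const, Finset.card_univ, h3,
            nsmul_eq_mul, mul_one, Nat.cast_ofNat] at hle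
          exact mul_self_eq_zero.1 (le_antisymm (by linarith) (mul_self_nonneg _))
        have hdd : ∀ i, deg (b i) - deg a = δ := fun i => by
          have h := hf0 i
          have e : ∀ x, deg x * f x i = deg x * (δ * (if x = b i then 1 else 0) + (-δ) * (if x = a then 1 else 0)) :=
            fun x => by rw [hv i x]; ring
          rw [Finset.sum_congr rfl fun x _ => e x, sum_signed] at h
          linear_combination δ * h - (deg (b i) - deg a) * hsq
        have h := hg0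
        rw [← Finset.sum_subset (Finset.subset_univ (Finset.univ.map ⟨b, hbinj⟩))
          (fun x _ hx => by rw [hrest x hx, mul_zero]), Finset.sum_map] at h
        simp only [Function.Embedding.coeFn_mk, hgb,
          show ∀ i, deg (b i) = deg a + δ from fun i => by linear_combination hdd i, Finset.sum_const,
          Finset.card_univ, h3, nsmul_eq_mul, Nat.cast_ofNat] at h
        rcases hδ with rfl | rfl <;> omega
      haveI : Subsingleton ι := Fintype.card_le_one_iff_subsingleton.1 hc.le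
      refine ⟨-δ, b i₀, fun _ => a, by rcases hδ with rfl | rfl <;> norm_num, fun _ => (hb i₀).symm,
        Function.injective_of_subsingleton _, fun i x => ?_, by rw [hgb, neg_neg], fun _ => hga⟩
      rw [hv i x, Subsingleton.elim i i₀]; ring
    · have hga' : g a = -δ := by
        have := hgab i₀
        have := hbd (b i₀)
        have := hbd a
        rcases hδ with rfl | rfl <;> omega
      exact ⟨δ, a, b, hδ, hb, hbinj, hv, hga', fun i => by
        have := hgab i; rw [hga'] at this; linarith⟩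
  have hsq₁ : δ₁ * δ₁ = 1 := by rcases hδ₁ with rfl | rfl <;> norm_num
  have hxo : x₁ ≠ o := fun e => by rw [e, hgo] at hg1; rcases hδ₁ with rfl | rfl <;> omega
  have hηo : ∀ i, η i ≠ o := fun i e => by
    have h := hv' i o
    rw [hfo, if_pos e.symm, if_neg fun e' => hη1 i (e.trans e')] at h
    rcases hδ₁ with rfl | rfl <;> omega
  let k : κ → ℤ := fun x => g x + δ₁ * if x = x₁ then 1 else 0
  have hkk : ∑ x, k x * k x = 2 := by
    have e : ∀ x, k x * k x = g x * g x + (if x = x₁ then 2 * δ₁ * g x + δ₁ * δ₁ else 0) := fun x => by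
      simp only [k]; split_ifs <;> ring
    rw [Finset.sum_congr rfl fun x _ => e x, Finset.sum_add_distrib, hgg, Finset.sum_ite_eq',
      if_pos (Finset.mem_univ _), hg1]
    linear_combination -hsq₁
  obtain ⟨x₂, x₃, e₂, e₃, h23, he₂, he₃, hk⟩ := unit_support k hkk
  have hne : ∀ x, (x = x₂ ∨ x = x₃) → k x ≠ 0 := by
    rintro x (rfl | rfl)
    · rw [hk, if_pos rfl, if_neg h23]; rcases he₂ with rfl | rfl <;> norm_num
    · rw [hk, if_neg h23.symm, if_pos rfl]; rcases he₃ with rfl | rfl <;> norm_num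
  have hk1 : k x₁ = 0 := by simp [k, hg1]
  have hko : k o = 0 := by simp [k, hgo, Ne.symm hxo]
  have hkη : ∀ i, k (η i) = 0 := fun i => by simp [k, hgη, hη1]
  refine ⟨η, x₁, x₂, x₃, δ₁, -e₂, -e₃, hδ₁, by omega, by omega, hηinj, hxo,
    fun e => hne _ (Or.inl rfl) (e ▸ hko), fun e => hne _ (Or.inr rfl) (e ▸ hko),
    fun e => hne _ (Or.inl rfl) (e ▸ hk1), fun e => hne _ (Or.inr rfl) (e ▸ hk1), h23,
    fun i => ⟨hηo i, hη1 i, fun e => hne _ (Or.inl rfl) (e ▸ hkη i), fun e => hne _ (Or.inr rfl) (e ▸ hkη i)⟩,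
    fun x i => ?_, fun x => ?_⟩
  · have h := hv' i x
    simp only [f] at h
    linear_combination h
  · have h := hk x
    simp only [k, g] at h
    linear_combination h

end Combinatorics

section Coefficients

variable {ζ : ℂ}

theorem sum_root {q : ℕ} (hζ : IsPrimitiveRoot ζ q) (a : ℕ) :
    ∑ l ∈ Finset.range q, ζ ^ (a * l) = if q ∣ a then (q : ℂ) else 0 := by
  simp only [pow_mul]
  split_ifs with h
  · simp [(hζ.pow_eq_one_iff_dvd a).2 h]
  · rw [geom_sum_eq fun e => h ((hζ.pow_eq_one_iff_dvd a).1 e), ← pow_mul, mul_comm, pow_mul,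
      hζ.pow_eq_one, one_pow, sub_self, zero_div]

theorem conj_pow_root {q : ℕ} (hq : q ≠ 0) (hζ : IsPrimitiveRoot ζ q) (a : ℕ) :
    conj (ζ ^ a) = (ζ ^ a)⁻¹ :=
  (Complex.inv_eq_conj (by rw [norm_pow, hζ.norm'_eq_one hq, one_pow])).symm

theorem pow_sub_mul {q j : ℕ} (hζ : IsPrimitiveRoot ζ q) (hj : j ≤ q) (l : ℕ) :
    ζ ^ ((q - j) * l) = (ζ ^ (j * l))⁻¹ := by
  refine eq_inv_of_mul_eq_one_left ?_
  rw [← pow_add, ← add_mul, Nat.sub_add_cancel hj, pow_mul, hζ.pow_eq_one, one_pow]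

theorem conj_root_sub {q j : ℕ} (hq : q ≠ 0) (hζ : IsPrimitiveRoot ζ q) (hj : j ≤ q) (l : ℕ) :
    conj (ζ ^ (j * l) - 1) = ζ ^ ((q - j) * l) - 1 := by
  rw [map_sub, map_one, conj_pow_root hq hζ, pow_sub_mul hζ hj]

/-- The coefficient of the linear character `j` of `⟨σ⟩` minus that of the trivial one. -/
noncomputable def cf (σ : G) (ζ : ℂ) (χ : IrrCharacter G) (j : ℕ) : ℤ :=
  if h : ∃ c : ℤ, (orderOf σ : ℂ) * c =
      ∑ l ∈ Finset.range (orderOf σ), (χ : G → ℂ) (σ ^ l) * (ζ ^ (j * l) - 1) then h.choose else 0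

theorem exists_cf (σ : G) {ζ : ℂ} (hζ : IsPrimitiveRoot ζ (orderOf σ)) (χ : IrrCharacter G) (j : ℕ) :
    ∃ c : ℤ, (orderOf σ : ℂ) * c =
      ∑ l ∈ Finset.range (orderOf σ), (χ : G → ℂ) (σ ^ l) * (ζ ^ (j * l) - 1) := by
  haveI := Fintype.ofFinite (Subgroup.zpowers σ)
  have hq : orderOf σ ≠ 0 := (orderOf_pos σ).ne'
  have hmult : ∀ i : ℕ, ∃ a : ℕ, (orderOf σ : ℂ) * a =
      ∑ l ∈ Finset.range (orderOf σ), (χ : G → ℂ) (σ ^ l) * ζ ^ (i * l) := by
    intro i
    let u : ℂˣ := ((Units.mk0 ζ (hζ.ne_zero hq)) ^ i)⁻¹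
    have hu : orderOf u ∣ orderOf (⟨σ, Subgroup.mem_zpowers σ⟩ : Subgroup.zpowers σ) := by
      rw [Subgroup.orderOf_mk]
      refine orderOf_dvd_of_pow_eq_one (Units.ext ?_)
      simp [u]
      rw [← pow_mul, mul_comm, pow_mul, hζ.pow_eq_one, one_pow]
    let ψ : Subgroup.zpowers σ →* ℂˣ := monoidHomOfForallMemZpowers
      (g := (⟨σ, Subgroup.mem_zpowers σ⟩ : Subgroup.zpowers σ))
      (fun x => by
        obtain ⟨k, hk⟩ := Subgroup.mem_zpowers_iff.1 x.2
        exact Subgroup.mem_zpowers_iff.2 ⟨k, Subtype.ext (by push_cast; exact hk)⟩) hu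
    have hgen : ψ ⟨σ, Subgroup.mem_zpowers σ⟩ = u := monoidHomOfForallMemZpowers_apply_gen _ _
    have hψ : ∀ l : ℕ, (ψ (⟨σ, Subgroup.mem_zpowers σ⟩ ^ l) : ℂ) = (ζ ^ (i * l))⁻¹ := fun l => by
      rw [map_pow, hgen, Units.val_pow_eq_pow_val, Units.val_inv_eq_inv_val, Units.val_pow_eq_pow_val,
        Units.val_mk0, inv_pow, pow_mul]
    obtain ⟨a, ha⟩ := classInner_natCast_of_isCharacter
      (IsCharacter.restrict (IsIrrCharacter.isCharacter χ.2) (Subgroup.zpowers σ))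
      (IsIrrCharacter.isCharacter (isIrrCharacter_monoidHom ψ))
    refine ⟨a, ?_⟩
    rw [classInner, inv_mul_eq_iff_eq_mul₀ (Nat.cast_ne_zero.2 Nat.card_pos.ne'), Nat.card_zpowers] at ha
    rw [← ha, ← Fin.sum_univ_eq_sum_range fun l => (χ : G → ℂ) (σ ^ l) * ζ ^ (i * l)]
    refine (Fintype.sum_equiv (finEquivZPowers (isOfFinOrder_of_finite σ)) _ _ fun l => ?_).symm
    rw [show finEquivZPowers (isOfFinOrder_of_finite σ) l =
      (⟨σ, Subgroup.mem_zpowers σ⟩ : Subgroup.zpowers σ) ^ (l : ℕ) from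
        Subtype.ext (by simp [finEquivZPowers_apply]), hψ,
      map_inv₀, conj_pow_root hq hζ, inv_inv]
    rfl
  obtain ⟨a, ha⟩ := hmult j
  obtain ⟨b, hb⟩ := hmult 0
  refine ⟨(a : ℤ) - b, ?_⟩
  push_cast
  rw [mul_sub, ha, hb, ← Finset.sum_sub_distrib]
  simp [mul_sub]

theorem cf_spec (σ : G) {ζ : ℂ} (hζ : IsPrimitiveRoot ζ (orderOf σ)) (χ : IrrCharacter G) (j : ℕ) :
    (orderOf σ : ℂ) * cf σ ζ χ j =
      ∑ l ∈ Finset.range (orderOf σ), (χ : G → ℂ) (σ ^ l) * (ζ ^ (j * l) - 1) := by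
  rw [cf, dif_pos (exists_cf σ hζ χ j)]
  exact (exists_cf σ hζ χ j).choose_spec

theorem Dih.pow_inv (h : Dih P n σ τ) {l : ℕ} (hl : l ≤ 2 ^ (n - 1)) :
    σ ^ (2 ^ (n - 1) - l) = (σ ^ l)⁻¹ := by
  refine eq_inv_of_mul_eq_one_left ?_
  rw [← pow_add, Nat.sub_add_cancel hl, ← h.orderσ, pow_orderOf_eq_one]

theorem Dih.apply_inv (h : Dih P n σ τ) (χ : IrrCharacter G) (l : ℕ) :
    (χ : G → ℂ) (σ ^ l)⁻¹ = (χ : G → ℂ) (σ ^ l) :=
  IsIrrCharacter.apply_isConj χ.2 (isConj_iff.2 ⟨τ, h.refl_inv l⟩ : IsConj (σ ^ l) (σ ^ l)⁻¹).symm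

theorem Dih.conj_apply (h : Dih P n σ τ) (χ : IrrCharacter G) (l : ℕ) :
    conj ((χ : G → ℂ) (σ ^ l)) = (χ : G → ℂ) (σ ^ l) := by
  rw [← IsCharacter.map_inv (IsIrrCharacter.isCharacter χ.2), h.apply_inv]

theorem Dih.pow_ne_one (h : Dih P n σ τ) {l : ℕ} (h0 : 0 < l) (hl : l < 2 ^ (n - 1)) : σ ^ l ≠ 1 := by
  intro e
  have := Nat.le_of_dvd h0 (h.orderσ ▸ orderOf_dvd_of_pow_eq_one e)
  omega

theorem Dih.spec (h : Dih P n σ τ) (hζ : IsPrimitiveRoot ζ (2 ^ (n - 1))) (χ : IrrCharacter G) (j : ℕ) :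
    ((2 ^ (n - 1) : ℕ) : ℂ) * cf σ ζ χ j =
      ∑ l ∈ Finset.range (2 ^ (n - 1)), (χ : G → ℂ) (σ ^ l) * (ζ ^ (j * l) - 1) := by
  have := cf_spec σ (ζ := ζ) (by rwa [h.orderσ]) χ j
  rwa [h.orderσ] at this

theorem Dih.cf_symm (h : Dih P n σ τ) (hζ : IsPrimitiveRoot ζ (2 ^ (n - 1))) (χ : IrrCharacter G) {j : ℕ}
    (hj : j ≤ 2 ^ (n - 1)) : cf σ ζ χ (2 ^ (n - 1) - j) = cf σ ζ χ j := by
  have hq : (2 ^ (n - 1) : ℕ) ≠ 0 := by positivity
  refine Int.cast_injective (α := ℂ) (mul_left_cancel₀ (Nat.cast_ne_zero.2 hq) ?_)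
  rw [h.spec hζ]
  have e := congrArg conj (h.spec hζ χ j)
  rw [map_mul, Complex.conj_natCast, map_intCast, map_sum] at e
  rw [e]
  exact Finset.sum_congr rfl fun l _ => by rw [map_mul, h.conj_apply, conj_root_sub hq hζ hj]

theorem Dih.cf_zero (h : Dih P n σ τ) (hζ : IsPrimitiveRoot ζ (2 ^ (n - 1))) (χ : IrrCharacter G) :
    cf σ ζ χ 0 = 0 := by
  refine Int.cast_injective (α := ℂ) (mul_left_cancel₀ (Nat.cast_ne_zero.2 (by positivity : (2 ^ (n - 1) : ℕ) ≠ 0)) ?_)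
  rw [h.spec hζ]
  simp

theorem Dih.cf_one (h : Dih P n σ τ) (hζ : IsPrimitiveRoot ζ (2 ^ (n - 1))) {χ : IrrCharacter G}
    (hχ : (χ : G → ℂ) = fun _ => 1) {j : ℕ} (hj0 : 0 < j) (hj : j < 2 ^ (n - 1)) : cf σ ζ χ j = -1 := by
  refine Int.cast_injective (α := ℂ) (mul_left_cancel₀ (Nat.cast_ne_zero.2 (by positivity : (2 ^ (n - 1) : ℕ) ≠ 0)) ?_)
  rw [h.spec hζ, hχ]
  simp only [one_mul, Finset.sum_sub_distrib, sum_root hζ,
    if_neg fun hd => hj.not_ge (Nat.le_of_dvd hj0 hd), Finset.sum_const, Finset.card_range, nsmul_eq_mul]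
  push_cast
  ring

/-- Fourier inversion. -/
theorem Dih.apply_eq_sum (h : Dih P n σ τ) (hζ : IsPrimitiveRoot ζ (2 ^ (n - 1))) (χ : IrrCharacter G)
    {l : ℕ} (hl0 : 0 < l) (hl : l < 2 ^ (n - 1)) :
    (χ : G → ℂ) (σ ^ l) = ∑ j ∈ Finset.range (2 ^ (n - 1)), (cf σ ζ χ j : ℂ) * ζ ^ (j * l) := by
  set q := 2 ^ (n - 1) with hq
  refine mul_left_cancel₀ (Nat.cast_ne_zero.2 (by omega : q ≠ 0)) ?_
  rw [Finset.mul_sum, Finset.sum_congr rfl fun j _ => by
    rw [← mul_assoc, h.spec hζ, Finset.sum_mul], Finset.sum_comm]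
  have e : ∀ i ∈ Finset.range q,
      ∑ j ∈ Finset.range q, (χ : G → ℂ) (σ ^ i) * (ζ ^ (j * i) - 1) * ζ ^ (j * l) =
        if i = q - l then (q : ℂ) * (χ : G → ℂ) (σ ^ i) else 0 := by
    intro i hi
    rw [Finset.mem_range] at hi
    have e' : ∀ j : ℕ, (χ : G → ℂ) (σ ^ i) * (ζ ^ (j * i) - 1) * ζ ^ (j * l) =
        (χ : G → ℂ) (σ ^ i) * ζ ^ ((i + l) * j) - (χ : G → ℂ) (σ ^ i) * ζ ^ (l * j) := fun j => by
      rw [show (i + l) * j = j * i + j * l by ring, pow_add, mul_comm l j]; ring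
    rw [Finset.sum_congr rfl fun j _ => e' j, Finset.sum_sub_distrib, ← Finset.mul_sum, ← Finset.mul_sum,
      sum_root hζ, sum_root hζ, if_neg fun hd : q ∣ l => hl.not_ge (Nat.le_of_dvd hl0 hd), mul_zero, sub_zero]
    by_cases hil : i = q - l
    · rw [if_pos (by rw [hil, Nat.sub_add_cancel hl.le]), if_pos hil, mul_comm]
    · rw [if_neg fun hd => hil ?_, if_neg hil, mul_zero]
      have := Nat.eq_of_dvd_of_lt_two_mul (by omega : i + l ≠ 0) hd (by omega)
      omega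
  rw [Finset.sum_congr rfl e, Finset.sum_ite_eq', if_pos (Finset.mem_range.2 (by omega)), hq,
    h.pow_inv hl.le, h.apply_inv]

theorem Dih.gram (h : Dih P n σ τ) (hM : IsPModular 2 M) (hζ : IsPrimitiveRoot ζ (2 ^ (n - 1)))
    {j k : ℕ} (hj0 : 0 < j) (hj : j < 2 ^ (n - 1)) (hk0 : 0 < k) (hk : k < 2 ^ (n - 1)) :
    ∑ χ ∈ (principalBlock M G).toFinite.toFinset, cf σ ζ χ j * cf σ ζ χ k =
      (if j = k then 1 else 0) + (if j + k = 2 ^ (n - 1) then 1 else 0) + 2 := by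
  set q := 2 ^ (n - 1) with hq
  have hq0 : (q : ℂ) ≠ 0 := Nat.cast_ne_zero.2 (by omega)
  refine Int.cast_injective (α := ℂ) (mul_left_cancel₀ hq0 (mul_left_cancel₀ hq0 ?_))
  set A : ℕ → ℕ → ℂ := fun a l => ζ ^ (a * l) - 1 with hA
  have hstep : ∀ χ : IrrCharacter G, (q : ℂ) * ((q : ℂ) * (cf σ ζ χ j * cf σ ζ χ k : ℤ)) =
      ∑ l ∈ Finset.range q, ∑ l' ∈ Finset.range q,
        A j l * conj (A k l') * ((χ : G → ℂ) (σ ^ l) * conj ((χ : G → ℂ) (σ ^ l'))) := by
    intro χ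
    have e := congrArg conj (h.spec hζ χ k)
    rw [map_mul, Complex.conj_natCast, map_intCast, map_sum, ← hq] at e
    rw [show (q : ℂ) * ((q : ℂ) * (cf σ ζ χ j * cf σ ζ χ k : ℤ)) =
      ((q : ℂ) * cf σ ζ χ j) * ((q : ℂ) * cf σ ζ χ k) by push_cast; ring, e, hq, h.spec hζ, Finset.sum_mul_sum]
    exact Finset.sum_congr rfl fun l _ => Finset.sum_congr rfl fun l' _ => by
      rw [map_mul]; simp only [hA]; ring
  rw [Int.cast_sum, Finset.mul_sum, Finset.mul_sum, Finset.sum_congr rfl fun χ _ => hstep χ,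
    Finset.sum_comm, Finset.sum_congr rfl fun l _ => Finset.sum_comm]
  have hl : ∀ l ∈ Finset.range q, ∑ l' ∈ Finset.range q,
      ∑ χ ∈ (principalBlock M G).toFinite.toFinset,
        A j l * conj (A k l') * ((χ : G → ℂ) (σ ^ l) * conj ((χ : G → ℂ) (σ ^ l'))) =
      (q : ℂ) * (A j l * (conj (A k l) + A k l)) := by
    intro l hl
    rw [Finset.mem_range] at hl
    rcases Nat.eq_zero_or_pos l with rfl | hl0
    · simp [hA]
    have hkey : ∀ l' ∈ Finset.range q, ∑ χ ∈ (principalBlock M G).toFinite.toFinset,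
        A j l * conj (A k l') * ((χ : G → ℂ) (σ ^ l) * conj ((χ : G → ℂ) (σ ^ l'))) =
          (if l' = l then (q : ℂ) * (A j l * conj (A k l)) else 0) +
            (if l' = q - l then (q : ℂ) * (A j l * A k l) else 0) := by
      intro l' hl'
      rw [Finset.mem_range] at hl'
      rw [← Finset.mul_sum, ← finsum_mem_eq_finite_toFinset_sum _ (principalBlock M G).toFinite]
      change A j l * conj (A k l') * blockKernel (principalBlock M G) (σ ^ l) (σ ^ l') = _
      rw [h.kernel hM (h.pow_ne_one hl0 hl), ← h.pow_inv hl.le]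
      have i1 : σ ^ l' = σ ^ l ↔ l' = l := by
        rw [h.pow_eq_pow, Nat.mod_eq_of_lt hl', Nat.mod_eq_of_lt hl]
      have i2 : σ ^ l' = σ ^ (q - l) ↔ l' = q - l := by
        rw [h.pow_eq_pow, Nat.mod_eq_of_lt hl', Nat.mod_eq_of_lt (by omega)]
      simp only [i1, i2, ← hq]
      rw [show (2 ^ (n - 1) : ℂ) = (q : ℂ) by rw [hq]; push_cast; rfl]
      have hconj : conj (A k (q - l)) = A k l := by
        simp only [hA, map_sub, map_one, conj_pow_root (by omega : q ≠ 0) hζ]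
        congr 1
        refine inv_eq_of_mul_eq_one_right ?_
        rw [← pow_add, ← mul_add, Nat.sub_add_cancel hl.le, mul_comm, pow_mul, hζ.pow_eq_one, one_pow]
      split_ifs with a b b <;> [subst a; subst a; subst b; skip]
      · rw [← b] at hconj; rw [hconj]; ring
      · ring
      · rw [hconj]; ring
      · ring
    rw [Finset.sum_congr rfl hkey, Finset.sum_add_distrib, Finset.sum_ite_eq', Finset.sum_ite_eq',
      if_pos (Finset.mem_range.2 hl), if_pos (Finset.mem_range.2 (by omega))]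
    ring
  rw [Finset.sum_congr rfl hl, ← Finset.mul_sum]
  congr 1
  simp only [hA, conj_root_sub (by omega : q ≠ 0) hζ hk.le, mul_add, sub_mul, mul_sub, one_mul, mul_one,
    ← pow_add, ← add_mul, Finset.sum_add_distrib, Finset.sum_sub_distrib, sum_root hζ, Finset.sum_const,
    Finset.card_range, nsmul_eq_mul]
  have d1 : q ∣ j + (q - k) ↔ j = k := ⟨fun hd => by
    have := Nat.eq_of_dvd_of_lt_two_mul (by omega : j + (q - k) ≠ 0) hd (by omega)
    omega, fun e => ⟨1, by omega⟩⟩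
  have d2 : q ∣ j + k ↔ j + k = q := ⟨fun hd =>
    Nat.eq_of_dvd_of_lt_two_mul (by omega : j + k ≠ 0) hd (by omega), fun e => e ▸ dvd_rfl⟩
  simp only [d1, d2, if_neg fun hd => hj.not_ge (Nat.le_of_dvd hj0 hd),
    if_neg fun hd => hk.not_ge (Nat.le_of_dvd hk0 hd),
    if_neg fun hd : q ∣ q - k => (by omega : q - k < q).not_ge (Nat.le_of_dvd (by omega) hd)]
  split_ifs <;> push_cast <;> ring

theorem Dih.regular_sum (h : Dih P n σ τ) (hM : IsPModular 2 M) (hζ : IsPrimitiveRoot ζ (2 ^ (n - 1)))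
    (j : ℕ) {g : G} (hg : ¬ 2 ∣ orderOf g) :
    ∑ χ ∈ (principalBlock M G).toFinite.toFinset, (χ : G → ℂ) g * (cf σ ζ χ j : ℂ) = 0 := by
  haveI : Fact (Nat.Prime 2) := ⟨Nat.prime_two⟩
  set q := 2 ^ (n - 1) with hq
  refine (mul_eq_zero.1 (?_ : (q : ℂ) * _ = 0)).resolve_left (Nat.cast_ne_zero.2 (by positivity))
  rw [Finset.mul_sum, Finset.sum_congr rfl fun χ _ => by
    rw [mul_left_comm, hq, h.spec hζ, Finset.mul_sum], Finset.sum_comm]
  refine Finset.sum_eq_zero fun l hl => ?_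
  rw [Finset.mem_range] at hl
  rcases Nat.eq_zero_or_pos l with rfl | hl0
  · simp
  have hd : 2 ∣ orderOf (σ ^ l) :=
    AbTI.dvd_orderOf_of_mem ((P : Subgroup G).pow_mem h.memσ l) (h.pow_ne_one hl0 hl)
  rw [Finset.sum_congr rfl fun (χ : IrrCharacter G) _ => show (χ : G → ℂ) g * ((χ : G → ℂ) (σ ^ l) * (ζ ^ (j * l) - 1)) =
      ((χ : G → ℂ) g * conj ((χ : G → ℂ) (σ ^ l))) * (ζ ^ (j * l) - 1) by rw [h.conj_apply]; ring,
    ← Finset.sum_mul, ← finsum_mem_eq_finite_toFinset_sum _ (principalBlock M G).toFinite]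
  change blockKernel (principalBlock M G) g (σ ^ l) * _ = 0
  have hB : IsPBlock M (principalBlock M G) := ⟨⟨fun _ => 1, isIrrCharacter_one⟩, rfl⟩
  rw [blockKernel_eq_zero hM hB fun hiff => hg (hiff.2 hd), zero_mul]

theorem Dih.apply_J_ne_zero (h : Dih P n σ τ) (hM : IsPModular 2 M) {χ : IrrCharacter G}
    (hχ : χ ∈ principalBlock M G) : (χ : G → ℂ) (σ ^ (2 ^ (n - 2))) ≠ 0 := by
  haveI : Fact (Nat.Prime 2) := ⟨Nat.prime_two⟩
  haveI := prime_of_isPModular hM
  intro e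
  have hs : MemLocalIdeal M (centralChar (fun _ : G => (1 : ℂ)) (σ ^ (2 ^ (n - 2))) -
      centralChar (χ : G → ℂ) (σ ^ (2 ^ (n - 2)))) := hχ (σ ^ (2 ^ (n - 2)))
  simp only [centralChar, e, mul_zero, zero_div, sub_zero, mul_one, div_one, ← Int.cast_natCast (R := ℂ)] at hs
  rw [memLocalIdeal_intCast_two_iff hM, Int.even_coe_nat, even_iff_two_dvd] at hs
  exact P.not_dvd_index (hs.trans (Subgroup.index_dvd_of_le
    fun x hx => mem_centralizer_singleton.2 (h.J_comm hx)))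

theorem Dih.root_half (h : Dih P n σ τ) (hζ : IsPrimitiveRoot ζ (2 ^ (n - 1))) : ζ ^ 2 ^ (n - 2) = -1 :=
  (hζ.pow (by positivity) (by rw [h.half.1, mul_comm])).eq_neg_one_of_two_right

/-- The principal block: the characters, their coefficients and the relations on regular elements. -/
structure Data (h : Dih P n σ τ) (M : Ideal AlgInt) (ζ : ℂ) (one x₁ x₂ x₃ : IrrCharacter G)
    (η : Fin (2 ^ (n - 2) - 1) → IrrCharacter G) (δ₁ δ₂ δ₃ : ℤ) : Prop where
  hone : (one : G → ℂ) = fun _ => 1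
  sign₁ : δ₁ = 1 ∨ δ₁ = -1
  sign₂ : δ₂ = 1 ∨ δ₂ = -1
  sign₃ : δ₃ = 1 ∨ δ₃ = -1
  inj : Function.Injective η
  ne₁ : x₁ ≠ one
  ne₂ : x₂ ≠ one
  ne₃ : x₃ ≠ one
  ne₁₂ : x₁ ≠ x₂
  ne₁₃ : x₁ ≠ x₃
  ne₂₃ : x₂ ≠ x₃
  ne_η : ∀ i, η i ≠ one ∧ η i ≠ x₁ ∧ η i ≠ x₂ ∧ η i ≠ x₃
  mem_iff : ∀ χ, χ ∈ principalBlock M G ↔ χ = one ∨ χ = x₁ ∨ χ = x₂ ∨ χ = x₃ ∨ ∃ i, χ = η i
  val₁ : ∀ l, 0 < l → l < 2 ^ (n - 1) → (x₁ : G → ℂ) (σ ^ l) = δ₁
  val₂ : ∀ l, 0 < l → l < 2 ^ (n - 1) → (x₂ : G → ℂ) (σ ^ l) = δ₂ * (-1) ^ (l + 1)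
  val₃ : ∀ l, 0 < l → l < 2 ^ (n - 1) → (x₃ : G → ℂ) (σ ^ l) = δ₃ * (-1) ^ (l + 1)
  valη : ∀ l, 0 < l → l < 2 ^ (n - 1) → ∀ i : Fin (2 ^ (n - 2) - 1),
    (η i : G → ℂ) (σ ^ l) = δ₁ * (ζ ^ (((i : ℕ) + 1) * l) + (ζ ^ (((i : ℕ) + 1) * l))⁻¹)
  rel₂ : ∀ g : G, ¬ 2 ∣ orderOf g →
    1 + δ₁ * (x₁ : G → ℂ) g + δ₂ * (x₂ : G → ℂ) g + δ₃ * (x₃ : G → ℂ) g = 0
  relη : ∀ g : G, ¬ 2 ∣ orderOf g → ∀ i, 1 + δ₁ * (x₁ : G → ℂ) g = δ₁ * (η i : G → ℂ) g

theorem Dih.exists_data (h : Dih P n σ τ) (hM : IsPModular 2 M) (hζ : IsPrimitiveRoot ζ (2 ^ (n - 1))) :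
    ∃ (one x₁ x₂ x₃ : IrrCharacter G) (η : Fin (2 ^ (n - 2) - 1) → IrrCharacter G) (δ₁ δ₂ δ₃ : ℤ),
      Data h M ζ one x₁ x₂ x₃ η δ₁ δ₂ δ₃ := by
  haveI := prime_of_isPModular hM
  obtain ⟨hq, hm2⟩ := h.half
  set S := (principalBlock M G).toFinite.toFinset with hS
  let one : IrrCharacter G := ⟨fun _ => 1, isIrrCharacter_one⟩
  have hone : one ∈ S := (principalBlock M G).toFinite.mem_toFinset.2 (sameBlock_refl _)
  have hm : 0 < 2 ^ (n - 2) - 1 := by omega
  haveI : Nonempty (Fin (2 ^ (n - 2) - 1)) := ⟨⟨0, hm⟩⟩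
  have hι : Fintype.card (Fin (2 ^ (n - 2) - 1)) ≠ 2 := by
    rw [Fintype.card_fin]
    intro e
    obtain ⟨k, hk⟩ : 2 ∣ 2 ^ (n - 2) := dvd_pow_self 2 (by have := h.hn; omega)
    omega
  have hsum : ∀ f : IrrCharacter G → ℤ, ∑ x : {χ // χ ∈ S}, f x.1 = ∑ χ ∈ S, f χ := fun f =>
    Finset.sum_coe_sort S f
  have hdeg0 : ∀ j, ∑ χ ∈ S, (charDegree (χ : G → ℂ) : ℤ) * cf σ ζ χ j = 0 := fun j => by
    refine Int.cast_injective (α := ℂ) ?_
    push_cast
    refine (Finset.sum_congr rfl fun χ _ => ?_).trans (h.regular_sum hM hζ j (g := 1) (by simp))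
    rw [← charDegree_cast (IsIrrCharacter.isCharacter χ.2)]
  obtain ⟨η, x₁, x₂, x₃, δ₁, δ₂, δ₃, hd₁, hd₂, hd₃, hηinj, n1, n2, n3, n12, n13, n23, nη, hu, hs⟩ :=
    columns hι (fun x : {χ // χ ∈ S} => (charDegree (x.1 : G → ℂ) : ℤ))
      (fun x => by exact_mod_cast charDegree_pos x.1.2)
      (fun x (i : Fin (2 ^ (n - 2) - 1)) => cf σ ζ x.1 ((i : ℕ) + 1)) (fun x => cf σ ζ x.1 (2 ^ (n - 2)))
      ⟨one, hone⟩ (by simp [charDegree, one])
      (fun i k => by
        rw [hsum fun χ => cf σ ζ χ ((i : ℕ) + 1) * cf σ ζ χ ((k : ℕ) + 1),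
          h.gram hM hζ (by omega) (by omega) (by omega) (by omega),
          if_neg (show ¬ ((i : ℕ) + 1 + ((k : ℕ) + 1) = 2 ^ (n - 1)) by omega), add_zero]
        simp only [add_left_inj, ← Fin.ext_iff]
        split_ifs <;> rfl)
      (by
        rw [hsum fun χ => cf σ ζ χ (2 ^ (n - 2)) * cf σ ζ χ (2 ^ (n - 2)),
          h.gram hM hζ (by omega) (by omega) (by omega) (by omega), if_pos rfl, if_pos (by omega)]
        rfl)
      (fun i => by
        rw [hsum fun χ => cf σ ζ χ ((i : ℕ) + 1) * cf σ ζ χ (2 ^ (n - 2)),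
          h.gram hM hζ (by omega) (by omega) (by omega) (by omega), if_neg (by omega), if_neg (by omega)]
        rfl)
      (fun i => by rw [hsum fun χ => (charDegree (χ : G → ℂ) : ℤ) * cf σ ζ χ ((i : ℕ) + 1)]; exact hdeg0 _)
      (by rw [hsum fun χ => (charDegree (χ : G → ℂ) : ℤ) * cf σ ζ χ (2 ^ (n - 2))]; exact hdeg0 _)
      (fun i => h.cf_one hζ rfl (by omega) (by omega)) (h.cf_one hζ rfl (by omega) (by omega))
  -- the coefficients at all indices
  have hcf : ∀ (x : {χ // χ ∈ S}) j, j ∈ Finset.range (2 ^ (n - 1)) → cf σ ζ x.1 j =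
      (if j = 0 then 0 else -(if x = ⟨one, hone⟩ then 1 else 0) - δ₁ * (if x = x₁ then 1 else 0)) +
        (∑ i : Fin (2 ^ (n - 2) - 1), if x = η i ∧ (j = (i : ℕ) + 1 ∨ j = 2 ^ (n - 1) - ((i : ℕ) + 1)) then δ₁ else 0) -
        (if j = 2 ^ (n - 2) then δ₂ * (if x = x₂ then 1 else 0) + δ₃ * (if x = x₃ then 1 else 0) else 0) := by
    intro x j hj
    rw [Finset.mem_range] at hj
    have hcase : j = 0 ∨ (0 < j ∧ j < 2 ^ (n - 2)) ∨ j = 2 ^ (n - 2) ∨ 2 ^ (n - 2) < j := by omega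
    rcases hcase with rfl | hj' | rfl | hj'
    · rw [h.cf_zero hζ, if_pos rfl, if_neg (by omega), Finset.sum_eq_zero fun i _ => if_neg ?_]
      · ring
      · rintro ⟨-, e⟩; omega
    · rw [if_neg (by omega), if_neg (show ¬ j = 2 ^ (n - 2) by omega),
        Finset.sum_eq_single ⟨j - 1, by omega⟩ (fun i _ hi => if_neg ?_) (fun e => absurd (Finset.mem_univ _) e)]
      · have := hu x ⟨j - 1, by omega⟩
        simp only [show j - 1 + 1 = j by omega] at this
        rw [this]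
        simp only [show j - 1 + 1 = j by omega, true_or, and_true]
        split_ifs <;> ring
      · rintro ⟨-, e⟩; exact hi (Fin.ext (by simp only; omega))
    · rw [if_neg (by omega), if_pos rfl, Finset.sum_eq_zero fun i _ => if_neg ?_, hs x]
      · ring
      · rintro ⟨-, e⟩; omega
    · rw [if_neg (by omega), if_neg (show ¬ j = 2 ^ (n - 2) by omega),
        Finset.sum_eq_single ⟨2 ^ (n - 1) - j - 1, by omega⟩ (fun i _ hi => if_neg ?_) (fun e => absurd (Finset.mem_univ _) e)]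
      · have := hu x ⟨2 ^ (n - 1) - j - 1, by omega⟩
        simp only [show 2 ^ (n - 1) - j - 1 + 1 = 2 ^ (n - 1) - j by omega, h.cf_symm hζ x.1 hj.le] at this
        rw [this]
        simp only [show 2 ^ (n - 1) - j - 1 + 1 = 2 ^ (n - 1) - j by omega,
          show 2 ^ (n - 1) - (2 ^ (n - 1) - j) = j by omega, or_true, and_true]
        split_ifs <;> ring
      · rintro ⟨-, e⟩; exact hi (Fin.ext (by simp only; omega))
  have hval : ∀ (x : {χ // χ ∈ S}) l, 0 < l → l < 2 ^ (n - 1) → (x.1 : G → ℂ) (σ ^ l) =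
      (if x = ⟨one, hone⟩ then 1 else 0) + (δ₁ : ℂ) * (if x = x₁ then 1 else 0) +
        (∑ i : Fin (2 ^ (n - 2) - 1), if x = η i then
          (δ₁ : ℂ) * (ζ ^ (((i : ℕ) + 1) * l) + (ζ ^ (((i : ℕ) + 1) * l))⁻¹) else 0) -
        ((δ₂ : ℂ) * (if x = x₂ then 1 else 0) + (δ₃ : ℂ) * (if x = x₃ then 1 else 0)) * (-1) ^ l := by
    intro x l hl0 hl
    rw [h.apply_eq_sum hζ x.1 hl0 hl, Finset.sum_congr rfl fun j hj => by rw [hcf x j hj]]
    simp only [Int.cast_sub, Int.cast_add, Int.cast_sum, sub_mul, add_mul, Finset.sum_sub_distrib,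
      Finset.sum_add_distrib, Finset.sum_mul]
    congr 1
    · congr 1
      · have hs0 : ∑ j ∈ Finset.range (2 ^ (n - 1)), (if j = 0 then 0 else ζ ^ (j * l)) = -1 := by
          have e : ∀ j, (if j = 0 then 0 else ζ ^ (j * l)) = ζ ^ (l * j) - (if j = 0 then 1 else 0) := fun j => by
            split_ifs with e <;> simp [e, mul_comm]
          rw [Finset.sum_congr rfl fun j _ => e j, Finset.sum_sub_distrib, sum_root hζ,
            if_neg fun hd => hl.not_ge (Nat.le_of_dvd hl0 hd), Finset.sum_ite_eq',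
            if_pos (Finset.mem_range.2 (by omega))]
          ring
        refine (Finset.sum_congr rfl fun j _ => ?_).trans
          ((Finset.mul_sum _ (fun j : ℕ => if j = 0 then (0 : ℂ) else ζ ^ (j * l)) (-((if x = ⟨one, hone⟩ then 1 else 0) + (δ₁ : ℂ) * (if x = x₁ then 1 else 0)))).symm.trans ?_)
        · split_ifs <;> push_cast <;> ring
        · rw [hs0]; ring
      · rw [Finset.sum_comm]
        refine Finset.sum_congr rfl fun i _ => ?_
        by_cases hx : x = η i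
        · have e : ∀ j, ((if x = η i ∧ (j = (i : ℕ) + 1 ∨ j = 2 ^ (n - 1) - ((i : ℕ) + 1)) then δ₁ else 0 : ℤ) : ℂ) * ζ ^ (j * l) =
              (if j = (i : ℕ) + 1 then (δ₁ : ℂ) * ζ ^ (j * l) else 0) +
              (if j = 2 ^ (n - 1) - ((i : ℕ) + 1) then (δ₁ : ℂ) * ζ ^ (j * l) else 0) := fun j => by
            simp only [hx, true_and]
            split_ifs <;> push_cast <;> (try ring) <;> omega
          rw [if_pos hx, Finset.sum_congr rfl fun j _ => e j, Finset.sum_add_distrib, Finset.sum_ite_eq',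
            Finset.sum_ite_eq', if_pos (Finset.mem_range.2 (by omega)), if_pos (Finset.mem_range.2 (by omega)),
            pow_sub_mul hζ (by omega)]
          ring
        · rw [if_neg hx, Finset.sum_eq_zero fun j _ => by rw [if_neg fun e => hx e.1, Int.cast_zero, zero_mul]]
    · rw [Finset.sum_eq_single (2 ^ (n - 2)) (fun j _ hj => by rw [if_neg hj, Int.cast_zero, zero_mul])
        (fun e => absurd (Finset.mem_range.2 (by omega)) e), if_pos rfl, pow_mul, h.root_half hζ]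
      push_cast
      ring
  have hB : ∀ x : {χ // χ ∈ S}, x.1 ∈ principalBlock M G := fun x =>
    (principalBlock M G).toFinite.mem_toFinset.1 x.2
  refine ⟨one, x₁.1, x₂.1, x₃.1, fun i => (η i).1, δ₁, δ₂, δ₃,
    ⟨rfl, hd₁, hd₂, hd₃, fun i k e => hηinj (Subtype.ext e), fun e => n1 (Subtype.ext e),
    fun e => n2 (Subtype.ext e), fun e => n3 (Subtype.ext e), fun e => n12 (Subtype.ext e),
    fun e => n13 (Subtype.ext e), fun e => n23 (Subtype.ext e),
    fun i => ⟨fun e => (nη i).1 (Subtype.ext e), fun e => (nη i).2.1 (Subtype.ext e),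
      fun e => (nη i).2.2.1 (Subtype.ext e), fun e => (nη i).2.2.2 (Subtype.ext e)⟩,
    fun χ => ⟨fun hχ => ?_, ?_⟩, fun l hl0 hl => ?_, fun l hl0 hl => ?_, fun l hl0 hl => ?_,
    fun l hl0 hl i => ?_, fun g hg => ?_, fun g hg i => ?_⟩⟩
  · let x : {χ // χ ∈ S} := ⟨χ, (principalBlock M G).toFinite.mem_toFinset.2 hχ⟩
    by_contra hn
    push Not at hn
    obtain ⟨a1, a2, a3, a4, a5⟩ := hn
    apply h.apply_J_ne_zero hM hχ
    rw [show χ = x.1 from rfl, hval x _ (by omega) (by omega), if_neg fun e => a1 (congrArg Subtype.val e),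
      if_neg fun e => a2 (congrArg Subtype.val e), if_neg fun e => a3 (congrArg Subtype.val e),
      if_neg fun e => a4 (congrArg Subtype.val e),
      Finset.sum_eq_zero fun i _ => if_neg fun e => a5 i (congrArg Subtype.val e)]
    ring
  · rintro (rfl | rfl | rfl | rfl | ⟨i, rfl⟩)
    exacts [sameBlock_refl _, hB x₁, hB x₂, hB x₃, hB (η i)]
  · rw [hval x₁ l hl0 hl, if_neg n1, if_pos rfl, if_neg n12, if_neg n13,
      Finset.sum_eq_zero fun i _ => if_neg (nη i).2.1.symm]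
    ring
  · rw [hval x₂ l hl0 hl, if_neg n2, if_neg n12.symm, if_pos rfl, if_neg n23,
      Finset.sum_eq_zero fun i _ => if_neg (nη i).2.2.1.symm, pow_succ]
    ring
  · rw [hval x₃ l hl0 hl, if_neg n3, if_neg n13.symm, if_neg n23.symm, if_pos rfl,
      Finset.sum_eq_zero fun i _ => if_neg (nη i).2.2.2.symm, pow_succ]
    ring
  · rw [hval (η i) l hl0 hl, if_neg (nη i).1, if_neg (nη i).2.1, if_neg (nη i).2.2.1, if_neg (nη i).2.2.2,
      Finset.sum_eq_single i (fun k _ hk => if_neg fun e => hk (hηinj e).symm) (fun e => absurd (Finset.mem_univ _) e),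
      if_pos rfl]
    ring
  · have := h.regular_sum hM hζ (2 ^ (n - 2)) hg
    rw [← Finset.sum_coe_sort, Finset.sum_congr rfl fun x _ => by rw [hs x]] at this
    push_cast at this
    simp only [mul_sub, mul_neg, mul_ite, mul_one, mul_zero, Finset.sum_sub_distrib, Finset.sum_neg_distrib,
      Finset.sum_ite_eq', Finset.mem_univ, if_true] at this
    linear_combination -this
  · have := h.regular_sum hM hζ ((i : ℕ) + 1) hg
    rw [← Finset.sum_coe_sort, Finset.sum_congr rfl fun x _ => by rw [hu x i]] at this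
    push_cast at this
    simp only [mul_sub, mul_add, mul_neg, mul_ite, mul_one, mul_zero, Finset.sum_sub_distrib,
      Finset.sum_add_distrib, Finset.sum_neg_distrib, Finset.sum_ite_eq', Finset.mem_univ, if_true] at this
    linear_combination -this

end Coefficients

end Cfsg.Agent.Block.DihPrincipal
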