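import Cfsg.Agent.Lib.Char.Schur
import Mathlib.LinearAlgebra.Matrix.PosDef
import Mathlib.LinearAlgebra.Eigenspace.Triangularizable
import Mathlib.Analysis.Complex.Polynomial.Basic

/-!
# Invariant bilinear forms and the indicator
-/

set_option autoImplicit false
set_option linter.style.haveILetI false

namespace Cfsg.Agent.Block

open Cfsg Cfsg.Agent.Char Representation Module Matrix
open scoped ComplexConjugate ComplexOrder

universe u

variable {G : Type u} [Group G] {n : ℕ}

/-- The contragredient matrices. -/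
noncomputable def contraRep (ρ : Representation ℂ G (Fin n → ℂ)) : Representation ℂ G (Fin n → ℂ) where
  toFun g := Matrix.toLin' (repMatrix ρ g⁻¹)ᵀ
  map_one' := by rw [inv_one, repMatrix_one, Matrix.transpose_one, Matrix.toLin'_one]; rfl
  map_mul' a b := by
    rw [_root_.mul_inv_rev, repMatrix_mul, Matrix.transpose_mul, Matrix.toLin'_mul]; rfl

theorem repMatrix_contraRep (ρ : Representation ℂ G (Fin n → ℂ)) (g : G) :
    repMatrix (contraRep ρ) g = (repMatrix ρ g⁻¹)ᵀ :=
  LinearMap.toMatrix'_toLin' _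

theorem character_contraRep (ρ : Representation ℂ G (Fin n → ℂ)) (g : G) :
    (contraRep ρ).character g = ρ.character g⁻¹ := by
  rw [← trace_repMatrix, repMatrix_contraRep, Matrix.trace_transpose, trace_repMatrix]

/-- The invariant forms of a real-valued irreducible character: a line, with the symmetry of the indicator. -/
theorem invariant_forms [Fintype G] (ρ : Representation ℂ G (Fin n → ℂ)) (hρ : IsIrrCharacter G ρ.character)
    (hreal : ∀ s, (ρ.character s).im = 0) :
    (∃ X : Matrix (Fin n) (Fin n) ℂ, X ≠ 0 ∧ ∀ g, (repMatrix ρ g)ᵀ * X * repMatrix ρ g = X) ∧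
      ∀ X : Matrix (Fin n) (Fin n) ℂ, (∀ g, (repMatrix ρ g)ᵀ * X * repMatrix ρ g = X) →
        Xᵀ = indicatorFS ρ.character • X := by
  classical
  haveI : Invertible (Nat.card G : ℂ) :=
    invertibleOfNonzero (Nat.cast_ne_zero.mpr Nat.card_pos.ne')
  set σ := contraRep ρ with hσ
  have hch : σ.character = ρ.character := funext fun g => by
    rw [hσ, character_contraRep, IsCharacter.map_inv ⟨n, ρ, rfl⟩, Complex.conj_eq_iff_im.mpr (hreal g)]
  have hiff : ∀ X, (∀ g, formRep σ g X = X) ↔ ∀ g, (repMatrix ρ g)ᵀ * X * repMatrix ρ g = X := fun X => by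
    simp only [formRep_apply, hσ, repMatrix_contraRep, Matrix.transpose_transpose]
    exact ⟨fun h g => by simpa using h g⁻¹, fun h g => h g⁻¹⟩
  let S : Matrix (Fin n) (Fin n) ℂ →ₗ[ℂ] Matrix (Fin n) (Fin n) ℂ :=
    (Matrix.transposeLinearEquiv (Fin n) (Fin n) ℂ ℂ).toLinearMap
  let P : Matrix (Fin n) (Fin n) ℂ →ₗ[ℂ] Matrix (Fin n) (Fin n) ℂ :=
    (Nat.card G : ℂ)⁻¹ • ∑ g : G, formRep σ g
  have hfix : ∀ (X : Matrix (Fin n) (Fin n) ℂ) (h : G), formRep σ h (P X) = P X := by
    intro X h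
    simp only [P, LinearMap.smul_apply, map_smul, LinearMap.coe_sum, Finset.sum_apply, map_sum]
    congr 1
    exact Fintype.sum_equiv (Equiv.mulLeft h) _ _ fun x => by
      rw [← Module.End.mul_apply, ← map_mul]; rfl
  have hc : (fun g => conj (ρ.character g)) = ρ.character :=
    funext fun g => Complex.conj_eq_iff_im.mpr (hreal g)
  have hone : (Nat.card G : ℂ)⁻¹ * ∑ g : G, ρ.character g ^ 2 = 1 := by
    rw [← IsIrrCharacter.classInner_self hρ, classInner]
    congr 1
    exact Finset.sum_congr rfl fun g _ => by rw [congrFun hc g, sq]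
  have htrP : LinearMap.trace ℂ _ P = 1 := by
    simp only [P, map_smul, map_sum, smul_eq_mul]
    refine Eq.trans ?_ hone
    congr 1
    exact Finset.sum_congr rfl fun g _ => (trace_formRep σ g).trans (by rw [hch])
  have hfs : LinearMap.trace ℂ _ (S ∘ₗ P) = indicatorFS ρ.character := by
    simp only [P, LinearMap.comp_smul, map_smul, smul_eq_mul, indicatorFS]
    congr 1
    rw [show S ∘ₗ (∑ g : G, formRep σ g) = ∑ g : G, S ∘ₗ formRep σ g from
      LinearMap.ext fun X => by simp, map_sum]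
    exact Finset.sum_congr rfl fun g _ => (trace_transpose_formRep σ g).trans (by rw [hch])
  have hdim : (finrank ℂ (Representation.invariants (formRep σ)) : ℂ) = 1 := by
    rw [← Representation.card_inv_mul_sum_char_eq_finrank (formRep σ)]
    refine Eq.trans ?_ hone
    congr 1
    exact Finset.sum_congr rfl fun g _ => by rw [trace_formRep, hch]
  obtain ⟨⟨X₀, hX₀⟩, hX₀ne, hspan⟩ := finrank_eq_one_iff'.mp (by exact_mod_cast hdim)
  have hX0 : X₀ ≠ 0 := fun h => hX₀ne (Subtype.ext h)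
  have hmem : ∀ X, ∃ c : ℂ, c • X₀ = P X := fun X => by
    obtain ⟨c, hc⟩ := hspan ⟨P X, hfix X⟩
    exact ⟨c, congrArg Subtype.val hc⟩
  have hTinv : ∀ h, formRep σ h X₀ᵀ = X₀ᵀ := fun h => by
    conv_rhs => rw [← hX₀ h]
    simp [formRep_apply, Matrix.transpose_mul, Matrix.mul_assoc]
  obtain ⟨ε, hε⟩ := hspan ⟨X₀ᵀ, hTinv⟩
  have hε' : ε • X₀ = X₀ᵀ := congrArg Subtype.val hε
  have hSP : S ∘ₗ P = ε • P := LinearMap.ext fun X => by
    obtain ⟨c, hc⟩ := hmem X
    simp only [LinearMap.coe_comp, Function.comp_apply, LinearMap.smul_apply, ← hc, map_smul]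
    rw [show S X₀ = X₀ᵀ from rfl, ← hε', smul_comm]
  rw [hSP, map_smul, htrP, smul_eq_mul, mul_one] at hfs
  refine ⟨⟨X₀, hX0, (hiff X₀).1 hX₀⟩, fun X hX => ?_⟩
  obtain ⟨c, hc⟩ := hspan ⟨X, (hiff X).2 hX⟩
  have hc' : c • X₀ = X := congrArg Subtype.val hc
  rw [← hfs, ← hc', Matrix.transpose_smul, ← hε', smul_comm]

/-- A commuting matrix of an irreducible representation is a scalar. -/
theorem scalar_of_commute (ρ : Representation ℂ G (Fin n → ℂ)) [hρ : ρ.IsIrreducible] [NeZero n]
    (C : Matrix (Fin n) (Fin n) ℂ) (hC : ∀ g, C * repMatrix ρ g = repMatrix ρ g * C) :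
    ∃ c : ℂ, C = c • 1 := by
  obtain ⟨c, hc⟩ := Module.End.exists_eigenvalue (Matrix.toLin' C)
  refine ⟨c, ?_⟩
  let W : Subrepresentation ρ := ⟨Module.End.eigenspace (Matrix.toLin' C) c, fun g v hv => by
    rw [Module.End.mem_eigenspace_iff] at hv ⊢
    have e : ∀ w, ρ g w = Matrix.toLin' (repMatrix ρ g) w := fun w => by simp [repMatrix]
    rw [e, ← LinearMap.comp_apply, ← Matrix.toLin'_mul, hC, Matrix.toLin'_mul, LinearMap.comp_apply, hv, map_smul]⟩
  have hW : W = ⊤ := (hρ.eq_bot_or_eq_top W).resolve_left fun h => hc (congrArg Subrepresentation.toSubmodule h)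
  apply Matrix.toLin'.injective
  refine LinearMap.ext fun v => ?_
  have : v ∈ Module.End.eigenspace (Matrix.toLin' C) c := by
    have h2 : v ∈ W.toSubmodule := by rw [hW]; exact Submodule.mem_top
    exact h2
  rw [Module.End.mem_eigenspace_iff] at this
  rw [this, map_smul, Matrix.toLin'_one]; rfl

/-- An irreducible representation with an invariant symmetric form is realised over the reals. -/
theorem exists_real_rep [Fintype G] (ρ : Representation ℂ G (Fin n → ℂ)) [ρ.IsIrreducible] {χ : G → ℂ}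
    (hχ : χ = ρ.character) {X : Matrix (Fin n) (Fin n) ℂ} (hX0 : X ≠ 0)
    (hX : ∀ g, (repMatrix ρ g)ᵀ * X * repMatrix ρ g = X) (hXT : Xᵀ = X) :
    ∃ (m : ℕ) (σ : Representation ℝ G (Fin m → ℝ)),
      ∀ g : G, ((LinearMap.trace ℝ (Fin m → ℝ) (σ g) : ℝ) : ℂ) = χ g := by
  classical
  haveI : NeZero n := ⟨by rintro rfl; exact hX0 (Subsingleton.elim _ _)⟩
  set H : Matrix (Fin n) (Fin n) ℂ := ∑ g : G, (repMatrix ρ g)ᴴ * repMatrix ρ g with hHdef
  have hH : H.PosDef := by
    rw [hHdef, ← Finset.add_sum_erase _ _ (Finset.mem_univ (1 : G))]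
    refine Matrix.PosDef.add_posSemidef ?_ (Matrix.posSemidef_sum _ fun g _ => Matrix.posSemidef_conjTranspose_mul_self _)
    rw [repMatrix_one, Matrix.conjTranspose_one, one_mul]
    exact Matrix.PosDef.one
  have hHu : IsUnit H.det := (Matrix.isUnit_iff_isUnit_det _).1 hH.isUnit
  have hHinv : ∀ h, (repMatrix ρ h)ᴴ * H * repMatrix ρ h = H := fun h => by
    rw [hHdef, Finset.mul_sum, Finset.sum_mul]
    refine Fintype.sum_equiv (Equiv.mulRight h) _ _ fun g => ?_
    simp only [Equiv.coe_mulRight, repMatrix_mul, Matrix.conjTranspose_mul, Matrix.mul_assoc]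
  set Xc : Matrix (Fin n) (Fin n) ℂ := X.map (starRingEnd ℂ) with hXc
  set K : Matrix (Fin n) (Fin n) ℂ := H⁻¹ * Xc with hK
  have hHK : H * K = Xc := by rw [hK, ← Matrix.mul_assoc, Matrix.mul_nonsing_inv _ hHu, one_mul]
  have hcomm : ∀ g, repMatrix ρ g * K = K * (repMatrix ρ g).map (starRingEnd ℂ) := fun g => by
    have h1 : (repMatrix ρ g)ᴴ * Xc * (repMatrix ρ g).map (starRingEnd ℂ) = Xc := by
      rw [hXc, show (repMatrix ρ g)ᴴ = ((repMatrix ρ g)ᵀ).map (starRingEnd ℂ) from rfl, ← Matrix.map_mul,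
        ← Matrix.map_mul, hX]
    have hu : IsUnit (repMatrix ρ g)ᴴ :=
      IsUnit.of_mul_eq_one (repMatrix ρ g⁻¹)ᴴ (by rw [← Matrix.conjTranspose_mul, ← repMatrix_mul, inv_mul_cancel, repMatrix_one, Matrix.conjTranspose_one])
    refine (hH.isUnit).mul_left_cancel (hu.mul_left_cancel ?_)
    calc (repMatrix ρ g)ᴴ * (H * (repMatrix ρ g * K))
        = ((repMatrix ρ g)ᴴ * H * repMatrix ρ g) * K := by simp only [Matrix.mul_assoc]
      _ = (repMatrix ρ g)ᴴ * Xc * (repMatrix ρ g).map (starRingEnd ℂ) := by rw [hHinv, hHK, h1]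
      _ = (repMatrix ρ g)ᴴ * (H * (K * (repMatrix ρ g).map (starRingEnd ℂ))) := by
          rw [← hHK]; simp only [Matrix.mul_assoc]
  have hinvol : ∀ M : Matrix (Fin n) (Fin n) ℂ, (M.map (starRingEnd ℂ)).map (starRingEnd ℂ) = M := fun M => by
    ext i j; simp
  obtain ⟨c, hc⟩ := scalar_of_commute ρ (K * K.map (starRingEnd ℂ)) fun g => by
    have := congrArg (fun M => Matrix.map M (starRingEnd ℂ)) (hcomm g)
    simp only [Matrix.map_mul, hinvol] at this
    rw [Matrix.mul_assoc, ← this, ← Matrix.mul_assoc, ← hcomm g, Matrix.mul_assoc]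
  -- the scalar is positive
  obtain ⟨r, hr, rfl⟩ : ∃ r : ℝ, 0 < r ∧ c = r := by
    have hXcH : Xc = Xᴴ := by
      rw [hXc, show Xᴴ = (Xᵀ).map (starRingEnd ℂ) from rfl, hXT]
    have e1 : Xᴴ * (Hᵀ)⁻¹ * X = c • H := by
      have h2 : H * (K * K.map (starRingEnd ℂ)) = c • H := by rw [hc, Matrix.mul_smul, mul_one]
      rw [← Matrix.mul_assoc, hHK] at h2
      rw [← h2, ← hXcH, Matrix.mul_assoc]
      congr 1
      rw [hK, Matrix.map_mul, hinvol]
      congr 1
      rw [show (H⁻¹).map (starRingEnd ℂ) = ((H⁻¹)ᴴ)ᵀ from by ext i j; simp, hH.inv.1.eq, Matrix.transpose_nonsing_inv]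
    obtain ⟨v, hv⟩ : ∃ v : Fin n → ℂ, X *ᵥ v ≠ 0 := by
      by_contra h
      push Not at h
      exact hX0 (Matrix.toLin'.injective (LinearMap.ext fun v => by simp [Matrix.toLin'_apply, h v]))
    have hv0 : v ≠ 0 := by rintro rfl; simp at hv
    have a1 := hH.transpose.inv.dotProduct_mulVec_pos hv
    have a2 := hH.dotProduct_mulVec_pos hv0
    have e2 : star (X *ᵥ v) ⬝ᵥ ((Hᵀ)⁻¹ *ᵥ (X *ᵥ v)) = c * (star v ⬝ᵥ (H *ᵥ v)) := by
      rw [Matrix.star_mulVec, ← Matrix.dotProduct_mulVec, Matrix.mulVec_mulVec, Matrix.mulVec_mulVec,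
        e1, Matrix.smul_mulVec, dotProduct_smul, smul_eq_mul]
    rw [Complex.lt_def] at a1 a2
    simp only [Complex.zero_re, Complex.zero_im] at a1 a2
    have hre := congrArg Complex.re e2
    have him := congrArg Complex.im e2
    rw [Complex.mul_re, ← a2.2, mul_zero, sub_zero] at hre
    rw [Complex.mul_im, ← a1.2, ← a2.2, mul_zero, zero_add] at him
    have hci : c.im = 0 := (mul_eq_zero.1 him.symm).resolve_right a2.1.ne'
    exact ⟨c.re, (mul_pos_iff_of_pos_right a2.1).1 (hre ▸ a1.1), Complex.ext rfl (by simpa using hci)⟩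
  set L : Matrix (Fin n) (Fin n) ℂ := ((Real.sqrt r)⁻¹ : ℂ) • K with hL
  have hLL : L * L.map (starRingEnd ℂ) = 1 := by
    rw [hL, Matrix.map_smul' _ _ _ (map_mul _), map_inv₀, Complex.conj_ofReal, Matrix.smul_mul, Matrix.mul_smul, smul_smul,
      hc, smul_smul, ← mul_inv, ← Complex.ofReal_mul, Real.mul_self_sqrt hr.le,
      inv_mul_cancel₀ (Complex.ofReal_ne_zero.2 hr.ne'), one_smul]
  have hLg : ∀ g, repMatrix ρ g * L = L * (repMatrix ρ g).map (starRingEnd ℂ) := fun g => by
    rw [hL, Matrix.mul_smul, Matrix.smul_mul, hcomm]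
  let J : (Fin n → ℂ) → (Fin n → ℂ) := fun v => L *ᵥ star v
  have hJadd : ∀ v w, J (v + w) = J v + J w := fun v w => by simp [J, Matrix.mulVec_add]
  have hJs : ∀ (z : ℂ) v, J (z • v) = conj z • J v := fun z v => by
    simp [J, star_smul, Matrix.mulVec_smul]
  have hconj : ∀ (M : Matrix (Fin n) (Fin n) ℂ) (v : Fin n → ℂ), star (M *ᵥ v) = M.map (starRingEnd ℂ) *ᵥ star v := fun M v => by
    ext i; simp [Matrix.mulVec, dotProduct]
  have hJJ : ∀ v, J (J v) = v := fun v => by
    simp only [J]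
    rw [hconj, star_star, Matrix.mulVec_mulVec, hLL, Matrix.one_mulVec]
  have hJg : ∀ g v, J (ρ g v) = ρ g (J v) := fun g v => by
    have e : ∀ w, ρ g w = repMatrix ρ g *ᵥ w := fun w => by simp [repMatrix]
    simp only [J, e]
    rw [hconj, Matrix.mulVec_mulVec, Matrix.mulVec_mulVec, hLg]
  let W : Submodule ℝ (Fin n → ℂ) :=
    { carrier := {v | J v = v}
      add_mem' := fun {v w} hv hw => by simp only [Set.mem_setOf_eq] at hv hw ⊢; rw [hJadd, hv, hw]
      zero_mem' := by simp [J]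
      smul_mem' := fun t v hv => by
        simp only [Set.mem_setOf_eq] at hv ⊢
        rw [show t • v = (t : ℂ) • v from rfl, hJs, hv, Complex.conj_ofReal] }
  let b := Module.finBasis ℝ W
  have hmem : ∀ w : W, J (w : Fin n → ℂ) = w := fun w => w.2
  have hli : LinearIndependent ℂ fun j => (b j : Fin n → ℂ) := by
    rw [Fintype.linearIndependent_iff]
    intro z hz
    have hre : ∀ z : Fin (finrank ℝ W) → ℂ, ∑ j, z j • (b j : Fin n → ℂ) = 0 → ∀ j, (z j).re = 0 := by
      intro z hz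
      have h2 : ∑ j, conj (z j) • (b j : Fin n → ℂ) = 0 := by
        have h3 := congrArg (AddMonoidHom.mk' J hJadd) hz
        rw [map_sum, map_zero] at h3
        refine Eq.trans (Finset.sum_congr rfl fun j _ => ?_) h3
        rw [AddMonoidHom.mk'_apply, hJs, hmem]
      have h4 : ((∑ j, (z j).re • b j : W) : Fin n → ℂ) = 0 := by
        rw [Submodule.coe_sum]
        apply smul_right_injective (Fin n → ℂ) (two_ne_zero : (2 : ℂ) ≠ 0)
        simp only [smul_zero, Finset.smul_sum, Submodule.coe_smul]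
        have h5 := congrArg₂ (· + ·) hz h2
        simp only [← Finset.sum_add_distrib, ← add_smul, Complex.add_conj, add_zero] at h5
        refine Eq.trans (Finset.sum_congr rfl fun j _ => ?_) h5
        rw [show (z j).re • (b j : Fin n → ℂ) = ((z j).re : ℂ) • (b j : Fin n → ℂ) from rfl, smul_smul]
        push_cast; rfl
      exact Fintype.linearIndependent_iff.1 b.linearIndependent _ (Subtype.ext h4)
    intro j
    refine Complex.ext (hre z hz j) ?_
    have := hre (fun j => Complex.I * z j) (by simp only [← smul_smul, ← Finset.smul_sum, hz, smul_zero]) j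
    simpa using this
  have hWs : ∀ w : W, (w : Fin n → ℂ) ∈ Submodule.span ℂ (Set.range fun j => (b j : Fin n → ℂ)) := fun w => by
    rw [← b.sum_repr w, Submodule.coe_sum]
    refine Submodule.sum_mem _ fun j _ => ?_
    rw [Submodule.coe_smul, show (b.repr w j) • (b j : Fin n → ℂ) = ((b.repr w j : ℝ) : ℂ) • (b j : Fin n → ℂ) from rfl]
    exact Submodule.smul_mem _ _ (Submodule.subset_span ⟨j, rfl⟩)
  have hspan : ⊤ ≤ Submodule.span ℂ (Set.range fun j => (b j : Fin n → ℂ)) := fun v _ => by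
    have hi : conj Complex.I = -Complex.I := Complex.conj_I
    have h1 := hWs ⟨v + J v, show J _ = _ by rw [hJadd, hJJ, add_comm]⟩
    have h2 := hWs ⟨Complex.I • (v - J v), show J _ = _ by
      rw [hJs, hi, sub_eq_add_neg, hJadd, show J (-J v) = -J (J v) by simp [J, Matrix.mulVec_neg], hJJ, neg_smul, ← smul_neg]
      congr 1
      abel⟩
    have h3 : v = (2⁻¹ : ℂ) • (v + J v) + (-(2⁻¹) * Complex.I) • (Complex.I • (v - J v)) := by
      rw [smul_smul, mul_assoc, Complex.I_mul_I, mul_neg_one, neg_neg, ← smul_add, add_add_sub_cancel, ← two_smul ℂ v,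
        smul_smul, inv_mul_cancel₀ two_ne_zero, one_smul]
    rw [h3]
    exact Submodule.add_mem _ (Submodule.smul_mem _ _ h1) (Submodule.smul_mem _ _ h2)
  let bc := Module.Basis.mk hli hspan
  let τ : Representation ℝ G W :=
    { toFun := fun g => ((ρ g).restrictScalars ℝ).restrict fun v hv => show J _ = _ from (hJg g v).trans (congrArg _ hv)
      map_one' := LinearMap.ext fun w => Subtype.ext (by simp)
      map_mul' := fun x y => LinearMap.ext fun w => Subtype.ext (by simp) }
  let σ : Representation ℝ G (Fin (finrank ℝ W) → ℝ) :=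
    { toFun := fun g => b.equivFun.conj (τ g)
      map_one' := by rw [map_one, Module.End.one_eq_id, LinearEquiv.conj_id]; rfl
      map_mul' := fun x y => by rw [map_mul, Module.End.mul_eq_comp, LinearEquiv.conj_comp]; rfl }
  refine ⟨finrank ℝ W, σ, fun g => ?_⟩
  have htr : LinearMap.trace ℝ _ (σ g) = LinearMap.trace ℝ W (τ g) := LinearMap.trace_conj' (τ g) b.equivFun
  rw [htr, LinearMap.trace_eq_matrix_trace ℝ b, hχ, Representation.character, LinearMap.trace_eq_matrix_trace ℂ bc,
    Matrix.trace, Matrix.trace, Complex.ofReal_sum]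
  refine Finset.sum_congr rfl fun j _ => ?_
  rw [Matrix.diag_apply, Matrix.diag_apply, LinearMap.toMatrix_apply, LinearMap.toMatrix_apply]
  have e : ρ g (bc j) = ∑ i, ((b.repr (τ g (b j)) i : ℝ) : ℂ) • bc i := by
    simp only [bc, Module.Basis.mk_apply]
    have h6 := congrArg Subtype.val (b.sum_repr (τ g (b j)))
    rw [Submodule.coe_sum] at h6
    refine Eq.trans ?_ h6.symm
    rfl
  rw [e, Module.Basis.repr_sum_self]

end Cfsg.Agent.Block
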