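import Cfsg.Agent.Lib.Block.CoverSylow

/-!
# The Fong–Reynolds correspondence
-/

set_option autoImplicit false

open Cfsg.Agent.Char
open scoped ComplexConjugate Pointwise

namespace Cfsg.Agent.Block

universe u

variable {G : Type u} [Group G] [Fintype G] {M : Ideal AlgInt} [hMp : M.IsPrime] {p : ℕ}
  {N : Subgroup G} [hN : N.Normal] [Fintype N] {b : Set (IrrCharacter N)}
  {T : Subgroup G} [Fintype T]

omit hMp hN [Fintype N] in
theorem sum_blockIdem_mul {H : Type*} [Group H] [Fintype H] [Fintype (IrrCharacter H)]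
    (B : Set (IrrCharacter H)) [DecidablePred (· ∈ B)] (Φ : H → ℂ) :
    ∑ g, (blockIdem B).coeff g * Φ g =
      ∑ ψ : IrrCharacter H, if ψ ∈ B then (ψ : H → ℂ) 1 * classInner Φ (ψ : H → ℂ) else 0 := by
  simp only [blockIdem, coeff_mkA, blockCoeff_eq_sum, Finset.mul_sum, Finset.sum_mul]
  rw [Finset.sum_comm]
  refine Finset.sum_congr rfl fun ψ _ => ?_
  split
  · rw [classInner, Finset.mul_sum, Finset.mul_sum]
    exact Finset.sum_congr rfl fun g _ => by ring
  · simp

/-- `ψ` lies over the block `b` of `N`. -/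
def Over (hNT : N ≤ T) (b : Set (IrrCharacter N)) (ψ : IrrCharacter T) : Prop :=
  ∃ θ ∈ b, classInner (fun n : N => (ψ : T → ℂ) ⟨(n : G), hNT n.2⟩) (θ : N → ℂ) ≠ 0

variable (hNT : N ≤ T)

/-- The block idempotent read in `T`. -/
noncomputable def bIdem (T : Subgroup G) (b : Set (IrrCharacter N)) : MonoidAlgebra ℂ T :=
  resH T (embH N (blockIdem b))

omit [Fintype N] [Fintype T] in
theorem cl_bIdem [Fintype N] (hb : IsPBlock M b)
    (hfix : ∀ t ∈ T, conjBlk (mem_normalizer_of_normal (N := N) t) b = b) :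
    CL M (bIdem T b) :=
  cl_resH (ps_embH_blockIdem (S := T) hb fun q hq => ⟨mem_normalizer_of_normal q, hfix q hq⟩)

omit hMp in
theorem sum_bIdem_mul (hNT : N ≤ T) (b : Set (IrrCharacter N)) (F : T → ℂ) :
    ∑ t : T, (bIdem T b).coeff t * F t = ∑ n : N, (blockIdem b).coeff n * F ⟨(n : G), hNT n.2⟩ := by
  classical
  simp only [bIdem, coeff_resH]
  rw [← Finset.sum_filter_of_ne (s := (Finset.univ : Finset T)) (p := fun t : T => (t : G) ∈ N) fun t _ ht => ?_]
  · refine Finset.sum_bij' (fun t ht => (⟨(t : G), (Finset.mem_filter.1 ht).2⟩ : N))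
      (fun n _ => (⟨(n : G), hNT n.2⟩ : T)) (fun _ _ => Finset.mem_univ _)
      (fun n _ => Finset.mem_filter.2 ⟨Finset.mem_univ _, n.2⟩) (fun _ _ => rfl) (fun _ _ => rfl) ?_
    intro t ht
    simp only
    exact congrArg (· * F t) (coeff_embH (H := N) _ ⟨(t : G), (Finset.mem_filter.1 ht).2⟩)
  · by_contra h
    exact ht (by rw [coeff_embH_of_notMem _ _ h, zero_mul])

omit hMp in
theorem omega_bIdem [Fintype (IrrCharacter N)] [DecidablePred (· ∈ b)] (hNT : N ≤ T) (ψ : IrrCharacter T) :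
    omega (ψ : T → ℂ) (bIdem T b) = (∑ θ : IrrCharacter N, if θ ∈ b then (θ : N → ℂ) 1 *
      classInner (fun n : N => (ψ : T → ℂ) ⟨(n : G), hNT n.2⟩) (θ : N → ℂ) else 0) / (ψ : T → ℂ) 1 := by
  rw [omega_eq_sum, sum_bIdem_mul hNT, sum_blockIdem_mul]

omit hMp in
theorem isCharacter_res (hNT : N ≤ T) (ψ : IrrCharacter T) :
    IsCharacter N (fun n : N => (ψ : T → ℂ) ⟨(n : G), hNT n.2⟩) :=
  isCharacter_comp (IsIrrCharacter.isCharacter ψ.2) (Subgroup.inclusion hNT)

theorem omega_bIdem_of_over (hb : IsPBlock M b)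
    (hfix : ∀ t ∈ T, conjBlk (mem_normalizer_of_normal (N := N) t) b = b) {ψ : IrrCharacter T}
    (h : Over hNT b ψ) : omega (ψ : T → ℂ) (bIdem T b) = 1 := by
  classical
  haveI := Fintype.ofFinite (IrrCharacter N)
  have hcl := cl_bIdem (M := M) hb hfix
  have hidem : bIdem T b * bIdem T b = bIdem T b := by
    have hemb : embH T (bIdem T b) = embH N (blockIdem b) :=
      embH_resH_of_support fun g hg => coeff_embH_of_notMem _ _ fun h => hg (hNT h)
    rw [← resH_embH T (bIdem T b * bIdem T b), embH_mul, hemb, ← embH_mul, blockIdem_mul_self]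
    rfl
  have h01 : omega (ψ : T → ℂ) (bIdem T b) = 0 ∨ omega (ψ : T → ℂ) (bIdem T b) = 1 := by
    have := omega_mul ψ hcl.1 hcl.1
    rw [hidem] at this
    exact mul_right_eq_self₀.1 this.symm |>.symm
  refine h01.resolve_left fun h0 => ?_
  rw [omega_bIdem hNT, div_eq_zero_iff, or_iff_left (IsIrrCharacter.apply_one_ne_zero ψ.2)] at h0
  obtain ⟨θ, hθ, hne⟩ := h
  have hnat : ∀ φ : IrrCharacter N, ∃ k : ℕ, classInner (fun n : N => (ψ : T → ℂ) ⟨(n : G), hNT n.2⟩)
      (φ : N → ℂ) = k := fun φ => exists_classInner_nat (isCharacter_res hNT ψ) φ.2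
  choose k hk using hnat
  have h1 : ((∑ φ : IrrCharacter N, if φ ∈ b then charDegree (φ : N → ℂ) * k φ else 0 : ℕ) : ℂ) = 0 := by
    rw [← h0, Nat.cast_sum]
    refine Finset.sum_congr rfl fun φ _ => ?_
    split
    · rw [Nat.cast_mul, charDegree_cast (IsIrrCharacter.isCharacter φ.2), hk]
    · simp
  have h2 := Finset.sum_eq_zero_iff.1 (Nat.cast_eq_zero.1 h1) θ (Finset.mem_univ _)
  rw [if_pos hθ] at h2
  rcases Nat.mul_eq_zero.1 h2 with h3 | h3
  · exact (charDegree_pos θ.2).ne' h3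
  · exact hne (by rw [hk, h3, Nat.cast_zero])

omit hMp in
theorem omega_bIdem_of_not_over {ψ : IrrCharacter T} (h : ¬ Over hNT b ψ) :
    omega (ψ : T → ℂ) (bIdem T b) = 0 := by
  classical
  haveI := Fintype.ofFinite (IrrCharacter N)
  rw [omega_bIdem hNT, Finset.sum_eq_zero, zero_div]
  intro θ _
  split
  next hθ => rw [not_not.1 fun hne => h ⟨θ, hθ, hne⟩, mul_zero]
  · rfl

/-- Constituents of a character over `b` lie in `b`. -/
theorem mem_of_constituent (hb : IsPBlock M b)
    (hfix : ∀ t ∈ T, conjBlk (mem_normalizer_of_normal (N := N) t) b = b) {ψ : IrrCharacter T}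
    (h : Over hNT b ψ) {φ : IrrCharacter N}
    (hφ : classInner (fun n : N => (ψ : T → ℂ) ⟨(n : G), hNT n.2⟩) (φ : N → ℂ) ≠ 0) : φ ∈ b := by
  classical
  haveI := Fintype.ofFinite (IrrCharacter N)
  by_contra hn
  have h1 := omega_bIdem_of_over hNT hb hfix h
  rw [omega_bIdem hNT, div_eq_one_iff_eq (IsIrrCharacter.apply_one_ne_zero ψ.2)] at h1
  have hnat : ∀ φ : IrrCharacter N, ∃ k : ℕ, classInner (fun n : N => (ψ : T → ℂ) ⟨(n : G), hNT n.2⟩)
      (φ : N → ℂ) = k := fun φ => exists_classInner_nat (isCharacter_res hNT ψ) φ.2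
  choose k hk using hnat
  have hall := sum_blockIdem_mul (Set.univ : Set (IrrCharacter N))
    (fun n : N => (ψ : T → ℂ) ⟨(n : G), hNT n.2⟩)
  rw [blockIdem_univ] at hall
  have hl : ∑ n : N, (1 : MonoidAlgebra ℂ N).coeff n * (ψ : T → ℂ) ⟨(n : G), hNT n.2⟩ = (ψ : T → ℂ) 1 := by
    rw [Finset.sum_eq_single 1 (fun n _ hne => by
        rw [MonoidAlgebra.one_def, MonoidAlgebra.coeff_single, Finsupp.single_apply, if_neg (Ne.symm hne),
          zero_mul]) (fun h => absurd (Finset.mem_univ _) h),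
      MonoidAlgebra.one_def, MonoidAlgebra.coeff_single, Finsupp.single_apply, if_pos rfl, one_mul]
    rfl
  simp only [Set.mem_univ, if_true] at hall
  rw [hl, ← h1] at hall
  have e1 : ∀ q : IrrCharacter N, (q : N → ℂ) 1 *
      classInner (fun n : N => (ψ : T → ℂ) ⟨(n : G), hNT n.2⟩) (q : N → ℂ) =
        ((charDegree (q : N → ℂ) * k q : ℕ) : ℂ) := fun q => by
    rw [Nat.cast_mul, charDegree_cast (IsIrrCharacter.isCharacter q.2), hk]
  simp only [e1] at hall
  rw [← Finset.sum_filter, ← Nat.cast_sum, ← Nat.cast_sum, Nat.cast_inj,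
    ← Finset.sum_filter_add_sum_filter_not (Finset.univ : Finset (IrrCharacter N)) (· ∈ b)] at hall
  have h2 := Finset.sum_eq_zero_iff.1 (by omega : ∑ q ∈ Finset.univ.filter (fun q => ¬ q ∈ b),
    charDegree ((q : IrrCharacter N) : N → ℂ) * k q = 0) φ (by simp [hn])
  rcases Nat.mul_eq_zero.1 h2 with h3 | h3
  · exact (charDegree_pos φ.2).ne' h3
  · exact hφ (by rw [hk, h3, Nat.cast_zero])

omit [Fintype N] [Fintype T] hMp in
theorem sum_subgroup_support {H : Subgroup G} [Fintype H] (a : MonoidAlgebra ℂ H) (F : G → ℂ) :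
    ∑ g : G, (embH H a).coeff g * F g = ∑ h : H, a.coeff h * F h := by
  classical
  rw [← Finset.sum_filter_of_ne (s := (Finset.univ : Finset G)) (p := fun g => g ∈ H) fun g _ hg => ?_]
  · rw [Finset.sum_subtype (p := fun g => g ∈ H) _ (fun g => by simp) _]
    exact Finset.sum_congr rfl fun h _ => by rw [coeff_embH]
  · by_contra h
    exact hg (by rw [coeff_embH_of_notMem _ _ h, zero_mul])

/-- `T` is the stabiliser of `b`. -/
def IsBlockStab (T : Subgroup G) (b : Set (IrrCharacter N)) : Prop :=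
  ∀ g : G, g ∈ T ↔ conjBlk (mem_normalizer_of_normal (N := N) g) b = b

/-- The value of an induced character at the idempotent of `b`. -/
theorem sum_embH_indFun (hb : IsPBlock M b) (hT : IsBlockStab T b) {ψ : IrrCharacter T}
    (h : Over hNT b ψ) :
    ∑ g : G, (embH N (blockIdem b)).coeff g * indFun T (ψ : T → ℂ) g = (ψ : T → ℂ) 1 := by
  classical
  haveI := Fintype.ofFinite (IrrCharacter N)
  rw [sum_subgroup_support]
  simp only [indFun_apply, Finset.mul_sum]
  rw [Finset.sum_comm]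
  have key : ∀ x : G, ∑ n : N, (blockIdem b).coeff n *
      ((Nat.card T : ℂ)⁻¹ * extendByZero T (ψ : T → ℂ) (x⁻¹ * (n : G) * x)) =
      if x ∈ T then (Nat.card T : ℂ)⁻¹ * (ψ : T → ℂ) 1 else 0 := by
    intro x
    have e1 : ∑ n : N, (blockIdem b).coeff n *
        ((Nat.card T : ℂ)⁻¹ * extendByZero T (ψ : T → ℂ) (x⁻¹ * (n : G) * x)) =
        (Nat.card T : ℂ)⁻¹ * ∑ n : N, (blockIdem (conjBlk (mem_normalizer_of_normal (N := N) x⁻¹) b)).coeff n *
          (ψ : T → ℂ) ⟨(n : G), hNT n.2⟩ := by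
      rw [Finset.mul_sum]
      refine Fintype.sum_equiv (normConj (mem_normalizer_of_normal (N := N) x)).toEquiv _ _ fun n => ?_
      show _ = (Nat.card T : ℂ)⁻¹ * ((blockIdem (conjBlk (mem_normalizer_of_normal (N := N) x⁻¹) b)).coeff
        (normConj (mem_normalizer_of_normal (N := N) x) n) *
        (ψ : T → ℂ) ⟨((normConj (mem_normalizer_of_normal (N := N) x) n : N) : G), _⟩)
      rw [extendByZero_of_mem T _ (hNT (by simpa using hN.conj_mem (n : G) n.2 x⁻¹) : x⁻¹ * (n : G) * x ∈ T)]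
      simp only [← coeff_blockIdem, blockCoeff_conjBlk]
      rw [show normConj (mem_normalizer_of_normal (N := N) x⁻¹)
        (normConj (mem_normalizer_of_normal (N := N) x) n) = n from Subtype.ext (by simp [mul_assoc])]
      simp only [coe_normConj]
      ring
    rw [e1, sum_blockIdem_mul]
    split
    next hx =>
      rw [(hT x⁻¹).1 (inv_mem hx)]
      have h1 := omega_bIdem_of_over hNT hb (fun t ht => (hT t).1 ht) h
      rw [omega_bIdem hNT, div_eq_one_iff_eq (IsIrrCharacter.apply_one_ne_zero ψ.2)] at h1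
      rw [h1]
    next hx =>
      rw [Finset.sum_eq_zero, mul_zero]
      intro q _
      split
      next hq =>
        refine mul_eq_zero_of_right _ (not_not.1 fun hne => hx ?_)
        have hqb := mem_of_constituent hNT hb (fun t ht => (hT t).1 ht) h hne
        have := isPBlock_eq_of_mem (isPBlock_conjBlk _ hb) hb hq hqb
        simpa using inv_mem ((hT x⁻¹).2 this)
      · rfl
  rw [Finset.sum_congr rfl fun x _ => key x, ← Finset.sum_filter, Finset.sum_const, nsmul_eq_mul,
    show ((Finset.univ.filter fun x : G => x ∈ T).card : ℂ) = (Nat.card T : ℂ) by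
      rw [Nat.card_eq_fintype_card, Fintype.card_subtype],
    ← mul_assoc, mul_inv_cancel₀ (Nat.cast_ne_zero.2 Nat.card_pos.ne'), one_mul]

/-- The value of a character at `b`, by its constituents over `b`. -/
theorem exists_sum_embH_eq (hb : IsPBlock M b)
    (hfix : ∀ t ∈ T, conjBlk (mem_normalizer_of_normal (N := N) t) b = b) [Fintype (IrrCharacter T)]
    (χ : IrrCharacter G) :
    ∃ k : IrrCharacter T → ℕ, (∀ σ : IrrCharacter T, classInner (fun t : T => (χ : G → ℂ) t) (σ : T → ℂ) = k σ) ∧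
      ∑ g : G, (embH N (blockIdem b)).coeff g * (χ : G → ℂ) g =
        ((∑ σ : IrrCharacter T, (by classical exact if Over hNT b σ then k σ * charDegree (σ : T → ℂ) else 0) : ℕ) : ℂ) := by
  classical
  have hres : IsCharacter T (fun t : T => (χ : G → ℂ) t) :=
    IsCharacter.restrict (IsIrrCharacter.isCharacter χ.2) T
  choose k hk using fun σ : IrrCharacter T => exists_classInner_nat hres σ.2
  refine ⟨k, hk, ?_⟩
  rw [show embH N (blockIdem b) = embH T (bIdem T b) from
    (embH_resH_of_support fun g hg => coeff_embH_of_notMem _ _ fun h => hg (hNT h)).symm,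
    sum_subgroup_support]
  have e := IsClassFunction.eq_sum (IsCharacter.isClassFunction hres)
  calc ∑ t : T, (bIdem T b).coeff t * (χ : G → ℂ) t
      = ∑ σ : IrrCharacter T, (k σ : ℂ) * ∑ t : T, (bIdem T b).coeff t * (σ : T → ℂ) t := by
        simp only [Finset.mul_sum]
        rw [Finset.sum_comm]
        refine Finset.sum_congr rfl fun t _ => ?_
        have h1 := congrFun e t
        simp only [Finset.sum_apply, Pi.smul_apply, smul_eq_mul] at h1
        rw [h1, Finset.mul_sum]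
        exact Finset.sum_congr rfl fun σ _ => by rw [hk]; ring
    _ = _ := by
        rw [Nat.cast_sum]
        refine Finset.sum_congr rfl fun σ _ => ?_
        have hom : ∑ t : T, (bIdem T b).coeff t * (σ : T → ℂ) t =
            omega (σ : T → ℂ) (bIdem T b) * (σ : T → ℂ) 1 := by
          rw [omega_eq_sum, div_mul_cancel₀ _ (IsIrrCharacter.apply_one_ne_zero σ.2)]
        rw [hom]
        split
        next hσ => rw [omega_bIdem_of_over hNT hb hfix hσ, Nat.cast_mul,
          charDegree_cast (IsIrrCharacter.isCharacter σ.2), one_mul]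
        next hσ => rw [omega_bIdem_of_not_over hNT hσ, Nat.cast_zero, zero_mul, mul_zero]

/-- Induction of a character over `b`. -/
theorem isIrr_indFun (hb : IsPBlock M b) (hT : IsBlockStab T b) {ψ : IrrCharacter T} (h : Over hNT b ψ) :
    IsIrrCharacter G (indFun T (ψ : T → ℂ)) ∧
      ∀ σ : IrrCharacter T, Over hNT b σ →
        classInner (fun t : T => indFun T (ψ : T → ℂ) t) (σ : T → ℂ) ≠ 0 → σ = ψ := by
  classical
  haveI := Fintype.ofFinite (IrrCharacter T)
  haveI := Fintype.ofFinite (IrrCharacter G)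
  have hfix : ∀ t ∈ T, conjBlk (mem_normalizer_of_normal (N := N) t) b = b := fun t ht => (hT t).1 ht
  have hind := isCharacter_indFun T (IsIrrCharacter.isCharacter ψ.2)
  choose m hm using fun χ : IrrCharacter G => exists_classInner_nat hind χ.2
  choose k hk hval using fun χ : IrrCharacter G => exists_sum_embH_eq hNT hb hfix χ
  set v : IrrCharacter G → ℕ := fun χ =>
    ∑ σ : IrrCharacter T, if Over hNT b σ then k χ σ * charDegree (σ : T → ℂ) else 0 with hv
  have hkm : ∀ χ : IrrCharacter G, k χ ψ = m χ := by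
    intro χ
    have h1 := classInner_indFun T (ψ : T → ℂ) (IsCharacter.isClassFunction (IsIrrCharacter.isCharacter χ.2))
    rw [hm, ← classInner_conj_symm (fun t : T => (χ : G → ℂ) t), hk] at h1
    simpa using h1.symm
  have e := IsClassFunction.eq_sum (IsCharacter.isClassFunction hind)
  have hsum : ∑ χ : IrrCharacter G, m χ * v χ = charDegree (ψ : T → ℂ) := by
    have h1 := sum_embH_indFun hNT hb hT h
    rw [← charDegree_cast (IsIrrCharacter.isCharacter ψ.2)] at h1
    refine Nat.cast_inj.1 (h1 ▸ ?_ : ((∑ χ : IrrCharacter G, m χ * v χ : ℕ) : ℂ) = _)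
    rw [Nat.cast_sum, eq_comm]
    calc ∑ g : G, (embH N (blockIdem b)).coeff g * indFun T (ψ : T → ℂ) g
        = ∑ χ : IrrCharacter G, (m χ : ℂ) * ∑ g : G, (embH N (blockIdem b)).coeff g * (χ : G → ℂ) g := by
          simp only [Finset.mul_sum]
          rw [Finset.sum_comm]
          refine Finset.sum_congr rfl fun g _ => ?_
          have h2 := congrFun e g
          simp only [Finset.sum_apply, Pi.smul_apply, smul_eq_mul] at h2
          rw [h2, Finset.mul_sum]
          exact Finset.sum_congr rfl fun χ _ => by rw [hm]; ring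
      _ = _ := Finset.sum_congr rfl fun χ _ => by rw [Nat.cast_mul, hval]
  have hd := charDegree_pos ψ.2
  have hge : ∀ χ : IrrCharacter G, m χ * charDegree (ψ : T → ℂ) ≤ v χ := fun χ => by
    have := Finset.single_le_sum (f := fun σ : IrrCharacter T =>
      if Over hNT b σ then k χ σ * charDegree (σ : T → ℂ) else 0) (fun _ _ => Nat.zero_le _)
      (Finset.mem_univ ψ)
    rw [if_pos h, hkm] at this
    exact this
  obtain ⟨χ₀, -, hχ₀⟩ := Finset.exists_ne_zero_of_sum_ne_zero (hsum ▸ hd.ne')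
  have hm0 : m χ₀ ≠ 0 := left_ne_zero_of_mul hχ₀
  rw [← Finset.add_sum_erase _ _ (Finset.mem_univ χ₀)] at hsum
  have hm1 : m χ₀ = 1 := by
    have h1 := hge χ₀
    have h2 : m χ₀ * (m χ₀ * charDegree (ψ : T → ℂ)) ≤ charDegree (ψ : T → ℂ) :=
      (Nat.mul_le_mul_left _ h1).trans (by omega)
    rw [← mul_assoc] at h2
    have h3 : m χ₀ * m χ₀ ≤ 1 := Nat.le_of_mul_le_mul_right (by rwa [one_mul]) hd
    nlinarith [Nat.pos_of_ne_zero hm0]
  have hv0 : v χ₀ = charDegree (ψ : T → ℂ) := by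
    have h1 := hge χ₀
    rw [hm1, one_mul] at h1 hsum
    omega
  have hz : ∀ χ : IrrCharacter G, χ ≠ χ₀ → m χ = 0 := fun χ hne => by
    by_contra hm'
    have h1 : m χ * v χ = 0 := by
      have h2 : ∑ x ∈ Finset.univ.erase χ₀, m x * v x = 0 := by rw [hm1, one_mul, hv0] at hsum; omega
      exact Finset.sum_eq_zero_iff.1 h2 χ (Finset.mem_erase.2 ⟨hne, Finset.mem_univ _⟩)
    have h3 := hge χ
    rw [(Nat.mul_eq_zero.1 h1).resolve_left hm'] at h3
    exact hm' ((Nat.mul_eq_zero.1 (Nat.le_zero.1 h3)).resolve_right hd.ne')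
  have hind_eq : indFun T (ψ : T → ℂ) = (χ₀ : G → ℂ) := by
    rw [e, Finset.sum_eq_single χ₀ (fun χ _ hne => by rw [hm, hz χ hne, Nat.cast_zero, zero_smul])
      (fun h => absurd (Finset.mem_univ _) h), hm, hm1, Nat.cast_one, one_smul]
  refine ⟨by rw [hind_eq]; exact χ₀.2, fun σ hσ hne => ?_⟩
  by_contra hσψ
  rw [hind_eq, hk] at hne
  have h1 : (if Over hNT b σ then k χ₀ σ * charDegree (σ : T → ℂ) else 0) +
      (if Over hNT b ψ then k χ₀ ψ * charDegree (ψ : T → ℂ) else 0) ≤ v χ₀ := by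
    rw [← Finset.sum_pair hσψ (f := fun s => if Over hNT b s then k χ₀ s * charDegree (s : T → ℂ) else 0)]
    exact Finset.sum_le_sum_of_subset (Finset.subset_univ _)
  rw [if_pos hσ, if_pos h, hkm, hm1, one_mul, hv0] at h1
  have := charDegree_pos σ.2
  have h4 : k χ₀ σ ≠ 0 := fun h0 => hne (by rw [h0, Nat.cast_zero])
  nlinarith [Nat.pos_of_ne_zero h4]

omit hMp hN [Fintype N] in
/-- Central characters of induced characters. -/
theorem omega_indFun (χ : IrrCharacter G) (ψ : IrrCharacter T) (hχ : (χ : G → ℂ) = indFun T (ψ : T → ℂ))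
    {z : MonoidAlgebra ℂ G} (hz : IsCentralElt z) :
    omega (χ : G → ℂ) z = omega (ψ : T → ℂ) (resH T z) := by
  rw [omega_eq_sum, omega_eq_sum, hχ, indFun_one_apply]
  have h1 : ∑ g : G, z.coeff g * indFun T (ψ : T → ℂ) g =
      (T.index : ℂ) * ∑ t : T, (resH T z).coeff t * (ψ : T → ℂ) t := by
    simp only [indFun_apply, Finset.mul_sum, coeff_resH]
    rw [Finset.sum_comm]
    have e : ∀ x : G, ∑ g : G, z.coeff g * ((Nat.card T : ℂ)⁻¹ * extendByZero T (ψ : T → ℂ) (x⁻¹ * g * x)) =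
        (Nat.card T : ℂ)⁻¹ * ∑ t : T, z.coeff (t : G) * (ψ : T → ℂ) t := by
      intro x
      have e2 := sum_extendByZero_mul T (ψ : T → ℂ) (fun g => z.coeff g)
      rw [show ∑ t : T, z.coeff (t : G) * (ψ : T → ℂ) t = ∑ t : T, (ψ : T → ℂ) t * z.coeff (t : G) from
        Finset.sum_congr rfl fun t _ => mul_comm _ _, ← e2, Finset.mul_sum]
      refine Fintype.sum_equiv (MulAut.conj x⁻¹).toEquiv _ _ fun g => ?_
      have h3 : z.coeff (x⁻¹ * g * x) = z.coeff g := by
        have := hz g x⁻¹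
        simpa using this
      show _ = _ * (extendByZero T (ψ : T → ℂ) (x⁻¹ * g * x⁻¹⁻¹) * z.coeff (x⁻¹ * g * x⁻¹⁻¹))
      rw [inv_inv, h3]
      ring
    rw [Finset.sum_congr rfl fun x _ => e x, Finset.sum_const, Finset.card_univ, nsmul_eq_mul,
      ← Nat.card_eq_fintype_card, ← T.index_mul_card, Nat.cast_mul, ← mul_assoc, mul_assoc (T.index : ℂ),
      mul_inv_cancel₀ (Nat.cast_ne_zero.2 Nat.card_pos.ne'), mul_one, Finset.mul_sum]
  rw [h1, mul_div_mul_left _ _ (Nat.cast_ne_zero.2 Subgroup.index_ne_zero_of_finite)]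

end Cfsg.Agent.Block
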