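import Cfsg.Agent.Lib.Block.FongReynolds
import Cfsg.Agent.Lib.Block.DefectOne

/-!
# The Fong–Reynolds correspondence: blocks
-/

set_option autoImplicit false

open Cfsg.Agent.Char
open scoped ComplexConjugate Pointwise

namespace Cfsg.Agent.Block

universe u

variable {G : Type u} [Group G] [Fintype G] {M : Ideal AlgInt} [hMp : M.IsPrime] {p : ℕ}
  {N : Subgroup G} [hN : N.Normal] [Fintype N] {b : Set (IrrCharacter N)}
  {T : Subgroup G} [Fintype T]

omit hN [Fintype N] in
theorem mem_locRing_indFun {f : T → ℂ} (hf : IsClassFunction T f) (hfl : ∀ t, f t ∈ locRing M) (g : G) :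
    indFun T f g ∈ locRing M := by
  classical
  haveI := Fintype.ofFinite (G ⧸ T)
  set F : G → ℂ := fun x => extendByZero T f (x⁻¹ * g * x) with hF
  have hFt : ∀ (x : G) (t : T), F (x * t) = F x := by
    intro x t
    have e : (x * (t : G))⁻¹ * g * (x * t) = (t : G)⁻¹ * (x⁻¹ * g * x) * (t : G) := by group
    simp only [hF, e]
    by_cases h : x⁻¹ * g * x ∈ T
    · rw [extendByZero_of_mem T f h, extendByZero_of_mem T f (mul_mem (mul_mem (inv_mem t.2) h) t.2)]
      have h2 := hf ⟨x⁻¹ * g * x, h⟩ t⁻¹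
      rw [inv_inv] at h2
      exact Eq.trans (congrArg f (Subtype.ext rfl)) h2
    · rw [extendByZero_of_notMem T f h, extendByZero_of_notMem T f]
      intro h'
      exact h (by simpa [mul_assoc] using mul_mem (mul_mem t.2 h') (inv_mem t.2))
  have hsum : ∑ x : G, F x = (Nat.card T : ℂ) * ∑ q : G ⧸ T, F q.out := by
    rw [← Finset.sum_fiberwise (Finset.univ : Finset G) (fun x : G => (QuotientGroup.mk x : G ⧸ T)), Finset.mul_sum]
    refine Finset.sum_congr rfl fun q _ => ?_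
    have hc : ((Finset.univ : Finset G).filter fun x : G => (QuotientGroup.mk x : G ⧸ T) = q).card = Nat.card T := by
      rw [Nat.card_eq_fintype_card, ← Finset.card_univ]
      refine Finset.card_bij' (fun x hx => (⟨q.out⁻¹ * x, QuotientGroup.eq.1
          ((QuotientGroup.out_eq' q).trans (Finset.mem_filter.1 hx).2.symm)⟩ : T))
        (fun t _ => q.out * (t : G)) (fun _ _ => Finset.mem_univ _)
        (fun t _ => Finset.mem_filter.2 ⟨Finset.mem_univ _, ?_⟩) (fun x _ => by simp)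
        (fun t _ => Subtype.ext (by simp))
      exact Eq.trans (QuotientGroup.eq.2 (by simp)) (QuotientGroup.out_eq' q)
    rw [← hc, ← nsmul_eq_mul, ← Finset.sum_const]
    refine Finset.sum_congr rfl fun x hx => ?_
    have hx' : q.out⁻¹ * x ∈ T :=
      QuotientGroup.eq.1 ((QuotientGroup.out_eq' q).trans (Finset.mem_filter.1 hx).2.symm)
    have := hFt q.out ⟨q.out⁻¹ * x, hx'⟩
    simpa using this
  rw [indFun_apply, show (∑ x : G, extendByZero T f (x⁻¹ * g * x)) = ∑ x : G, F x from rfl,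
    hsum, ← mul_assoc, inv_mul_cancel₀ (Nat.cast_ne_zero.2 Nat.card_pos.ne'), one_mul]
  refine Subring.sum_mem _ fun q _ => ?_
  simp only [hF]
  by_cases h : q.out⁻¹ * g * q.out ∈ T
  · rw [extendByZero_of_mem T f h]; exact hfl _
  · rw [extendByZero_of_notMem T f h]; exact zero_mem _

variable (hNT : N ≤ T)

omit hN in
/-- A character over `b` makes all of its block lie over `b`. -/
theorem over_of_mem_block [hN : N.Normal] (hb : IsPBlock M b)
    (hfix : ∀ t ∈ T, conjBlk (mem_normalizer_of_normal (N := N) t) b = b) {B' : Set (IrrCharacter T)}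
    (hB' : IsPBlock M B') {ψ₀ ψ : IrrCharacter T} (h₀ : ψ₀ ∈ B') (h : Over hNT b ψ₀) (hψ : ψ ∈ B') :
    Over hNT b ψ := by
  by_contra hn
  have hcl := cl_bIdem (M := M) hb hfix
  have hc := omega_congr (isPBlock_sameBlock hB' h₀ hψ) hcl.1 hcl.2
  rw [omega_bIdem_of_over hNT hb hfix h, omega_bIdem_of_not_over hNT hn, sub_zero] at hc
  exact not_memLocalIdeal_one hc

include hNT in
theorem exists_constituent_of_over (hb : IsPBlock M b) (hT : IsBlockStab T b) {ψ : IrrCharacter T}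
    (h : Over hNT b ψ) {χ : IrrCharacter G} (hχ : (χ : G → ℂ) = indFun T (ψ : T → ℂ)) :
    ∃ θ ∈ b, classInner (fun n : N => (χ : G → ℂ) n) (θ : N → ℂ) ≠ 0 := by
  classical
  haveI := Fintype.ofFinite (IrrCharacter N)
  have h1 := sum_embH_indFun hNT hb hT h
  rw [← hχ, sum_subgroup_support, sum_blockIdem_mul] at h1
  by_contra! hno
  refine IsIrrCharacter.apply_one_ne_zero ψ.2 ?_
  rw [← h1]
  refine Finset.sum_eq_zero fun θ _ => ?_
  split
  next hθ => rw [hno θ hθ, mul_zero]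
  · rfl

/-- Every character over `b` is induced from the stabiliser. -/
theorem exists_over_indFun (hb : IsPBlock M b) (hT : IsBlockStab T b) {χ : IrrCharacter G}
    (h : ∃ θ ∈ b, classInner (fun n : N => (χ : G → ℂ) n) (θ : N → ℂ) ≠ 0) :
    ∃ ψ : IrrCharacter T, Over hNT b ψ ∧ (χ : G → ℂ) = indFun T (ψ : T → ℂ) := by
  classical
  haveI := Fintype.ofFinite (IrrCharacter T)
  haveI := Fintype.ofFinite (IrrCharacter N)
  obtain ⟨k, hk, hsum⟩ := exists_sum_embH_eq hNT hb (fun t ht => (hT t).1 ht) χ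
  obtain ⟨θ, hθ, hne⟩ := h
  have hresN : IsCharacter N (fun n : N => (χ : G → ℂ) n) :=
    IsCharacter.restrict (IsIrrCharacter.isCharacter χ.2) N
  choose m hm using fun φ : IrrCharacter N => exists_classInner_nat hresN φ.2
  rw [sum_subgroup_support, sum_blockIdem_mul] at hsum
  have h1 : (∑ φ : IrrCharacter N, if φ ∈ b then charDegree (φ : N → ℂ) * m φ else 0) =
      ∑ σ : IrrCharacter T, if Over hNT b σ then k σ * charDegree (σ : T → ℂ) else 0 := by
    refine Nat.cast_inj (R := ℂ).1 (Eq.trans ?_ hsum)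
    rw [Nat.cast_sum]
    refine Finset.sum_congr rfl fun φ _ => ?_
    split
    · rw [Nat.cast_mul, charDegree_cast (IsIrrCharacter.isCharacter φ.2), hm]
    · exact Nat.cast_zero
  have h2 : 0 < ∑ σ : IrrCharacter T, if Over hNT b σ then k σ * charDegree (σ : T → ℂ) else 0 := by
    rw [← h1]
    refine lt_of_lt_of_le ?_ (Finset.single_le_sum (fun _ _ => Nat.zero_le _) (Finset.mem_univ θ))
    rw [if_pos hθ]
    exact Nat.mul_pos (charDegree_pos θ.2) (Nat.pos_of_ne_zero fun h0 => hne (by rw [hm, h0, Nat.cast_zero]))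
  obtain ⟨σ, -, hσ⟩ := Finset.exists_ne_zero_of_sum_ne_zero h2.ne'
  have hσO : Over hNT b σ := by
    by_contra hn
    exact hσ (if_neg hn)
  rw [if_pos hσO] at hσ
  refine ⟨σ, hσO, ?_⟩
  obtain ⟨hirr, -⟩ := isIrr_indFun hNT hb hT hσO
  by_contra hne'
  have h3 := IsIrrCharacter.classInner_eq_zero hirr χ.2 (fun e => hne' e.symm)
  rw [classInner_indFun T (σ : T → ℂ) (IsCharacter.isClassFunction (IsIrrCharacter.isCharacter χ.2)),
    ← classInner_conj_symm (fun t : T => (χ : G → ℂ) t), hk] at h3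
  exact left_ne_zero_of_mul hσ (by simpa using h3)

/-- Induction from the stabiliser is injective on characters over `b`. -/
theorem over_indFun_injective (hb : IsPBlock M b) (hT : IsBlockStab T b) {ψ₁ ψ₂ : IrrCharacter T}
    (h₁ : Over hNT b ψ₁) (h₂ : Over hNT b ψ₂)
    (h : indFun T (ψ₁ : T → ℂ) = indFun T (ψ₂ : T → ℂ)) : ψ₁ = ψ₂ := by
  obtain ⟨hirr, huniq⟩ := isIrr_indFun hNT hb hT h₁
  refine (huniq ψ₂ h₂ ?_).symm
  have h3 := classInner_indFun T (ψ₂ : T → ℂ) (IsCharacter.isClassFunction (IsIrrCharacter.isCharacter hirr))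
  rw [← h, IsIrrCharacter.classInner_self hirr, ← classInner_conj_symm (fun t : T => indFun T (ψ₁ : T → ℂ) t)] at h3
  intro h4
  rw [h4, map_zero] at h3
  exact one_ne_zero h3

/-- The block of `G` corresponding to a block of the stabiliser over `b`. -/
theorem fongReynolds_block (hb : IsPBlock M b) (hT : IsBlockStab T b) {B' : Set (IrrCharacter T)}
    (hB' : IsPBlock M B') (hcov : ∃ ψ ∈ B', Over hNT b ψ) :
    ∃ B : Set (IrrCharacter G), IsInducedBlock M T B' B ∧
      (∃ χ ∈ B, ∃ θ ∈ b, classInner (fun n : N => (χ : G → ℂ) n) (θ : N → ℂ) ≠ 0) ∧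
      (∀ ψ ∈ B', IsIrrCharacter G (indFun T (ψ : T → ℂ))) ∧
      (∀ χ : IrrCharacter G, χ ∈ B ↔ ∃ ψ ∈ B', (χ : G → ℂ) = indFun T (ψ : T → ℂ)) ∧
      ∀ B₁ : Set (IrrCharacter G), IsInducedBlock M T B' B₁ → B₁ = B := by
  classical
  haveI := Fintype.ofFinite (IrrCharacter T)
  haveI := Fintype.ofFinite (IrrCharacter G)
  obtain ⟨ψ₀, hψ₀, h₀⟩ := hcov
  have hfix : ∀ t ∈ T, conjBlk (mem_normalizer_of_normal (N := N) t) b = b := fun t ht => (hT t).1 ht
  have hov : ∀ ψ ∈ B', Over hNT b ψ := fun ψ hψ => over_of_mem_block hNT hb hfix hB' hψ₀ h₀ hψ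
  have hirr : ∀ ψ ∈ B', IsIrrCharacter G (indFun T (ψ : T → ℂ)) := fun ψ hψ =>
    (isIrr_indFun hNT hb hT (hov ψ hψ)).1
  set χ₀ : IrrCharacter G := ⟨_, hirr ψ₀ hψ₀⟩ with hχ₀
  have hres : ∀ (ψ : IrrCharacter T) (χ : IrrCharacter G), ψ ∈ B' → (χ : G → ℂ) = indFun T (ψ : T → ℂ) →
      ∀ ξ ∈ B', ∀ g : G, MemLocalIdeal M (inducedCentralChar T (ξ : T → ℂ) g - centralChar (χ : G → ℂ) g) := by
    intro ψ χ hψ hχ ξ hξ g
    rw [inducedCentralChar_eq_omega, ← omega_classSum, omega_indFun χ ψ hχ (isCentralElt_classSum g)]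
    have hcl : CL M (resH T (classSum g)) := cl_resH ((CL.classSum (M := M) g).ps T)
    exact omega_congr (isPBlock_sameBlock hB' hξ hψ) hcl.1 hcl.2
  have hmemB : ∀ (ψ : IrrCharacter T) (χ : IrrCharacter G), ψ ∈ B' → (χ : G → ℂ) = indFun T (ψ : T → ℂ) →
      χ ∈ blockOf M (χ₀ : G → ℂ) := by
    intro ψ χ hψ hχ g
    have h1 := memLocalIdeal_sub (hres ψ χ hψ hχ ψ₀ hψ₀ g) (hres ψ₀ χ₀ hψ₀ rfl ψ₀ hψ₀ g)
    rw [sub_sub_sub_cancel_left] at h1
    exact h1
  set A : Set (IrrCharacter G) := {χ | ∃ ψ ∈ B', (χ : G → ℂ) = indFun T (ψ : T → ℂ)} with hA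
  have hAloc : IsLocElt M (blockIdem A) := by
    intro g
    have e : blockCoeff A g = indFun T (fun t => blockCoeff B' t) g := by
      rw [blockCoeff_eq_sum, indFun_apply, ← Finset.sum_filter]
      have hbij : ∑ χ ∈ Finset.univ.filter (fun χ : IrrCharacter G => χ ∈ A), (χ : G → ℂ) 1 * conj ((χ : G → ℂ) g) =
          ∑ ψ ∈ Finset.univ.filter (fun ψ : IrrCharacter T => ψ ∈ B'),
            indFun T (ψ : T → ℂ) 1 * conj (indFun T (ψ : T → ℂ) g) := by
        refine (Finset.sum_bij (fun ψ hψ => (⟨_, hirr ψ (Finset.mem_filter.1 hψ).2⟩ : IrrCharacter G))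
          (fun ψ hψ => Finset.mem_filter.2 ⟨Finset.mem_univ _, ψ, (Finset.mem_filter.1 hψ).2, rfl⟩)
          (fun ψ₁ h₁ ψ₂ h₂ e => over_indFun_injective hNT hb hT (hov _ (Finset.mem_filter.1 h₁).2)
            (hov _ (Finset.mem_filter.1 h₂).2) (congrArg Subtype.val e))
          (fun χ hχ => ?_) (fun _ _ => rfl)).symm
        obtain ⟨ψ, hψ, e⟩ := (Finset.mem_filter.1 hχ).2
        exact ⟨ψ, Finset.mem_filter.2 ⟨Finset.mem_univ _, hψ⟩, Subtype.ext e.symm⟩
      rw [hbij, Finset.mul_sum]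
      calc ∑ ψ ∈ Finset.univ.filter (fun ψ : IrrCharacter T => ψ ∈ B'),
            (Nat.card G : ℂ)⁻¹ * (indFun T (ψ : T → ℂ) 1 * conj (indFun T (ψ : T → ℂ) g))
          = ∑ ψ ∈ Finset.univ.filter (fun ψ : IrrCharacter T => ψ ∈ B'), ∑ x : G,
              (Nat.card T : ℂ)⁻¹ * ((Nat.card T : ℂ)⁻¹ * ((ψ : T → ℂ) 1 *
                conj (extendByZero T (ψ : T → ℂ) (x⁻¹ * g * x)))) := by
            refine Finset.sum_congr rfl fun ψ _ => ?_
            rw [indFun_one_apply, indFun_apply, map_mul, map_sum]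
            simp only [Finset.mul_sum, map_mul, map_inv₀, map_natCast]
            refine Finset.sum_congr rfl fun x _ => ?_
            rw [← T.index_mul_card, Nat.cast_mul, mul_inv]
            field_simp [(Nat.cast_ne_zero.2 Subgroup.index_ne_zero_of_finite : (T.index : ℂ) ≠ 0)]
        _ = _ := by
            rw [Finset.sum_comm, Finset.mul_sum]
            refine Finset.sum_congr rfl fun x _ => ?_
            by_cases hx : x⁻¹ * g * x ∈ T
            · rw [extendByZero_of_mem T _ hx, blockCoeff_eq_sum, ← Finset.sum_filter, ← Finset.mul_sum,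
                ← Finset.mul_sum]
              congr 2
              exact Finset.sum_congr rfl fun ψ _ => by rw [extendByZero_of_mem T _ hx]
            · rw [extendByZero_of_notMem T _ hx, mul_zero]
              refine Finset.sum_eq_zero fun ψ _ => ?_
              rw [extendByZero_of_notMem T _ hx, map_zero, mul_zero, mul_zero, mul_zero]
    simp only [blockIdem, coeff_mkA, e]
    exact mem_locRing_indFun
      (fun x y => by simpa [blockIdem] using isCentralElt_blockIdem B' x y)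
      (fun t => blockCoeff_mem_locRing hB' t) g
  have hBA : blockOf M (χ₀ : G → ℂ) = A := by
    refine Set.ext fun χ => ⟨fun h => ?_, fun ⟨ψ, hψ, e⟩ => hmemB ψ χ hψ e⟩
    exact mem_of_sameBlock_of_isLocElt hAloc (χ := χ₀) ⟨ψ₀, hψ₀, rfl⟩ h
  have hind : IsInducedBlock M T B' (blockOf M (χ₀ : G → ℂ)) := by
    refine ⟨hB', isPBlock_blockOf χ₀, fun ξ hξ χ hχ => ?_⟩
    rw [hBA] at hχ
    obtain ⟨ψ, hψ, e⟩ := hχ
    exact hres ψ χ hψ e ξ hξ
  refine ⟨blockOf M (χ₀ : G → ℂ), hind, ⟨χ₀, self_mem_blockOf χ₀,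
    exists_constituent_of_over hNT hb hT h₀ rfl⟩, hirr, fun χ => by rw [hBA]; rfl, fun B₁ h₁ => ?_⟩
  obtain ⟨χ₁, hχ₁⟩ := isPBlock_nonempty h₁.2.1
  refine isPBlock_eq_of_mem h₁.2.1 hind.2.1 hχ₁ (show χ₁ ∈ blockOf M (χ₀ : G → ℂ) from fun g => ?_)
  have h2 := memLocalIdeal_sub (h₁.2.2 ψ₀ hψ₀ χ₁ hχ₁ g) (hres ψ₀ χ₀ hψ₀ rfl ψ₀ hψ₀ g)
  rw [sub_sub_sub_cancel_left] at h2
  exact h2

omit hMp hN [Fintype N] [Fintype G] in
/-- A defect group of a block lies in one of the induced block. -/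
theorem defectGroup_le_of_induced [Finite G] (hM : IsPModular p M) {H : Subgroup G} {c : Set (IrrCharacter H)}
    {B : Set (IrrCharacter G)} (hind : IsInducedBlock M H c B) {D : Subgroup H}
    (hD : IsDefectGroup p M c D) {E : Subgroup G} (hE : IsDefectGroup p M B E) :
    ∃ x : G, (D.map H.subtype).map (MulAut.conj x).toMonoidHom ≤ E := by
  haveI := prime_of_isPModular hM
  haveI := Fact.mk hM.1
  haveI := Fintype.ofFinite (ConjClasses H)
  obtain ⟨g, hg, S, rfl⟩ := hE
  obtain ⟨ξ, hξ⟩ := isPBlock_nonempty hind.1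
  obtain ⟨χ, hχ⟩ := isPBlock_nonempty hind.2.1
  have hunit : ¬ MemLocalIdeal M (inducedCentralChar H (ξ : H → ℂ) g) := fun h => hg.2.2 χ hχ <| by
    have := memLocalIdeal_sub h (hind.2.2 ξ hξ χ hχ g)
    rwa [sub_sub_cancel] at this
  rw [inducedCentralChar_eq_omega, omega_eq_sum_classes ξ (isCentralElt_resH H (isCentralElt_classSum g))] at hunit
  obtain ⟨C, hC, hCu⟩ : ∃ C : ConjClasses H, IsConj g ((classRep C : H) : G) ∧
      ¬ MemLocalIdeal M (centralChar (ξ : H → ℂ) (classRep C)) := by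
    by_contra hno
    push Not at hno
    refine hunit (memLocalIdeal_sum _ _ fun C _ => ?_)
    rw [coeff_resH, classSum, coeff_mkA]
    by_cases h : IsConj g ((classRep C : H) : G)
    · rw [if_pos h, one_mul]; exact hno C h
    · rw [if_neg h, zero_mul]; exact memLocalIdeal_zero
  obtain ⟨S'⟩ : Nonempty (Sylow p (Subgroup.centralizer ({classRep C} : Set H))) := inferInstance
  obtain ⟨y, hy⟩ := exists_conj_le_of_centralChar_unit hM hind.1 hD ⟨ξ, hξ, hCu⟩ S'
  have hle : (sylowImage S').map H.subtype ≤ Subgroup.centralizer ({((classRep C : H) : G)} : Set G) := by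
    rintro _ ⟨z, hz, rfl⟩
    exact mem_centralizer_singleton.2 ((mem_centralizer_singleton.1 (sylowImage_le S' hz)).map H.subtype)
  obtain ⟨x, hx⟩ := defectLE_of_isConj hC (defectLE_sylowImage S) _ ((isPGroup_sylowImage S').map _) hle
  refine ⟨x * (y : G), ?_⟩
  rw [map_conj_mul]
  refine le_trans (Subgroup.map_mono ?_) hx
  rw [Subgroup.map_map]
  refine le_trans (le_of_eq ?_) (Subgroup.map_mono (f := H.subtype) hy)
  rw [Subgroup.map_map]
  congr 1

end Cfsg.Agent.Block

namespace Cfsg.Agent.Block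

universe v

variable {G : Type v} [Group G] [Fintype G] {M : Ideal AlgInt} [hMp : M.IsPrime] {p : ℕ}
  {N : Subgroup G} [hN : N.Normal] [Fintype N] {b : Set (IrrCharacter N)} {T : Subgroup G}

theorem isBlockStab_of_forall (hb : IsPBlock M b)
    (hT : ∀ g : G, g ∈ T ↔ ∀ θ ∈ b, ∀ θ' : IrrCharacter N,
      (∀ n : N, (θ' : N → ℂ) n = (θ : N → ℂ) ⟨g * n * g⁻¹, hN.conj_mem n n.2 g⟩) → θ' ∈ b) :
    IsBlockStab T b := by
  intro g
  constructor
  · intro hg
    have h := conjBlk_eq_of_forall hb ((hT g⁻¹).1 (inv_mem hg))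
    have e : ∀ (x y : G), x = y → conjBlk (mem_normalizer_of_normal (N := N) x) b =
        conjBlk (mem_normalizer_of_normal (N := N) y) b := by
      intro x y e; subst e; rfl
    rwa [e g⁻¹⁻¹ g (inv_inv g)] at h
  · intro h
    rw [← inv_mem_iff (H := T)]
    refine (hT g⁻¹).2 fun θ hθ θ' hθ' => ?_
    have e : θ' = conjIrr (mem_normalizer_of_normal (N := N) g) θ := by
      refine Subtype.ext (funext fun n => ?_)
      rw [hθ', conjIrr_apply]
      exact congrArg (θ : N → ℂ) (Subtype.ext (by simp))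
    rw [e, ← h]
    exact (mem_conjBlk_iff _ b θ).2 hθ

end Cfsg.Agent.Block
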