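import Cfsg.Agent.Lib.Block.BrauerFeit
import Cfsg.Agent.Lib.Block.Height
import Mathlib.GroupTheory.ClassEquation

/-!
# Landau's theorem and groups with a single block
-/

set_option autoImplicit false

open Cfsg Cfsg.Agent.Char

namespace Cfsg.Agent.Block

/-- Finitely many ways to write a rational number as a sum of a given number of unit fractions. -/
theorem exists_bound_unitFractions : ∀ (k : ℕ) (r : ℚ),
    ∃ N : ℕ, ∀ f : Fin k → ℕ, (∀ i, 0 < f i) → ∑ i, (1 : ℚ) / f i = r → ∀ i, f i ≤ N := by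
  intro k
  induction k with
  | zero => exact fun _ => ⟨0, fun f _ _ i => i.elim0⟩
  | succ k ih =>
    intro r
    choose N hN using ih
    refine ⟨⌈((k : ℚ) + 1) / r⌉₊ +
      ∑ j ∈ Finset.range (⌈((k : ℚ) + 1) / r⌉₊ + 1), N (r - 1 / j), fun f hf hsum i => ?_⟩
    obtain ⟨i₀, -, hmin⟩ := Finset.exists_min_image Finset.univ f ⟨i, Finset.mem_univ i⟩
    have hf0 : (0 : ℚ) < f i₀ := Nat.cast_pos.2 (hf i₀)
    have hr0 : 0 < r := hsum ▸ Finset.sum_pos (fun j _ => div_pos one_pos (Nat.cast_pos.2 (hf j)))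
      ⟨i, Finset.mem_univ i⟩
    have hle : r ≤ ((k : ℚ) + 1) * (1 / f i₀) := by
      rw [← hsum]
      refine (Finset.sum_le_card_nsmul _ _ ((1 : ℚ) / f i₀) fun j _ =>
        one_div_le_one_div_of_le hf0 (Nat.cast_le.2 (hmin j (Finset.mem_univ j)))).trans_eq ?_
      simp
    have hB : f i₀ ≤ ⌈((k : ℚ) + 1) / r⌉₊ := by
      have h1 : (f i₀ : ℚ) ≤ ((k : ℚ) + 1) / r := by
        rw [le_div_iff₀ hr0]
        rw [← mul_div_assoc, mul_one, le_div_iff₀ hf0] at hle
        linarith [mul_comm (f i₀ : ℚ) r]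
      exact_mod_cast h1.trans (Nat.le_ceil _)
    rcases eq_or_ne i i₀ with rfl | hne
    · omega
    obtain ⟨j, rfl⟩ := Fin.exists_succAbove_eq hne
    have h2 := hN (r - 1 / f i₀) (fun l => f (i₀.succAbove l)) (fun l => hf _) (by
      rw [← hsum, Fin.sum_univ_succAbove _ i₀]; ring) j
    have h3 : N (r - 1 / (f i₀ : ℚ)) ≤
        ∑ j ∈ Finset.range (⌈((k : ℚ) + 1) / r⌉₊ + 1), N (r - 1 / j) :=
      Finset.single_le_sum (f := fun j : ℕ => N (r - 1 / j)) (fun _ _ => Nat.zero_le _)
        (Finset.mem_range.2 (Nat.lt_succ_of_le hB))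
    exact le_add_left (h2.trans h3)

universe u

/-- Landau: the order is bounded in terms of the class number. -/
theorem exists_bound_of_classNumber (k : ℕ) : ∃ N : ℕ, ∀ (G : Type u) [Group G] [Finite G],
    Nat.card (ConjClasses G) ≤ k → Nat.card G ≤ N := by
  choose N hN using fun j => exists_bound_unitFractions j 1
  refine ⟨∑ j ∈ Finset.range (k + 1), N j, fun G _ _ hk => ?_⟩
  classical
  haveI := Fintype.ofFinite G
  haveI := Fintype.ofFinite (ConjClasses G)
  have hG : (Nat.card G : ℚ) ≠ 0 := Nat.cast_ne_zero.2 Nat.card_pos.ne'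
  set e := (Fintype.equivFin (ConjClasses G)).symm
  have hidx : ∀ C : ConjClasses G,
      ((Subgroup.centralizer ({classRep C} : Set G)).index : ℚ) = (Nat.card C.carrier : ℚ) := by
    intro C
    rw [← card_isConj_eq_index]
    congr 1
    exact Nat.card_congr (Equiv.subtypeEquivRight fun z => by
      rw [ConjClasses.mem_carrier_iff_mk_eq]
      conv_rhs => rw [← mk_classRep C, ConjClasses.mk_eq_mk_iff_isConj]
      exact ⟨IsConj.symm, IsConj.symm⟩)
  have hsum : ∑ C : ConjClasses G,
      (1 : ℚ) / (Nat.card (Subgroup.centralizer ({classRep C} : Set G)) : ℚ) = 1 := by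
    have h := Group.sum_card_conj_classes_eq_card G
    rw [finsum_eq_sum_of_fintype] at h
    have e : ∀ C : ConjClasses G, (1 : ℚ) / (Nat.card (Subgroup.centralizer ({classRep C} : Set G)) : ℚ) =
        (C.carrier.ncard : ℚ) / (Nat.card G : ℚ) := fun C => by
      rw [← Nat.card_coe_set_eq, ← hidx C, ← Subgroup.index_mul_card (Subgroup.centralizer ({classRep C} : Set G)),
        Nat.cast_mul, div_mul_eq_div_div, div_self (Nat.cast_ne_zero.2 Subgroup.index_ne_zero_of_finite)]
    rw [Finset.sum_congr rfl fun C _ => e C, ← Finset.sum_div, ← Nat.cast_sum, h, div_self hG]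
  have h1 := hN (Fintype.card (ConjClasses G))
    (fun i => Nat.card (Subgroup.centralizer ({classRep (e i)} : Set G))) (fun i => Nat.card_pos)
    ((e.sum_comp fun C => (1 : ℚ) / (Nat.card (Subgroup.centralizer ({classRep C} : Set G)) : ℚ)).trans hsum)
    (e.symm (ConjClasses.mk 1))
  simp only [Equiv.apply_symm_apply] at h1
  have hone : classRep (ConjClasses.mk (1 : G)) = 1 := by
    have := ConjClasses.mk_eq_mk_iff_isConj.1 (mk_classRep (ConjClasses.mk (1 : G)))
    exact isConj_one_left.1 this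
  rw [hone, show Subgroup.centralizer ({1} : Set G) = ⊤ from eq_top_iff.2 fun x _ =>
    mem_centralizer_singleton.2 (Commute.one_left x), Subgroup.card_top] at h1
  refine h1.trans (Finset.single_le_sum (fun _ _ => Nat.zero_le _) (Finset.mem_range.2 ?_))
  rw [← Nat.card_eq_fintype_card]; omega

/-- Groups with a single `p`-block have order bounded by the order of a Sylow subgroup. -/
theorem exists_bound_of_single_block (p : ℕ) [Fact p.Prime] (a : ℕ) :
    ∃ N : ℕ, ∀ (G : Type u) [Group G] [Finite G] (M : Ideal AlgInt), IsPModular p M →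
      (Nat.card G).factorization p = a →
      (∀ B : Set (IrrCharacter G), IsPBlock M B → B = principalBlock M G) → Nat.card G ≤ N := by
  obtain ⟨N, hN⟩ := exists_bound_of_classNumber.{u} (p ^ (2 * a) + 4)
  refine ⟨N, fun G _ _ M hM ha hone => hN G ?_⟩
  haveI := prime_of_isPModular hM
  set B := principalBlock M G
  have hBu : B = Set.univ := Set.eq_univ_of_forall fun χ =>
    hone _ (isPBlock_blockOf χ) ▸ self_mem_blockOf χ
  have hB : IsPBlock M B := ⟨⟨_, isIrrCharacter_one⟩, rfl⟩
  have hd : blockDefect p B ≤ a := by rw [blockDefect_eq]; omega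
  have h := brauer_feit hM hB
  rw [hBu] at h hd
  rw [Nat.card_coe_set_eq, Set.ncard_univ, card_irrCharacter] at h
  have := Nat.pow_le_pow_right (Fact.out : p.Prime).pos (Nat.mul_le_mul_left 2 hd)
  omega

end Cfsg.Agent.Block
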