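import Cfsg.Agent.Lib.Block.DefectDeficiency
import Cfsg.Agent.Lib.Block.Landau
import Cfsg.Agent.Lib.Block.CentralQuotientBlock
import Cfsg.Agent.Lib.Char.Blichfeldt
import Cfsg.Agent.Lib.Char.Central
import Mathlib.Analysis.Normed.Module.FiniteDimension

/-!
# Groups with a four-group all of whose involutions have small centralizers

If `x`, `y`, `x * y` are commuting involutions with centralizers of order at most `C` then the
order of the group is bounded in terms of `C`. The proof uses the class algebra formula for the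
three involutions and Jordan's theorem for the characters of small degree.
-/

set_option autoImplicit false
set_option linter.style.haveILetI false

open Cfsg Cfsg.Agent.Char
open scoped ComplexConjugate

namespace Cfsg.Agent.Block

universe u

/-- A count by fibres. -/
theorem card_le_mul_of_fibre {α β γ : Type*} [Finite β] [Finite γ] (f : α → β) (g : α → α → γ)
    (h : ∀ a₀ a b, f a = f a₀ → f b = f a₀ → g a₀ a = g a₀ b → a = b) :
    Nat.card α ≤ Nat.card β * Nat.card γ := by
  classical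
  rcases isEmpty_or_nonempty α with hα | hα
  · simp
  let rep : β → α := Function.invFun f
  have hrep : ∀ a, f (rep (f a)) = f a := fun a => Function.invFun_eq ⟨a, rfl⟩
  have hinj : Function.Injective fun a => (f a, g (rep (f a)) a) := by
    intro a b e
    simp only [Prod.mk.injEq] at e
    refine h (rep (f a)) a b (hrep a).symm (e.1.symm.trans (hrep a).symm) ?_
    rw [e.2, e.1]
  have := Nat.card_le_card_of_injective _ hinj
  rwa [Nat.card_prod] at this

/-- Non-explicit form of Jordan's theorem. -/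
theorem exists_jordan_bound (n : ℕ) : ∃ N : ℕ, ∀ (G : Type u) [Group G] [Finite G]
    (U : G →* Matrix (Fin n) (Fin n) ℂ), (∀ g, U g = 1 → g = 1) →
      ∃ A : Subgroup G, A.Normal ∧ (∀ a ∈ A, ∀ b ∈ A, a * b = b * a) ∧ A.index ≤ N := by
  classical
  open scoped Matrix.Norms.L2Operator in
  haveI : ProperSpace (Matrix (Fin n) (Fin n) ℂ) := FiniteDimensional.proper ℂ _
  open scoped Matrix.Norms.L2Operator in
  obtain ⟨t, -, htf, ht⟩ := finite_cover_balls_of_compact
    (isCompact_closedBall (0 : Matrix (Fin n) (Fin n) ℂ) 1) (show (0 : ℝ) < 1 / 8 by norm_num)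
  haveI := htf.to_subtype
  refine ⟨Nat.card t, fun G _ _ U₀ hinj₀ => ?_⟩
  obtain ⟨U, hU, hker⟩ := Blichfeldt.exists_unitary U₀
  have hinj : ∀ g, U g = 1 → g = 1 := fun g hg => hinj₀ g (hker g hg)
  obtain ⟨A, hAn, hAc, hA⟩ := Blichfeldt.exists_small_subgroup U hU hinj
  refine ⟨A, hAn, hAc, ?_⟩
  open scoped Matrix.Norms.L2Operator in
  have hone : ‖(1 : Matrix (Fin n) (Fin n) ℂ)‖ ≤ 1 := by
    rcases subsingleton_or_nontrivial (Matrix (Fin n) (Fin n) ℂ) with h | h
    · simp [Subsingleton.elim (1 : Matrix (Fin n) (Fin n) ℂ) 0]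
    · rw [CStarRing.norm_one]
  open scoped Matrix.Norms.L2Operator in
  have hmem : ∀ g : G, ∃ c : t, dist (U g) (c : Matrix (Fin n) (Fin n) ℂ) < 1 / 8 := by
    intro g
    have h1 : U g ∈ Metric.closedBall (0 : Matrix (Fin n) (Fin n) ℂ) 1 := by
      rw [mem_closedBall_zero_iff, ← mul_one (U g), Blichfeldt.norm_mul_left' U hU]
      exact hone
    obtain ⟨c, hc, hd⟩ := Set.mem_iUnion₂.1 (ht h1)
    exact ⟨⟨c, hc⟩, Metric.mem_ball.1 hd⟩
  choose c hc using hmem
  rw [Subgroup.index]
  refine Nat.card_le_card_of_injective (fun q : G ⧸ A => c q.out) fun q q' e => ?_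
  replace e : c q.out = c q'.out := e
  rw [← QuotientGroup.out_eq' q, ← QuotientGroup.out_eq' q']
  refine QuotientGroup.eq.2 (hA _ ?_)
  open scoped Matrix.Norms.L2Operator in
  have h1 : ‖U (q.out⁻¹ * q'.out) - 1‖ < 1 / 4 := by
    have e2 : U (q.out⁻¹ * q'.out) - 1 = U q.out⁻¹ * (U q'.out - U q.out) := by
      rw [mul_sub, ← map_mul, ← map_mul, inv_mul_cancel, map_one]
    rw [e2, Blichfeldt.norm_mul_left' U hU, ← dist_eq_norm]
    have h2 := hc q.out
    have h3 := hc q'.out
    rw [e] at h2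
    have h4 := dist_triangle_right (U q'.out) (U q.out) (c q'.out : Matrix (Fin n) (Fin n) ℂ)
    linarith
  open scoped Matrix.Norms.L2Operator in
  have h3 : ‖(1 - Blichfeldt.lam) • (1 : Matrix (Fin n) (Fin n) ℂ)‖ ≤ 1 / 4 := by
    rw [norm_smul]
    have h31 : 3 / 2 ≤ Real.sqrt 3 := Real.le_sqrt_of_sq_le (by norm_num)
    have h32 : Real.sqrt 3 ≤ 2 := by rw [Real.sqrt_le_iff]; norm_num
    have h33 : ‖1 - Blichfeldt.lam‖ ≤ 1 / 4 := by
      rw [Blichfeldt.lam, ← Complex.ofReal_one, ← Complex.ofReal_sub, Complex.norm_real,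
        Real.norm_eq_abs, abs_le]
      constructor <;> linarith
    calc ‖1 - Blichfeldt.lam‖ * ‖(1 : Matrix (Fin n) (Fin n) ℂ)‖ ≤ 1 / 4 * 1 :=
          mul_le_mul h33 hone (norm_nonneg _) (by norm_num)
      _ = 1 / 4 := by norm_num
  open scoped Matrix.Norms.L2Operator in
  calc ‖U (q.out⁻¹ * q'.out) - Blichfeldt.lam • 1‖
      = ‖(U (q.out⁻¹ * q'.out) - 1) + (1 - Blichfeldt.lam) • 1‖ := by
        rw [sub_smul, one_smul, sub_add_sub_cancel]
    _ ≤ _ := norm_add_le _ _
    _ < 1 / 2 := by linarith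

variable {G : Type u} [Group G] [Finite G]

/-- Centralizers do not grow in a quotient. -/
theorem card_centralizer_mk_le (K : Subgroup G) [K.Normal] (x : G) :
    Nat.card (Subgroup.centralizer ({(x : G ⧸ K)} : Set (G ⧸ K))) ≤
      Nat.card (Subgroup.centralizer ({x} : Set G)) := by
  classical
  set H := (Subgroup.centralizer ({(x : G ⧸ K)} : Set (G ⧸ K))).comap (QuotientGroup.mk' K) with hH
  have hHK : K ≤ H := fun k hk => by
    rw [hH, Subgroup.mem_comap, QuotientGroup.mk'_apply, (QuotientGroup.eq_one_iff k).2 hk]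
    exact one_mem _
  have hcard : Nat.card H = Nat.card K *
      Nat.card (Subgroup.centralizer ({(x : G ⧸ K)} : Set (G ⧸ K))) := by
    have h1 := H.card_mul_index
    have h2 := K.card_mul_index
    have h3 := (Subgroup.centralizer ({(x : G ⧸ K)} : Set (G ⧸ K))).card_mul_index
    have h4 : H.index = (Subgroup.centralizer ({(x : G ⧸ K)} : Set (G ⧸ K))).index :=
      Subgroup.index_comap_of_surjective _ (QuotientGroup.mk'_surjective K)
    rw [← K.index_eq_card] at h3
    have h5 : Nat.card H * H.index = Nat.card K *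
        Nat.card (Subgroup.centralizer ({(x : G ⧸ K)} : Set (G ⧸ K))) * H.index := by
      rw [h1, ← h2, ← h3, h4, mul_assoc]
    exact Nat.eq_of_mul_eq_mul_right (Nat.pos_of_ne_zero Subgroup.index_ne_zero_of_finite) h5
  have hfib : Nat.card H ≤ Nat.card K * Nat.card (Subgroup.centralizer ({x} : Set G)) := by
    refine card_le_mul_of_fibre
      (f := fun h : H => (⟨(h : G) * x * (h : G)⁻¹ * x⁻¹, (QuotientGroup.eq_one_iff _).1 (by
        have h1 : (((h : G) : G ⧸ K)) * (x : G ⧸ K) = (x : G ⧸ K) * ((h : G) : G ⧸ K) :=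
          (Subgroup.mem_centralizer_singleton_iff.1 (show ((h : G) : G ⧸ K) ∈ _ from h.2))
        rw [QuotientGroup.mk_mul, QuotientGroup.mk_mul, QuotientGroup.mk_mul, h1,
          QuotientGroup.mk_inv, QuotientGroup.mk_inv, mul_inv_cancel_right, mul_inv_cancel])⟩ : K))
      (g := fun h₀ h => if hh : ((h₀ : G))⁻¹ * h ∈ Subgroup.centralizer ({x} : Set G) then
        (⟨_, hh⟩ : Subgroup.centralizer ({x} : Set G)) else 1) ?_
    intro h₀ a b ha hb hg
    have hz : ∀ c : H, (c : G) * x * (c : G)⁻¹ * x⁻¹ = (h₀ : G) * x * (h₀ : G)⁻¹ * x⁻¹ →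
        (h₀ : G)⁻¹ * c ∈ Subgroup.centralizer ({x} : Set G) := fun c hc => by
      rw [Subgroup.mem_centralizer_singleton_iff]
      have h1 : (c : G) * x * (c : G)⁻¹ = (h₀ : G) * x * (h₀ : G)⁻¹ := mul_right_cancel hc
      calc (h₀ : G)⁻¹ * c * x = (h₀ : G)⁻¹ * ((c : G) * x * (c : G)⁻¹) * c := by group
        _ = x * ((h₀ : G)⁻¹ * c) := by rw [h1]; group
    simp only [dif_pos (hz a (congrArg Subtype.val ha)), dif_pos (hz b (congrArg Subtype.val hb)),
      Subtype.mk.injEq] at hg
    exact Subtype.ext (mul_left_cancel hg)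
  rw [hcard] at hfib
  exact Nat.le_of_mul_le_mul_left hfib Nat.card_pos

/-- An abelian normal subgroup is bounded by the centralizers of a four-group. -/
theorem card_abelian_le {C : ℕ} (A : Subgroup G) [A.Normal]
    (hA : ∀ a ∈ A, ∀ b ∈ A, a * b = b * a) {x y : G} (hx : x * x = 1) (hy : y * y = 1)
    (hCx : Nat.card (Subgroup.centralizer ({x} : Set G)) ≤ C)
    (hCy : Nat.card (Subgroup.centralizer ({y} : Set G)) ≤ C)
    (hCz : Nat.card (Subgroup.centralizer ({x * y} : Set G)) ≤ C) :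
    Nat.card A ≤ C * C * C := by
  classical
  have hmem : ∀ w : G, w * w = 1 → ∀ a : A,
      (a : G) * (w * a * w) ∈ Subgroup.centralizer ({w} : Set G) := by
    intro w hw a
    rw [Subgroup.mem_centralizer_singleton_iff]
    have hwi : w⁻¹ = w := inv_eq_of_mul_eq_one_left hw
    have hwa : w * a * w ∈ A := by
      have := Subgroup.Normal.conj_mem ‹A.Normal› (a : G) a.2 w
      rwa [hwi] at this
    calc (a : G) * (w * a * w) * w = (a : G) * w * a * (w * w) := by group
      _ = (w * w) * a * w * a := by rw [hw, mul_one, one_mul]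
      _ = w * ((w * a * w) * a) := by group
      _ = w * (a * (w * a * w)) := by rw [hA _ hwa _ a.2]
  refine le_trans (card_le_mul_of_fibre
    (f := fun a : A => ((⟨_, hmem x hx a⟩ : Subgroup.centralizer ({x} : Set G)),
      (⟨_, hmem y hy a⟩ : Subgroup.centralizer ({y} : Set G))))
    (g := fun a₀ a => if h : (a₀ : G)⁻¹ * a ∈ Subgroup.centralizer ({x * y} : Set G) then
        (⟨_, h⟩ : Subgroup.centralizer ({x * y} : Set G)) else 1) ?_) ?_
  · intro a₀ a b ha hb hg
    have hz : ∀ c : A, (c : G) * (x * c * x) = (a₀ : G) * (x * a₀ * x) →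
        (c : G) * (y * c * y) = (a₀ : G) * (y * a₀ * y) →
        (a₀ : G)⁻¹ * c ∈ Subgroup.centralizer ({x * y} : Set G) := fun c h1 h2 => by
      set d : G := (a₀ : G)⁻¹ * c with hd
      have hdA : d ∈ A := A.mul_mem (A.inv_mem a₀.2) c.2
      have hinv : ∀ w : G, w * w = 1 → (c : G) * (w * c * w) = (a₀ : G) * (w * a₀ * w) →
          w * d * w = d⁻¹ := by
        intro w hw hh
        have hwi : w⁻¹ = w := inv_eq_of_mul_eq_one_left hw
        have hwA : ∀ e ∈ A, w * e * w ∈ A := fun e he => by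
          have := Subgroup.Normal.conj_mem ‹A.Normal› e he w
          rwa [hwi] at this
        have h3 : w * a₀ * w * (w * d * w) = w * c * w := by
          calc w * a₀ * w * (w * d * w) = w * a₀ * (w * w) * d * w := by group
            _ = w * c * w := by rw [hw, mul_one, hd]; group
        refine eq_inv_of_mul_eq_one_right ?_
        have h4 : (a₀ : G) * (w * a₀ * w) * (d * (w * d * w)) = (a₀ : G) * (w * a₀ * w) := by
          calc (a₀ : G) * (w * a₀ * w) * (d * (w * d * w))
              = (a₀ : G) * ((w * a₀ * w) * d) * (w * d * w) := by group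
            _ = (a₀ : G) * (d * (w * a₀ * w)) * (w * d * w) := by
                rw [hA _ (hwA _ a₀.2) _ hdA]
            _ = ((a₀ : G) * d) * ((w * a₀ * w) * (w * d * w)) := by group
            _ = (c : G) * (w * c * w) := by rw [h3, hd, mul_inv_cancel_left]
            _ = _ := hh
        exact mul_eq_left.1 h4
      rw [Subgroup.mem_centralizer_singleton_iff]
      have hxi := hinv x hx h1
      have hyi := hinv y hy h2
      have e1 : x * d⁻¹ * x = d := by
        rw [← hxi]
        calc x * (x * d * x) * x = (x * x) * d * (x * x) := by group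
          _ = d := by rw [hx, one_mul, mul_one]
      have e2 : d⁻¹ * y = y * d := by
        rw [← hyi, mul_assoc (y * d), hy, mul_one]
      have e3 : d * x = x * d⁻¹ := by
        rw [← hxi]
        calc d * x = (x * x) * d * x := by rw [hx, one_mul]
          _ = x * (x * d * x) := by group
      calc d * (x * y) = d * x * y := by group
        _ = x * (d⁻¹ * y) := by rw [e3]; group
        _ = x * y * d := by rw [e2]; group
    simp only [Prod.mk.injEq, Subtype.mk.injEq] at ha hb
    simp only [dif_pos (hz a ha.1 ha.2), dif_pos (hz b hb.1 hb.2), Subtype.mk.injEq] at hg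
    exact Subtype.ext (mul_left_cancel hg)
  · rw [Nat.card_prod]
    exact Nat.mul_le_mul (Nat.mul_le_mul hCx hCy) hCz

/-- Character values at elements of order dividing two are integers. -/
theorem exists_int_value (χ : IrrCharacter G) {x : G} (hx : x * x = 1) :
    ∃ m : ℤ, (χ : G → ℂ) x = m := by
  obtain ⟨n, ρ, -, hρ⟩ := χ.2
  have key : ∀ t : Multiset ℂ, (∀ r ∈ t, r ^ 2 = 1) → ∃ m : ℤ, t.sum = m := by
    intro t
    induction t using Multiset.induction_on with
    | empty => exact fun _ => ⟨0, by simp⟩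
    | cons a t ih =>
      intro h
      obtain ⟨m, hm⟩ := ih fun r hr => h r (Multiset.mem_cons_of_mem hr)
      rcases sq_eq_one_iff.1 (h a (Multiset.mem_cons_self a t)) with e | e
      · exact ⟨1 + m, by rw [Multiset.sum_cons, hm, e]; push_cast; ring⟩
      · exact ⟨-1 + m, by rw [Multiset.sum_cons, hm, e]; push_cast; ring⟩
  obtain ⟨m, hm⟩ := key _ fun r hr =>
    pow_eigenvalue_eq_one ρ x hr (show x ^ 2 = 1 by rw [sq, hx])
  exact ⟨m, by rw [← hρ, ← hm, sum_eigenvalues]⟩

theorem card_nonvanishing_le [Fintype (IrrCharacter G)] {x : G} (hx : x * x = 1) :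
    ((Finset.univ.filter fun χ : IrrCharacter G => (χ : G → ℂ) x ≠ 0).card ≤
        Nat.card (Subgroup.centralizer ({x} : Set G))) ∧
      ∀ χ : IrrCharacter G, ‖(χ : G → ℂ) x‖ ≤ Nat.card (Subgroup.centralizer ({x} : Set G)) := by
  classical
  choose m hm using fun χ : IrrCharacter G => exists_int_value χ hx
  have hsum : ∑ χ : IrrCharacter G, m χ ^ 2 =
      (Nat.card (Subgroup.centralizer ({x} : Set G)) : ℤ) := by
    have h := second_orthogonality x x
    rw [if_pos (IsConj.refl x)] at h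
    simp only [hm, map_intCast] at h
    exact_mod_cast (show ((∑ χ : IrrCharacter G, m χ ^ 2 : ℤ) : ℂ) =
      (Nat.card (Subgroup.centralizer ({x} : Set G)) : ℂ) by
        rw [← h]; push_cast; simp only [sq])
  constructor
  · have h1 : ((Finset.univ.filter fun χ : IrrCharacter G => (χ : G → ℂ) x ≠ 0).card : ℤ) ≤
        ∑ χ ∈ Finset.univ.filter (fun χ : IrrCharacter G => (χ : G → ℂ) x ≠ 0), m χ ^ 2 := by
      rw [Finset.card_eq_sum_ones, Nat.cast_sum, Nat.cast_one]
      refine Finset.sum_le_sum fun χ hχ => Int.add_one_le_iff.2 (sq_pos_of_ne_zero fun e => ?_)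
      exact (Finset.mem_filter.1 hχ).2 (by rw [hm, e, Int.cast_zero])
    have h2 : ∑ χ ∈ Finset.univ.filter (fun χ : IrrCharacter G => (χ : G → ℂ) x ≠ 0), m χ ^ 2 ≤
        ∑ χ : IrrCharacter G, m χ ^ 2 :=
      Finset.sum_le_sum_of_subset_of_nonneg (Finset.filter_subset _ _) fun _ _ _ => sq_nonneg _
    have := h1.trans (h2.trans hsum.le)
    exact_mod_cast this
  · intro χ
    have h1 : |m χ| ≤ (Nat.card (Subgroup.centralizer ({x} : Set G)) : ℤ) := by
      rw [← hsum]
      refine le_trans ?_ (Finset.single_le_sum (fun ψ _ => sq_nonneg (m ψ)) (Finset.mem_univ χ))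
      rw [← sq_abs]
      exact Int.le_self_sq _
    rw [hm, Complex.norm_intCast, ← Int.cast_abs]
    exact_mod_cast h1

/-- The class algebra formula for a real element. -/
theorem sum_triple [Fintype G] [Fintype (IrrCharacter G)] [DecidableRel (IsConj : G → G → Prop)]
    (x y z : G) (hz : IsConj z z⁻¹) :
    ((Subgroup.centralizer ({x} : Set G)).index : ℂ) *
        ((Subgroup.centralizer ({y} : Set G)).index : ℂ) *
        ∑ χ : IrrCharacter G, (χ : G → ℂ) x * (χ : G → ℂ) y * (χ : G → ℂ) z / (χ : G → ℂ) 1 =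
      (Nat.card (Subgroup.centralizer ({z} : Set G)) : ℂ) *
        (Nat.card {uv : G × G // IsConj x uv.1 ∧ IsConj y uv.2 ∧ IsConj (uv.1 * uv.2) z} : ℂ) := by
  classical
  have hterm : ∀ χ : IrrCharacter G, ((Subgroup.centralizer ({x} : Set G)).index : ℂ) *
      ((Subgroup.centralizer ({y} : Set G)).index : ℂ) *
        ((χ : G → ℂ) x * (χ : G → ℂ) y * (χ : G → ℂ) z / (χ : G → ℂ) 1) =
      ∑ u ∈ Finset.univ.filter (IsConj x), ∑ v ∈ Finset.univ.filter (IsConj y),
        (χ : G → ℂ) (u * v) * conj ((χ : G → ℂ) z) := by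
    intro χ
    have h := centralChar_mul χ.2 x y
    have h0 : (χ : G → ℂ) 1 ≠ 0 := IsIrrCharacter.apply_one_ne_zero χ.2
    simp only [centralChar] at h
    rw [← IsCharacter.map_inv (IsIrrCharacter.isCharacter χ.2),
      ← IsIrrCharacter.apply_isConj χ.2 hz, Finset.sum_congr rfl fun u _ => (Finset.sum_mul ..).symm,
      ← Finset.sum_mul]
    field_simp at h ⊢
    linear_combination ((χ : G → ℂ) z) * h
  rw [Finset.mul_sum, Finset.sum_congr rfl fun χ _ => hterm χ, Finset.sum_comm,
    Finset.sum_congr rfl fun u _ => Finset.sum_comm]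
  simp only [second_orthogonality]
  have hc : ∀ u v : G, IsConj (u * v) z →
      Nat.card (Subgroup.centralizer ({u * v} : Set G)) =
        Nat.card (Subgroup.centralizer ({z} : Set G)) := by
    intro u v h
    have h1 := (Subgroup.centralizer ({u * v} : Set G)).card_mul_index
    have h2 := (Subgroup.centralizer ({z} : Set G)).card_mul_index
    rw [← card_isConj_eq_index] at h1 h2
    rw [show Nat.card {w : G // IsConj (u * v) w} = Nat.card {w : G // IsConj z w} from
      Nat.card_congr (Equiv.subtypeEquivRight fun w => ⟨h.symm.trans, h.trans⟩), ← h2] at h1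
    haveI : Nonempty {w : G // IsConj z w} := ⟨⟨z, IsConj.refl z⟩⟩
    exact Nat.eq_of_mul_eq_mul_right Nat.card_pos h1
  rw [Finset.sum_congr rfl fun u _ => Finset.sum_congr rfl fun v _ =>
    ite_congr rfl (fun h => congrArg (fun n : ℕ => (n : ℂ)) (hc u v h)) fun _ => rfl]
  rw [← Finset.sum_product', ← Finset.sum_filter, Finset.sum_const, nsmul_eq_mul, mul_comm]
  congr 2
  rw [Nat.card_eq_fintype_card, Fintype.card_subtype]
  congr 1
  ext uv
  simp [and_assoc]

/-- The bound for the three-involution sum. -/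
theorem sum_triple_le [Fintype (IrrCharacter G)] {C : ℕ} {x y : G} (hx : x * x = 1) (hy : y * y = 1)
    (hxy : x * y = y * x)
    (hCx : Nat.card (Subgroup.centralizer ({x} : Set G)) ≤ C)
    (hCy : Nat.card (Subgroup.centralizer ({y} : Set G)) ≤ C)
    (hCz : Nat.card (Subgroup.centralizer ({x * y} : Set G)) ≤ C) :
    (∑ χ : IrrCharacter G, (χ : G → ℂ) x * (χ : G → ℂ) y * (χ : G → ℂ) (x * y) / (χ : G → ℂ) 1).re *
      (Nat.card G : ℝ) ≤ (C : ℝ) ^ 3 := by
  classical
  haveI := Fintype.ofFinite G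
  have hzz : (x * y) * (x * y) = 1 := by
    calc (x * y) * (x * y) = x * (y * x) * y := by group
      _ = (x * x) * (y * y) := by rw [← hxy]; group
      _ = 1 := by rw [hx, hy, one_mul]
  set z := x * y with hzdef
  have hz : IsConj z z⁻¹ := by rw [inv_eq_of_mul_eq_one_left hzz]
  have h := sum_triple x y z hz
  set T := Nat.card {uv : G × G // IsConj x uv.1 ∧ IsConj y uv.2 ∧ IsConj (uv.1 * uv.2) z} with hT
  have hcx := (Subgroup.centralizer ({x} : Set G)).card_mul_index
  have hcy := (Subgroup.centralizer ({y} : Set G)).card_mul_index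
  have hcz := (Subgroup.centralizer ({z} : Set G)).card_mul_index
  set cx := Nat.card (Subgroup.centralizer ({x} : Set G))
  set cy := Nat.card (Subgroup.centralizer ({y} : Set G))
  set cz := Nat.card (Subgroup.centralizer ({z} : Set G))
  set ix := (Subgroup.centralizer ({x} : Set G)).index
  set iy := (Subgroup.centralizer ({y} : Set G)).index
  have hT2 : T ≤ (Subgroup.centralizer ({z} : Set G)).index * cz := by
    rw [← card_isConj_eq_index z, hT]
    have hconj : ∀ w : {w : G // IsConj z w}, ∃ c : G, c * z * c⁻¹ = w := fun w => isConj_iff.1 w.2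
    choose c hc using hconj
    have hmem : ∀ uv : {uv : G × G // IsConj x uv.1 ∧ IsConj y uv.2 ∧ IsConj (uv.1 * uv.2) z},
        (c ⟨uv.1.1 * uv.1.2, uv.2.2.2.symm⟩)⁻¹ * uv.1.1 * c ⟨uv.1.1 * uv.1.2, uv.2.2.2.symm⟩ ∈
          Subgroup.centralizer ({z} : Set G) := by
      rintro ⟨⟨u, v⟩, hu, hv, huv⟩
      have hw : c ⟨u * v, huv.symm⟩ * z * (c ⟨u * v, huv.symm⟩)⁻¹ = u * v := hc ⟨u * v, huv.symm⟩
      set d := c ⟨u * v, huv.symm⟩
      have hsq : ∀ {a b : G}, a * a = 1 → IsConj a b → b * b = 1 := by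
        intro a b ha hab
        obtain ⟨e, rfl⟩ := isConj_iff.1 hab
        calc e * a * e⁻¹ * (e * a * e⁻¹) = e * (a * a) * e⁻¹ := by group
          _ = 1 := by rw [ha, mul_one, mul_inv_cancel]
      have hu2 : u * u = 1 := hsq hx hu
      have hv2 : v * v = 1 := hsq hy hv
      have hw2 : (u * v) * (u * v) = 1 := hsq hzz huv.symm
      have hcomm : u * v = v * u := by
        calc u * v = u * v * (u * u) := by rw [hu2, mul_one]
          _ = (u * v) * (u * v) * (v * u) := by
              calc u * v * (u * u) = u * v * u * (v * v) * u := by rw [hv2]; group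
                _ = _ := by group
          _ = v * u := by rw [hw2, one_mul]
      rw [Subgroup.mem_centralizer_singleton_iff]
      have hz' : z = d⁻¹ * (u * v) * d := by rw [← hw]; group
      show d⁻¹ * u * d * z = z * (d⁻¹ * u * d)
      clear_value d
      rw [hz']
      calc d⁻¹ * u * d * (d⁻¹ * (u * v) * d) = d⁻¹ * u * (u * v) * d := by group
        _ = d⁻¹ * u * (v * u) * d := by rw [← hcomm]
        _ = _ := by group
    refine (Nat.card_le_card_of_injective (β := {w : G // IsConj z w} × Subgroup.centralizer ({z} : Set G))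
      (fun uv => (⟨uv.1.1 * uv.1.2, uv.2.2.2.symm⟩, ⟨_, hmem uv⟩)) fun a b e => ?_).trans
        (le_of_eq (Nat.card_prod _ _))
    simp only [Prod.mk.injEq, Subtype.mk.injEq] at e
    obtain ⟨e1, e2⟩ := e
    rw [show (⟨a.1.1 * a.1.2, a.2.2.2.symm⟩ : {w : G // IsConj z w}) = ⟨b.1.1 * b.1.2, b.2.2.2.symm⟩
      from Subtype.ext e1] at e2
    have e3 : a.1.1 = b.1.1 := mul_left_cancel (mul_right_cancel e2)
    rw [e3] at e1
    exact Subtype.ext (Prod.ext e3 (mul_left_cancel e1))
  rw [mul_comm ((Subgroup.centralizer ({z} : Set G)).index), hcz] at hT2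
  have hixy : (0 : ℝ) < (ix : ℝ) * iy := mul_pos
    (Nat.cast_pos.2 (Nat.pos_of_ne_zero Subgroup.index_ne_zero_of_finite))
    (Nat.cast_pos.2 (Nat.pos_of_ne_zero Subgroup.index_ne_zero_of_finite))
  have h1 : (ix : ℝ) * iy *
      (∑ χ : IrrCharacter G, (χ : G → ℂ) x * (χ : G → ℂ) y * (χ : G → ℂ) z / (χ : G → ℂ) 1).re =
      (cz : ℝ) * T := by
    have := congrArg Complex.re h
    simpa using this
  refine le_of_mul_le_mul_left ?_ hixy
  rw [← mul_assoc, h1]
  have hnat : cz * T * Nat.card G ≤ ix * iy * C ^ 3 := by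
    calc cz * T * Nat.card G ≤ C * Nat.card G * Nat.card G :=
          Nat.mul_le_mul_right _ (Nat.mul_le_mul hCz hT2)
      _ = C * (cx * ix) * (cy * iy) := by rw [hcx, hcy]
      _ = ix * iy * (C * cx * cy) := by ring
      _ ≤ ix * iy * (C * C * C) :=
          Nat.mul_le_mul_left _ (Nat.mul_le_mul (Nat.mul_le_mul le_rfl hCx) hCy)
      _ = ix * iy * C ^ 3 := by ring
  exact_mod_cast hnat

/-- The three-involution sum is positive. -/
theorem inv_sq_le_sum_triple [Fintype (IrrCharacter G)] {x y : G} (hx : x * x = 1) (hy : y * y = 1)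
    (hxy : x * y = y * x) :
    1 / (Nat.card G : ℝ) ^ 2 ≤
      (∑ χ : IrrCharacter G, (χ : G → ℂ) x * (χ : G → ℂ) y * (χ : G → ℂ) (x * y) / (χ : G → ℂ) 1).re := by
  classical
  haveI := Fintype.ofFinite G
  have hzz : (x * y) * (x * y) = 1 := by
    calc (x * y) * (x * y) = x * (y * x) * y := by group
      _ = (x * x) * (y * y) := by rw [← hxy]; group
      _ = 1 := by rw [hx, hy, one_mul]
  have h := congrArg Complex.re
    (sum_triple x y (x * y) (by rw [inv_eq_of_mul_eq_one_left hzz]))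
  simp only [Complex.mul_re, Complex.mul_im, Complex.natCast_re, Complex.natCast_im, mul_zero,
    zero_mul, sub_zero, add_zero] at h
  set ix := (Subgroup.centralizer ({x} : Set G)).index
  set iy := (Subgroup.centralizer ({y} : Set G)).index
  set cz := Nat.card (Subgroup.centralizer ({x * y} : Set G))
  set T := Nat.card {uv : G × G // IsConj x uv.1 ∧ IsConj y uv.2 ∧ IsConj (uv.1 * uv.2) (x * y)}
  haveI : Nonempty {uv : G × G // IsConj x uv.1 ∧ IsConj y uv.2 ∧ IsConj (uv.1 * uv.2) (x * y)} :=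
    ⟨⟨(x, y), IsConj.refl x, IsConj.refl y, IsConj.refl _⟩⟩
  have h1 : (1 : ℝ) ≤ (cz : ℝ) * T :=
    one_le_mul_of_one_le_of_one_le (Nat.one_le_cast.2 Nat.card_pos) (Nat.one_le_cast.2 Nat.card_pos)
  have hi : ∀ H : Subgroup G, (0 : ℝ) < H.index ∧ (H.index : ℝ) ≤ Nat.card G := fun H =>
    ⟨Nat.cast_pos.2 (Nat.pos_of_ne_zero Subgroup.index_ne_zero_of_finite),
      Nat.cast_le.2 (Nat.le_of_dvd Nat.card_pos H.index_dvd_card)⟩
  have hpos : (0 : ℝ) < Nat.card G := Nat.cast_pos.2 Nat.card_pos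
  rw [div_le_iff₀ (pow_pos hpos 2)]
  have h2 : (0 : ℝ) ≤ (∑ χ : IrrCharacter G,
      (χ : G → ℂ) x * (χ : G → ℂ) y * (χ : G → ℂ) (x * y) / (χ : G → ℂ) 1).re := by
    by_contra hneg
    push Not at hneg
    have := mul_neg_of_pos_of_neg
      (mul_pos (hi (Subgroup.centralizer ({x} : Set G))).1 (hi (Subgroup.centralizer ({y} : Set G))).1) hneg
    rw [h] at this
    linarith
  calc (1 : ℝ) ≤ (cz : ℝ) * T := h1
    _ = _ := h.symm
    _ ≤ _ := by
        rw [mul_comm, sq]
        exact mul_le_mul_of_nonneg_left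
          (mul_le_mul (hi _).2 (hi _).2 (hi _).1.le hpos.le) h2

/-- A four-group whose involutions have centralizers of bounded order bounds the group. -/
theorem exists_four_group_bound (C : ℕ) : ∃ N : ℕ, ∀ (G : Type u) [Group G] [Finite G] (x y : G),
    x * x = 1 → y * y = 1 → x * y = y * x →
    Nat.card (Subgroup.centralizer ({x} : Set G)) ≤ C →
    Nat.card (Subgroup.centralizer ({y} : Set G)) ≤ C →
    Nat.card (Subgroup.centralizer ({x * y} : Set G)) ≤ C → Nat.card G ≤ N := by
  choose J hJ using fun n => exists_jordan_bound.{u} n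
  let M : ℕ → ℕ := fun L => ((∑ n ∈ Finset.range (L + 1), J n) * (C * C * C) + 1) ^ C + 1
  let nxt : ℕ → ℕ := fun L => L + M L + 2 * C ^ 4 * M L ^ 2 + 1
  let L : ℕ → ℕ := fun i => nxt^[i] 1
  have hL : ∀ i, L (i + 1) = nxt (L i) := fun i => Function.iterate_succ_apply' nxt i 1
  have hmono : StrictMono L := strictMono_nat_of_lt_succ fun i => by
    rw [hL]; simp only [nxt]; omega
  refine ⟨2 * C ^ 3 * M (L (C + 1)) ^ 2, fun G _ _ x y hx hy hxy hCx hCy hCz => ?_⟩
  classical
  haveI := Fintype.ofFinite (IrrCharacter G)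
  have hzz : (x * y) * (x * y) = 1 := by
    calc (x * y) * (x * y) = x * (y * x) * y := by group
      _ = (x * x) * (y * y) := by rw [← hxy]; group
      _ = 1 := by rw [hx, hy, one_mul]
  set S := Finset.univ.filter fun χ : IrrCharacter G =>
    (χ : G → ℂ) x * (χ : G → ℂ) y * (χ : G → ℂ) (x * y) ≠ 0 with hSdef
  have hS : S.card ≤ C := by
    refine le_trans (Finset.card_le_card fun χ hχ => ?_) ((card_nonvanishing_le hx).1.trans hCx)
    refine Finset.mem_filter.2 ⟨Finset.mem_univ _, fun e => (Finset.mem_filter.1 hχ).2 ?_⟩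
    rw [e, zero_mul, zero_mul]
  -- a gap in the degrees
  obtain ⟨i, hiC, hi⟩ : ∃ i, i ≤ C ∧ ∀ χ ∈ S, L i < charDegree (χ : G → ℂ) →
      L (i + 1) < charDegree (χ : G → ℂ) := by
    by_contra hcon
    push Not at hcon
    choose f hfS hf1 hf2 using hcon
    have hinj : Function.Injective fun i : Fin (C + 1) =>
        (⟨f i (Nat.lt_succ_iff.1 i.2), hfS _ _⟩ : S) := by
      intro a b e
      have e' : f a (Nat.lt_succ_iff.1 a.2) = f b (Nat.lt_succ_iff.1 b.2) := congrArg Subtype.val e
      refine Fin.ext (by_contra fun hne => ?_)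
      have a1 := hf1 a (Nat.lt_succ_iff.1 a.2)
      have a2 := hf2 a (Nat.lt_succ_iff.1 a.2)
      have b1 := hf1 b (Nat.lt_succ_iff.1 b.2)
      have b2 := hf2 b (Nat.lt_succ_iff.1 b.2)
      rw [e'] at a1 a2
      rcases Nat.lt_or_gt_of_ne hne with h | h
      · have := hmono.monotone (show (a : ℕ) + 1 ≤ b by omega); omega
      · have := hmono.monotone (show (b : ℕ) + 1 ≤ a by omega); omega
    have := Fintype.card_le_of_injective _ hinj
    rw [Fintype.card_fin, Fintype.card_coe] at this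
    omega
  set small : Finset (IrrCharacter G) := S.filter fun χ : IrrCharacter G => charDegree (χ : G → ℂ) ≤ L i with hsmall
  have hfac : ∀ χ : IrrCharacter G, χ ∈ small → ∃ K : Subgroup G, K.Normal ∧
      (∀ g ∈ K, ∀ u, (χ : G → ℂ) (g * u) = (χ : G → ℂ) u) ∧
      K.index ≤ (∑ n ∈ Finset.range (L i + 1), J n) * (C * C * C) := by
    intro χ hχ
    obtain ⟨n, ρ, hρ, hχe⟩ := χ.2
    set K := MonoidHom.ker ρ with hK
    refine ⟨K, inferInstance, fun g hg u => ?_, ?_⟩
    · rw [← hχe]
      show ρ.character (g * u) = ρ.character u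
      simp only [Representation.character, map_mul, MonoidHom.mem_ker.1 hg, one_mul]
    have hdeg : charDegree (χ : G → ℂ) = n := by
      have h1 : (χ : G → ℂ) 1 = n := by rw [← hχe, ρ.char_one]; simp
      rw [charDegree, h1]; simp
    have hn : n ≤ L i := hdeg ▸ (Finset.mem_filter.1 hχ).2
    let U : G ⧸ K →* Matrix (Fin n) (Fin n) ℂ :=
      (LinearMap.toMatrixAlgEquiv' : ((Fin n → ℂ) →ₗ[ℂ] (Fin n → ℂ)) ≃ₐ[ℂ] _).toMonoidHom.comp
        (QuotientGroup.lift K ρ le_rfl)
    have hinj : ∀ q, U q = 1 → q = 1 := by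
      intro q hq
      obtain ⟨g, rfl⟩ := QuotientGroup.mk_surjective q
      rw [QuotientGroup.eq_one_iff, hK, MonoidHom.mem_ker]
      exact (LinearMap.toMatrixAlgEquiv' (n := Fin n) (R := ℂ)).injective (hq.trans (map_one _).symm)
    obtain ⟨A, hAn, hAc, hAi⟩ := hJ n (G ⧸ K) U hinj
    haveI := hAn
    rw [Subgroup.index_eq_card, ← A.card_mul_index, mul_comm]
    refine Nat.mul_le_mul (hAi.trans (Finset.single_le_sum (f := J) (fun _ _ => Nat.zero_le _)
      (Finset.mem_range.2 (by omega)))) ?_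
    refine card_abelian_le A hAc (x := (x : G ⧸ K)) (y := (y : G ⧸ K)) ?_ ?_
      ((card_centralizer_mk_le K x).trans hCx) ((card_centralizer_mk_le K y).trans hCy) ?_
    · rw [← QuotientGroup.mk_mul, hx, QuotientGroup.mk_one]
    · rw [← QuotientGroup.mk_mul, hy, QuotientGroup.mk_one]
    · rw [← QuotientGroup.mk_mul]
      exact (card_centralizer_mk_le K (x * y)).trans hCz
  choose K hKn hKfix hKi using fun χ : small => hfac χ.1 χ.2
  set K₀ : Subgroup G := ⨅ χ : small, K χ with hK₀
  haveI : K₀.Normal := Subgroup.normal_iInf_normal hKn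
  have hK₀i : K₀.index ≤ M (L i) := by
    refine (Subgroup.index_iInf_le K).trans ?_
    refine le_trans (Finset.prod_le_prod' fun χ _ => (hKi χ).trans (Nat.le_succ _)) ?_
    rw [Finset.prod_const, Finset.card_univ, Fintype.card_coe]
    refine le_trans (Nat.pow_le_pow_right (Nat.succ_pos _) ?_) (Nat.le_succ _)
    exact (Finset.card_filter_le _ _).trans hS
  haveI := Fintype.ofFinite (IrrCharacter (G ⧸ K₀))
  let F : IrrCharacter G → ℂ := fun χ =>
    (χ : G → ℂ) x * (χ : G → ℂ) y * (χ : G → ℂ) (x * y) / (χ : G → ℂ) 1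
  -- the small characters give the sum of the quotient
  have hsum : ∑ χ ∈ small, F χ = ∑ φ : IrrCharacter (G ⧸ K₀),
      (φ : G ⧸ K₀ → ℂ) x * (φ : G ⧸ K₀ → ℂ) y * (φ : G ⧸ K₀ → ℂ) ((x : G ⧸ K₀) * y) /
        (φ : G ⧸ K₀ → ℂ) 1 := by
    let inf : IrrCharacter (G ⧸ K₀) → IrrCharacter G := fun φ =>
      ⟨_, isIrrCharacter_comp_surjective (QuotientGroup.mk' K₀) (QuotientGroup.mk'_surjective K₀) φ.2⟩
    have hinf : Function.Injective inf := fun a b e => Subtype.ext (funext fun q => by
      obtain ⟨g, rfl⟩ := QuotientGroup.mk_surjective q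
      exact congrFun (congrArg Subtype.val e) g)
    have hval : ∀ φ, F (inf φ) = (φ : G ⧸ K₀ → ℂ) x * (φ : G ⧸ K₀ → ℂ) y *
        (φ : G ⧸ K₀ → ℂ) ((x : G ⧸ K₀) * y) / (φ : G ⧸ K₀ → ℂ) 1 := fun φ => rfl
    rw [← Finset.sum_congr rfl fun φ _ => hval φ, ← Finset.sum_image fun a _ b _ e => hinf e]
    refine Finset.sum_subset (fun χ hχ => ?_) fun χ hχ hns => ?_
    · obtain ⟨φ, hφ⟩ := exists_factor_quotient K₀ χ fun g hg u =>
        hKfix ⟨χ, hχ⟩ g ((iInf_le K ⟨χ, hχ⟩) hg) u
      exact Finset.mem_image.2 ⟨φ, Finset.mem_univ _, Subtype.ext (funext fun g => hφ g)⟩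
    · obtain ⟨φ, -, rfl⟩ := Finset.mem_image.1 hχ
      by_contra hne
      have hS' : inf φ ∈ S := Finset.mem_filter.2 ⟨Finset.mem_univ _, fun e => hne (by
        show _ / _ = (0 : ℂ)
        rw [e, zero_div])⟩
      have hbig : L i < charDegree (inf φ : G → ℂ) :=
        Nat.lt_of_not_le fun h => hns (Finset.mem_filter.2 ⟨hS', h⟩)
      have h1 := hi _ hS' hbig
      obtain ⟨m, hm⟩ := IsCharacter.exists_degree (IsIrrCharacter.isCharacter φ.2)
      have hdeg : charDegree (inf φ : G → ℂ) = m := by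
        have : (inf φ : G → ℂ) 1 = m := hm
        rw [charDegree, this]; simp
      have hsq : (m : ℝ) ^ 2 ≤ (Nat.card (G ⧸ K₀) : ℝ) := by
        have h2 := congrArg Complex.re (sum_sq_degree (G := G ⧸ K₀))
        rw [Complex.re_sum] at h2
        simp only [Complex.natCast_re] at h2
        rw [← h2]
        refine le_trans (le_of_eq ?_) (Finset.single_le_sum (fun ψ _ => ?_) (Finset.mem_univ φ))
        · rw [hm]; simp [sq]
        · obtain ⟨k, hk⟩ := IsCharacter.exists_degree (IsIrrCharacter.isCharacter ψ.2)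
          rw [hk]; simp [sq]; positivity
      have hsq' : m ^ 2 ≤ K₀.index := by
        rw [Subgroup.index_eq_card]; exact_mod_cast hsq
      have h3 : m ≤ M (L i) := (Nat.le_self_pow two_ne_zero m).trans (hsq'.trans hK₀i)
      rw [hdeg, hL] at h1
      simp only [nxt] at h1
      omega
  have hq : 1 / (M (L i) : ℝ) ^ 2 ≤ (∑ χ ∈ small, F χ).re := by
    rw [hsum]
    refine le_trans ?_ (inv_sq_le_sum_triple (x := (x : G ⧸ K₀)) (y := (y : G ⧸ K₀))
      (by rw [← QuotientGroup.mk_mul, hx, QuotientGroup.mk_one])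
      (by rw [← QuotientGroup.mk_mul, hy, QuotientGroup.mk_one])
      (by rw [← QuotientGroup.mk_mul, hxy, QuotientGroup.mk_mul]))
    refine one_div_le_one_div_of_le (pow_pos (Nat.cast_pos.2 Nat.card_pos) 2)
      (pow_le_pow_left₀ (Nat.cast_nonneg _) ?_ 2)
    rw [← Subgroup.index_eq_card]
    exact_mod_cast hK₀i
  -- the large characters contribute little
  have hbound : ∀ χ ∈ S \ small, ‖F χ‖ ≤ (C : ℝ) ^ 3 / (L (i + 1) : ℝ) := by
    intro χ hχ
    obtain ⟨hχS, hns⟩ := Finset.mem_sdiff.1 hχ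
    have h1 := hi χ hχS (Nat.lt_of_not_le fun h => hns (Finset.mem_filter.2 ⟨hχS, h⟩))
    obtain ⟨m, hm⟩ := IsCharacter.exists_degree (IsIrrCharacter.isCharacter χ.2)
    have hdeg : charDegree (χ : G → ℂ) = m := by rw [charDegree, hm]; simp
    rw [hdeg] at h1
    have b : ∀ w : G, w * w = 1 → Nat.card (Subgroup.centralizer ({w} : Set G)) ≤ C →
        ‖(χ : G → ℂ) w‖ ≤ C := fun w hw hCw =>
      ((card_nonvanishing_le hw).2 χ).trans (Nat.cast_le.2 hCw)
    simp only [F, norm_div, norm_mul, hm, Complex.norm_natCast]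
    refine div_le_div₀ (by positivity) ?_ (Nat.cast_pos.2 ?_) (Nat.cast_le.2 h1.le)
    · rw [show (C : ℝ) ^ 3 = C * C * C by ring]
      exact mul_le_mul (mul_le_mul (b x hx hCx) (b y hy hCy) (norm_nonneg _) (Nat.cast_nonneg _))
        (b (x * y) hzz hCz) (norm_nonneg _) (by positivity)
    · have := hmono.monotone (Nat.zero_le (i + 1))
      have h0 : L 0 = 1 := rfl
      omega
  have hlarge : -(1 / (2 * (M (L i) : ℝ) ^ 2)) ≤ (∑ χ ∈ S \ small, F χ).re := by
    have h1 : ‖∑ χ ∈ S \ small, F χ‖ ≤ (C : ℝ) * ((C : ℝ) ^ 3 / (L (i + 1) : ℝ)) := by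
      refine (norm_sum_le _ _).trans ((Finset.sum_le_sum hbound).trans ?_)
      rw [Finset.sum_const, nsmul_eq_mul]
      refine mul_le_mul_of_nonneg_right (Nat.cast_le.2 ?_) (by positivity)
      exact (Finset.card_le_card Finset.sdiff_subset).trans hS
    have hLpos : 2 * (C : ℝ) ^ 4 * (M (L i) : ℝ) ^ 2 ≤ (L (i + 1) : ℝ) := by
      rw [hL]
      have : 2 * C ^ 4 * M (L i) ^ 2 ≤ nxt (L i) := by simp only [nxt]; omega
      exact_mod_cast this
    have hMpos : (0 : ℝ) < M (L i) := Nat.cast_pos.2 (Nat.succ_pos _)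
    have hL0 : (0 : ℝ) < L (i + 1) := Nat.cast_pos.2 (by rw [hL]; simp only [nxt]; omega)
    have h2 : (C : ℝ) * ((C : ℝ) ^ 3 / (L (i + 1) : ℝ)) ≤ 1 / (2 * (M (L i) : ℝ) ^ 2) := by
      rw [← mul_div_assoc, div_le_div_iff₀ hL0 (by positivity)]
      nlinarith
    have h3 := (Complex.abs_re_le_norm (∑ χ ∈ S \ small, F χ)).trans (h1.trans h2)
    exact (abs_le.1 h3).1
  have htot : ∑ χ : IrrCharacter G, F χ = (∑ χ ∈ small, F χ) + ∑ χ ∈ S \ small, F χ := by
    rw [add_comm, Finset.sum_sdiff (Finset.filter_subset _ _)]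
    exact (Finset.sum_subset (Finset.subset_univ S) fun χ _ hn => by
      have : (χ : G → ℂ) x * (χ : G → ℂ) y * (χ : G → ℂ) (x * y) = 0 := by
        by_contra hne; exact hn (Finset.mem_filter.2 ⟨Finset.mem_univ _, hne⟩)
      show _ / _ = (0 : ℂ)
      rw [this, zero_div]).symm
  have hfin := sum_triple_le hx hy hxy hCx hCy hCz
  have hre : 1 / (2 * (M (L i) : ℝ) ^ 2) ≤ (∑ χ : IrrCharacter G, F χ).re := by
    rw [htot, Complex.add_re]
    have hMne : (M (L i) : ℝ) ≠ 0 := Nat.cast_ne_zero.2 (Nat.succ_ne_zero _)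
    have : 1 / (M (L i) : ℝ) ^ 2 = 1 / (2 * (M (L i) : ℝ) ^ 2) + 1 / (2 * (M (L i) : ℝ) ^ 2) := by
      field_simp; ring
    linarith
  have hG : (Nat.card G : ℝ) ≤ 2 * (C : ℝ) ^ 3 * (M (L i) : ℝ) ^ 2 := by
    have h1 := (mul_le_mul_of_nonneg_right hre (Nat.cast_nonneg (Nat.card G))).trans hfin
    rw [one_div_mul_eq_div, div_le_iff₀ (by positivity)] at h1
    linarith
  have hG' : Nat.card G ≤ 2 * C ^ 3 * M (L i) ^ 2 := by exact_mod_cast hG
  refine hG'.trans (Nat.mul_le_mul_left _ (Nat.pow_le_pow_left ?_ 2))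
  have hMmono : ∀ a b, a ≤ b → M a ≤ M b := fun a b hab => by
    simp only [M]
    gcongr
  exact hMmono _ _ (hmono.monotone (by omega))

variable {p : ℕ} [Fact p.Prime] {M : Ideal AlgInt}

/-- If the non-principal blocks have small defect then large `p`-subgroups have centralizers with
only one block. -/
theorem single_block_centralizer (hM : IsPModular p M) {r : ℕ}
    (hB : ∀ B : Set (IrrCharacter G), IsPBlock M B → B ≠ principalBlock M G → blockDefect p B < r)
    {U : Subgroup G} (hU : IsPGroup p U) (hUr : p ^ r ≤ Nat.card U)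
    (f : Set (IrrCharacter (Subgroup.centralizer (U : Set G)))) (hf : IsPBlock M f) :
    f = principalBlock M (Subgroup.centralizer (U : Set G)) := by
  haveI := prime_of_isPModular hM
  by_contra hne
  obtain ⟨ξ, hξ⟩ := isPBlock_nonempty hf
  obtain ⟨B, hB', hB1⟩ := (isResHom_lam_centralizer hM hU ξ).exists_block
  have hpair : IsBrauerPairOf p M B U f := (isBrauerPairOf_iff hξ).2 ⟨⟨hU, hf⟩, hB', hB1⟩
  have hlt := hB B hB' fun h => hne (eq_principal_of_pairOf hM (h ▸ hpair))
  obtain ⟨D, hD⟩ := exists_isDefectGroup (p := p) hB'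
  have h1 := hUr.trans (card_le_of_pairOf hM hpair hD)
  rw [card_defectGroup hM hB' hD] at h1
  exact absurd ((Nat.pow_le_pow_iff_right (Fact.out : p.Prime).one_lt).1 h1) (Nat.not_le.2 hlt)

end Cfsg.Agent.Block
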