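import Cfsg.Agent.Lib.Block.QuotientBlocks
import Cfsg.Agent.Lib.Block.PrincipalKernel
import Cfsg.Agent.Lib.Char.Galois
import Cfsg.Agent.Lib.Local.Basic

/-!
# The principal block modulo a normal subgroup of order prime to `p`; its columns are integral
-/

set_option autoImplicit false
set_option linter.style.haveILetI false

open Cfsg Cfsg.Agent.Char
open scoped ComplexConjugate

namespace Cfsg.Agent.Block

universe u

variable {G : Type u} [Group G] [Finite G] {M : Ideal AlgInt} [hMp : M.IsPrime] {p : ℕ}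

theorem inflate_injective (N : Subgroup G) [N.Normal] : Function.Injective (inflate (G := G) N) :=
  fun φ ψ h => Subtype.ext (funext fun q => by
    obtain ⟨g, rfl⟩ := QuotientGroup.mk_surjective q
    exact congrFun (congrArg Subtype.val h) g)

/-- Modulo a normal subgroup of order prime to `p` blocks are reflected. -/
theorem sameBlock_of_inflate (hM : IsPModular p M) (N : Subgroup G) [N.Normal]
    (hN : ¬ p ∣ Nat.card N) {φ ψ : IrrCharacter (G ⧸ N)}
    (h : SameBlock M (inflate N φ : G → ℂ) (inflate N ψ : G → ℂ)) :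
    SameBlock M (φ : G ⧸ N → ℂ) (ψ : G ⧸ N → ℂ) := by
  classical
  haveI := Fintype.ofFinite G
  haveI := Fintype.ofFinite (G ⧸ N)
  intro q
  set z : MonoidAlgebra ℂ G := mkA fun x => if IsConj q (QuotientGroup.mk x : G ⧸ N) then (1 : ℂ) else 0
    with hz
  have hzc : CL M z := by
    refine ⟨fun x g => ?_, fun x => ?_⟩
    · simp only [hz, coeff_mkA]
      have hc : IsConj (QuotientGroup.mk x : G ⧸ N) (QuotientGroup.mk (g * x * g⁻¹)) :=
        isConj_iff.2 ⟨QuotientGroup.mk g, by simp⟩
      exact if_congr ⟨fun h' => h'.trans hc.symm, fun h' => h'.trans hc⟩ rfl rfl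
    · simp only [hz, coeff_mkA]
      split
      · exact (one_mem _ : (1 : ℂ) ∈ locRing M)
      · exact (zero_mem _ : (0 : ℂ) ∈ locRing M)
  have hω : ∀ φ : IrrCharacter (G ⧸ N), omega (inflate N φ : G → ℂ) z =
      (Nat.card N : ℂ) * centralChar (φ : G ⧸ N → ℂ) q := fun φ => by
    rw [← omega_classSum, omega_eq_sum, omega_eq_sum, inflate_apply, QuotientGroup.mk_one,
      ← mul_div_assoc]
    congr 1
    simp only [hz, coeff_mkA, inflate_apply, classSum]
    rw [← Finset.sum_fiberwise_of_maps_to (t := (Finset.univ : Finset (G ⧸ N)))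
      (g := fun x : G => (QuotientGroup.mk x : G ⧸ N)) (fun _ _ => Finset.mem_univ _), Finset.mul_sum]
    refine Finset.sum_congr rfl fun r _ => ?_
    rw [Finset.sum_congr rfl fun x hx => by rw [(Finset.mem_filter.1 hx).2], Finset.sum_const, nsmul_eq_mul]
    congr 2
    obtain ⟨x₀, rfl⟩ := QuotientGroup.mk_surjective r
    rw [← Nat.card_eq_finsetCard]
    refine Nat.card_congr ⟨fun x => ⟨x₀⁻¹ * x.1, QuotientGroup.eq.1 (Finset.mem_filter.1 x.2).2.symm⟩,
      fun n => ⟨x₀ * n.1, Finset.mem_filter.2 ⟨Finset.mem_univ _, (QuotientGroup.eq.2 (by simp)).symm⟩⟩,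
      fun x => Subtype.ext (by simp), fun n => Subtype.ext (by simp)⟩
    congr 1
  have hBl := isPBlock_blockOf (M := M) (inflate N φ)
  have h1 := ro_congr hBl (self_mem_blockOf (inflate N φ)) h hzc
  rw [ro, ro] at h1
  have h2 := (resC_eq_iff (omega_mem_locRing _ hzc.1 hzc.2) (omega_mem_locRing _ hzc.1 hzc.2)).1 h1
  change MemLocalIdeal M (omega (inflate N φ : G → ℂ) z - omega (inflate N ψ : G → ℂ) z) at h2
  rw [hω, hω, ← mul_sub] at h2
  have h3 := memLocalIdeal_mul_left (inv_natCast_mem_locRing hM.1 hM.2.2 hN) h2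
  rwa [inv_mul_cancel_left₀ (Nat.cast_ne_zero.2 Nat.card_pos.ne')] at h3

variable [Fact p.Prime]

theorem inflate_mem_principal_iff' (hM : IsPModular p M) (N : Subgroup G) [N.Normal]
    (hN : ¬ p ∣ Nat.card N) (φ : IrrCharacter (G ⧸ N)) :
    inflate N φ ∈ principalBlock M G ↔ φ ∈ principalBlock M (G ⧸ N) :=
  ⟨fun h => sameBlock_of_inflate hM N hN (φ := ⟨fun _ => 1, isIrrCharacter_one⟩) h,
    fun h => sameBlock_inflate N (φ := ⟨fun _ => 1, isIrrCharacter_one⟩) h⟩

/-- Sums over the principal block pass to the quotient. -/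
theorem finsum_principal_quotient {A : Type*} [AddCommMonoid A] (hM : IsPModular p M) (N : Subgroup G)
    [N.Normal] (hN : ¬ p ∣ Nat.card N) (F : IrrCharacter G → A) :
    ∑ᶠ χ ∈ principalBlock M G, F χ = ∑ᶠ φ ∈ principalBlock M (G ⧸ N), F (inflate N φ) := by
  have himg : principalBlock M G = inflate N '' principalBlock M (G ⧸ N) := by
    ext χ
    refine ⟨fun hχ => ?_, ?_⟩
    · obtain ⟨φ, hφ⟩ := exists_factor_quotient N χ fun g hg y => by
        obtain ⟨n, ρ, hρ, e⟩ := χ.2
        haveI := hρ
        haveI : Nontrivial (Fin n → ℂ) := nontrivial_of_irreducible ρ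
        have h1 := apply_eq_one_of_mem_principal hM N hN hχ hg
        rw [← e] at h1 ⊢
        rw [ρ.char_one] at h1
        rw [Representation.character, Representation.character, map_mul,
          (character_eq_finrank_iff ρ g).1 h1]
        rfl
      have e : inflate N φ = χ := Subtype.ext (funext hφ)
      exact ⟨φ, (inflate_mem_principal_iff' hM N hN φ).1 (e ▸ hχ), e⟩
    · rintro ⟨φ, hφ, rfl⟩
      exact (inflate_mem_principal_iff' hM N hN φ).2 hφ
  rw [himg, finsum_mem_image ((inflate_injective N).injOn)]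

/-- The principal block is closed under Galois conjugation. -/
theorem comp_pow_mem_principal {k : ℕ} (hk : k.Coprime (Nat.card G)) {χ : IrrCharacter G}
    (hχ : χ ∈ principalBlock M G) :
    (⟨_, isIrrCharacter_comp_pow χ.2 hk⟩ : IrrCharacter G) ∈ principalBlock M G := by
  intro g
  have hc : Subgroup.centralizer ({g ^ k} : Set G) = Subgroup.centralizer ({g} : Set G) := by
    refine le_antisymm (fun x hx => ?_) fun x hx =>
      mem_centralizer_singleton.2 ((mem_centralizer_singleton.1 hx).pow_left k)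
    obtain ⟨m, hm⟩ := exists_pow_eq_self_of_coprime (x := g) (n := k)
      (hk.coprime_dvd_right (orderOf_dvd_natCard g))
    have := (mem_centralizer_singleton.1 hx).pow_left m
    rw [hm] at this
    exact mem_centralizer_singleton.2 this
  have h := hχ (g ^ k)
  simp only [centralChar, hc, one_pow] at h ⊢
  exact h

/-- The columns of the principal block have integral norm. -/
theorem exists_nat_normSq_principal (hM : IsPModular p M) (x : G) :
    ∃ n : ℕ, 0 < n ∧ ∑ᶠ χ ∈ principalBlock M G, Complex.normSq ((χ : G → ℂ) x) = n := by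
  classical
  haveI := Fintype.ofFinite (IrrCharacter G)
  set S := (principalBlock M G).toFinite.toFinset with hS
  let θ : G → ℂ := ∑ χ ∈ S, fun g => (χ : G → ℂ) g * conj ((χ : G → ℂ) g)
  have hθ : IsGeneralizedCharacter G θ := isGeneralizedCharacter_sum _ _ fun χ _ =>
    isGeneralizedCharacter_mul (IsIrrCharacter.isGeneralized χ.2)
      (isGeneralizedCharacter_conj (IsIrrCharacter.isGeneralized χ.2))
  have hval : ∀ g, θ g = ((∑ᶠ χ ∈ principalBlock M G, Complex.normSq ((χ : G → ℂ) g) : ℝ) : ℂ) :=
    fun g => by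
      rw [finsum_mem_eq_finite_toFinset_sum _ (principalBlock M G).toFinite, Complex.ofReal_sum]
      simp only [θ, Finset.sum_apply, Complex.mul_conj]
      rfl
  have hinv : ∀ m : ℕ, m.Coprime (orderOf x) → θ (x ^ m) = θ x := fun m hm => by
    obtain ⟨k, hk, hkm⟩ := exists_coprime_lift Nat.card_pos.ne' (orderOf_dvd_natCard x) hm
    have e : x ^ m = x ^ k := by rw [pow_eq_pow_iff_modEq]; exact hkm.symm
    rw [e]
    simp only [θ, Finset.sum_apply]
    let σ : IrrCharacter G → IrrCharacter G := fun χ => ⟨_, isIrrCharacter_comp_pow χ.2 hk⟩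
    have hσi : Function.Injective σ := fun a b h => Subtype.ext (funext fun g => by
      obtain ⟨y, rfl⟩ := (powCoprime hk.symm).surjective g
      exact congrFun (congrArg Subtype.val h) y)
    refine Finset.sum_bij (fun χ _ => σ χ) (fun χ hχ => ?_) (fun a _ b _ h => hσi h) ?_ (fun χ _ => rfl)
    · rw [hS, Set.Finite.mem_toFinset] at hχ ⊢
      exact comp_pow_mem_principal hk hχ
    · intro χ hχ
      have hsurj := Finset.surj_on_of_inj_on_of_card_le (s := S) (t := S) (fun χ _ => σ χ) (fun χ hχ => by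
        rw [hS, Set.Finite.mem_toFinset] at hχ ⊢
        exact comp_pow_mem_principal hk hχ) (fun a b _ _ h => hσi h) le_rfl χ hχ
      obtain ⟨a, ha, e⟩ := hsurj
      exact ⟨a, ha, e.symm⟩
  obtain ⟨z, hz⟩ := exists_int_of_apply_pow_eq hθ x hinv
  rw [hval] at hz
  set r := ∑ᶠ χ ∈ principalBlock M G, Complex.normSq ((χ : G → ℂ) x)
  have hr : r = (z : ℝ) := by exact_mod_cast hz
  have h1 : (1 : ℝ) ≤ r := by
    show (1 : ℝ) ≤ ∑ᶠ χ ∈ principalBlock M G, Complex.normSq ((χ : G → ℂ) x)
    rw [finsum_mem_eq_finite_toFinset_sum _ (principalBlock M G).toFinite]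
    refine le_trans ?_ (Finset.single_le_sum (fun χ _ => Complex.normSq_nonneg _)
      ((principalBlock M G).toFinite.mem_toFinset.2
        (self_mem_blockOf (⟨fun _ => 1, isIrrCharacter_one⟩ : IrrCharacter G))))
    simp
  have hz0 : 0 < z := by
    have : (0 : ℝ) < (z : ℝ) := by linarith
    exact_mod_cast this
  obtain ⟨n, rfl⟩ := Int.eq_ofNat_of_zero_le hz0.le
  exact ⟨n, by exact_mod_cast hz0, by rw [hr]; simp⟩

theorem normSq_principal_le (x : G) :
    ∑ᶠ χ ∈ principalBlock M G, Complex.normSq ((χ : G → ℂ) x) ≤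
      (Nat.card (Subgroup.centralizer ({x} : Set G)) : ℝ) := by
  classical
  haveI := Fintype.ofFinite (IrrCharacter G)
  have h := second_orthogonality x x
  rw [if_pos (IsConj.refl x)] at h
  have h' : (∑ χ : IrrCharacter G, Complex.normSq ((χ : G → ℂ) x)) =
      (Nat.card (Subgroup.centralizer ({x} : Set G)) : ℝ) := by
    apply Complex.ofReal_injective
    push_cast
    rw [← h]
    exact Finset.sum_congr rfl fun χ _ => (Complex.mul_conj _).symm
  rw [← h', finsum_mem_eq_finite_toFinset_sum _ (principalBlock M G).toFinite]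
  exact Finset.sum_le_univ_sum_of_nonneg fun χ => Complex.normSq_nonneg _

/-- The degrees of the principal block exhaust the group order exactly when it is the only block. -/
theorem sq_sum_principal_eq_iff :
    (∑ᶠ χ ∈ principalBlock M G, charDegree (χ : G → ℂ) ^ 2) = Nat.card G ↔
      ∀ B : Set (IrrCharacter G), IsPBlock M B → B = principalBlock M G := by
  classical
  haveI := Fintype.ofFinite (IrrCharacter G)
  have hall : ∑ χ : IrrCharacter G, charDegree (χ : G → ℂ) ^ 2 = Nat.card G := by
    apply Nat.cast_injective (R := ℂ)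
    rw [← sum_sq_degree (G := G)]
    push_cast
    exact Finset.sum_congr rfl fun χ _ => by rw [charDegree_cast (IsIrrCharacter.isCharacter χ.2)]
  have hB0 : IsPBlock M (principalBlock M G) := ⟨⟨fun _ => 1, isIrrCharacter_one⟩, rfl⟩
  rw [finsum_mem_eq_finite_toFinset_sum _ (principalBlock M G).toFinite, ← hall]
  constructor
  · intro h B hB
    obtain ⟨χ, hχ⟩ := isPBlock_nonempty hB
    refine isPBlock_eq_of_mem hB hB0 hχ ?_
    by_contra hn
    refine h.not_lt (Finset.sum_lt_sum_of_subset (Finset.subset_univ _) (Finset.mem_univ χ)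
      (by simpa using hn) (pow_pos (charDegree_pos χ.2) 2) fun j _ _ => Nat.zero_le _)
  · intro h
    congr 1
    refine Finset.eq_univ_iff_forall.2 fun χ => ?_
    rw [Set.Finite.mem_toFinset, ← h _ (isPBlock_blockOf χ)]
    exact self_mem_blockOf χ

end Cfsg.Agent.Block
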