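import Cfsg.Agent.Lib.Char.Degrees
import Cfsg.Agent.Lib.Char.Extraspecial
import Cfsg.Agent.Lib.Block.CentralQuotientBlock
import Cfsg.Agent.Lib.Struct.FpfAbelian
import Cfsg.Agent.Lib.Block.PrincipalQuotient
import Mathlib.GroupTheory.PGroup
import Mathlib.Data.ZMod.Units

/-!
# `p`-groups in which irreducible characters of equal nonlinear degree are Galois conjugate
-/

set_option autoImplicit false
set_option linter.style.haveILetI false
set_option linter.unusedSectionVars false
set_option linter.unusedVariables false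

namespace Cfsg.Agent.Block.GalDeg

open Cfsg Cfsg.Agent.Char Cfsg.Agent.Block
open scoped Classical ComplexConjugate commutatorElement

universe u

variable {P : Type u} [Group P] [Finite P] {p : ℕ} [hp : Fact p.Prime]

theorem deg_eq (χ : IrrCharacter P) : (χ : P → ℂ) 1 = (charDegree (χ : P → ℂ) : ℂ) :=
  (charDegree_cast (IsIrrCharacter.isCharacter χ.2)).symm

/-- Characters of equal nonlinear degree are Galois conjugate. -/
def GaloisCond (P : Type u) [Group P] : Prop :=
  ∀ χ ψ : IrrCharacter P, charDegree (χ : P → ℂ) ≠ 1 → charDegree (χ : P → ℂ) = charDegree (ψ : P → ℂ) →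
    ∃ k : ℕ, Nat.Coprime k (Nat.card P) ∧ ∀ g : P, (ψ : P → ℂ) g = (χ : P → ℂ) (g ^ k)

theorem ker_eq (h : GaloisCond P) {χ ψ : IrrCharacter P} (h1 : charDegree (χ : P → ℂ) ≠ 1)
    (he : charDegree (χ : P → ℂ) = charDegree (ψ : P → ℂ)) {a : P}
    (ha : (χ : P → ℂ) a = (χ : P → ℂ) 1) : (ψ : P → ℂ) a = (ψ : P → ℂ) 1 := by
  obtain ⟨k, -, hk⟩ := h χ ψ h1 he
  have : ∀ n : ℕ, (χ : P → ℂ) (a ^ n) = (χ : P → ℂ) 1 := by
    intro n
    induction n with
    | zero => rw [pow_zero]
    | succ n ih =>
      rw [pow_succ', (IsCharacter.apply_mul_of_eq_one (IsIrrCharacter.isCharacter χ.2) ha _).1, ih]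
  rw [hk, hk, this, one_pow]

theorem galoisCond_quotient (h : GaloisCond P) (N : Subgroup P) [N.Normal] : GaloisCond (P ⧸ N) := by
  intro φ φ' h1 he
  have hd : ∀ φ : IrrCharacter (P ⧸ N), charDegree (inflate N φ : P → ℂ) = charDegree (φ : P ⧸ N → ℂ) := fun φ => by
    apply Nat.cast_injective (R := ℂ)
    rw [← deg_eq, ← deg_eq, inflate_apply, QuotientGroup.mk_one]
  obtain ⟨k, hk, hkk⟩ := h (inflate N φ) (inflate N φ') (by rwa [hd]) (by rw [hd, hd, he])
  refine ⟨k, hk.coprime_dvd_right N.card_quotient_dvd_card, fun q => ?_⟩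
  obtain ⟨g, rfl⟩ := QuotientGroup.mk_surjective q
  exact hkk g

theorem charDegree_eq_one_of_commutator_ker (χ : IrrCharacter P)
    (h : ∀ a ∈ commutator P, (χ : P → ℂ) a = (χ : P → ℂ) 1) : charDegree (χ : P → ℂ) = 1 := by
  obtain ⟨φ, hφ⟩ := exists_factor_quotient (commutator P) χ fun g hg y =>
    (IsCharacter.apply_mul_of_eq_one (IsIrrCharacter.isCharacter χ.2) (h g hg) y).1
  have h1 : (φ : P ⧸ commutator P → ℂ) 1 = 1 := IsIrrCharacter.degree_one_of_comm φ.2 fun a b => by
    obtain ⟨x, rfl⟩ := QuotientGroup.mk_surjective a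
    obtain ⟨y, rfl⟩ := QuotientGroup.mk_surjective b
    rw [← QuotientGroup.mk_mul, ← QuotientGroup.mk_mul, QuotientGroup.eq]
    have : (x * y)⁻¹ * (y * x) = ⁅y⁻¹, x⁻¹⁆ := by group
    rw [this]
    exact Subgroup.commutator_mem_commutator (Subgroup.mem_top _) (Subgroup.mem_top _)
  have := hφ 1
  rw [QuotientGroup.mk_one, h1, deg_eq] at this
  exact_mod_cast this.symm

theorem exists_nonlinear (hna : ¬ ∀ a b : P, a * b = b * a) :
    ∃ χ : IrrCharacter P, charDegree (χ : P → ℂ) ≠ 1 := by
  by_contra hn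
  push Not at hn
  exact hna (comm_of_degree_one fun χ => by rw [deg_eq, hn χ, Nat.cast_one])

theorem vanish (χ : IrrCharacter P) {g w c : P} (hc : c ∈ Subgroup.center P)
    (hw : w * g * w⁻¹ = c * g) (hne : (χ : P → ℂ) c ≠ (χ : P → ℂ) 1) : (χ : P → ℂ) g = 0 := by
  obtain ⟨ω, -, hω⟩ := IsIrrCharacter.central_apply χ.2 hc
  have h1 := IsIrrCharacter.apply_isConj χ.2 (isConj_iff.2 ⟨w, hw⟩)
  rw [hω] at h1
  have hω1 : ω ≠ 1 := fun e => hne (by have := hω 1; rwa [mul_one, e, one_mul] at this)
  have h2 : (ω - 1) * (χ : P → ℂ) g = 0 := by linear_combination -h1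
  exact (mul_eq_zero.1 h2).resolve_left (sub_ne_zero.2 hω1)

theorem norm_center [Fintype P] (χ : IrrCharacter P) :
    ∑ z ∈ Finset.univ.filter (fun z : P => z ∈ Subgroup.center P), (χ : P → ℂ) z * conj ((χ : P → ℂ) z) =
      ((charDegree (χ : P → ℂ) ^ 2 * Nat.card (Subgroup.center P) : ℕ) : ℂ) := by
  rw [Finset.sum_congr rfl (g := fun _ => ((charDegree (χ : P → ℂ) : ℂ)) ^ 2) fun z hz => ?_]
  · rw [Finset.sum_const, nsmul_eq_mul, Nat.card_eq_fintype_card, Fintype.card_subtype]
    push_cast; ring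
  · obtain ⟨ω, hω, hω'⟩ := IsIrrCharacter.central_apply χ.2 (Finset.mem_filter.1 hz).2
    have h1 := hω' 1
    rw [mul_one] at h1
    rw [h1, map_mul, deg_eq, Complex.conj_natCast]
    have : ω * conj ω = 1 := by rw [Complex.mul_conj, Complex.normSq_eq_norm_sq, hω]; simp
    linear_combination ((charDegree (χ : P → ℂ) : ℂ)) ^ 2 * this

theorem degree_sq_le (χ : IrrCharacter P) :
    charDegree (χ : P → ℂ) ^ 2 * Nat.card (Subgroup.center P) ≤ Nat.card P := by
  haveI := Fintype.ofFinite P
  have h1 := IsIrrCharacter.classInner_self χ.2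
  rw [classInner, inv_mul_eq_iff_eq_mul₀ (Nat.cast_ne_zero.2 Nat.card_pos.ne'), mul_one,
    ← Finset.sum_filter_add_sum_filter_not Finset.univ (fun z : P => z ∈ Subgroup.center P),
    norm_center] at h1
  have h2 := congrArg Complex.re h1
  simp only [Complex.add_re, Complex.natCast_re, Complex.re_sum] at h2
  have h3 : 0 ≤ ∑ g ∈ Finset.univ.filter (fun z : P => ¬ z ∈ Subgroup.center P),
      ((χ : P → ℂ) g * conj ((χ : P → ℂ) g)).re :=
    Finset.sum_nonneg fun g _ => by
      rw [Complex.mul_conj, Complex.ofReal_re]; exact Complex.normSq_nonneg _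
  have : ((charDegree (χ : P → ℂ) ^ 2 * Nat.card (Subgroup.center P) : ℕ) : ℝ) ≤ (Nat.card P : ℝ) := by linarith
  exact_mod_cast this

theorem degree_sq_eq (χ : IrrCharacter P) (h : ∀ g, g ∉ Subgroup.center P → (χ : P → ℂ) g = 0) :
    charDegree (χ : P → ℂ) ^ 2 * Nat.card (Subgroup.center P) = Nat.card P := by
  haveI := Fintype.ofFinite P
  have h1 := IsIrrCharacter.classInner_self χ.2
  rw [classInner, inv_mul_eq_iff_eq_mul₀ (Nat.cast_ne_zero.2 Nat.card_pos.ne'), mul_one,
    ← Finset.sum_filter_add_sum_filter_not Finset.univ (fun z : P => z ∈ Subgroup.center P),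
    norm_center, Finset.sum_eq_zero fun g hg => by rw [h g (Finset.mem_filter.1 hg).2, zero_mul], add_zero] at h1
  exact_mod_cast h1

theorem le_center_of_card_prime (hP : IsPGroup p P) (N : Subgroup P) [N.Normal] (hN : Nat.card N = p) :
    N ≤ Subgroup.center P := by
  intro x hx
  letI : MulAction P N := MulAction.compHom N (MulAut.conjNormal (H := N))
  have h1 : (1 : N) ∈ MulAction.fixedPoints P N := fun y => by
    show MulAut.conjNormal y (1 : N) = 1
    simp
  obtain ⟨z, hz, hz1⟩ := hP.exists_fixed_point_of_prime_dvd_card_of_fixed_point N (dvd_of_eq hN.symm) h1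
  have hzc : (z : P) ∈ Subgroup.center P := Subgroup.mem_center_iff.2 fun y => by
    have h2 := congrArg Subtype.val (hz y)
    change ((MulAut.conjNormal y z : N) : P) = z at h2
    rw [MulAut.conjNormal_apply] at h2
    exact mul_inv_eq_iff_eq_mul.1 h2
  exact Cfsg.Agent.Char.mem_of_prime_card hp.out hN z.2 (fun e => hz1 (Subtype.ext e).symm) hzc hx

theorem eq_of_card_prime {A B : Subgroup P} (hA : Nat.card A = p) (hB : Nat.card B = p) (h : A ≠ B) :
    A ⊓ B = ⊥ := by
  by_contra hne
  obtain ⟨⟨x, hx⟩, hx1⟩ := Subgroup.ne_bot_iff_exists_ne_one.1 hne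
  have hx1' : x ≠ 1 := fun e => hx1 (Subtype.ext e)
  exact h (le_antisymm (Cfsg.Agent.Char.mem_of_prime_card hp.out hA hx.1 hx1' hx.2)
    (Cfsg.Agent.Char.mem_of_prime_card hp.out hB hx.2 hx1' hx.1))

theorem pow_prime_mem_center {g : P} (h : ∀ w : P, ⁅w, g⁆ ∈ Subgroup.center P ∧ ⁅w, g⁆ ^ p = 1) :
    g ^ p ∈ Subgroup.center P := by
  refine Subgroup.mem_center_iff.2 fun w => ?_
  obtain ⟨hc, hcp⟩ := h w
  have e : w * g * w⁻¹ = ⁅w, g⁆ * g := by rw [commutatorElement_def]; group
  have h2 : (w * g * w⁻¹) ^ p = g ^ p := by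
    rw [e, (show Commute ⁅w, g⁆ g from (Subgroup.mem_center_iff.1 hc g).symm).mul_pow, hcp, one_mul]
  rw [conj_pow] at h2
  exact mul_inv_eq_iff_eq_mul.1 h2

theorem vanish_of_card (hc : Nat.card (commutator P) = p) (hP : IsPGroup p P) (χ : IrrCharacter P)
    (h1 : charDegree (χ : P → ℂ) ≠ 1) :
    (∀ a ∈ commutator P, a ≠ 1 → (χ : P → ℂ) a ≠ (χ : P → ℂ) 1) ∧
      ∀ g, g ∉ Subgroup.center P → (χ : P → ℂ) g = 0 := by
  have hz := le_center_of_card_prime hP (commutator P) hc
  have key : ∀ a ∈ commutator P, a ≠ 1 → (χ : P → ℂ) a ≠ (χ : P → ℂ) 1 := by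
    intro a ha ha1 he
    refine h1 (charDegree_eq_one_of_commutator_ker χ fun b hb => ?_)
    let K : Subgroup P :=
      { carrier := {x | (χ : P → ℂ) x = (χ : P → ℂ) 1}
        one_mem' := rfl
        mul_mem' := fun {a b} ha hb => ((IsCharacter.apply_mul_of_eq_one (IsIrrCharacter.isCharacter χ.2) ha b).1).trans hb
        inv_mem' := fun {a} ha => by
          have := (IsCharacter.apply_mul_of_eq_one (IsIrrCharacter.isCharacter χ.2) ha a⁻¹).1
          rw [mul_inv_cancel] at this
          exact this.symm }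
    exact Cfsg.Agent.Char.mem_of_prime_card (H := K) hp.out hc ha ha1 he hb
  refine ⟨key, fun g hg => ?_⟩
  obtain ⟨w, hw⟩ : ∃ w : P, w * g ≠ g * w := by
    by_contra hn
    push Not at hn
    exact hg (Subgroup.mem_center_iff.2 hn)
  have hmem : ⁅w, g⁆ ∈ commutator P := Subgroup.commutator_mem_commutator (Subgroup.mem_top _) (Subgroup.mem_top _)
  refine vanish χ (hz hmem) (w := w) (by rw [commutatorElement_def]; group) (key _ hmem fun e => hw ?_)
  rw [commutatorElement_def, mul_inv_eq_one, mul_inv_eq_iff_eq_mul] at e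
  exact e

/-- A subgroup meeting `A` trivially is isomorphic to its image modulo `A`. -/
noncomputable def equivMap (C A : Subgroup P) [A.Normal] (h : C ⊓ A = ⊥) :
    C ≃* C.map (QuotientGroup.mk' A) :=
  MulEquiv.ofBijective ((QuotientGroup.mk' A).subgroupMap C)
    ⟨(injective_iff_map_eq_one _).2 fun x hx => Subtype.ext (Subgroup.mem_bot.1 (h ▸
      (⟨x.2, (QuotientGroup.eq_one_iff (x : P)).1 (congrArg Subtype.val hx)⟩ : (x : P) ∈ C ⊓ A))),
      (QuotientGroup.mk' A).subgroupMap_surjective C⟩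

theorem geom_lt (m : ℕ) : p * ∑ j ∈ Finset.range m, p ^ (2 * j) < p ^ (2 * m) := by
  induction m with
  | zero => simp
  | succ m ih =>
    rw [Finset.sum_range_succ, mul_add, show 2 * (m + 1) = 2 * m + 2 from by ring, pow_add]
    have h2 := hp.out.two_le
    have h4 : 0 < p ^ (2 * m) := pow_pos hp.out.pos _
    nlinarith [Nat.mul_le_mul_left (p ^ (2 * m)) (show p + 1 ≤ p ^ 2 from by nlinarith)]

theorem mp_aux : ∀ (n : ℕ) (P : Type u) [Group P] [Finite P], Nat.card P = n → IsPGroup p P →
    ¬ (∀ a b : P, a * b = b * a) → GaloisCond P →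
    IsCyclic (Subgroup.center P) ∧ Nat.card (commutator P) = p := by
  intro n
  induction n using Nat.strong_induction_on with
  | _ n ih =>
    intro P _ _ hn hP hna hG
    haveI := Fintype.ofFinite P
    haveI := Fintype.ofFinite (IrrCharacter P)
    have hp1 := hp.out.one_lt
    have hnormal : ∀ A : Subgroup P, A ≤ Subgroup.center P → A.Normal := fun A hA =>
      ⟨fun a ha g => by rwa [Subgroup.mem_center_iff.1 (hA ha) g, mul_inv_cancel_right]⟩
    -- quotients by central subgroups of order `p` not containing the derived subgroup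
    have hquot : ∀ (A : Subgroup P) [A.Normal], Nat.card A = p → ¬ commutator P ≤ A →
        IsCyclic (Subgroup.center (P ⧸ A)) ∧ Nat.card (commutator (P ⧸ A)) = p := by
      intro A _ hA hcA
      refine ih _ ?_ (P ⧸ A) rfl (hP.to_quotient A) (fun hab => hcA ?_) (galoisCond_quotient hG A)
      · rw [← hn, Subgroup.card_eq_card_quotient_mul_card_subgroup A, hA]
        exact lt_mul_of_one_lt_right Nat.card_pos hp1
      · rw [commutator_def, Subgroup.commutator_le]
        intro a _ b _
        rw [← QuotientGroup.eq_one_iff, commutatorElement_def]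
        simp only [QuotientGroup.mk_mul, QuotientGroup.mk_inv]
        rw [hab (a : P ⧸ A) b]
        group
    have hcmap : ∀ (A : Subgroup P) [A.Normal],
        commutator (P ⧸ A) = (commutator P).map (QuotientGroup.mk' A) := fun A _ => by
      rw [commutator_def, commutator_def, Subgroup.map_commutator,
        Subgroup.map_top_of_surjective _ (QuotientGroup.mk'_surjective A)]
    -- degree of the nonlinear characters of a quotient
    have hinf : ∀ (A : Subgroup P) [A.Normal], Nat.card A = p → ¬ commutator P ≤ A →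
        ∃ χ : IrrCharacter P, charDegree (χ : P → ℂ) ≠ 1 ∧ (∀ a ∈ A, (χ : P → ℂ) a = (χ : P → ℂ) 1) ∧
          charDegree (χ : P → ℂ) ^ 2 * Nat.card ((Subgroup.center (P ⧸ A)).comap (QuotientGroup.mk' A)) = Nat.card P ∧
          ∀ b ∈ commutator P, b ∉ A → (χ : P → ℂ) b ≠ (χ : P → ℂ) 1 := by
      intro A _ hA hcA
      obtain ⟨-, hc⟩ := hquot A hA hcA
      haveI : Nontrivial (commutator (P ⧸ A)) := Finite.one_lt_card_iff_nontrivial.1 (hc.symm ▸ hp1)
      obtain ⟨φ, hφ⟩ := exists_nonlinear (P := P ⧸ A) fun hab => by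
        have : commutator (P ⧸ A) = ⊥ := by
          rw [commutator_def, eq_bot_iff, Subgroup.commutator_le]
          intro a _ b _
          rw [Subgroup.mem_bot, commutatorElement_def, hab a b]
          group
        exact (Subgroup.nontrivial_iff_ne_bot _).1 inferInstance this
      have hd : charDegree (inflate A φ : P → ℂ) = charDegree (φ : P ⧸ A → ℂ) := by
        apply Nat.cast_injective (R := ℂ)
        rw [← deg_eq, ← deg_eq, inflate_apply, QuotientGroup.mk_one]
      obtain ⟨hk, hv⟩ := vanish_of_card hc (hP.to_quotient A) φ hφ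
      refine ⟨inflate A φ, by rwa [hd], fun a ha => ?_, ?_, fun b hb hbA he => ?_⟩
      · simp only [inflate_apply, (QuotientGroup.eq_one_iff a).2 ha, QuotientGroup.mk_one]
      · rw [hd, Cfsg.Agent.Solv.card_comap_mk', Subgroup.card_eq_card_quotient_mul_card_subgroup A,
          ← degree_sq_eq φ hv]
        ring
      · simp only [inflate_apply, QuotientGroup.mk_one] at he
        refine hk _ ?_ (fun e => hbA ((QuotientGroup.eq_one_iff b).1 e)) he
        rw [hcmap A]; exact ⟨b, hb, rfl⟩
    by_cases hc : Nat.card (commutator P) = p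
    · refine ⟨?_, hc⟩
      by_contra hncyc
      have hz := le_center_of_card_prime hP (commutator P) hc
      obtain ⟨A, hAc, hA, hAne⟩ : ∃ A : Subgroup P, A ≤ Subgroup.center P ∧ Nat.card A = p ∧ A ≠ commutator P := by
        by_contra hn
        push Not at hn
        refine hncyc (Struct.Frobenius.isCyclic_of_commute_of_unique (fun x y => Subtype.ext
          (Subgroup.mem_center_iff.1 y.2 x)) fun r hr x y hx hy => ?_)
        have hrp : r = p := by
          obtain ⟨k, hk⟩ := IsPGroup.iff_card.1 (hP.to_subgroup (Subgroup.center P))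
          exact (Nat.prime_dvd_prime_iff_eq hr hp.out).1 (hr.dvd_of_dvd_pow (hk ▸ hx ▸ orderOf_dvd_natCard x))
        subst hrp
        have hX := hn (Subgroup.zpowers (x : P)) (Subgroup.zpowers_le.2 x.2)
          (by rw [Nat.card_zpowers, Subgroup.orderOf_coe, hx])
        rcases eq_or_ne y 1 with rfl | hy1
        · exact one_mem _
        have hY := hn (Subgroup.zpowers (y : P)) (Subgroup.zpowers_le.2 y.2)
          (by rw [Nat.card_zpowers, Subgroup.orderOf_coe, orderOf_eq_prime hy hy1])
        obtain ⟨i, hi⟩ := Subgroup.mem_zpowers_iff.1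
          (show (y : P) ∈ Subgroup.zpowers (x : P) by rw [hX, ← hY]; exact Subgroup.mem_zpowers _)
        exact Subgroup.mem_zpowers_iff.2 ⟨i, Subtype.ext (by simpa using hi)⟩
      haveI := hnormal A hAc
      have hcA : ¬ commutator P ≤ A := fun hle => hAne (Subgroup.eq_of_le_of_card_ge hle (by rw [hA, hc])).symm
      obtain ⟨χ, hχ1, hχA, -, -⟩ := hinf A hA hcA
      obtain ⟨⟨a, ha⟩, ha1⟩ := Subgroup.ne_bot_iff_exists_ne_one.1
        (show A ≠ ⊥ from fun e => by rw [e, Subgroup.card_bot] at hA; exact hp1.ne hA)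
      have ha1' : a ≠ 1 := fun e => ha1 (Subtype.ext e)
      have hac : a ∉ commutator P := fun hmem =>
        ha1' (Subgroup.mem_bot.1 (eq_of_card_prime hA hc hAne ▸ (⟨ha, hmem⟩ : a ∈ A ⊓ commutator P)))
      obtain ⟨l, hl⟩ := CommGroup.exists_apply_ne_one_of_hasEnoughRootsOfUnity (Abelianization P) ℂ
        (a := Abelianization.of a) (fun e => hac ((QuotientGroup.eq_one_iff _).1 e))
      let μ : P →* ℂˣ := l.comp Abelianization.of
      have hψ : IsIrrCharacter P fun g => (μ g : ℂ) * (χ : P → ℂ) g := by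
        refine isIrrCharacter_iff.2 ⟨isCharacter_mul
          (IsIrrCharacter.isCharacter (isIrrCharacter_monoidHom μ)) (IsIrrCharacter.isCharacter χ.2), ?_⟩
        have h1 := IsIrrCharacter.classInner_self χ.2
        rw [classInner] at h1 ⊢
        rw [← h1]
        congr 1
        refine Finset.sum_congr rfl fun g _ => ?_
        have : (μ g : ℂ) * conj (μ g : ℂ) = 1 := by
          have h2 := IsCharacter.map_inv (IsIrrCharacter.isCharacter (isIrrCharacter_monoidHom μ)) g
          rw [← h2, ← Units.val_mul, ← map_mul, mul_inv_cancel, map_one, Units.val_one]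
        rw [map_mul]
        linear_combination (χ : P → ℂ) g * conj ((χ : P → ℂ) g) * this
      have hd : charDegree (χ : P → ℂ) = charDegree ((⟨_, hψ⟩ : IrrCharacter P) : P → ℂ) := by
        apply Nat.cast_injective (R := ℂ)
        rw [← deg_eq, ← deg_eq]; simp
      have := ker_eq hG hχ1 hd (hχA a ha)
      simp only [map_one, Units.val_one, one_mul, hχA a ha] at this
      exact hl (Units.ext (mul_right_cancel₀ (IsIrrCharacter.apply_one_ne_zero χ.2)
        (this.trans (one_mul _).symm)))
    exfalso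
    -- every central subgroup of order `p` lies in the derived subgroup, which has order `p ^ 2`
    have hall : ∀ (A : Subgroup P) [A.Normal], Nat.card A = p → ¬ commutator P ≤ A →
        A ≤ commutator P ∧ Nat.card (commutator P) = p * p := by
      intro A _ hA hcA
      obtain ⟨-, hcq⟩ := hquot A hA hcA
      rw [hcmap A] at hcq
      have hAle : A ≤ commutator P := by
        by_contra hle
        refine hc (Eq.trans ?_ hcq)
        refine Nat.card_congr (equivMap (commutator P) A ?_).toEquiv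
        rw [Subgroup.eq_bot_iff_forall]
        intro x hx
        by_contra hx1
        exact hle (Cfsg.Agent.Char.mem_of_prime_card hp.out hA hx.2 hx1 hx.1)
      refine ⟨hAle, ?_⟩
      have h1 : Nat.card ((commutator P).map (QuotientGroup.mk' A)) * Nat.card A = Nat.card (commutator P) := by
        rw [← Cfsg.Agent.Solv.card_comap_mk' A ((commutator P).map (QuotientGroup.mk' A)) |>.trans (mul_comm _ _),
          Subgroup.comap_map_eq, QuotientGroup.ker_mk', sup_of_le_left hAle]
      rw [← h1, hcq, hA]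
    haveI : Nontrivial P := by
      by_contra hn'
      rw [not_nontrivial_iff_subsingleton] at hn'
      exact hna fun a b => Subsingleton.elim _ _
    haveI : Nontrivial (Subgroup.center P) := hP.center_nontrivial
    obtain ⟨a₀, ha₀⟩ := exists_prime_orderOf_dvd_card' (G := Subgroup.center P) p (by
      obtain ⟨k, hk⟩ := IsPGroup.iff_card.1 (hP.to_subgroup (Subgroup.center P))
      rcases Nat.eq_zero_or_pos k with rfl | hk0
      · rw [pow_zero] at hk; exact absurd hk (Finite.one_lt_card).ne'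
      · exact hk ▸ dvd_pow_self p hk0.ne')
    set A := Subgroup.zpowers (a₀ : P) with hAdef
    have hAc : A ≤ Subgroup.center P := Subgroup.zpowers_le.2 a₀.2
    have hA : Nat.card A = p := by rw [Nat.card_zpowers, Subgroup.orderOf_coe, ha₀]
    haveI := hnormal A hAc
    have hne : ∀ (B : Subgroup P), Nat.card B = p → ¬ commutator P ≤ B := fun B hB hle => by
      have hdv := Subgroup.card_dvd_of_le hle
      rw [hB] at hdv
      rcases (Nat.dvd_prime hp.out).1 hdv with h | h
      · refine hna fun a b => ?_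
        have hbot : commutator P = ⊥ := Subgroup.eq_bot_of_card_eq _ h
        have : ⁅a, b⁆ ∈ commutator P := Subgroup.commutator_mem_commutator (Subgroup.mem_top _) (Subgroup.mem_top _)
        rw [hbot, Subgroup.mem_bot, commutatorElement_def, mul_inv_eq_one, mul_inv_eq_iff_eq_mul] at this
        exact this
      · exact hc h
    obtain ⟨hAle, hcard⟩ := hall A hA (hne A hA)
    -- the preimage of the centre of the quotient
    have hX : ∀ (B : Subgroup P) [B.Normal], Nat.card B = p → B ≤ Subgroup.center P →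
        Subgroup.center P ≤ (Subgroup.center (P ⧸ B)).comap (QuotientGroup.mk' B) ∧
        (∀ g : P, g ^ p ∈ (Subgroup.center (P ⧸ B)).comap (QuotientGroup.mk' B)) ∧
        (∀ x ∈ (Subgroup.center (P ⧸ B)).comap (QuotientGroup.mk' B), x ^ p ∈ Subgroup.center P) ∧
        (Nat.card ((Subgroup.center (P ⧸ B)).comap (QuotientGroup.mk' B)) = Nat.card (Subgroup.center P) ∨
          Nat.card ((Subgroup.center (P ⧸ B)).comap (QuotientGroup.mk' B)) = p * Nat.card (Subgroup.center P)) := by
      intro B _ hB hBc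
      obtain ⟨hcyc, hcq⟩ := hquot B hB (hne B hB)
      set π := QuotientGroup.mk' B with hπ
      set X := (Subgroup.center (P ⧸ B)).comap π with hXdef
      have hZX : Subgroup.center P ≤ X := fun x hx => Subgroup.mem_center_iff.2 fun q => by
        obtain ⟨w, rfl⟩ := QuotientGroup.mk'_surjective B q
        rw [hπ, ← map_mul, ← map_mul, Subgroup.mem_center_iff.1 hx w]
      have hxp : ∀ x ∈ X, x ^ p ∈ Subgroup.center P := fun x hx => pow_prime_mem_center fun w => by
        have hB' : ⁅w, x⁆ ∈ B := by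
          refine (QuotientGroup.eq_one_iff _).1 ?_
          show π ⁅w, x⁆ = 1
          rw [map_commutatorElement, commutatorElement_def, Subgroup.mem_center_iff.1 hx (π w)]
          group
        exact ⟨hBc hB', orderOf_dvd_iff_pow_eq_one.1 (hB ▸ B.orderOf_dvd_natCard hB')⟩
      refine ⟨hZX, fun g => ?_, hxp, ?_⟩
      · show π (g ^ p) ∈ Subgroup.center (P ⧸ B)
        rw [map_pow]
        refine pow_prime_mem_center fun q => ?_
        have hm : ⁅q, π g⁆ ∈ commutator (P ⧸ B) :=
          Subgroup.commutator_mem_commutator (Subgroup.mem_top _) (Subgroup.mem_top _)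
        exact ⟨le_center_of_card_prime (hP.to_quotient B) _ hcq hm,
          orderOf_dvd_iff_pow_eq_one.1 (hcq ▸ (commutator (P ⧸ B)).orderOf_dvd_natCard hm)⟩
      · obtain ⟨⟨q₀, hq₀⟩, hgen⟩ := hcyc.exists_generator
        obtain ⟨x₀, rfl⟩ := QuotientGroup.mk'_surjective B q₀
        have hx₀p : x₀ ^ p ∈ Subgroup.center P := hxp x₀ hq₀
        have hsurj : Function.Surjective (fun z : Fin p × Subgroup.center P =>
            (⟨x₀ ^ (z.1 : ℕ) * z.2, X.mul_mem (X.pow_mem hq₀ _) (hZX z.2.2)⟩ : X)) := by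
          intro x
          obtain ⟨i, hi⟩ := Subgroup.mem_zpowers_iff.1 (hgen ⟨π x, x.2⟩)
          have hi' : π (x₀ ^ i) = π x := by
            rw [map_zpow]; have := congrArg Subtype.val hi; simp only [SubgroupClass.coe_zpow] at this; exact this
          have hb : (x₀ ^ i)⁻¹ * x ∈ B := QuotientGroup.eq.1 hi'
          have hpi : 0 < (p : ℤ) := by exact_mod_cast hp.out.pos
          obtain ⟨r, hr⟩ : ∃ r : Fin p, ((r : ℕ) : ℤ) = i % (p : ℤ) :=
            ⟨⟨(i % (p : ℤ)).toNat, by have := Int.emod_lt_of_pos i hpi; have := Int.emod_nonneg i hpi.ne'; omega⟩,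
              Int.toNat_of_nonneg (Int.emod_nonneg i hpi.ne')⟩
          refine ⟨(r, ⟨(x₀ ^ p) ^ (i / (p : ℤ)) * ((x₀ ^ i)⁻¹ * x),
            (Subgroup.center P).mul_mem ((Subgroup.center P).zpow_mem hx₀p _) (hBc hb)⟩), Subtype.ext ?_⟩
          show x₀ ^ (r : ℕ) * ((x₀ ^ p) ^ (i / (p : ℤ)) * ((x₀ ^ i)⁻¹ * (x : P))) = x
          rw [← zpow_natCast x₀ (r : ℕ), hr, ← zpow_natCast x₀ p, ← zpow_mul, ← mul_assoc, ← zpow_add,
            Int.emod_add_mul_ediv, mul_inv_cancel_left]
        have hle := Nat.card_le_card_of_surjective _ hsurj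
        rw [Nat.card_prod, Nat.card_fin] at hle
        obtain ⟨t, ht⟩ := Subgroup.card_dvd_of_le hZX
        obtain ⟨k, hk⟩ := IsPGroup.iff_card.1 (hP.to_subgroup X)
        obtain ⟨j, hjk, hj⟩ := (Nat.dvd_prime_pow hp.out).1 (hk ▸ Subgroup.card_dvd_of_le hZX)
        rw [hk, hj] at hle ⊢
        have hkj : k ≤ j + 1 := by
          have : p ^ k ≤ p ^ (j + 1) := by rw [pow_succ']; exact hle
          exact (Nat.pow_le_pow_iff_right hp1).1 this
        rcases Nat.lt_or_ge j k with h | h
        · right; rw [show k = j + 1 by omega, pow_succ']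
        · left; rw [show k = j by omega]
    obtain ⟨χA, hχA1, hχAA, hχAd, hχAb⟩ := hinf A hA (hne A hA)
    obtain ⟨hZX, hgp, hxp, hXcard⟩ := hX A hA hAc
    obtain ⟨c, hcP⟩ := IsPGroup.iff_card.1 hP
    obtain ⟨z, hzP⟩ := IsPGroup.iff_card.1 (hP.to_subgroup (Subgroup.center P))
    have hdegpow : ∀ χ : IrrCharacter P, ∃ j : ℕ, charDegree (χ : P → ℂ) = p ^ j := fun χ => by
      obtain ⟨j, -, hj⟩ := (Nat.dvd_prime_pow hp.out).1 (hcP ▸ charDegree_dvd_card χ.2)
      exact ⟨j, hj⟩
    obtain ⟨m, hm⟩ := hdegpow χA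
    by_cases huniq : ∃ B : Subgroup P, B ≤ Subgroup.center P ∧ Nat.card B = p ∧ B ≠ A
    · obtain ⟨B, hBc, hB, hBA⟩ := huniq
      haveI := hnormal B hBc
      obtain ⟨hBle, -⟩ := hall B hB (hne B hB)
      obtain ⟨χB, hχB1, hχBB, hχBd, -⟩ := hinf B hB (hne B hB)
      obtain ⟨-, -, -, hXBcard⟩ := hX B hB hBc
      obtain ⟨l, hl⟩ := hdegpow χB
      have hml : m = l := by
        have e : ∀ k s : ℕ, p ^ k = p ^ s → k = s := fun k s h => Nat.pow_right_injective hp.out.two_le h
        rw [hm, hcP, ← pow_mul] at hχAd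
        rw [hl, hcP, ← pow_mul] at hχBd
        rcases hXcard with h1 | h1 <;> rcases hXBcard with h2 | h2 <;>
          rw [h1, hzP] at hχAd <;> rw [h2, hzP] at hχBd
        all_goals
          simp only [← pow_succ', ← pow_add] at hχAd hχBd
          have := e _ _ hχAd
          have := e _ _ hχBd
          omega
      obtain ⟨⟨b, hb⟩, hb1⟩ := Subgroup.ne_bot_iff_exists_ne_one.1
        (show B ≠ ⊥ from fun e => by rw [e, Subgroup.card_bot] at hB; exact hp1.ne hB)
      have hb1' : b ≠ 1 := fun e => hb1 (Subtype.ext e)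
      have hbA : b ∉ A := fun hmem =>
        hb1' (Subgroup.mem_bot.1 (eq_of_card_prime hB hA hBA ▸ (⟨hb, hmem⟩ : b ∈ B ⊓ A)))
      exact hχAb b (hBle hb) hbA (ker_eq hG hχB1 (by rw [hl, hm, hml]) (hχBB b hb))
    -- counting the characters which are nontrivial on `A`
    have hAz : (a₀ : P) ∈ A := Subgroup.mem_zpowers _
    set S := Finset.univ.filter fun χ : IrrCharacter P => (χ : P → ℂ) a₀ ≠ (χ : P → ℂ) 1 with hSdef
    have hcount : p ^ c = p ^ (c - 1) + ∑ χ ∈ S, charDegree (χ : P → ℂ) ^ 2 := by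
      have h0 : ∀ χ : IrrCharacter P, ∑ x : A, (χ : P → ℂ) 1 * (χ : P → ℂ) x =
          if (χ : P → ℂ) a₀ = (χ : P → ℂ) 1 then (p : ℂ) * (charDegree (χ : P → ℂ) : ℂ) ^ 2 else 0 := by
        intro χ
        split_ifs with he
        · have hk : ∀ x : A, (χ : P → ℂ) x = (χ : P → ℂ) 1 := fun x => by
            let K : Subgroup P :=
              { carrier := {x | (χ : P → ℂ) x = (χ : P → ℂ) 1}
                one_mem' := rfl
                mul_mem' := fun {a b} ha hb => ((IsCharacter.apply_mul_of_eq_one (IsIrrCharacter.isCharacter χ.2) ha b).1).trans hb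
                inv_mem' := fun {a} ha => by
                  have := (IsCharacter.apply_mul_of_eq_one (IsIrrCharacter.isCharacter χ.2) ha a⁻¹).1
                  rw [mul_inv_cancel] at this
                  exact this.symm }
            exact (Subgroup.zpowers_le.2 (show (a₀ : P) ∈ K from he)) x.2
          simp only [hk, Finset.sum_const, Finset.card_univ, nsmul_eq_mul, ← Nat.card_eq_fintype_card, hA, deg_eq]
          ring
        · obtain ⟨ω, -, hω⟩ := IsIrrCharacter.central_apply χ.2 a₀.2
          have hω1 : ω ≠ 1 := fun e => he (by have := hω 1; rwa [mul_one, e, one_mul] at this)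
          have e : ω * ∑ x : A, (χ : P → ℂ) 1 * (χ : P → ℂ) x = ∑ x : A, (χ : P → ℂ) 1 * (χ : P → ℂ) x := by
            rw [Finset.mul_sum]
            exact Fintype.sum_equiv (Equiv.mulLeft (⟨a₀, hAz⟩ : A)) _ _ fun x => by
              rw [mul_left_comm, ← hω]; rfl
          have : (ω - 1) * ∑ x : A, (χ : P → ℂ) 1 * (χ : P → ℂ) x = 0 := by linear_combination e
          exact (mul_eq_zero.1 this).resolve_left (sub_ne_zero.2 hω1)
      have h1 : ∑ x : A, ∑ χ : IrrCharacter P, (χ : P → ℂ) 1 * (χ : P → ℂ) x = (Nat.card P : ℂ) := by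
        rw [Finset.sum_congr rfl fun (x : A) _ => regular_eq (x : P), Finset.sum_eq_single (1 : A)]
        · simp
        · intro x _ hx; exact if_neg fun e => hx (Subtype.ext e)
        · simp
      rw [Finset.sum_comm, Finset.sum_congr rfl fun χ _ => h0 χ, ← Finset.sum_filter, ← Finset.mul_sum] at h1
      have h2 := sum_sq_degree (G := P)
      simp only [deg_eq] at h2
      rw [← Finset.sum_filter_add_sum_filter_not Finset.univ
        (fun χ : IrrCharacter P => (χ : P → ℂ) a₀ = (χ : P → ℂ) 1)] at h2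
      set T := ∑ χ ∈ Finset.univ.filter (fun χ : IrrCharacter P => (χ : P → ℂ) a₀ = (χ : P → ℂ) 1),
        charDegree (χ : P → ℂ) ^ 2 with hT
      have h3 : p * T = p ^ c := by
        have : (p : ℂ) * (T : ℂ) = ((p ^ c : ℕ) : ℂ) := by rw [← hcP, ← h1, hT]; push_cast; rfl
        exact_mod_cast this
      have h4 : p ^ c = T + ∑ χ ∈ S, charDegree (χ : P → ℂ) ^ 2 := by
        have : ((p ^ c : ℕ) : ℂ) = (T : ℂ) + ((∑ χ ∈ S, charDegree (χ : P → ℂ) ^ 2 : ℕ) : ℂ) := by
          rw [← hcP, ← h2, hT, hSdef]; push_cast; rfl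
        exact_mod_cast this
      have hc0 : c ≠ 0 := fun e => by
        rw [e, pow_zero] at hcP; exact (Finite.one_lt_card (α := P)).ne' hcP
      have hT' : T = p ^ (c - 1) := Nat.eq_of_mul_eq_mul_left hp.out.pos
        (h3.trans (by rw [← pow_succ', show c - 1 + 1 = c by omega]))
      rw [hT'] at h4
      exact h4
    -- exponent
    obtain ⟨e, hexp, hebound⟩ : ∃ e : ℕ, (∀ g : P, g ^ p ^ e = 1) ∧
        (((e = z + 1) ∧ c = 2 * m + z) ∨ ((e = z + 2) ∧ c = 2 * m + (z + 1))) := by
      rw [hm, hcP, ← pow_mul] at hχAd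
      rcases hXcard with h1 | h1 <;> rw [h1, hzP] at hχAd
      · refine ⟨z + 1, fun g => ?_, Or.inl ⟨rfl, ?_⟩⟩
        · have heq : Subgroup.center P = (Subgroup.center (P ⧸ A)).comap (QuotientGroup.mk' A) :=
            Subgroup.eq_of_le_of_card_ge hZX h1.le
          have h2 : g ^ p ∈ Subgroup.center P := by rw [heq]; exact hgp g
          rw [pow_succ', pow_mul]
          exact orderOf_dvd_iff_pow_eq_one.1 (hzP ▸ (Subgroup.center P).orderOf_dvd_natCard h2)
        · rw [← pow_add] at hχAd
          have := Nat.pow_right_injective hp.out.two_le hχAd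
          omega
      · refine ⟨z + 2, fun g => ?_, Or.inr ⟨rfl, ?_⟩⟩
        · have h2 := hxp _ (hgp g)
          rw [show p ^ (z + 2) = p * p * p ^ z by ring, pow_mul, pow_mul]
          exact orderOf_dvd_iff_pow_eq_one.1 (hzP ▸ (Subgroup.center P).orderOf_dvd_natCard h2)
        · rw [← pow_succ', ← pow_add] at hχAd
          have := Nat.pow_right_injective hp.out.two_le hχAd
          omega
    have he0 : e ≠ 0 := by rcases hebound with h | h <;> omega
    haveI : NeZero (p ^ e) := ⟨pow_ne_zero _ hp.out.ne_zero⟩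
    have hlog : ∀ χ ∈ S, ∃ j : Fin m, charDegree (χ : P → ℂ) = p ^ (j : ℕ) := by
      intro χ hχ
      obtain ⟨j, hj⟩ := hdegpow χ
      have hle := degree_sq_le χ
      rw [hj, hzP, hcP, ← pow_mul, ← pow_add] at hle
      have := (Nat.pow_le_pow_iff_right hp1).1 hle
      have hjm : j ≠ m := fun hjm => (Finset.mem_filter.1 hχ).2
        (ker_eq hG hχA1 (by rw [hm, hj, hjm]) (hχAA _ hAz))
      exact ⟨⟨j, by rcases hebound with h | h <;> omega⟩, hj⟩
    choose j hj using hlog
    have hsum : ∑ χ ∈ S, charDegree (χ : P → ℂ) ^ 2 ≤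
        (p ^ e).totient * ∑ i ∈ Finset.range m, p ^ (2 * i) := by
      have hpart : ∀ i : ℕ, (S.filter fun χ : IrrCharacter P => charDegree (χ : P → ℂ) = p ^ i).card ≤ (p ^ e).totient := by
        intro i
        rcases (S.filter fun χ : IrrCharacter P => charDegree (χ : P → ℂ) = p ^ i).eq_empty_or_nonempty with h | ⟨χ₀, hχ₀⟩
        · rw [h]; simp
        obtain ⟨hχ₀S, hχ₀i⟩ := Finset.mem_filter.1 hχ₀
        have hi1 : charDegree (χ₀ : P → ℂ) ≠ 1 := by
          intro he1
          obtain ⟨l, hl⟩ := IsCharacter.exists_monoidHom (IsIrrCharacter.isCharacter χ₀.2)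
            (by rw [deg_eq, he1, Nat.cast_one])
          refine (Finset.mem_filter.1 hχ₀S).2 ?_
          have := Abelianization.commutator_subset_ker l (hAle hAz)
          rw [MonoidHom.mem_ker] at this
          simp [hl, this]
        have hk : ∀ χ ∈ S.filter (fun χ : IrrCharacter P => charDegree (χ : P → ℂ) = p ^ i), ∃ u : (ZMod (p ^ e))ˣ,
            ∀ g : P, (χ : P → ℂ) g = (χ₀ : P → ℂ) (g ^ (u : ZMod (p ^ e)).val) := by
          intro χ hχ
          obtain ⟨k, hk, hkk⟩ := hG χ₀ χ hi1 (hχ₀i.trans (Finset.mem_filter.1 hχ).2.symm)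
          have hkp : Nat.Coprime k (p ^ e) := by
            refine Nat.Coprime.pow_right e ?_
            refine hk.coprime_dvd_right ?_
            rw [hcP]
            exact dvd_pow_self p fun e' => by
              rw [e', pow_zero] at hcP; exact (Finite.one_lt_card (α := P)).ne' hcP
          refine ⟨ZMod.unitOfCoprime k hkp, fun g => ?_⟩
          rw [ZMod.coe_unitOfCoprime, ZMod.val_natCast, hkk,
            pow_eq_pow_mod k (hexp g)]
        choose u hu using hk
        rw [← ZMod.card_units_eq_totient, ← Fintype.card_coe]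
        refine Fintype.card_le_of_injective (fun χ => u χ.1 χ.2) fun a b hab => Subtype.ext (Subtype.ext (funext fun g => ?_))
        simp only at hab
        rw [hu a.1 a.2 g, hu b.1 b.2 g, hab]
      rw [Finset.mul_sum, ← Finset.sum_fiberwise_of_maps_to (t := Finset.range m)
        (g := fun χ : IrrCharacter P => Nat.log p (charDegree (χ : P → ℂ))) (fun χ hχ => by
          rw [hj χ hχ, Nat.log_pow hp1]; exact Finset.mem_range.2 (j χ hχ).2)]
      refine Finset.sum_le_sum fun i _ => ?_
      rw [Finset.sum_congr rfl (g := fun _ => p ^ (2 * i)) fun χ hχ => by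
        obtain ⟨hS', hi⟩ := Finset.mem_filter.1 hχ
        rw [hj χ hS', Nat.log_pow hp1] at hi
        rw [hj χ hS', hi, ← pow_mul, mul_comm], Finset.sum_const, smul_eq_mul]
      refine Nat.mul_le_mul_right _ (le_trans (Finset.card_le_card fun χ hχ => ?_) (hpart i))
      obtain ⟨hS', hi⟩ := Finset.mem_filter.1 hχ
      rw [hj χ hS', Nat.log_pow hp1] at hi
      exact Finset.mem_filter.2 ⟨hS', by rw [hj χ hS', hi]⟩
    rw [Nat.totient_prime_pow hp.out (Nat.pos_of_ne_zero he0)] at hsum
    have hm0 : m ≠ 0 := fun e' => hχA1 (by rw [hm, e', pow_zero])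
    have hg := geom_lt (p := p) m
    set SS := ∑ i ∈ Finset.range m, p ^ (2 * i)
    have hc1 : p ^ c = p ^ (c - 1) * p := by
      rw [← pow_succ, show c - 1 + 1 = c by rcases hebound with h | h <;> omega]
    have h5 : p ^ (c - 1) * (p - 1) ≤ p ^ (e - 1) * (p - 1) * SS := by
      refine le_trans ?_ hsum
      rw [Nat.mul_sub_one, ← hc1]
      omega
    have h6 : p ^ (c - 1) ≤ p ^ (e - 1) * SS :=
      Nat.le_of_mul_le_mul_right (by linarith) (show 0 < p - 1 by omega)
    have h7 : p ^ (2 * m) * p ^ (e - 1) ≤ p ^ (e - 1) * (p * SS) := by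
      have e1 : p ^ (2 * m) * p ^ (e - 1) = p * p ^ (c - 1) := by
        rw [← pow_add, ← pow_succ']
        congr 1
        rcases hebound with h | h <;> omega
      rw [e1, mul_left_comm (p ^ (e - 1))]
      exact Nat.mul_le_mul_left p h6
    rw [mul_comm (p ^ (2 * m))] at h7
    exact absurd (Nat.le_of_mul_le_mul_left h7 (pow_pos hp.out.pos _)) (not_le.2 hg)

theorem mpr_aux (hP : IsPGroup p P) (hc : Nat.card (commutator P) = p)
    (hcyc : IsCyclic (Subgroup.center P)) : GaloisCond P := by
  intro χ ψ h1 he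
  haveI := Fintype.ofFinite P
  have hψ1 : charDegree (ψ : P → ℂ) ≠ 1 := he ▸ h1
  obtain ⟨hk1, hv1⟩ := vanish_of_card hc hP χ h1
  obtain ⟨hk2, hv2⟩ := vanish_of_card hc hP ψ hψ1
  have hz := le_center_of_card_prime hP (commutator P) hc
  obtain ⟨z, hzgen⟩ := hcyc.exists_generator
  have hlin : ∀ φ : IrrCharacter P, (∀ a ∈ commutator P, a ≠ 1 → (φ : P → ℂ) a ≠ (φ : P → ℂ) 1) →
      ∃ ω : ℂ, IsPrimitiveRoot ω (orderOf z) ∧
        ∀ i : ℕ, (φ : P → ℂ) ((z : P) ^ i) = ω ^ i * (φ : P → ℂ) 1 := by
    intro φ hk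
    obtain ⟨ω, -, hω⟩ := IsIrrCharacter.central_apply φ.2 z.2
    have hpow : ∀ i : ℕ, (φ : P → ℂ) ((z : P) ^ i) = ω ^ i * (φ : P → ℂ) 1 := fun i => by
      induction i with
      | zero => simp
      | succ i ih => rw [pow_succ', hω, ih, pow_succ']; ring
    refine ⟨ω, ⟨?_, fun i hi => ?_⟩, hpow⟩
    · have := hpow (orderOf z)
      rw [← SubgroupClass.coe_pow, pow_orderOf_eq_one, OneMemClass.coe_one] at this
      exact mul_right_cancel₀ (IsIrrCharacter.apply_one_ne_zero φ.2) ((one_mul _).trans this).symm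
    · by_contra hni
      have h0 : (φ : P → ℂ) ((z : P) ^ i) = (φ : P → ℂ) 1 := by rw [hpow, hi, one_mul]
      have hne : (z : P) ^ i ≠ 1 := fun e => hni (orderOf_dvd_iff_pow_eq_one.2 (Subtype.ext (by simpa using e)))
      -- a nontrivial subgroup of the cyclic centre contains the derived subgroup
      obtain ⟨k, hk'⟩ := IsPGroup.iff_orderOf.1 hP ((z : P) ^ i)
      have hk0 : k ≠ 0 := fun e => hne (orderOf_eq_one_iff.1 (by rw [hk', e, pow_zero]))
      set a := ((z : P) ^ i) ^ p ^ (k - 1) with hadef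
      have hao : orderOf a = p := by
        rw [hadef, orderOf_pow' _ (pow_ne_zero _ hp.out.ne_zero), hk',
          Nat.gcd_eq_right (pow_dvd_pow p (Nat.sub_le k 1)), Nat.pow_div (Nat.sub_le k 1) hp.out.pos,
          show k - (k - 1) = 1 by omega, pow_one]
      have ha : a ∈ commutator P := by
        haveI := hcyc
        haveI := Fintype.ofFinite (Subgroup.center P)
        have haZ : a ∈ Subgroup.center P := Subgroup.pow_mem _ (Subgroup.pow_mem _ z.2 i) _
        by_contra hanot
        have hle := IsCyclic.card_pow_eq_one_le (α := Subgroup.center P) hp.out.pos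
        let B : Subgroup (Subgroup.center P) := (commutator P).subgroupOf (Subgroup.center P)
        have hB : Fintype.card B = p := by
          rw [← Nat.card_eq_fintype_card, Cfsg.Agent.Solv.card_subgroupOf hz, hc]
        have hsub : insert (⟨a, haZ⟩ : Subgroup.center P) (Finset.univ.filter (fun x : Subgroup.center P => x ∈ B)) ⊆
            Finset.univ.filter (fun x : Subgroup.center P => x ^ p = 1) := by
          intro x hx
          refine Finset.mem_filter.2 ⟨Finset.mem_univ _, Subtype.ext ?_⟩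
          rcases Finset.mem_insert.1 hx with rfl | hx
          · simpa [hao] using pow_orderOf_eq_one a
          · have h1 : (x : P) ∈ commutator P := (Finset.mem_filter.1 hx).2
            simpa using orderOf_dvd_iff_pow_eq_one.1 (hc ▸ (commutator P).orderOf_dvd_natCard h1)
        have := (Finset.card_le_card hsub).trans hle
        have hnot : (⟨a, haZ⟩ : Subgroup.center P) ∉ Finset.univ.filter (fun x : Subgroup.center P => x ∈ B) :=
          fun hx => hanot (Finset.mem_filter.1 hx).2
        rw [Finset.card_insert_of_notMem hnot,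
          ← Fintype.card_subtype, hB] at this
        omega
      refine hk a ha (fun e => by rw [e, orderOf_one] at hao; exact hp.out.one_lt.ne hao) ?_
      rw [hadef, ← pow_mul, hpow, pow_mul, hi, one_pow, one_mul]
  obtain ⟨ω, hω, hχz⟩ := hlin χ hk1
  obtain ⟨ω', hω', hψz⟩ := hlin ψ hk2
  haveI : NeZero (orderOf z) := ⟨(orderOf_pos z).ne'⟩
  obtain ⟨k, hklt, hkcop, hk⟩ := hω.isPrimitiveRoot_iff.1 hω'
  have hpz : p ∣ orderOf z := by
    rw [orderOf_eq_card_of_forall_mem_zpowers hzgen]
    exact hc ▸ Subgroup.card_dvd_of_le hz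
  obtain ⟨c, hcP⟩ := IsPGroup.iff_card.1 hP
  have hkP : Nat.Coprime k (Nat.card P) := by
    rw [hcP]
    exact (hkcop.coprime_dvd_right hpz).pow_right c
  refine ⟨k, hkP, fun g => ?_⟩
  by_cases hg : g ∈ Subgroup.center P
  · obtain ⟨i, hi⟩ := (isOfFinOrder_of_finite z).mem_powers_iff_mem_zpowers.2 (hzgen ⟨g, hg⟩)
    have hgi : g = (z : P) ^ i := by simpa using (congrArg Subtype.val hi).symm
    rw [hgi, hψz, ← pow_mul, hχz, ← hk, ← pow_mul, deg_eq, deg_eq, he, mul_comm k i]
  · have hgk : g ^ k ∉ Subgroup.center P := fun h => hg (by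
      obtain ⟨u, hu⟩ := exists_pow_eq_self_of_coprime (hkP.coprime_dvd_right (orderOf_dvd_natCard g))
      rw [← hu]
      exact Subgroup.pow_mem _ h u)
    rw [hv2 g hg, hv1 _ hgk]

theorem iff_main (hP : IsPGroup p P) (hna : ¬ ∀ a b : P, a * b = b * a) :
    GaloisCond P ↔ IsCyclic (Subgroup.center P) ∧ Nat.card (commutator P) = p :=
  ⟨fun h => mp_aux _ P rfl hP hna h, fun h => mpr_aux hP h.2 h.1⟩

end Cfsg.Agent.Block.GalDeg
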