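import Cfsg.Agent.Lib.Block.PrincipalNormal
import Cfsg.Agent.Lib.Block.Cover
import Cfsg.Agent.Lib.Char.GlaubermanCyclic
import Cfsg.Agent.Lib.Char.DegreeIndex
import Cfsg.Agent.Lib.Solv.NormalPComplement

/-!
# Galois-fixed characters of `p'`-degree over the `p`-residual
-/

set_option autoImplicit false
set_option linter.style.haveILetI false
set_option linter.unusedSectionVars false

namespace Cfsg.Agent.Block.GalRes

open Cfsg Cfsg.Agent.Char Cfsg.Agent.Block
open scoped Classical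

universe u

variable {G : Type u} [Group G] [Finite G] {p : ℕ} [hp : Fact p.Prime]

theorem detOrder_coprime {N : Subgroup G} [N.Normal] (hN : N = pResidual p G) {θ : N → ℂ}
    (hθ : IsIrrCharacter N θ) : (detOrder θ).Coprime p := by
  obtain ⟨l, hl⟩ := exists_detHom hθ
  rw [detOrder, hl, orderOf_linearChar]
  set m := Nat.card G / p ^ (Nat.card G).factorization p
  have hm : ¬ p ∣ m := Nat.not_dvd_ordCompl hp.out Nat.card_pos.ne'
  suffices l ^ m = 1 from
    Nat.Coprime.coprime_dvd_left (orderOf_dvd_iff_pow_eq_one.2 this)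
      ((hp.out.coprime_iff_not_dvd.2 hm).symm)
  refine MonoidHom.ext fun n => ?_
  let K : Subgroup G := ((l ^ m).ker).map N.subtype
  have hK : N ≤ K := by
    conv_lhs => rw [hN, pResidual]
    rw [Subgroup.closure_le]
    intro g hg
    have hgN : g ∈ N := by rw [hN]; exact Subgroup.subset_closure hg
    refine ⟨⟨g, hgN⟩, ?_, rfl⟩
    show (l ^ m) _ = 1
    have hgo : orderOf (⟨g, hgN⟩ : N) ∣ m := by
      rw [Subgroup.orderOf_mk]
      refine Nat.Coprime.dvd_of_dvd_mul_left (k := orderOf g) (m := p ^ (Nat.card G).factorization p) (n := m)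
        (Nat.Coprime.pow_right _ hg) ?_
      rw [Nat.ordProj_mul_ordCompl_eq_self]
      exact orderOf_dvd_natCard g
    rw [MonoidHom.pow_apply, ← map_pow, orderOf_dvd_iff_pow_eq_one.1 hgo, map_one]
  obtain ⟨n', hn', he⟩ := hK n.2
  rw [← Subtype.ext he]
  exact hn'

/-- The linear characters of order dividing `p` of a cyclic `p`-quotient. -/
theorem card_linear (N : Subgroup G) [N.Normal] (hcyc : IsCyclic (G ⧸ N)) (hidx : ∃ j, N.index = p ^ j)
    (hnt : N ≠ ⊤) : Nat.card {l : G →* ℂˣ // (∀ n : N, l n = 1) ∧ l ^ p = 1} = p := by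
  obtain ⟨j, hj⟩ := hidx
  obtain ⟨q, hq⟩ := hcyc.exists_generator
  have hoq : orderOf q = p ^ j := by
    rw [orderOf_eq_card_of_forall_mem_zpowers hq, ← hj, Subgroup.index_eq_card]
  have hj0 : j ≠ 0 := fun e => hnt (Subgroup.index_eq_one.1 (by rw [hj, e, pow_zero]))
  set A := Subgroup.zpowers (q ^ p)
  have hcomm : ∀ a b : G ⧸ N, a * b = b * a := fun a b => by
    obtain ⟨i, rfl⟩ := Subgroup.mem_zpowers_iff.1 (hq a)
    obtain ⟨k, rfl⟩ := Subgroup.mem_zpowers_iff.1 (hq b)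
    rw [← zpow_add, ← zpow_add, add_comm]
  haveI : A.Normal := ⟨fun a ha g => by rwa [hcomm g, mul_inv_cancel_right]⟩
  set M := A.comap (QuotientGroup.mk' N) with hM
  have hMi : M.index = p := by
    rw [hM, Subgroup.index_comap_of_surjective _ (QuotientGroup.mk'_surjective N)]
    have h1 := Subgroup.card_mul_index A
    rw [← Subgroup.index_eq_card N, hj, Nat.card_zpowers, orderOf_pow' _ hp.out.ne_zero, hoq,
      Nat.gcd_eq_right (dvd_pow_self p hj0)] at h1
    exact Nat.eq_of_mul_eq_mul_left (Nat.div_pos (Nat.le_of_dvd (pow_pos hp.out.pos j) (dvd_pow_self p hj0)) hp.out.pos)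
      (h1.trans (Nat.div_mul_cancel (dvd_pow_self p hj0)).symm)
  have hNM : N ≤ M := fun n hn => by
    simp [hM, Subgroup.mem_comap, (QuotientGroup.eq_one_iff n).2 hn]
  have hpM : ∀ g : G, g ^ p ∈ M := fun g => by
    obtain ⟨i, hi⟩ := Subgroup.mem_zpowers_iff.1 (hq (g : G ⧸ N))
    refine Subgroup.mem_zpowers_iff.2 ⟨i, ?_⟩
    rw [QuotientGroup.mk'_apply, QuotientGroup.mk_pow, ← hi, ← zpow_natCast, ← zpow_natCast, ← zpow_mul,
      ← zpow_mul, mul_comm]
  have hker : ∀ l : G →* ℂˣ, ((∀ n : N, l n = 1) ∧ l ^ p = 1) ↔ M ≤ l.ker := by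
    intro l
    refine ⟨fun ⟨h1, h2⟩ g hg => ?_, fun h => ⟨fun n => h (hNM n.2), MonoidHom.ext fun g => ?_⟩⟩
    · obtain ⟨i, hi⟩ := Subgroup.mem_zpowers_iff.1 hg
      obtain ⟨g₀, hg₀⟩ := QuotientGroup.mk_surjective q
      have hmem : ((g₀ ^ p) ^ i)⁻¹ * g ∈ N := QuotientGroup.eq.1 (by
        rw [QuotientGroup.mk_zpow, QuotientGroup.mk_pow, hg₀]; exact hi)
      have e := h1 ⟨_, hmem⟩
      have e2 : l g₀ ^ p = 1 := by rw [← MonoidHom.pow_apply, h2, MonoidHom.one_apply]
      rw [map_mul, map_inv, map_zpow, map_pow, e2, one_zpow, inv_one, one_mul] at e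
      exact e
    · rw [MonoidHom.pow_apply, ← map_pow]; exact h (hpM g)
  let e : {l : G →* ℂˣ // (∀ n : N, l n = 1) ∧ l ^ p = 1} ≃ (G ⧸ M →* ℂˣ) :=
    { toFun := fun l => QuotientGroup.lift M l.1 ((hker _).1 l.2)
      invFun := fun ν => ⟨ν.comp (QuotientGroup.mk' M), (hker _).2 fun g hg => by
        simp [(QuotientGroup.eq_one_iff g).2 hg]⟩
      left_inv := fun l => Subtype.ext (MonoidHom.ext fun g => rfl)
      right_inv := fun ν => MonoidHom.ext fun x => QuotientGroup.induction_on x fun g => rfl }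
  rw [Nat.card_congr e, card_monoidHom_units]
  have : commutator (G ⧸ M) = ⊥ := by
    rw [commutator_def, eq_bot_iff, Subgroup.commutator_le]
    intro a _ b _
    obtain ⟨x, rfl⟩ := QuotientGroup.mk_surjective a
    obtain ⟨y, rfl⟩ := QuotientGroup.mk_surjective b
    rw [Subgroup.mem_bot, commutatorElement_def, ← QuotientGroup.mk_inv, ← QuotientGroup.mk_inv,
      ← QuotientGroup.mk_mul, ← QuotientGroup.mk_mul, ← QuotientGroup.mk_mul, QuotientGroup.eq_one_iff]
    show QuotientGroup.mk' N (x * y * x⁻¹ * y⁻¹) ∈ A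
    rw [map_mul, map_mul, map_mul, map_inv, map_inv, hcomm (QuotientGroup.mk' N x)]
    simp
  rw [this, Subgroup.index_bot, ← Subgroup.index_eq_card, hMi]

variable {M : Ideal AlgInt}

theorem count (hM : IsPModular p M) (P : Sylow p G) (N : Subgroup G) [hN : N.Normal]
    (hNres : N = pResidual p G) (hcyc : IsCyclic (G ⧸ N)) (hnt : N ≠ ⊤) (k : ℕ)
    (hk₁ : ∀ g : G, (∃ j : ℕ, orderOf g = p ^ j) → g ^ k = g ^ (1 + p))
    (hk₂ : ∀ g : G, Nat.Coprime (orderOf g) p → g ^ k = g) :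
    Nat.card {χ : IrrCharacter G // χ ∈ principalBlock M G ∧ ¬ p ∣ charDegree (χ : G → ℂ) ∧
        ∀ g : G, (χ : G → ℂ) (g ^ k) = (χ : G → ℂ) g} =
      p * Nat.card {θ : IrrCharacter N // θ ∈ principalBlock M N ∧ ¬ p ∣ charDegree (θ : N → ℂ) ∧
        (∀ x ∈ (P : Subgroup G), ∀ n : N, (θ : N → ℂ) ⟨x * n * x⁻¹, hN.conj_mem n n.2 x⟩ = (θ : N → ℂ) n) ∧
        ∀ n : N, (θ : N → ℂ) (n ^ k) = (θ : N → ℂ) n} := by
  haveI := prime_of_isPModular hM
  haveI := Fintype.ofFinite G
  haveI := Fintype.ofFinite N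
  have hsup : (P : Subgroup G) ⊔ N = ⊤ := by rw [hNres]; exact Solv.sup_pResidual_eq_top P
  obtain ⟨a, ha⟩ := IsPGroup.iff_card.1 P.isPGroup'
  have hidx : ∃ j, N.index = p ^ j := by
    have : N.index ∣ p ^ a := by
      rw [← Subgroup.relIndex_top_right, ← hsup, Subgroup.relIndex_sup_right, ← ha]
      exact Subgroup.relIndex_dvd_card _ _
    obtain ⟨j, -, hj⟩ := (Nat.dvd_prime_pow hp.out).1 this
    exact ⟨j, hj⟩
  obtain ⟨jN, hjN⟩ := hidx
  have hj0 : jN ≠ 0 := fun e => hnt (Subgroup.index_eq_one.1 (by rw [hjN, e, pow_zero]))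
  have hpG : p ∣ Nat.card G := (hjN ▸ dvd_pow_self p hj0).trans N.index_dvd_card
  have hk1 : k ≡ 1 [MOD p] := by
    obtain ⟨g, hg⟩ := exists_prime_orderOf_dvd_card' p hpG
    have := hk₁ g ⟨1, by rw [hg, pow_one]⟩
    rw [pow_eq_pow_iff_modEq, hg] at this
    exact this.trans (by simp [Nat.ModEq])
  have hk : k.Coprime (Nat.card G) := Nat.coprime_of_dvd fun r hr hrk hrG => by
    haveI := Fact.mk hr
    obtain ⟨g, hg⟩ := exists_prime_orderOf_dvd_card' r hrG
    have h1 : k ≡ 1 [MOD r] := by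
      rcases eq_or_ne r p with rfl | hne
      · exact hk1
      · have := hk₂ g (by rw [hg]; exact (Nat.coprime_primes hr hp.out).2 hne)
        conv_rhs at this => rw [← pow_one g]
        rw [pow_eq_pow_iff_modEq, hg] at this
        exact this
    have := (Nat.modEq_zero_iff_dvd.2 hrk).symm.trans h1
    exact hr.one_lt.ne' (Nat.dvd_one.1 (Nat.modEq_zero_iff_dvd.1 this.symm))
  set good := fun θ : IrrCharacter N => θ ∈ principalBlock M N ∧ ¬ p ∣ charDegree (θ : N → ℂ) ∧
        (∀ x ∈ (P : Subgroup G), ∀ n : N, (θ : N → ℂ) ⟨x * n * x⁻¹, hN.conj_mem n n.2 x⟩ = (θ : N → ℂ) n) ∧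
        ∀ n : N, (θ : N → ℂ) (n ^ k) = (θ : N → ℂ) n
  have hinv : ∀ θ : IrrCharacter N, (∀ x ∈ (P : Subgroup G), ∀ n : N,
      (θ : N → ℂ) ⟨x * n * x⁻¹, hN.conj_mem n n.2 x⟩ = (θ : N → ℂ) n) → ∀ g, Char.conjChar N g (θ : N → ℂ) = θ := by
    intro θ h g
    have hle : (P : Subgroup G) ⊔ N ≤ inertia N (θ : N → ℂ) := sup_le
      (fun x hx => (mem_inertia N).2 (funext fun n => h x hx n))
      (le_inertia N (IsCharacter.isClassFunction (IsIrrCharacter.isCharacter θ.2)))
    exact (mem_inertia N).1 (hle (hsup ▸ Subgroup.mem_top g))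
  have hcd : ∀ θ : IrrCharacter N, ¬ p ∣ charDegree (θ : N → ℂ) →
      Nat.Coprime N.index (detOrder (θ : N → ℂ) * charDegree (θ : N → ℂ)) := fun θ h => by
    rw [hjN]
    exact (((detOrder_coprime hNres θ.2).symm).mul_right (hp.out.coprime_iff_not_dvd.2 h)).pow_left jN
  -- the canonical extension is fixed
  have hext : ∀ θ : IrrCharacter N, good θ → ∃ χ : IrrCharacter G,
      (∀ n : N, (χ : G → ℂ) n = (θ : N → ℂ) n) ∧ ∀ g, (χ : G → ℂ) (g ^ k) = (χ : G → ℂ) g := by
    rintro θ ⟨-, hd, hi, hf⟩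
    obtain ⟨χ, ⟨hχ, hχN, hχd⟩, hu⟩ := exists_unique_extension_coprime θ.2 (hinv θ hi)
      (charDegree_cast (IsIrrCharacter.isCharacter θ.2)).symm (hcd θ hd)
    refine ⟨⟨χ, hχ⟩, hχN, fun g => ?_⟩
    have h' := isIrrCharacter_comp_pow hχ hk
    refine congrFun (hu _ h' (fun n => ?_) ?_) g
    · rw [← SubgroupClass.coe_pow, hχN, hf]
    · refine Nat.Coprime.coprime_dvd_right ?_ ((Nat.Coprime.coprime_mul_right_right (hcd θ hd)))
      rw [← hχd]
      obtain ⟨μ, hμ⟩ := exists_detHom hχ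
      obtain ⟨ν, hν⟩ := exists_detHom h'
      rw [detOrder, detOrder, hμ, hν, orderOf_linearChar, orderOf_linearChar]
      have : ν = μ ^ k := MonoidHom.ext fun x => Units.ext (by
        rw [MonoidHom.pow_apply, Units.val_pow_eq_pow_val, ← congrFun hν x, ← congrFun hμ x]
        exact GlaubCyclic.detChar_comp_pow hχ h' (fun y => rfl) x)
      rw [this]
      exact orderOf_pow_dvd k
  choose E hEN hEk using hext
  have hlam : ∀ l : G →* ℂˣ, (∀ n : N, l n = 1) → ((∀ g, l (g ^ k) = l g) ↔ l ^ p = 1) := by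
    intro l hl
    constructor
    · intro h
      refine MonoidHom.ext fun g => ?_
      rw [MonoidHom.pow_apply, MonoidHom.one_apply]
      set m := Nat.card G / p ^ (Nat.card G).factorization p
      have hm : ¬ p ∣ m := Nat.not_dvd_ordCompl hp.out Nat.card_pos.ne'
      have hpe : ∃ j, orderOf (g ^ m) = p ^ j := by
        obtain ⟨j, -, hj⟩ := (Nat.dvd_prime_pow hp.out).1 (orderOf_dvd_of_pow_eq_one (x := g ^ m)
          (n := p ^ (Nat.card G).factorization p) (by
            rw [← pow_mul, mul_comm, Nat.ordProj_mul_ordCompl_eq_self, pow_card_eq_one']))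
        exact ⟨j, hj⟩
      have e := h (g ^ m)
      rw [hk₁ _ hpe, map_pow, pow_add, pow_one, mul_eq_left, map_pow, ← pow_mul] at e
      have h2 : l g ^ (p ^ jN) = 1 := by
        rw [← hjN, ← MonoidHom.pow_apply, pow_index_eq_one hl, MonoidHom.one_apply]
      have h3 : l g ^ Nat.gcd (m * p) (p ^ jN) = 1 := pow_gcd_eq_one.2 ⟨e, h2⟩
      have hgcd : Nat.gcd (m * p) (p ^ jN) ∣ p := by
        have := ((hp.out.coprime_iff_not_dvd.2 hm).symm).pow_right jN
        rw [Nat.Coprime.gcd_mul_left_cancel p this]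
        exact Nat.gcd_dvd_left _ _
      obtain ⟨c, hc⟩ := hgcd
      rw [hc, pow_mul, h3, one_pow]
    · intro h g
      rw [map_pow]
      have e : l g ^ k = l g ^ 1 := by
        rw [pow_eq_pow_iff_modEq]
        exact hk1.of_dvd (orderOf_dvd_of_pow_eq_one (by rw [← MonoidHom.pow_apply, h, MonoidHom.one_apply]))
      rw [e, pow_one]
  rw [show p * Nat.card {θ : IrrCharacter N // good θ} = Nat.card ({l : G →* ℂˣ // (∀ n : N, l n = 1) ∧ l ^ p = 1} ×
      {θ : IrrCharacter N // good θ}) by rw [Nat.card_prod, card_linear N hcyc ⟨jN, hjN⟩ hnt]]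
  symm
  have hmul : ∀ (θ : IrrCharacter N) (hθ : good θ) (l : G →* ℂˣ),
      IsIrrCharacter G fun g => (l g : ℂ) * (E θ hθ : G → ℂ) g := fun θ hθ l =>
    (exists_twist_character l (E θ hθ).2 (charDegree_cast (IsIrrCharacter.isCharacter (E θ hθ).2)).symm).1
  have hprop : ∀ (θ : IrrCharacter N) (hθ : good θ) (l : G →* ℂˣ), (∀ n : N, l n = 1) → l ^ p = 1 →
      let χ : IrrCharacter G := ⟨_, hmul θ hθ l⟩
      χ ∈ principalBlock M G ∧ ¬ p ∣ charDegree (χ : G → ℂ) ∧ ∀ g : G, (χ : G → ℂ) (g ^ k) = (χ : G → ℂ) g := by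
    intro θ hθ l hl hlp χ
    have hres : ∀ n : N, (χ : G → ℂ) n = (θ : N → ℂ) n := fun n => by
      show (l n : ℂ) * (E θ hθ : G → ℂ) n = _
      rw [hl, Units.val_one, one_mul, hEN]
    refine ⟨?_, ?_, fun g => ?_⟩
    · have hB : IsPBlock M (principalBlock M G) := ⟨⟨fun _ => 1, isIrrCharacter_one⟩, rfl⟩
      have hb : IsPBlock M (principalBlock M N) := ⟨⟨fun _ => 1, isIrrCharacter_one⟩, rfl⟩
      have hcov : Covers (blockOf M (χ : G → ℂ)) (principalBlock M N) :=
        ⟨χ, self_mem_blockOf χ, θ, hθ.1, by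
          rw [show (fun n : N => (χ : G → ℂ) n) = (θ : N → ℂ) from funext hres,
            IsIrrCharacter.classInner_self θ.2]
          exact one_ne_zero⟩
      rw [← covers_unique hM ⟨jN, hjN⟩ (isPBlock_blockOf χ) hB hb hcov (covers_principal hM N)]
      exact self_mem_blockOf χ
    · have : charDegree (χ : G → ℂ) = charDegree (θ : N → ℂ) := Nat.cast_injective (R := ℂ) (by
        rw [charDegree_cast (IsIrrCharacter.isCharacter χ.2), charDegree_cast (IsIrrCharacter.isCharacter θ.2)]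
        exact hres 1)
      rw [this]; exact hθ.2.1
    · show (l (g ^ k) : ℂ) * _ = _
      rw [(hlam l hl).2 hlp g, hEk]
  refine Nat.card_eq_of_bijective (fun x => ⟨⟨_, hmul x.2.1 x.2.2 x.1.1⟩, hprop x.2.1 x.2.2 x.1.1 x.1.2.1 x.1.2.2⟩)
    ⟨?_, ?_⟩
  · rintro ⟨⟨l, hl, hlp⟩, ⟨θ, hθ⟩⟩ ⟨⟨l', hl', hlp'⟩, ⟨θ', hθ'⟩⟩ h
    have h0 := congrArg (fun x : {χ : IrrCharacter G // _} => ((x.1 : IrrCharacter G) : G → ℂ)) h
    simp only at h0
    have hθe : θ = θ' := Subtype.ext (funext fun n => by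
      have := congrFun h0 (n : G)
      simp only [hl, hl', Units.val_one, one_mul, hEN] at this
      exact this)
    subst hθe
    have hg := gallagher N (φ := 1) isIrrCharacter_one (fun g => rfl) (hinv θ hθ.2.2.1)
      (by rw [one_mul]; exact θ.2) (E θ hθ).2 (hEN θ hθ)
    have hmem : ∀ l : G →* ℂˣ, (∀ n : N, l n = 1) → (fun g => (l g : ℂ)) ∈
        {β : G → ℂ | IsIrrCharacter G β ∧ classInner (indFun N (1 : N → ℂ)) β ≠ 0} := fun l hl => by
      refine ⟨isIrrCharacter_monoidHom l, ?_⟩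
      rw [classInner_indFun N _ (IsCharacter.isClassFunction (IsIrrCharacter.isCharacter (isIrrCharacter_monoidHom l)))]
      simp only [hl, Units.val_one]
      exact (IsIrrCharacter.classInner_self (isIrrCharacter_one (G := N))).trans_ne one_ne_zero
    have := hg.injOn (hmem l hl) (hmem l' hl') h0
    have hl'' : l = l' := MonoidHom.ext fun g => Units.ext (congrFun this g)
    subst hl''
    rfl
  · rintro ⟨χ, hχB, hχd, hχk⟩
    obtain ⟨θ, hθ, hne⟩ := IsCharacter.exists_irr_constituent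
      (IsCharacter.restrict (IsIrrCharacter.isCharacter χ.2) N)
      fun e => IsIrrCharacter.apply_one_ne_zero χ.2 (by simpa using congrFun e 1)
    have hd := restrict_degree_eq N χ.2 hθ hne
    obtain ⟨e, he⟩ := exists_classInner_nat (IsCharacter.restrict (IsIrrCharacter.isCharacter χ.2) N) hθ
    obtain ⟨hdvd, hdi⟩ := degree_ratio_dvd_index χ.2 hθ hne
      (charDegree_cast (IsIrrCharacter.isCharacter χ.2)).symm (charDegree_cast (IsIrrCharacter.isCharacter hθ)).symm
    rw [he, ← charDegree_cast (IsIrrCharacter.isCharacter χ.2), ← charDegree_cast (IsIrrCharacter.isCharacter hθ)] at hd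
    have hd' : charDegree (χ : G → ℂ) = e * ((inertia N θ).index * charDegree θ) := by exact_mod_cast hd
    have hd0 : 0 < charDegree θ := Nat.pos_of_ne_zero fun h0 => IsIrrCharacter.apply_one_ne_zero hθ (by
      rw [← charDegree_cast (IsIrrCharacter.isCharacter hθ), h0, Nat.cast_zero])
    have h1 : e * (inertia N θ).index = 1 := by
      rw [hd', ← mul_assoc, Nat.mul_div_cancel _ hd0, hjN] at hdi
      obtain ⟨i, -, hi⟩ := (Nat.dvd_prime_pow hp.out).1 hdi
      rcases i with _ | i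
      · rw [hi, pow_zero]
      · exact absurd (by rw [hd', ← mul_assoc, hi, pow_succ]; exact (dvd_mul_left p (p ^ i)).mul_right _) hχd
    obtain ⟨he1, hi1⟩ := mul_eq_one.1 h1
    have hinvθ : ∀ g, Char.conjChar N g θ = θ := fun g =>
      (mem_inertia N).1 ((Subgroup.index_eq_one.1 hi1).symm ▸ Subgroup.mem_top g)
    have hres : (fun n : N => (χ : G → ℂ) n) = θ := by
      rw [restrict_eq_smul_of_inertia_top N χ.2 hθ hne hinvθ, he, he1, Nat.cast_one, one_smul]
    have hgood : good ⟨θ, hθ⟩ := by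
      refine ⟨mem_principal_of_constituent hM N hχB hne, ?_, fun x _ n => congrFun (hinvθ x) n, fun n => ?_⟩
      · intro h; exact hχd (hd' ▸ (h.mul_left _).mul_left _)
      · show θ (n ^ k) = θ n
        rw [← hres]
        simpa using hχk n
    obtain ⟨β, hβN, hβ⟩ := extension_eq_twist hθ (E ⟨θ, hθ⟩ hgood).2 χ.2 (hEN ⟨θ, hθ⟩ hgood) (congrFun hres)
    have hβk : ∀ g, β (g ^ k) = β g := by
      have hg := gallagher N (φ := 1) isIrrCharacter_one (fun g => rfl) hinvθ
        (by rw [one_mul]; exact hθ) (E ⟨θ, hθ⟩ hgood).2 (hEN ⟨θ, hθ⟩ hgood)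
      have hmem : ∀ l : G →* ℂˣ, (∀ n : N, l n = 1) → (fun g => (l g : ℂ)) ∈
          {β : G → ℂ | IsIrrCharacter G β ∧ classInner (indFun N (1 : N → ℂ)) β ≠ 0} := fun l hl => by
        refine ⟨isIrrCharacter_monoidHom l, ?_⟩
        rw [classInner_indFun N _ (IsCharacter.isClassFunction (IsIrrCharacter.isCharacter (isIrrCharacter_monoidHom l)))]
        simp only [hl, Units.val_one]
        exact (IsIrrCharacter.classInner_self (isIrrCharacter_one (G := N))).trans_ne one_ne_zero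
      have := hg.injOn (hmem (β ^ k) (fun n => by rw [MonoidHom.pow_apply, hβN, one_pow])) (hmem β hβN) (funext fun g => by
        have h3 := hχk g
        rw [hβ] at h3
        simp only [hEk] at h3
        simpa [Pi.mul_apply] using h3)
      intro g
      rw [map_pow, ← MonoidHom.pow_apply]
      exact Units.ext (congrFun this g)
    refine ⟨⟨⟨β, hβN, (hlam β hβN).1 hβk⟩, ⟨⟨θ, hθ⟩, hgood⟩⟩, Subtype.ext (Subtype.ext hβ.symm)⟩

end Cfsg.Agent.Block.GalRes
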