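import Cfsg.Agent.Lib.Block.GlaubermanSolvable
import Cfsg.Agent.Lib.Block.AbelianPExtension
import Cfsg.Agent.Lib.Char.CliffordTrichotomy

/-!
# Invariant constituents through a solvable coprime layer
-/

set_option autoImplicit false
set_option linter.style.haveILetI false

namespace Cfsg.Agent.Block

open Cfsg Cfsg.Agent.Char
open scoped ComplexConjugate

universe u w

variable {G : Type u} [Group G] [Finite G]

/-- Characters over the same character under an abelian factor group are twists of one another. -/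
theorem exists_twist_of_over {N : Subgroup G} [N.Normal] [Fintype N] (hab : commutator G ≤ N)
    {θ : IrrCharacter N} {χ ψ : IrrCharacter G}
    (hχ : classInner (fun n : N => (χ : G → ℂ) n) (θ : N → ℂ) ≠ 0)
    (hψ : classInner (fun n : N => (ψ : G → ℂ) n) (θ : N → ℂ) ≠ 0) :
    ∃ d : G →* ℂˣ, (∀ n : N, d n = 1) ∧ (ψ : G → ℂ) = fun g => (d g : ℂ) * (χ : G → ℂ) g := by
  classical
  haveI := Fintype.ofFinite G
  letI : CommGroup (G ⧸ N) :=
    { (inferInstance : Group (G ⧸ N)) with
      mul_comm := fun a b => by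
        obtain ⟨a, rfl⟩ := QuotientGroup.mk_surjective a
        obtain ⟨b, rfl⟩ := QuotientGroup.mk_surjective b
        rw [← QuotientGroup.mk_mul, ← QuotientGroup.mk_mul, QuotientGroup.eq]
        refine hab ?_
        rw [commutator_def]
        have := Subgroup.commutator_mem_commutator (Subgroup.mem_top b⁻¹) (Subgroup.mem_top a⁻¹)
        simpa [commutatorElement_def, mul_assoc] using this }
  haveI := Fintype.ofFinite ((G ⧸ N) →* ℂˣ)
  by_contra hno
  simp only [not_exists, not_and] at hno
  have h0 : ∀ l : (G ⧸ N) →* ℂˣ,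
      classInner (fun g => ((l.comp (QuotientGroup.mk' N)) g : ℂ) * (χ : G → ℂ) g) (ψ : G → ℂ) = 0 := fun l => by
    refine IsIrrCharacter.classInner_eq_zero (twist_irr _ χ) ψ.2 fun e => hno (l.comp (QuotientGroup.mk' N)) (fun n => ?_) e.symm
    rw [MonoidHom.comp_apply, QuotientGroup.mk'_apply, (QuotientGroup.eq_one_iff _).2 n.2, map_one]
  have h1 : classInner (fun n : N => (χ : G → ℂ) n) (fun n : N => (ψ : G → ℂ) n) = 0 := by
    have h := Finset.sum_eq_zero (s := (Finset.univ : Finset ((G ⧸ N) →* ℂˣ))) fun l _ => h0 l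
    simp only [classInner, ← Finset.mul_sum, MonoidHom.comp_apply, QuotientGroup.mk'_apply] at h
    rw [Finset.sum_comm] at h
    simp only [mul_assoc, ← Finset.sum_mul, sum_dual_eq, ite_mul, zero_mul, QuotientGroup.eq_one_iff, ← Finset.mul_sum] at h
    rw [mul_eq_zero] at h
    have h2 := h.resolve_left (inv_ne_zero (Nat.cast_ne_zero.2 Nat.card_pos.ne'))
    rw [classInner, sum_subgroup_eq_sum_ite N (fun x : G => (χ : G → ℂ) x * conj ((ψ : G → ℂ) x))]
    refine mul_eq_zero_of_right _ ((mul_right_inj' (Nat.cast_ne_zero.2 (Nat.card_pos (α := G ⧸ N)).ne' : (Nat.card (G ⧸ N) : ℂ) ≠ 0)).1 ?_)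
    rw [mul_zero, Finset.mul_sum]
    simpa [mul_ite] using h2
  obtain ⟨r, hr, e⟩ := exists_add_of_classInner_ne_zero (IsCharacter.restrict (IsIrrCharacter.isCharacter χ.2) N) θ.2 hχ
  obtain ⟨r', hr', e'⟩ := exists_add_of_classInner_ne_zero (IsCharacter.restrict (IsIrrCharacter.isCharacter ψ.2) N) θ.2 hψ
  rw [e, e', classInner_add_left, classInner_add_right, classInner_add_right,
    IsIrrCharacter.classInner_self θ.2] at h1
  obtain ⟨a, ha⟩ := classInner_natCast_of_isCharacter (IsIrrCharacter.isCharacter θ.2) hr'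
  obtain ⟨b, hb⟩ := classInner_natCast_of_isCharacter hr (IsIrrCharacter.isCharacter θ.2)
  obtain ⟨c, hc⟩ := classInner_natCast_of_isCharacter hr hr'
  rw [ha, hb, hc] at h1
  norm_cast at h1
  omega

variable {S : Type w} [Group S] [Finite S] [MulDistribMulAction S G]

/-- One abelian layer: an invariant character above an invariant character. -/
theorem exists_invariant_abelian {N : Subgroup G} [N.Normal] [Fintype N] (hab : commutator G ≤ N)
    (hN : ∀ (s : S) (n : N), s • (n : G) ∈ N) (hcop : N.index.Coprime (Nat.card S)) (θ : IrrCharacter N)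
    (hθ : ∀ (s : S) (n n' : N), (n' : G) = s • (n : G) → (θ : N → ℂ) n' = (θ : N → ℂ) n) :
    ∃ χ : IrrCharacter G, classInner (fun n : N => (χ : G → ℂ) n) (θ : N → ℂ) ≠ 0 ∧ OpInv S (χ : G → ℂ) := by
  classical
  haveI := Fintype.ofFinite G
  haveI := Fintype.ofFinite S
  obtain ⟨χ₀, h₀⟩ := exists_constituent_ind θ
  -- the operators on functions
  let f : S → G →* G := fun s => MulDistribMulAction.toMonoidHom G s
  have hfc : ∀ s : S, classInner (fun n : N => (χ₀ : G → ℂ) (s • (n : G))) (θ : N → ℂ) =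
      classInner (fun n : N => (χ₀ : G → ℂ) n) (θ : N → ℂ) := fun s => by
    rw [classInner, classInner]
    congr 1
    let e : N ≃ N :=
      { toFun := fun n => ⟨s • (n : G), hN s n⟩
        invFun := fun n => ⟨s⁻¹ • (n : G), hN s⁻¹ n⟩
        left_inv := fun n => Subtype.ext (inv_smul_smul s (n : G))
        right_inv := fun n => Subtype.ext (smul_inv_smul s (n : G)) }
    exact Fintype.sum_equiv e _ _ fun n => by rw [hθ s n (e n) rfl]; rfl
  let sχ : S → IrrCharacter G := fun s => ⟨fun g => (χ₀ : G → ℂ) (s • g),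
    isIrrCharacter_comp_mulEquiv (MulDistribMulAction.toMulEquiv G s) χ₀.2⟩
  have hd : ∀ s : S, ∃ d : G →* ℂˣ, (∀ n : N, d n = 1) ∧ ∀ g, (χ₀ : G → ℂ) (s • g) = (d g : ℂ) * (χ₀ : G → ℂ) g := fun s => by
    obtain ⟨d, hd, e⟩ := exists_twist_of_over hab (χ := χ₀) (ψ := sχ s) h₀ (by
      show classInner (fun n : N => (χ₀ : G → ℂ) (s • (n : G))) (θ : N → ℂ) ≠ 0
      rw [hfc]; exact h₀)
    exact ⟨d, hd, fun g => congrFun e g⟩
  choose d hdN hd using hd
  let n := Nat.card S
  -- the product of the twists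
  set q : G →* ℂˣ := ∏ s : S, d s with hq
  have hqN : ∀ x : N, q x = 1 := fun x => by
    rw [hq, MonoidHom.finsetProd_apply]; exact Finset.prod_eq_one fun s _ => hdN s x
  have hpow : ∀ (l : G →* ℂˣ), (∀ x : N, l x = 1) → l ^ N.index = 1 := fun l hl => MonoidHom.ext fun g => by
    rw [MonoidHom.pow_apply, ← map_pow, MonoidHom.one_apply]
    exact hl ⟨g ^ N.index, N.pow_index_mem g⟩
  -- twists fixing χ₀
  let E : Subgroup (G →* ℂˣ) :=
    { carrier := {l | ∀ g, (l g : ℂ) * (χ₀ : G → ℂ) g = (χ₀ : G → ℂ) g}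
      one_mem' := fun g => by simp
      mul_mem' := fun {a b} ha hb g => by
        simp only [MonoidHom.mul_apply, Units.val_mul]
        rw [mul_assoc, hb g, ha g]
      inv_mem' := fun {a} ha g => by
        conv_lhs => rw [← ha g]
        simp [← mul_assoc] }
  have hkey : ∀ t : S, (q / (q.comp (f t) * d t ^ n)) ∈ E := by
    intro t
    have h1 : ∀ s : S, (d (s * t) / ((d s).comp (f t) * d t)) ∈ E := fun s g => by
      have a := hd (s * t) g
      rw [mul_smul, hd s (t • g), hd t g, ← mul_assoc] at a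
      have hne := Units.ne_zero (((d s).comp (f t) * d t) g)
      rw [MonoidHom.div_apply, Units.val_div_eq_div_val, div_mul_eq_mul_div, ← a, div_eq_iff hne, mul_comm ((χ₀ : G → ℂ) g)]
      simp [f]
    have h2 := E.prod_mem (t := Finset.univ) fun s _ => h1 s
    refine (show q / (q.comp (f t) * d t ^ n) = ∏ s : S, d (s * t) / ((d s).comp (f t) * d t) from
      MonoidHom.ext fun g => ?_) ▸ h2
    simp only [hq, MonoidHom.div_apply, MonoidHom.mul_apply, MonoidHom.comp_apply, MonoidHom.finsetProd_apply,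
      MonoidHom.pow_apply]
    rw [Finset.prod_div_distrib, Finset.prod_mul_distrib, Finset.prod_const, Finset.card_univ,
      ← Nat.card_eq_fintype_card, Fintype.prod_equiv (Equiv.mulRight t) (fun s => d (s * t) g) (fun s => d s g) (fun _ => rfl)]
  obtain ⟨m, hm⟩ : ∃ m : ℕ, n * m % N.index = 1 % N.index := by
    obtain ⟨m, -, hm⟩ := Nat.exists_mul_mod_eq_of_coprime (r := 1) hcop.symm Subgroup.index_ne_zero_of_finite
    exact ⟨m, hm⟩
  set r : G →* ℂˣ := q ^ m with hr
  have hrN : ∀ x : N, r x = 1 := fun x => by rw [hr, MonoidHom.pow_apply, hqN, one_pow]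
  refine ⟨⟨_, twist_irr r χ₀⟩, ?_, fun t g => ?_⟩
  · simp only [hrN, Units.val_one, one_mul]; exact h₀
  · have h3 := E.pow_mem (hkey t) m
    have hdt : ∀ x : G, d t x ^ (n * m) = d t x := fun x => by
      have h := DFunLike.congr_fun (hpow (d t) (hdN t)) x
      simp only [MonoidHom.pow_apply, MonoidHom.one_apply] at h
      rw [pow_eq_pow_mod (n * m) h, hm, ← pow_eq_pow_mod 1 h, pow_one]
    have h4 := h3 g
    rw [show (q / (q.comp (f t) * d t ^ n)) ^ m = r / (r.comp (f t) * d t) from MonoidHom.ext fun x => by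
      simp only [hr, MonoidHom.pow_apply, MonoidHom.div_apply, MonoidHom.mul_apply, MonoidHom.comp_apply, div_pow, mul_pow, ← pow_mul]
      rw [hdt]] at h4
    rw [MonoidHom.div_apply, Units.val_div_eq_div_val, div_mul_eq_mul_div, div_eq_iff (Units.ne_zero _)] at h4
    show (r (t • g) : ℂ) * (χ₀ : G → ℂ) (t • g) = (r g : ℂ) * (χ₀ : G → ℂ) g
    rw [hd t g, h4]
    simp [f]
    ring

/-- Constituents of constituents are constituents. -/
theorem over_trans {N K : Subgroup G} (hNK : N ≤ K) [Fintype N] [Fintype K] {χ : IrrCharacter G}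
    {η : IrrCharacter K} {θ : IrrCharacter N}
    (h1 : classInner (fun k : K => (χ : G → ℂ) k) (η : K → ℂ) ≠ 0)
    (h2 : classInner (fun n : N => (η : K → ℂ) ⟨n, hNK n.2⟩) (θ : N → ℂ) ≠ 0) :
    classInner (fun n : N => (χ : G → ℂ) n) (θ : N → ℂ) ≠ 0 := by
  obtain ⟨r, hr, e⟩ := exists_add_of_classInner_ne_zero (IsCharacter.restrict (IsIrrCharacter.isCharacter χ.2) K) η.2 h1
  rw [show (fun n : N => (χ : G → ℂ) n) =
      (fun n : N => (η : K → ℂ) ⟨n, hNK n.2⟩) + fun n : N => r ⟨n, hNK n.2⟩ from
    funext fun n => congrFun e ⟨n, hNK n.2⟩]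
  exact classInner_ne_zero_of_le
    (isCharacter_comp (IsIrrCharacter.isCharacter η.2) (Subgroup.inclusion hNK))
    (isCharacter_comp hr (Subgroup.inclusion hNK)) θ.2 h2

theorem solvable_layer_aux : ∀ (k : ℕ) (G : Type u) [Group G] [Finite G] [MulDistribMulAction S G]
    (N : Subgroup G) [N.Normal] [Fintype N], N.index = k → Group.IsSolvable (G ⧸ N) →
    (∀ (s : S) (n : N), s • (n : G) ∈ N) → N.index.Coprime (Nat.card S) → ∀ θ : IrrCharacter N,
    (∀ (s : S) (n n' : N), (n' : G) = s • (n : G) → (θ : N → ℂ) n' = (θ : N → ℂ) n) →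
    ∃ χ : IrrCharacter G, classInner (fun n : N => (χ : G → ℂ) n) (θ : N → ℂ) ≠ 0 ∧ OpInv S (χ : G → ℂ) := by
  intro k
  induction k using Nat.strong_induction_on with
  | _ k ih =>
    intro G _ _ _ N _ _ hk hsolv hN hcop θ hθ
    by_cases hab : commutator G ≤ N
    · exact exists_invariant_abelian hab hN hcop θ hθ
    set K : Subgroup G := commutator G ⊔ N with hK
    have hNK : N ≤ K := le_sup_right
    haveI := Fintype.ofFinite K
    haveI : K.Normal := by rw [hK]; infer_instance
    have hKlt : K ≠ ⊤ := by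
      intro h
      have hN' : N ≠ ⊤ := fun h' => hab (h' ▸ le_top)
      haveI : Nontrivial (G ⧸ N) := QuotientGroup.nontrivial_iff.2 hN'
      haveI := hsolv
      refine (Group.IsSolvable.commutator_lt_top_of_nontrivial (G ⧸ N)).ne ?_
      have h1 := congrArg (Subgroup.map (QuotientGroup.mk' N)) h
      rw [hK, Subgroup.map_sup, QuotientGroup.map_mk'_self, sup_bot_eq, Subgroup.map_top_of_surjective _ (QuotientGroup.mk'_surjective N),
        commutator_def, Subgroup.map_commutator, Subgroup.map_top_of_surjective _ (QuotientGroup.mk'_surjective N)] at h1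
      rw [commutator_def]; exact h1
    have hKS : ∀ (s : S) (x : K), s • (x : G) ∈ K := by
      intro s x
      have hle : K ≤ K.comap (MulDistribMulAction.toMonoidHom G s) := by
        rw [← Subgroup.map_le_iff_le_comap, hK, Subgroup.map_sup]
        refine sup_le_sup ?_ ?_
        · rw [commutator_def, Subgroup.map_commutator]
          exact Subgroup.commutator_mono le_top le_top
        · rintro _ ⟨n, hn, rfl⟩; exact hN s ⟨n, hn⟩
      exact hle x.2
    letI : MulDistribMulAction S K :=
      { smul := fun s x => ⟨s • (x : G), hKS s x⟩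
        one_smul := fun x => Subtype.ext (one_smul S (x : G))
        mul_smul := fun s t x => Subtype.ext (mul_smul s t (x : G))
        smul_mul := fun s a b => Subtype.ext (smul_mul' s (a : G) (b : G))
        smul_one := fun s => Subtype.ext (smul_one s) }
    haveI : (N.subgroupOf K).Normal := (inferInstance : N.Normal).subgroupOf K
    haveI := Fintype.ofFinite (N.subgroupOf K)
    have hidx : (N.subgroupOf K).index * K.index = N.index := Subgroup.relIndex_mul_index hNK
    have hlt : (N.subgroupOf K).index < k := by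
      rw [← hk, ← hidx]
      exact lt_mul_of_one_lt_right (Nat.pos_of_ne_zero Subgroup.index_ne_zero_of_finite) (K.one_lt_index_of_ne_top hKlt)
    let e := Subgroup.subgroupOfEquivOfLe hNK
    let θ' : IrrCharacter (N.subgroupOf K) := ⟨fun n => (θ : N → ℂ) (e n), isIrrCharacter_comp_mulEquiv e θ.2⟩
    haveI : Group.IsSolvable (K ⧸ N.subgroupOf K) := by
      haveI := hsolv
      refine Group.isSolvable_of_isSolvable_injective
        (f := QuotientGroup.lift (N.subgroupOf K) ((QuotientGroup.mk' N).comp K.subtype) fun x hx => MonoidHom.mem_ker.2 ((QuotientGroup.eq_one_iff _).2 hx)) ?_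
      rw [injective_iff_map_eq_one]
      intro a
      obtain ⟨a, rfl⟩ := QuotientGroup.mk_surjective a
      intro h
      rw [QuotientGroup.lift_mk, MonoidHom.comp_apply, QuotientGroup.mk'_apply, QuotientGroup.eq_one_iff] at h
      exact (QuotientGroup.eq_one_iff a).2 h
    obtain ⟨η, hη, hηinv⟩ := ih _ hlt K (N.subgroupOf K) rfl inferInstance (fun s n => hN s ⟨_, n.2⟩)
      (hcop.coprime_dvd_left ⟨_, hidx.symm⟩) θ' (fun s n n' h => hθ s (e n) (e n') (congrArg Subtype.val h))
    obtain ⟨χ, hχ, hχinv⟩ := exists_invariant_abelian (N := K) le_sup_left hKS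
      (hcop.coprime_dvd_left ⟨_, (hidx.symm.trans (mul_comm _ _))⟩) η (fun s x x' h => by
        rw [show x' = s • x from Subtype.ext h]; exact hηinv s x)
    refine ⟨χ, over_trans hNK hχ (fun h0 => hη ?_), hχinv⟩
    rw [← h0, classInner, classInner, Nat.card_congr e.toEquiv]
    congr 1
    exact Fintype.sum_equiv e.toEquiv _ _ fun n => rfl

end Cfsg.Agent.Block
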