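import Cfsg.Agent.Lib.Block.GlaubermanTwist
import Cfsg.Agent.Lib.Block.InvariantLayer
import Cfsg.Agent.Lib.Block.RegInner

/-!
# The correspondence of Glauberman for a group with a normal Sylow subgroup

Invariant characters are induced from inertia groups of invariant characters of the normal Sylow
subgroup, and restriction to the fixed points commutes with this induction modulo `p`.
-/

set_option autoImplicit false
set_option linter.style.haveILetI false

namespace Cfsg.Agent.Block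

open Cfsg Cfsg.Agent.Char
open scoped ComplexConjugate

universe u w

/-- A sum supported on a subgroup. -/
theorem sum_subgroup_aux {G : Type u} [Group G] [Fintype G] (D : Subgroup G) [Fintype D] (f : G → ℂ)
    (h : ∀ g, g ∉ D → f g = 0) : ∑ g : G, f g = ∑ d : D, f d := by
  classical
  rw [← Finset.sum_subset (Finset.subset_univ (Finset.univ.filter fun g => g ∈ D)) fun g _ hg => h g fun hD => hg (Finset.mem_filter.2 ⟨Finset.mem_univ _, hD⟩)]
  exact Finset.sum_subtype _ (fun g => by simp) f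

variable {K : Type u} [Group K] [Finite K] {S : Type w} [Group S]

/-- An invariant character has an invariant constituent on a normal subgroup of index prime to `p`. -/
theorem exists_fixed_constituent [Finite S] [MulDistribMulAction S K] {p : ℕ} (hp : p.Prime) (hS : IsPGroup p S)
    (Q : Subgroup K) [Q.Normal] [Fintype Q] (hidx : ¬ p ∣ Q.index) (hQS : ∀ (s : S) (q : Q), s • (q : K) ∈ Q)
    (χ : IrrCharacter K) (hχ : OpInv S (χ : K → ℂ)) :
    ∃ θ : IrrCharacter Q, classInner (fun q : Q => (χ : K → ℂ) q) (θ : Q → ℂ) ≠ 0 ∧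
      ∀ (s : S) (q q' : Q), (q' : K) = s • (q : K) → (θ : Q → ℂ) q' = (θ : Q → ℂ) q := by
  classical
  haveI := Fintype.ofFinite K
  haveI := Fact.mk hp
  let E : S → Q ≃* Q := fun s =>
    { toFun := fun q => ⟨s • (q : K), hQS s q⟩
      invFun := fun q => ⟨s⁻¹ • (q : K), hQS s⁻¹ q⟩
      left_inv := fun q => Subtype.ext (inv_smul_smul s (q : K))
      right_inv := fun q => Subtype.ext (smul_inv_smul s (q : K))
      map_mul' := fun a b => Subtype.ext (smul_mul' s (a : K) (b : K)) }
  let X := {θ : IrrCharacter Q // classInner (fun q : Q => (χ : K → ℂ) q) (θ : Q → ℂ) ≠ 0}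
  have hE : ∀ (s : S) (θ : IrrCharacter Q), classInner (fun q : Q => (χ : K → ℂ) q) (fun q => (θ : Q → ℂ) (E s q)) =
      classInner (fun q : Q => (χ : K → ℂ) q) (θ : Q → ℂ) := fun s θ => by
    conv_rhs => rw [← classInner_comp_mulEquiv (E s) (fun q : Q => (χ : K → ℂ) q) (θ : Q → ℂ)]
    congr 1
    exact funext fun q => (hχ s q).symm
  letI : MulAction S X :=
    { smul := fun s θ => ⟨⟨fun q => (θ.1 : Q → ℂ) (E s⁻¹ q), isIrrCharacter_comp_mulEquiv _ θ.1.2⟩, by
        show classInner _ (fun q => (θ.1 : Q → ℂ) (E s⁻¹ q)) ≠ 0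
        rw [hE]; exact θ.2⟩
      one_smul := fun θ => Subtype.ext (Subtype.ext (funext fun q => congrArg (θ.1 : Q → ℂ) (Subtype.ext (by
        show (1 : S)⁻¹ • (q : K) = q
        rw [inv_one, one_smul]))))
      mul_smul := fun s t θ => Subtype.ext (Subtype.ext (funext fun q => congrArg (θ.1 : Q → ℂ) (Subtype.ext (by
        show (s * t)⁻¹ • (q : K) = t⁻¹ • s⁻¹ • (q : K)
        rw [mul_inv_rev, mul_smul])))) }
  obtain ⟨θ₀, hθ₀i, hθ₀⟩ := IsCharacter.exists_irr_constituent (IsCharacter.restrict (IsIrrCharacter.isCharacter χ.2) Q)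
    (fun h => IsIrrCharacter.apply_one_ne_zero χ.2 (congrFun h 1))
  have hcard : Nat.card X = (inertia Q θ₀).index := by
    rw [← card_conjOrbit, ← Nat.card_eq_finsetCard]
    refine Nat.card_eq_of_bijective (fun θ : X => (⟨(θ.1 : Q → ℂ), mem_conjOrbit_of_constituent Q χ.2 hθ₀i θ.1.2 hθ₀ θ.2⟩ : conjOrbit Q θ₀))
      ⟨fun a b h => Subtype.ext (Subtype.ext (congrArg Subtype.val h :)), fun f => ?_⟩
    obtain ⟨g, hg⟩ := (mem_conjOrbit Q).1 f.2
    refine ⟨⟨⟨f.1, hg ▸ isIrrCharacter_conjChar Q hθ₀i g⟩, ?_⟩, rfl⟩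
    show classInner _ f.1 ≠ 0
    rw [← hg, classInner_restrict_conjChar Q (IsCharacter.isClassFunction (IsIrrCharacter.isCharacter χ.2))]
    exact hθ₀
  have hnd : ¬ p ∣ Nat.card X := fun h => hidx ((hcard ▸ h).trans
    (Subgroup.index_dvd_of_le (le_inertia Q (IsCharacter.isClassFunction (IsIrrCharacter.isCharacter hθ₀i)))))
  obtain ⟨θ, hθ⟩ := hS.nonempty_fixed_point_of_prime_not_dvd_card X hnd
  refine ⟨θ.1, θ.2, fun s q q' h => ?_⟩
  have h1 := congrFun (congrArg (fun x : X => ((x.1 : IrrCharacter Q) : Q → ℂ)) (hθ s⁻¹)) q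
  refine Eq.trans ?_ h1
  show (θ.1 : Q → ℂ) q' = (θ.1 : Q → ℂ) (E s⁻¹⁻¹ q)
  rw [inv_inv]
  exact congrArg (θ.1 : Q → ℂ) (Subtype.ext h)

/-- A character of the inertia group over the given character induces irreducibly. -/
theorem clifford_exists [Fintype K] {N : Subgroup K} [N.Normal] [Fintype N] {θ : N → ℂ} (hθ : IsIrrCharacter N θ)
    {T : Subgroup K} [Fintype T] (hT : T = inertia N θ) (hNT : N ≤ T) {ψ : T → ℂ} (hψ : IsIrrCharacter T ψ)
    (h : classInner (fun n : N => ψ ⟨n, hNT n.2⟩) θ ≠ 0) :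
    IsIrrCharacter K (indFun T ψ) ∧ classInner (fun t : T => indFun T ψ t) ψ ≠ 0 ∧
      classInner (fun n : N => indFun T ψ n) θ ≠ 0 := by
  have hc := isCharacter_indFun T (IsIrrCharacter.isCharacter hψ)
  obtain ⟨χ, hχ, hχi⟩ := IsCharacter.exists_irr_constituent hc fun h0 => by
    have h1 := congrFun h0 1
    rw [indFun_one_apply] at h1
    exact mul_ne_zero (Nat.cast_ne_zero.2 Subgroup.index_ne_zero_of_finite) (IsIrrCharacter.apply_one_ne_zero hψ) h1
  rw [classInner_indFun T ψ (IsCharacter.isClassFunction (IsIrrCharacter.isCharacter hχ)), ← classInner_conj_symm, map_ne_zero] at hχi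
  obtain ⟨e1, e2⟩ := clifford_core N hθ hT hNT hχ hψ hχi h
  rw [e1]
  exact ⟨hχ, hχi, e2 ▸ h⟩

/-- The correspondent in the inertia group is unique. -/
theorem clifford_unique [Fintype K] {N : Subgroup K} [N.Normal] [Fintype N] {θ : N → ℂ} (hθ : IsIrrCharacter N θ)
    {T : Subgroup K} [Fintype T] (hT : T = inertia N θ) (hNT : N ≤ T) {χ : K → ℂ} (hχ : IsIrrCharacter K χ)
    {ψ ψ' : T → ℂ} (hψ : IsIrrCharacter T ψ) (hψ' : IsIrrCharacter T ψ')
    (h : classInner (fun t : T => χ t) ψ ≠ 0) (h' : classInner (fun t : T => χ t) ψ' ≠ 0)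
    (hN : classInner (fun n : N => ψ ⟨n, hNT n.2⟩) θ ≠ 0) (hN' : classInner (fun n : N => ψ' ⟨n, hNT n.2⟩) θ ≠ 0) :
    ψ = ψ' := by
  by_contra hne
  obtain ⟨-, e⟩ := clifford_core N hθ hT hNT hχ hψ h hN
  obtain ⟨r, hr, hsplit⟩ := exists_add_of_classInner_ne_zero (IsCharacter.restrict (IsIrrCharacter.isCharacter hχ) T) hψ h
  rw [hsplit, classInner_add_left, IsIrrCharacter.classInner_eq_zero hψ hψ' hne, zero_add] at h'
  obtain ⟨r', hr', hsplit'⟩ := exists_add_of_classInner_ne_zero hr hψ' h'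
  have hz : classInner (fun n : N => r ⟨n, hNT n.2⟩) θ ≠ 0 := by
    rw [hsplit']
    exact classInner_ne_zero_of_le (isCharacter_comp (IsIrrCharacter.isCharacter hψ') (Subgroup.inclusion hNT))
      (isCharacter_comp hr' (Subgroup.inclusion hNT)) hθ hN'
  refine hz ?_
  rw [show (fun n : N => χ n) = (fun n : N => ψ ⟨n, hNT n.2⟩) + fun n : N => r ⟨n, hNT n.2⟩ from
    funext fun n => congrFun hsplit ⟨n, hNT n.2⟩, classInner_add_left] at e
  exact (add_eq_left.1 e.symm)

/-- Restriction to the fixed points commutes with induction modulo `p`. -/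
theorem induced_restrict_congr [Fintype K] [Finite S] [MulDistribMulAction S K] {p : ℕ} {M : Ideal AlgInt}
    (hM : IsPModular p M) (hS : IsPGroup p S) (Q C T : Subgroup K) [Q.Normal] [Fintype C] [Fintype T]
    [Fintype (T.subgroupOf C)] (hidx : ¬ p ∣ Q.index) (hQC : Q ≤ C) (hQT : Q ≤ T)
    (hCS : ∀ (s : S) (c : C), s • (c : K) ∈ C) (hTS : ∀ (s : S) (t : T), s • (t : K) ∈ T)
    (hCfix : ∀ (s : S) (c : C), (c : K)⁻¹ * s • (c : K) ∈ Q)
    (hfix : ∀ x : K, (∀ s : S, x⁻¹ * s • x ∈ T) → ∃ c ∈ C, c⁻¹ * x ∈ T)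
    {ψ : T → ℂ} (hψ : IsCharacter T ψ) (hψS : ∀ (s : S) (t t' : T), (t' : K) = s • (t : K) → ψ t' = ψ t)
    {ξ : C → ℂ} (hξ : IsCharacter C ξ) (hξS : ∀ (s : S) (c c' : C), (c' : K) = s • (c : K) → ξ c' = ξ c) :
    MemLocalIdeal M (classInner (fun c : C => indFun T ψ c) ξ -
        classInner (fun x : T.subgroupOf C => ψ ⟨((x : C) : K), x.2⟩) (fun x : T.subgroupOf C => ξ x)) ∧
      MemLocalIdeal M ((T.index : ℂ) - ((T.subgroupOf C).index : ℂ)) := by
  classical
  haveI := prime_of_isPModular hM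
  have hT0 : (Nat.card T : ℂ) ≠ 0 := Nat.cast_ne_zero.2 Nat.card_pos.ne'
  have hC0 : (Nat.card C : ℂ) ≠ 0 := Nat.cast_ne_zero.2 Nat.card_pos.ne'
  let F : K → ℂ := fun x => (Nat.card C : ℂ)⁻¹ * ∑ c : C, extendByZero T ψ (x⁻¹ * c * x) * conj (ξ c)
  have hconjT : ∀ (y : K) (t : T), extendByZero T ψ ((t : K)⁻¹ * y * t) = extendByZero T ψ y := fun y t => by
    by_cases hy : y ∈ T
    · have hy' : (t : K)⁻¹ * y * t ∈ T := T.mul_mem (T.mul_mem (T.inv_mem t.2) hy) t.2
      rw [extendByZero_of_mem T ψ hy, extendByZero_of_mem T ψ hy']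
      have := IsCharacter.isClassFunction hψ ⟨y, hy⟩ t⁻¹
      rw [← this]
      exact congrArg ψ (Subtype.ext (by simp))
    · have hy' : (t : K)⁻¹ * y * t ∉ T := fun h => hy (by
        simpa [mul_assoc] using T.mul_mem (T.mul_mem t.2 h) (T.inv_mem t.2))
      rw [extendByZero_of_notMem T ψ hy, extendByZero_of_notMem T ψ hy']
  have hFT : ∀ x (t : T), F (x * t) = F x := fun x t => by
    simp only [F]
    congr 1
    refine Finset.sum_congr rfl fun c _ => ?_
    rw [show (x * (t : K))⁻¹ * (c : K) * (x * t) = (t : K)⁻¹ * (x⁻¹ * c * x) * t by group, hconjT]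
  haveI := Fintype.ofFinite (K ⧸ T)
  have hsum : classInner (fun c : C => indFun T ψ c) ξ = ∑ u : K ⧸ T, F u.out := by
    have h1 : classInner (fun c : C => indFun T ψ c) ξ = (Nat.card T : ℂ)⁻¹ * ∑ x : K, F x := by
      simp only [classInner, indFun, F, Finset.mul_sum, Finset.sum_mul]
      rw [Finset.sum_comm]
      exact Finset.sum_congr rfl fun x _ => Finset.sum_congr rfl fun c _ => by ring
    rw [h1, ← (Subgroup.groupEquivQuotientProdSubgroup (s := T)).symm.sum_comp, Fintype.sum_prod_type]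
    have h2 : ∀ (u : K ⧸ T) (t : T), F ((Subgroup.groupEquivQuotientProdSubgroup (s := T)).symm (u, t)) = F u.out := fun u t => by
      have hmk : (((Subgroup.groupEquivQuotientProdSubgroup (s := T)).symm (u, t) : K) : K ⧸ T) = u := by
        have := (Subgroup.groupEquivQuotientProdSubgroup (s := T)).apply_symm_apply (u, t)
        exact congrArg Prod.fst this
      obtain ⟨t', ht'⟩ : ∃ t' : T, u.out * t' = (Subgroup.groupEquivQuotientProdSubgroup (s := T)).symm (u, t) :=
        ⟨⟨_, QuotientGroup.eq.1 ((QuotientGroup.out_eq' u).trans hmk.symm)⟩, mul_inv_cancel_left _ _⟩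
      rw [← ht', hFT]
    simp only [h2, Finset.sum_const, Finset.card_univ, nsmul_eq_mul, ← Nat.card_eq_fintype_card (α := T), ← Finset.mul_sum]
    rw [inv_mul_cancel_left₀ hT0]
  letI : MulAction S (K ⧸ T) :=
    { smul := fun s => Quotient.map' (fun k => s • k) fun a b h => by
        rw [QuotientGroup.leftRel_apply] at h ⊢
        rw [← smul_inv', ← smul_mul']
        exact hTS s ⟨_, h⟩
      one_smul := fun u => by
        obtain ⟨k, rfl⟩ := QuotientGroup.mk_surjective u
        exact congrArg QuotientGroup.mk (one_smul S k)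
      mul_smul := fun s t u => by
        obtain ⟨k, rfl⟩ := QuotientGroup.mk_surjective u
        exact congrArg QuotientGroup.mk (mul_smul s t k) }
  have hsmul : ∀ (s : S) (k : K), s • (k : K ⧸ T) = ((s • k : K) : K ⧸ T) := fun s k => rfl
  have hFout : ∀ k : K, F ((k : K ⧸ T)).out = F k := fun k => by
    obtain ⟨t, ht⟩ := QuotientGroup.mk_out_eq_mul T k
    rw [ht, hFT]
  have hFS : ∀ (s : S) (k : K), F (s • k) = F k := fun s k => by
    simp only [F]
    congr 1
    let e : C ≃ C :=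
      { toFun := fun c => ⟨s • (c : K), hCS s c⟩
        invFun := fun c => ⟨s⁻¹ • (c : K), hCS s⁻¹ c⟩
        left_inv := fun c => Subtype.ext (inv_smul_smul s (c : K))
        right_inv := fun c => Subtype.ext (smul_inv_smul s (c : K)) }
    refine (Fintype.sum_equiv e _ _ fun c => ?_).symm
    show extendByZero T ψ (k⁻¹ * c * k) * conj (ξ c) = extendByZero T ψ ((s • k)⁻¹ * (s • (c : K)) * (s • k)) * conj (ξ (e c))
    rw [← smul_inv', ← smul_mul', ← smul_mul', hξS s c (e c) rfl]
    congr 1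
    by_cases hy : k⁻¹ * c * k ∈ T
    · rw [extendByZero_of_mem T ψ hy, extendByZero_of_mem T ψ (hTS s ⟨_, hy⟩)]
      exact (hψS s ⟨_, hy⟩ _ rfl).symm
    · have hy' : s • (k⁻¹ * c * k) ∉ T := fun h => hy (by simpa using hTS s⁻¹ ⟨_, h⟩)
      rw [extendByZero_of_notMem T ψ hy, extendByZero_of_notMem T ψ hy']
  -- each term is integral away from p
  have hFloc : ∀ x : K, F x ∈ locRing M := fun x => by
    let D : Subgroup C := T.comap ((MulAut.conj x⁻¹).toMonoidHom.comp C.subtype)
    haveI := Fintype.ofFinite D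
    let φ : D →* T := (((MulAut.conj x⁻¹).toMonoidHom.comp C.subtype).comp D.subtype).codRestrict T fun d => d.2
    obtain ⟨n, hn⟩ := classInner_natCast_of_isCharacter (isCharacter_comp hψ φ) (IsCharacter.restrict hξ D)
    have hFn : F x = (n : ℂ) * (D.index : ℂ)⁻¹ := by
      rw [← hn]
      simp only [F, classInner]
      rw [← D.index_mul_card, Nat.cast_mul, mul_inv, show ∑ c : C, extendByZero T ψ (x⁻¹ * c * x) * conj (ξ c) =
        ∑ d : D, ψ (φ d) * conj (ξ d) from ?_]
      · simp only [Function.comp_apply]; ring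
      have hmemD : ∀ c : C, c ∈ D ↔ x⁻¹ * (c : K) * x ∈ T := fun c => by simp [D, Subgroup.mem_comap]
      rw [sum_subgroup_aux D (fun c : C => extendByZero T ψ (x⁻¹ * c * x) * conj (ξ c)) fun c hc => by
        rw [extendByZero_of_notMem T ψ fun h => hc ((hmemD c).2 h), zero_mul]]
      refine Finset.sum_congr rfl fun d _ => ?_
      rw [extendByZero_of_mem T ψ ((hmemD d).1 d.2)]
      congr 2
      exact Subtype.ext (by simp [φ])
    rw [hFn]
    refine mul_mem (natCast_mem _ _) (inv_natCast_mem_locRing hM.1 hM.2.2 fun h => hidx (h.trans ?_))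
    have hQD : Q.subgroupOf C ≤ D := fun q hq => by
      show x⁻¹ * (q : K) * (x⁻¹)⁻¹ ∈ T
      exact hQT ((inferInstance : Q.Normal).conj_mem _ hq x⁻¹)
    exact ((Subgroup.index_dvd_of_le hQD).trans (Subgroup.relIndex_dvd_index_of_normal Q C))
  have hfixed : ∀ u : K ⧸ T, (∀ s : S, s • u = u) ↔ ∃ c : C, ((c : K) : K ⧸ T) = u := fun u => by
    constructor
    · intro h
      obtain ⟨x, rfl⟩ := QuotientGroup.mk_surjective u
      obtain ⟨c, hc, hct⟩ := hfix x fun s => by
        have h2 := h s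
        rw [hsmul, eq_comm, QuotientGroup.eq] at h2
        exact h2
      exact ⟨⟨c, hc⟩, QuotientGroup.eq.2 hct⟩
    · rintro ⟨c, rfl⟩ s
      rw [hsmul, eq_comm, QuotientGroup.eq]
      exact hQT (hCfix s c)
  have hF1 : ∀ c : C, F (c : K) = F 1 := fun c => by
    simp only [F]
    congr 1
    refine Fintype.sum_equiv (MulAut.conj c⁻¹).toEquiv _ _ fun d => ?_
    have h : ξ ((MulAut.conj c⁻¹).toEquiv d) = ξ d := IsCharacter.isClassFunction hξ d c⁻¹
    rw [h]
    congr 2
    simp
  have hcount : ∀ z : ℂ, (∑ u : K ⧸ T, if (∀ s : S, s • u = u) then z else 0) = ((T.subgroupOf C).index : ℂ) * z := fun z => by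
    rw [Finset.sum_ite, Finset.sum_const_zero, add_zero, Finset.sum_const, nsmul_eq_mul]
    congr 2
    rw [← Nat.card_eq_finsetCard, Subgroup.index_eq_card]
    let g : C ⧸ T.subgroupOf C → {u // u ∈ Finset.univ.filter fun u : K ⧸ T => ∀ s : S, s • u = u} :=
      Quotient.lift (fun c : C => ⟨((c : K) : K ⧸ T), Finset.mem_filter.2 ⟨Finset.mem_univ _, (hfixed _).2 ⟨c, rfl⟩⟩⟩)
        fun a b h => Subtype.ext (QuotientGroup.eq.2 (by
          have h2 := QuotientGroup.leftRel_apply.1 h
          simpa [Subgroup.mem_subgroupOf] using h2))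
    refine (Nat.card_eq_of_bijective g ⟨fun a b h => ?_, fun u => ?_⟩).symm
    · obtain ⟨a, rfl⟩ := QuotientGroup.mk_surjective a
      obtain ⟨b, rfl⟩ := QuotientGroup.mk_surjective b
      exact QuotientGroup.eq.2 (by simpa [Subgroup.mem_subgroupOf] using QuotientGroup.eq.1 (congrArg Subtype.val h))
    · obtain ⟨c, hc⟩ := (hfixed u.1).1 (Finset.mem_filter.1 u.2).2
      exact ⟨(c : C ⧸ T.subgroupOf C), Subtype.ext hc⟩
  constructor
  · have h := sum_congr_fixed hM hS (fun u : K ⧸ T => F u.out) (fun s u => by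
      obtain ⟨k, rfl⟩ := QuotientGroup.mk_surjective u
      rw [hsmul, hFout, hFout, hFS]) (fun u => hFloc _)
    rw [← hsum] at h
    rw [show classInner (fun x : T.subgroupOf C => ψ ⟨((x : C) : K), x.2⟩) (fun x : T.subgroupOf C => ξ x) =
      ∑ u : K ⧸ T, if (∀ s : S, s • u = u) then F u.out else 0 from ?_]
    · exact h
    rw [Finset.sum_congr rfl (g := fun u => if (∀ s : S, s • u = u) then F 1 else 0) fun u _ => ?_, hcount]
    · simp only [F, classInner, inv_one, one_mul, mul_one]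
      rw [sum_subgroup_aux (T.subgroupOf C) (fun c : C => extendByZero T ψ c * conj (ξ c)) fun c hc => by
        rw [extendByZero_of_notMem T ψ (show (c : K) ∉ T from hc), zero_mul], ← (T.subgroupOf C).index_mul_card, Nat.cast_mul]
      have : ((T.subgroupOf C).index : ℂ) ≠ 0 := Nat.cast_ne_zero.2 Subgroup.index_ne_zero_of_finite
      rw [mul_inv, mul_assoc, mul_inv_cancel_left₀ this]
      refine congrArg _ (Finset.sum_congr rfl fun x _ => ?_)
      rw [extendByZero_of_mem T ψ (show ((x : C) : K) ∈ T from x.2)]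
    · split
      next hu =>
        obtain ⟨c, rfl⟩ := (hfixed u).1 hu
        rw [hFout, hF1]
      next => rfl
  · have h := sum_congr_fixed hM hS (fun _ : K ⧸ T => (1 : ℂ)) (fun _ _ => rfl) (fun _ => one_mem _)
    rw [hcount, mul_one, Finset.sum_const, Finset.card_univ, nsmul_eq_mul, mul_one, ← Nat.card_eq_fintype_card,
      ← Subgroup.index_eq_card] at h
    exact h

end Cfsg.Agent.Block
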