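import Cfsg.Agent.Lib.Block.GlaubermanNormal

/-!
# The correspondence of Glauberman over a normal Sylow subgroup: assembly
-/

set_option autoImplicit false
set_option linter.style.haveILetI false

namespace Cfsg.Agent.Block

open Cfsg Cfsg.Agent.Char
open scoped ComplexConjugate

universe u w

/-- The inner product of two characters with a single possible common constituent. -/
theorem classInner_common_one {G : Type u} [Group G] [Fintype G] {Φ Ψ γ : G → ℂ} (hΦ : IsCharacter G Φ)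
    (hγ : IsIrrCharacter G γ) (h1 : classInner γ Ψ = 1)
    (h : ∀ δ, IsIrrCharacter G δ → classInner Φ δ ≠ 0 → classInner δ Ψ ≠ 0 → δ = γ) :
    classInner Φ Ψ = classInner Φ γ := by
  classical
  haveI := Fintype.ofFinite (IrrCharacter G)
  conv_lhs => rw [IsClassFunction.eq_sum (IsCharacter.isClassFunction hΦ), classInner_sum_left]
  rw [Finset.sum_eq_single (⟨γ, hγ⟩ : IrrCharacter G) (fun δ _ hne => ?_) (by simp), classInner_smul_left, h1, mul_one]
  rw [classInner_smul_left]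
  by_contra hz
  exact hne (Subtype.ext (h δ δ.2 (left_ne_zero_of_mul hz) (right_ne_zero_of_mul hz)))

/-- The inner product of two characters without common constituents. -/
theorem classInner_common_none {G : Type u} [Group G] [Fintype G] {Φ Ψ : G → ℂ} (hΦ : IsCharacter G Φ)
    (h : ∀ δ, IsIrrCharacter G δ → classInner Φ δ ≠ 0 → classInner δ Ψ = 0) :
    classInner Φ Ψ = 0 := by
  classical
  haveI := Fintype.ofFinite (IrrCharacter G)
  rw [IsClassFunction.eq_sum (IsCharacter.isClassFunction hΦ), classInner_sum_left]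
  refine Finset.sum_eq_zero fun δ _ => ?_
  rw [classInner_smul_left]
  by_contra hz
  exact right_ne_zero_of_mul hz (h δ δ.2 (left_ne_zero_of_mul hz))

/-- Natural numbers congruent modulo a maximal ideal over `p`. -/
theorem natCast_zmod_of_memLocal {p : ℕ} {M : Ideal AlgInt} (hM : IsPModular p M) {a b : ℕ}
    (h : MemLocalIdeal M ((a : ℂ) - (b : ℂ))) : (a : ZMod p) = (b : ZMod p) := by
  haveI := prime_of_isPModular hM
  have h1 : MemLocalIdeal M ((((a : ℤ) - (b : ℤ) : ℤ) : AlgInt) : ℂ) := by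
    push_cast
    exact h
  have h2 := (intCast_mem_iff hM.1 hM.2.2 _).1 ((memLocalIdeal_algInt_iff _).1 h1)
  have h3 := (ZMod.intCast_zmod_eq_zero_iff_dvd _ p).2 h2
  push_cast at h3
  exact sub_eq_zero.1 h3

variable {K : Type u} [Group K] [Finite K] {S : Type w} [Group S]

/-- A stable coset of a stable subgroup has a point fixed modulo `Q`. -/
theorem exists_fixed_in_coset [Finite S] [MulDistribMulAction S K] {p : ℕ} (hp : p.Prime) (hS : IsPGroup p S)
    (Q T : Subgroup K) [Q.Normal] (hidx : ¬ p ∣ Q.index) (hQS : ∀ (s : S) (q : Q), s • (q : K) ∈ Q)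
    (hTS : ∀ (s : S) (t : T), s • (t : K) ∈ T) (x : K) (hx : ∀ s : S, x⁻¹ * s • x ∈ T) :
    ∃ c : K, (∀ s : S, c⁻¹ * s • c ∈ Q) ∧ c⁻¹ * x ∈ T := by
  classical
  haveI := Fact.mk hp
  let N := Q.subgroupOf T
  let a : S → T → T := fun s t => ⟨x⁻¹ * s • x * s • (t : K), T.mul_mem (hx s) (hTS s t)⟩
  letI : MulAction S (T ⧸ N) :=
    { smul := fun s => Quotient.map' (a s) fun t t' h => by
        rw [QuotientGroup.leftRel_apply, Subgroup.mem_subgroupOf] at h ⊢
        have e : (((a s t)⁻¹ * a s t' : T) : K) = s • ((t⁻¹ * t' : T) : K) := by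
          simp [a, smul_mul', smul_inv', mul_assoc]
        rw [e]
        exact hQS s ⟨_, h⟩
      one_smul := fun u => by
        obtain ⟨t, rfl⟩ := QuotientGroup.mk_surjective u
        exact congrArg QuotientGroup.mk (Subtype.ext (by simp [a]) : a 1 t = t)
      mul_smul := fun s r u => by
        obtain ⟨t, rfl⟩ := QuotientGroup.mk_surjective u
        exact congrArg QuotientGroup.mk (Subtype.ext (by simp [a, smul_mul', smul_inv', mul_smul, mul_assoc]) : a (s * r) t = a s (a r t)) }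
  have hnd : ¬ p ∣ Nat.card (T ⧸ N) := fun h => hidx (h.trans
    (Subgroup.index_eq_card N ▸ Subgroup.relIndex_dvd_index_of_normal Q T))
  obtain ⟨u, hu⟩ := hS.nonempty_fixed_point_of_prime_not_dvd_card (T ⧸ N) hnd
  obtain ⟨t, rfl⟩ := QuotientGroup.mk_surjective u
  refine ⟨x * t, fun s => ?_, ?_⟩
  · have h1 : ((a s t : T) : T ⧸ N) = (t : T ⧸ N) := hu s
    have h2 := Subgroup.mem_subgroupOf.1 (QuotientGroup.eq.1 h1.symm)
    rw [smul_mul']
    simpa [a, mul_assoc] using h2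
  · simp

/-- The inertia group of an invariant character is invariant. -/
theorem inertia_stable [MulDistribMulAction S K] (N : Subgroup K) [N.Normal] (hNS : ∀ (s : S) (n : N), s • (n : K) ∈ N)
    {θ : N → ℂ} (hθS : ∀ (s : S) (n n' : N), (n' : K) = s • (n : K) → θ n' = θ n) (s : S) (g : inertia N θ) :
    s • (g : K) ∈ inertia N θ := by
  rw [mem_inertia]
  funext n
  let n₀ : N := ⟨s⁻¹ • (n : K), hNS s⁻¹ n⟩
  have h0 := congrFun (mem_inertia N |>.1 g.2) n₀
  have e1 : θ n = θ n₀ := hθS s n₀ n (by simp [n₀])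
  rw [e1, ← h0]
  refine hθS s ⟨_, (inferInstance : N.Normal).conj_mem _ n₀.2 g⟩ _ ?_
  simp [n₀, smul_mul']

/-- Invariance passes through the correspondence of Clifford. -/
theorem clifford_invariant [MulDistribMulAction S K] [Fintype K] {N : Subgroup K} [N.Normal] [Fintype N]
    (hNS : ∀ (s : S) (n : N), s • (n : K) ∈ N) {θ : N → ℂ} (hθ : IsIrrCharacter N θ)
    (hθS : ∀ (s : S) (n n' : N), (n' : K) = s • (n : K) → θ n' = θ n)
    {T : Subgroup K} [Fintype T] (hT : T = inertia N θ) (hNT : N ≤ T) {χ : K → ℂ} (hχ : IsIrrCharacter K χ)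
    {ψ : T → ℂ} (hψ : IsIrrCharacter T ψ) (h : classInner (fun t : T => χ t) ψ ≠ 0)
    (hN : classInner (fun n : N => ψ ⟨n, hNT n.2⟩) θ ≠ 0) :
    OpInv S χ ↔ ∀ (s : S) (t t' : T), (t' : K) = s • (t : K) → ψ t' = ψ t := by
  classical
  have hTS : ∀ (s : S) (t : T), s • (t : K) ∈ T := fun s t => by
    subst hT
    exact inertia_stable N hNS hθS s t
  let e : S → T ≃* T := fun s =>
    { toFun := fun t => ⟨s • (t : K), hTS s t⟩
      invFun := fun t => ⟨s⁻¹ • (t : K), hTS s⁻¹ t⟩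
      left_inv := fun t => Subtype.ext (inv_smul_smul s (t : K))
      right_inv := fun t => Subtype.ext (smul_inv_smul s (t : K))
      map_mul' := fun a b => Subtype.ext (smul_mul' s (a : K) (b : K)) }
  let eN : S → N ≃* N := fun s =>
    { toFun := fun t => ⟨s • (t : K), hNS s t⟩
      invFun := fun t => ⟨s⁻¹ • (t : K), hNS s⁻¹ t⟩
      left_inv := fun t => Subtype.ext (inv_smul_smul s (t : K))
      right_inv := fun t => Subtype.ext (smul_inv_smul s (t : K))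
      map_mul' := fun a b => Subtype.ext (smul_mul' s (a : K) (b : K)) }
  have hψN : ∀ s : S, classInner (fun n : N => ψ (e s ⟨n, hNT n.2⟩)) θ ≠ 0 := fun s => by
    have e1 : θ = fun n => θ (eN s n) := funext fun n => (hθS s n (eN s n) rfl).symm
    rw [← classInner_comp_mulEquiv (eN s) (fun n : N => ψ ⟨n, hNT n.2⟩) θ, ← e1] at hN
    exact hN
  constructor
  · intro hinv s t t' ht
    obtain rfl : t' = e s t := Subtype.ext ht
    refine congrFun (clifford_unique hθ hT hNT hχ (isIrrCharacter_comp_mulEquiv (e s) hψ) hψ ?_ h (hψN s) hN) t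
    rw [show (fun t : T => χ t) = fun t => χ ((e s t : T) : K) from funext fun t => (hinv s t).symm,
      classInner_comp_mulEquiv (e s) (fun t : T => χ t) ψ]
    exact h
  · intro hinv s k
    let eK := MulDistribMulAction.toMulEquiv K s
    have h2 : classInner (fun t : T => χ (eK t)) ψ ≠ 0 := by
      have e1 : ψ = fun t => ψ (e s t) := funext fun t => (hinv s t (e s t) rfl).symm
      rw [← classInner_comp_mulEquiv (e s) (fun t : T => χ t) ψ, ← e1] at h
      exact h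
    have h3 := (clifford_core N hθ hT hNT (isIrrCharacter_comp_mulEquiv eK hχ) hψ h2 hN).1
    have h4 := (clifford_core N hθ hT hNT hχ hψ h hN).1
    exact congrFun (h3.symm.trans h4) k

/-- The correspondence over one invariant character of the normal Sylow subgroup. -/
theorem glauberman_theta [Fintype K] [Finite S] [MulDistribMulAction S K] {p : ℕ} {M : Ideal AlgInt}
    (hM : IsPModular p M) (hS : IsPGroup p S)
    (Q C : Subgroup K) [Q.Normal] [Fintype Q] [Fintype C] (hQ : IsPGroup p Q) (hidx : ¬ p ∣ Q.index)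
    (hQS : ∀ (s : S) (q : Q), s • (q : K) ∈ Q) (hC : ∀ k : K, k ∈ C ↔ ∀ s : S, k⁻¹ * s • k ∈ Q) (hQC : Q ≤ C)
    (hCS : ∀ (s : S) (c : C), s • (c : K) ∈ C) (θ : IrrCharacter Q)
    (hθS : ∀ (s : S) (q q' : Q), (q' : K) = s • (q : K) → (θ : Q → ℂ) q' = (θ : Q → ℂ) q) :
    (∀ χ : IrrCharacter K, OpInv S (χ : K → ℂ) → classInner (fun q : Q => (χ : K → ℂ) q) (θ : Q → ℂ) ≠ 0 →
      ∃ ξ : IrrCharacter C, (∀ (s : S) (c c' : C), (c' : K) = s • (c : K) → (ξ : C → ℂ) c' = (ξ : C → ℂ) c) ∧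
        classInner (fun q : Q => (ξ : C → ℂ) ⟨q, hQC q.2⟩) (θ : Q → ℂ) ≠ 0 ∧ ∃ m : ℕ,
        classInner (fun c : C => (χ : K → ℂ) c) (ξ : C → ℂ) = (m : ℂ) ∧ ((m : ZMod p) = 1 ∨ (m : ZMod p) = -1) ∧
        (charDegree (χ : K → ℂ) : ZMod p) = (m : ZMod p) * (charDegree (ξ : C → ℂ) : ZMod p) ∧
        ∀ ξ' : IrrCharacter C, (∀ (s : S) (c c' : C), (c' : K) = s • (c : K) → (ξ' : C → ℂ) c' = (ξ' : C → ℂ) c) →
          ξ' ≠ ξ → ∀ m' : ℕ, classInner (fun c : C => (χ : K → ℂ) c) (ξ' : C → ℂ) = (m' : ℂ) → p ∣ m') ∧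
    (∀ ξ : IrrCharacter C, (∀ (s : S) (c c' : C), (c' : K) = s • (c : K) → (ξ : C → ℂ) c' = (ξ : C → ℂ) c) →
      classInner (fun q : Q => (ξ : C → ℂ) ⟨q, hQC q.2⟩) (θ : Q → ℂ) ≠ 0 →
      ∃ χ : IrrCharacter K, OpInv S (χ : K → ℂ) ∧
        (∃ m : ℕ, classInner (fun c : C => (χ : K → ℂ) c) (ξ : C → ℂ) = (m : ℂ) ∧ ¬ p ∣ m) ∧
        ∀ χ' : IrrCharacter K, OpInv S (χ' : K → ℂ) → classInner (fun q : Q => (χ' : K → ℂ) q) (θ : Q → ℂ) ≠ 0 →
          (∃ m : ℕ, classInner (fun c : C => (χ' : K → ℂ) c) (ξ : C → ℂ) = (m : ℂ) ∧ ¬ p ∣ m) → χ' = χ) := by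
  classical
  haveI := prime_of_isPModular hM
  have hp := hM.1
  haveI := Fact.mk hp
  let T := inertia Q (θ : Q → ℂ)
  have hθi : IsIrrCharacter Q (θ : Q → ℂ) := θ.2
  have hQT : Q ≤ T := le_inertia Q (IsCharacter.isClassFunction (IsIrrCharacter.isCharacter hθi))
  have hTS : ∀ (s : S) (t : T), s • (t : K) ∈ T := inertia_stable Q hQS hθS
  haveI := Fintype.ofFinite T
  haveI := Fintype.ofFinite (T.subgroupOf C)
  haveI := Fintype.ofFinite (Q.subgroupOf C)
  haveI := Fintype.ofFinite (Q.subgroupOf T)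
  letI actT : MulDistribMulAction S T :=
    { smul := fun s t => ⟨s • (t : K), hTS s t⟩
      one_smul := fun t => Subtype.ext (one_smul S (t : K))
      mul_smul := fun s r t => Subtype.ext (mul_smul s r (t : K))
      smul_mul := fun s a b => Subtype.ext (smul_mul' s (a : K) (b : K))
      smul_one := fun s => Subtype.ext (smul_one s) }
  letI actC : MulDistribMulAction S C :=
    { smul := fun s t => ⟨s • (t : K), hCS s t⟩
      one_smul := fun t => Subtype.ext (one_smul S (t : K))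
      mul_smul := fun s r t => Subtype.ext (mul_smul s r (t : K))
      smul_mul := fun s a b => Subtype.ext (smul_mul' s (a : K) (b : K))
      smul_one := fun s => Subtype.ext (smul_one s) }
  let C' := T.subgroupOf C
  -- the character of Q inside T and inside C
  let eT : Q.subgroupOf T ≃* Q := Subgroup.subgroupOfEquivOfLe hQT
  let eC : Q.subgroupOf C ≃* Q := Subgroup.subgroupOfEquivOfLe hQC
  let θT : Q.subgroupOf T → ℂ := fun q => (θ : Q → ℂ) (eT q)
  let θC : Q.subgroupOf C → ℂ := fun q => (θ : Q → ℂ) (eC q)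
  have hθTi : IsIrrCharacter _ θT := isIrrCharacter_comp_mulEquiv eT hθi
  have hθCi : IsIrrCharacter _ θC := isIrrCharacter_comp_mulEquiv eC hθi
  have hθTT : ∀ g, Cfsg.Agent.Char.conjChar (Q.subgroupOf T) g θT = θT := fun g =>
    funext fun n => congrFun ((mem_inertia Q).1 g.2) (eT n)
  have hTC : C' = inertia (Q.subgroupOf C) θC := by
    ext c
    rw [Subgroup.mem_subgroupOf, mem_inertia, mem_inertia]
    refine ⟨fun h => funext fun n => congrFun h (eC n), fun h => funext fun q => ?_⟩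
    have := congrFun h (eC.symm q)
    simp only [θC, MulEquiv.apply_symm_apply] at this
    rw [← this]
    rfl
  have hQC' : Q.subgroupOf C ≤ C' := fun q hq => hQT hq
  have hQCS : ∀ (s : S) (q : Q.subgroupOf C), s • (q : C) ∈ Q.subgroupOf C := fun s q => hQS s ⟨_, q.2⟩
  have hθCS : ∀ (s : S) (q q' : Q.subgroupOf C), (q' : C) = s • (q : C) → θC q' = θC q := fun s q q' h =>
    hθS s (eC q) (eC q') (congrArg Subtype.val h)
  have hQTS : ∀ (s : S) (q : Q.subgroupOf T), s • (q : T) ∈ Q.subgroupOf T := fun s q => hQS s ⟨_, q.2⟩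
  have hθTS : ∀ (s : S) (q q' : Q.subgroupOf T), (q' : T) = s • (q : T) → θT q' = θT q := fun s q q' h =>
    hθS s (eT q) (eT q') (congrArg Subtype.val h)
  -- the correspondence inside the inertia group
  let ι : C' →* T := ((C.subtype.comp C'.subtype).codRestrict T fun x => x.2)
  have hι : Function.Injective ι := fun a b h => Subtype.ext (Subtype.ext (congrArg Subtype.val h :))
  have hrange : ∀ t : T, t ∈ ι.range ↔ ∀ s : S, t⁻¹ * (s • t) ∈ Q.subgroupOf T := fun t => by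
    refine ⟨?_, fun h => ⟨⟨⟨t, (hC t).2 h⟩, t.2⟩, rfl⟩⟩
    rintro ⟨c, rfl⟩ s
    exact (hC ((c : C) : K)).1 (c : C).2 s
  let j : Q.subgroupOf T →* C' :=
    { toFun := fun q => ⟨⟨((q : T) : K), hQC q.2⟩, (q : T).2⟩
      map_one' := rfl
      map_mul' := fun _ _ => rfl }
  have hQ' : IsPGroup p (Q.subgroupOf T) := hQ.of_equiv eT.symm
  have hidx' : ¬ p ∣ (Q.subgroupOf T).index := fun h => hidx (h.trans (Subgroup.relIndex_dvd_index_of_normal Q T))
  obtain ⟨hfwd, hbwd⟩ := glauberman_over (S := S) hp hS (Q.subgroupOf T) hQ' hidx' hQTS hθTi hθTT hθTS ι hι hrange j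
    (fun q => rfl)
  have hoverT : ∀ ψ : T → ℂ, classInner (fun q : Q.subgroupOf T => ψ q) θT =
      classInner (fun q : Q => ψ ⟨q, hQT q.2⟩) (θ : Q → ℂ) := fun ψ =>
    classInner_comp_mulEquiv eT (fun q : Q => ψ ⟨q, hQT q.2⟩) (θ : Q → ℂ)
  have hoverC : ∀ γ : C' → ℂ, classInner (fun q : Q.subgroupOf T => γ (j q)) θT =
      classInner (fun q : Q.subgroupOf C => γ ⟨q, hQC' q.2⟩) θC := fun γ => by
    rw [show classInner (fun q : Q.subgroupOf C => γ ⟨q, hQC' q.2⟩) θC =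
      classInner (fun q : Q => γ ⟨⟨q, hQC q.2⟩, hQT q.2⟩) (θ : Q → ℂ) from
      classInner_comp_mulEquiv eC (fun q : Q => γ ⟨⟨q, hQC q.2⟩, hQT q.2⟩) (θ : Q → ℂ)]
    exact classInner_comp_mulEquiv eT (fun q : Q => γ ⟨⟨q, hQC q.2⟩, hQT q.2⟩) (θ : Q → ℂ)
  have hoverC0 : ∀ ξ : C → ℂ, classInner (fun q : Q.subgroupOf C => ξ q) θC =
      classInner (fun q : Q => ξ ⟨q, hQC q.2⟩) (θ : Q → ℂ) := fun ξ =>
    classInner_comp_mulEquiv eC (fun q : Q => ξ ⟨q, hQC q.2⟩) (θ : Q → ℂ)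
  -- invariance of the correspondents
  have hinvT : ∀ ψ : T → ℂ, OpInv S ψ ↔ ∀ (s : S) (t t' : T), (t' : K) = s • (t : K) → ψ t' = ψ t := fun ψ =>
    ⟨fun h s t t' e => by rw [show t' = s • t from Subtype.ext e]; exact h s t, fun h s t => h s t _ rfl⟩
  have hinvC : ∀ ξ : C → ℂ, OpInv S ξ ↔ ∀ (s : S) (t t' : C), (t' : K) = s • (t : K) → ξ t' = ξ t := fun ψ =>
    ⟨fun h s t t' e => by rw [show t' = s • t from Subtype.ext e]; exact h s t, fun h s t => h s t _ rfl⟩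
  -- constituents of a restriction to the fixed points lie over θ
  have hall : ∀ ψ : IrrCharacter T, classInner (fun q : Q => (ψ : T → ℂ) ⟨q, hQT q.2⟩) (θ : Q → ℂ) ≠ 0 →
      ∀ δ, IsIrrCharacter C' δ → classInner (fun c : C' => (ψ : T → ℂ) (ι c)) δ ≠ 0 →
      classInner (fun q : Q.subgroupOf C => δ ⟨q, hQC' q.2⟩) θC ≠ 0 := by
    intro ψ hψ δ hδ hd
    rw [← hoverC]
    obtain ⟨φ, hφ, hφi⟩ := IsCharacter.exists_irr_constituent (isCharacter_comp (IsIrrCharacter.isCharacter hδ) j)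
      (fun h => IsIrrCharacter.apply_one_ne_zero hδ (by simpa [map_one] using congrFun h 1))
    obtain ⟨r, hr, hsplit⟩ := exists_add_of_classInner_ne_zero (isCharacter_comp (IsIrrCharacter.isCharacter ψ.2) ι) hδ hd
    have hψφ : classInner (fun q : Q.subgroupOf T => (ψ : T → ℂ) q) φ ≠ 0 := by
      rw [show (fun q : Q.subgroupOf T => (ψ : T → ℂ) q) = (δ ∘ j) + (r ∘ j) from funext fun q => congrFun hsplit (j q)]
      exact classInner_ne_zero_of_le (isCharacter_comp (IsIrrCharacter.isCharacter hδ) j) (isCharacter_comp hr j) hφ hφi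
    rw [restrict_eq_smul_of_inertia_top (Q.subgroupOf T) ψ.2 hθTi (by rw [hoverT]; exact hψ) hθTT, classInner_smul_left] at hψφ
    obtain rfl : θT = φ := by
      by_contra hne
      exact right_ne_zero_of_mul hψφ (IsIrrCharacter.classInner_eq_zero hθTi hφ hne)
    exact hφi
  -- the congruence
  have hkey : ∀ ψ : IrrCharacter T, OpInv S (ψ : T → ℂ) → ∀ ξ : IrrCharacter C, OpInv S (ξ : C → ℂ) →
      MemLocalIdeal M (classInner (fun c : C => indFun T (ψ : T → ℂ) c) (ξ : C → ℂ) -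
        classInner (fun x : C' => (ψ : T → ℂ) (ι x)) (fun x : C' => (ξ : C → ℂ) x)) := fun ψ hψ ξ hξ =>
    (induced_restrict_congr hM hS Q C T hidx hQC hQT hCS hTS (fun s c => (hC c).1 c.2 s)
      (fun x hx => by
        obtain ⟨c, hc, hct⟩ := exists_fixed_in_coset hp hS Q T hidx hQS hTS x hx
        exact ⟨c, (hC c).2 hc, hct⟩)
      (IsIrrCharacter.isCharacter ψ.2) ((hinvT _).1 hψ) (IsIrrCharacter.isCharacter ξ.2) ((hinvC _).1 hξ)).1
  have hmultC : ∀ (ψ : IrrCharacter T) (ξ : IrrCharacter C) (γ : IrrCharacter C'),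
      classInner (fun q : Q => (ψ : T → ℂ) ⟨q, hQT q.2⟩) (θ : Q → ℂ) ≠ 0 →
      classInner (fun c : C' => (ξ : C → ℂ) c) (γ : C' → ℂ) ≠ 0 →
      classInner (fun q : Q.subgroupOf C => (γ : C' → ℂ) ⟨q, hQC' q.2⟩) θC ≠ 0 →
      classInner (fun x : C' => (ψ : T → ℂ) (ι x)) (fun x : C' => (ξ : C → ℂ) x) =
        classInner (fun x : C' => (ψ : T → ℂ) (ι x)) (γ : C' → ℂ) := by
    intro ψ ξ γ hψ h1 h2
    refine classInner_common_one (isCharacter_comp (IsIrrCharacter.isCharacter ψ.2) ι) γ.2 ?_ fun δ hδ hd hdξ => ?_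
    · have e := (clifford_core (Q.subgroupOf C) hθCi hTC hQC' ξ.2 γ.2 h1 h2).1
      rw [← classInner_indFun C' (γ : C' → ℂ) (IsCharacter.isClassFunction (IsIrrCharacter.isCharacter ξ.2)), e]
      exact IsIrrCharacter.classInner_self ξ.2
    · refine clifford_unique hθCi hTC hQC' ξ.2 hδ γ.2 ?_ h1 (hall ψ hψ δ hδ hd) h2
      rw [← classInner_conj_symm, map_ne_zero]
      exact hdξ
  have hzero : ∀ (ψ : IrrCharacter T) (ξ : IrrCharacter C),
      classInner (fun q : Q => (ψ : T → ℂ) ⟨q, hQT q.2⟩) (θ : Q → ℂ) ≠ 0 →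
      classInner (fun q : Q => (ξ : C → ℂ) ⟨q, hQC q.2⟩) (θ : Q → ℂ) = 0 →
      classInner (fun x : C' => (ψ : T → ℂ) (ι x)) (fun x : C' => (ξ : C → ℂ) x) = 0 := by
    intro ψ ξ hψ hξ
    refine classInner_common_none (isCharacter_comp (IsIrrCharacter.isCharacter ψ.2) ι) fun δ hδ hd => ?_
    by_contra hdξ
    rw [← classInner_conj_symm, map_eq_zero] at hdξ
    obtain ⟨r, hr, hsplit⟩ := exists_add_of_classInner_ne_zero (IsCharacter.restrict (IsIrrCharacter.isCharacter ξ.2) C') hδ hdξ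
    rw [← hoverC0] at hξ
    refine absurd hξ ?_
    rw [show (fun q : Q.subgroupOf C => (ξ : C → ℂ) q) =
        (fun q : Q.subgroupOf C => δ ⟨q, hQC' q.2⟩) + fun q : Q.subgroupOf C => r ⟨q, hQC' q.2⟩ from
      funext fun q => congrFun hsplit ⟨q, hQC' q.2⟩]
    exact classInner_ne_zero_of_le (isCharacter_comp (IsIrrCharacter.isCharacter hδ) (Subgroup.inclusion hQC'))
      (isCharacter_comp hr (Subgroup.inclusion hQC')) hθCi (hall ψ hψ δ hδ hd)
  refine ⟨fun χ hχ hχθ => ?_, fun ξ hξ hξθ => ?_⟩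
  · obtain ⟨ψ0, hψi, hψ1, hψ2⟩ := exists_irr_above_inertia Q hθi hQT χ.2 hχθ
    let ψ : IrrCharacter T := ⟨ψ0, hψi⟩
    have hψS : OpInv S (ψ : T → ℂ) :=
      (hinvT _).2 ((clifford_invariant hQS hθi hθS rfl hQT χ.2 hψi hψ1 hψ2).1 hχ)
    have hχψ := (clifford_core Q hθi rfl hQT χ.2 hψi hψ1 hψ2).1
    obtain ⟨γ, hγθ, m0, hm0, hm0d, hsign, hdeg, hoth⟩ := hfwd ψ (by rw [hoverT]; exact hψ2) hψS
    rw [hoverC] at hγθ
    obtain ⟨hξi, hξ1, hξ2⟩ := clifford_exists hθCi hTC hQC' γ.2 hγθ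
    let ξ : IrrCharacter C := ⟨_, hξi⟩
    have hγS : ∀ (s : S) (t t' : C'), (t' : C) = s • (t : C) → (γ : C' → ℂ) t' = (γ : C' → ℂ) t := by
      intro s t t' ht
      let e : C' ≃* C' :=
        { toFun := fun c => ⟨s • (c : C), hTS s ⟨_, c.2⟩⟩
          invFun := fun c => ⟨s⁻¹ • (c : C), hTS s⁻¹ ⟨_, c.2⟩⟩
          left_inv := fun c => Subtype.ext (inv_smul_smul s (c : C))
          right_inv := fun c => Subtype.ext (smul_inv_smul s (c : C))
          map_mul' := fun a b => Subtype.ext (smul_mul' s (a : C) (b : C)) }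
      obtain rfl : t' = e t := Subtype.ext ht
      let γ' : IrrCharacter C' := ⟨fun c => (γ : C' → ℂ) (e c), isIrrCharacter_comp_mulEquiv e γ.2⟩
      have hm' : classInner (fun c : C' => (ψ : T → ℂ) (ι c)) (γ' : C' → ℂ) = (m0 : ℂ) := by
        rw [show (fun c : C' => (ψ : T → ℂ) (ι c)) = fun c => (ψ : T → ℂ) (ι (e c)) from
          funext fun c => (hψS s (ι c)).symm, classInner_comp_mulEquiv e (fun c : C' => (ψ : T → ℂ) (ι c)) (γ : C' → ℂ)]
        exact hm0
      have e2 : γ' = γ := by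
        by_contra hne
        exact hm0d (hoth γ' hne m0 hm')
      exact congrFun (congrArg Subtype.val e2) t
    have hξS : OpInv S (ξ : C → ℂ) := (clifford_invariant hQCS hθCi hθCS hTC hQC' hξi γ.2 hξ1 hγθ).2 hγS
    obtain ⟨m, hm⟩ := classInner_natCast_of_isCharacter (IsCharacter.restrict (IsIrrCharacter.isCharacter χ.2) C)
      (IsIrrCharacter.isCharacter hξi)
    have hmm : (m : ZMod p) = (m0 : ZMod p) := natCast_zmod_of_memLocal hM (by
      rw [← hm0, ← hmultC ψ ξ γ hψ2 hξ1 hγθ, ← hm, ← hχψ]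
      exact hkey ψ hψS ξ hξS)
    refine ⟨ξ, (hinvC _).1 hξS, by rw [← hoverC0]; exact hξ2, m, hm, ?_, ?_, fun ξ' hξ'S hne m' hm' => ?_⟩
    · rw [hmm]
      rcases hsign with h | h
      · exact Or.inl (by simpa using (ZMod.intCast_eq_intCast_iff _ _ p).2 h)
      · exact Or.inr (by simpa using (ZMod.intCast_eq_intCast_iff _ _ p).2 h)
    · have e1 : charDegree (χ : K → ℂ) = T.index * charDegree (ψ : T → ℂ) := by
        apply Nat.cast_injective (R := ℂ)
        rw [charDegree_cast (IsIrrCharacter.isCharacter χ.2), Nat.cast_mul,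
          charDegree_cast (IsIrrCharacter.isCharacter hψi), ← indFun_one_apply, hχψ]
      have e2 : charDegree (ξ : C → ℂ) = C'.index * charDegree (γ : C' → ℂ) := by
        apply Nat.cast_injective (R := ℂ)
        rw [charDegree_cast (IsIrrCharacter.isCharacter hξi), Nat.cast_mul,
          charDegree_cast (IsIrrCharacter.isCharacter γ.2), ← indFun_one_apply]
      have e3 : (T.index : ZMod p) = (C'.index : ZMod p) := natCast_zmod_of_memLocal hM
        (induced_restrict_congr hM hS Q C T hidx hQC hQT hCS hTS (fun s c => (hC c).1 c.2 s)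
          (fun x hx => by
            obtain ⟨c, hc, hct⟩ := exists_fixed_in_coset hp hS Q T hidx hQS hTS x hx
            exact ⟨c, (hC c).2 hc, hct⟩)
          (IsIrrCharacter.isCharacter hψi) ((hinvT _).1 hψS) (IsIrrCharacter.isCharacter hξi) ((hinvC _).1 hξS)).2
      rw [e1, e2, hmm, Nat.cast_mul, Nat.cast_mul, hdeg, e3]
      ring
    · have hk := hkey ψ hψS ξ' ((hinvC _).2 hξ'S)
      rw [show indFun T (ψ : T → ℂ) = (χ : K → ℂ) from hχψ, hm'] at hk
      by_cases hz : classInner (fun q : Q => (ξ' : C → ℂ) ⟨q, hQC q.2⟩) (θ : Q → ℂ) = 0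
      · rw [hzero ψ ξ' hψ2 hz, sub_zero] at hk
        exact (memLocalIdeal_natCast_iff hp hM.2.2 m').1 hk
      · rw [← hoverC0] at hz
        obtain ⟨γ0, hγ0, hγ01, hγ02⟩ := exists_irr_above_inertia (Q.subgroupOf C) hθCi hQC' ξ'.2 hz
        let γ' : IrrCharacter C' := ⟨γ0, hγ0⟩
        obtain ⟨m1, hm1⟩ := classInner_natCast_of_isCharacter
          (isCharacter_comp (IsIrrCharacter.isCharacter ψ.2) ι) (IsIrrCharacter.isCharacter hγ0)
        rw [hmultC ψ ξ' γ' hψ2 hγ01 hγ02, show classInner (fun x : C' => (ψ : T → ℂ) (ι x)) (γ' : C' → ℂ) = (m1 : ℂ) from hm1] at hk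
        have hγne : γ' ≠ γ := fun e => hne (Subtype.ext (by
          show (ξ' : C → ℂ) = indFun C' (γ : C' → ℂ)
          rw [← e]
          exact ((clifford_core (Q.subgroupOf C) hθCi hTC hQC' ξ'.2 hγ0 hγ01 hγ02).1).symm))
        have hd := hoth γ' hγne m1 hm1
        rw [← ZMod.natCast_eq_zero_iff] at hd ⊢
        rw [natCast_zmod_of_memLocal hM hk, hd]
  · rw [← hoverC0] at hξθ
    obtain ⟨γ0, hγi, hγ1, hγ2⟩ := exists_irr_above_inertia (Q.subgroupOf C) hθCi hQC' ξ.2 hξθ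
    let γ : IrrCharacter C' := ⟨γ0, hγi⟩
    obtain ⟨ψ, ⟨hψθ, hψS, m0, hm0, hm0d⟩, huniq⟩ := hbwd γ (by rw [hoverC]; exact hγ2)
    rw [hoverT] at hψθ
    obtain ⟨hχi, hχ1, hχ2⟩ := clifford_exists hθi rfl hQT ψ.2 hψθ
    let χ : IrrCharacter K := ⟨_, hχi⟩
    have hχS : OpInv S (χ : K → ℂ) :=
      (clifford_invariant hQS hθi hθS rfl hQT hχi ψ.2 hχ1 hψθ).2 ((hinvT _).1 hψS)
    refine ⟨χ, hχS, ?_, fun χ' hχ'S hχ'θ h' => ?_⟩
    · obtain ⟨m, hm⟩ := classInner_natCast_of_isCharacter (IsCharacter.restrict (IsIrrCharacter.isCharacter hχi) C)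
        (IsIrrCharacter.isCharacter ξ.2)
      refine ⟨m, hm, fun hd => hm0d ?_⟩
      have hk := hkey ψ hψS ξ ((hinvC _).2 hξ)
      rw [hmultC ψ ξ γ hψθ hγ1 hγ2, hm0] at hk
      rw [show classInner (fun c : C => indFun T (ψ : T → ℂ) c) (ξ : C → ℂ) = (m : ℂ) from hm] at hk
      rw [← ZMod.natCast_eq_zero_iff] at hd ⊢
      rw [← natCast_zmod_of_memLocal hM hk, hd]
    · obtain ⟨ψ0', hψi', hψ1', hψ2'⟩ := exists_irr_above_inertia Q hθi hQT χ'.2 hχ'θ
      let ψ' : IrrCharacter T := ⟨ψ0', hψi'⟩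
      have hψS' : OpInv S (ψ' : T → ℂ) :=
        (hinvT _).2 ((clifford_invariant hQS hθi hθS rfl hQT χ'.2 hψi' hψ1' hψ2').1 hχ'S)
      have hχψ' := (clifford_core Q hθi rfl hQT χ'.2 hψi' hψ1' hψ2').1
      obtain ⟨m', hm', hd'⟩ := h'
      obtain ⟨m1, hm1⟩ := classInner_natCast_of_isCharacter
        (isCharacter_comp (IsIrrCharacter.isCharacter hψi') ι) (IsIrrCharacter.isCharacter hγi)
      have hk := hkey ψ' hψS' ξ ((hinvC _).2 hξ)
      rw [hmultC ψ' ξ γ hψ2' hγ1 hγ2, show classInner (fun x : C' => (ψ' : T → ℂ) (ι x)) (γ : C' → ℂ) = (m1 : ℂ) from hm1,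
        show indFun T (ψ' : T → ℂ) = (χ' : K → ℂ) from hχψ', hm'] at hk
      have e : ψ' = ψ := huniq ψ' ⟨by rw [hoverT]; exact hψ2', hψS', m1, hm1, fun hd => hd' (by
        rw [← ZMod.natCast_eq_zero_iff] at hd ⊢
        rw [natCast_zmod_of_memLocal hM hk, hd])⟩
      refine Subtype.ext ?_
      rw [← hχψ']
      exact congrArg (indFun T) (congrArg Subtype.val e)

/-- The correspondence of Glauberman over a normal Sylow subgroup. -/
theorem glauberman_normal [Fintype K] [Finite S] [MulDistribMulAction S K] {p : ℕ} (hp : p.Prime) (hS : IsPGroup p S)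
    (Q C : Subgroup K) [Q.Normal] [Fintype C] (hQ : IsPGroup p Q) (hidx : ¬ p ∣ Q.index)
    (hQS : ∀ (s : S) (q : Q), s • (q : K) ∈ Q) (hC : ∀ k : K, k ∈ C ↔ ∀ s : S, k⁻¹ * s • k ∈ Q) :
    ∃ f : {χ : IrrCharacter K // OpInv S (χ : K → ℂ)} →
        {ξ : IrrCharacter C // ∀ (s : S) (c c' : C), (c' : K) = s • (c : K) → (ξ : C → ℂ) c' = (ξ : C → ℂ) c},
      Function.Bijective f ∧ ∀ χ,
        (∀ ξ, ∃ m : ℕ, classInner (fun c : C => (χ.1 : K → ℂ) c) (ξ.1 : C → ℂ) = (m : ℂ) ∧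
          (ξ = f χ → ((m : ZMod p) = 1 ∨ (m : ZMod p) = -1)) ∧ (ξ ≠ f χ → p ∣ m)) ∧
        ((charDegree ((f χ).1 : C → ℂ) : ZMod p) = (charDegree (χ.1 : K → ℂ) : ZMod p) ∨
          (charDegree ((f χ).1 : C → ℂ) : ZMod p) = -(charDegree (χ.1 : K → ℂ) : ZMod p)) := by
  classical
  haveI := Fact.mk hp
  obtain ⟨M, hM⟩ := exists_isPModular hp
  haveI := Fintype.ofFinite Q
  have hQC : Q ≤ C := fun q hq => (hC q).2 fun s => Q.mul_mem (Q.inv_mem hq) (hQS s ⟨q, hq⟩)
  have hCS : ∀ (s : S) (c : C), s • (c : K) ∈ C := fun s c => (hC _).2 fun r => by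
    have h := hQS s ⟨_, (hC c).1 c.2 (s⁻¹ * r * s)⟩
    simpa [smul_mul', smul_inv', ← mul_smul, mul_assoc] using h
  have key : ∀ χ : {χ : IrrCharacter K // OpInv S (χ : K → ℂ)},
      ∃ ξ : {ξ : IrrCharacter C // ∀ (s : S) (c c' : C), (c' : K) = s • (c : K) → (ξ : C → ℂ) c' = (ξ : C → ℂ) c},
      (∀ ξ', ∃ m : ℕ, classInner (fun c : C => (χ.1 : K → ℂ) c) (ξ'.1 : C → ℂ) = (m : ℂ) ∧
        (ξ' = ξ → ((m : ZMod p) = 1 ∨ (m : ZMod p) = -1)) ∧ (ξ' ≠ ξ → p ∣ m)) ∧
      ((charDegree (ξ.1 : C → ℂ) : ZMod p) = (charDegree (χ.1 : K → ℂ) : ZMod p) ∨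
          (charDegree (ξ.1 : C → ℂ) : ZMod p) = -(charDegree (χ.1 : K → ℂ) : ZMod p)) := by
    intro χ
    obtain ⟨θ, hθ, hθS⟩ := exists_fixed_constituent hp hS Q hidx hQS χ.1 χ.2
    obtain ⟨ξ, hξ, -, m, hm, hsign, hdeg, hoth⟩ :=
      (glauberman_theta hM hS Q C hQ hidx hQS hC hQC hCS θ hθS).1 χ.1 χ.2 hθ
    refine ⟨⟨ξ, hξ⟩, fun ξ' => ?_, ?_⟩
    · obtain ⟨m', hm'⟩ := classInner_natCast_of_isCharacter
        (IsCharacter.restrict (IsIrrCharacter.isCharacter χ.1.2) C) (IsIrrCharacter.isCharacter ξ'.1.2)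
      refine ⟨m', hm', fun e => ?_, fun hne => hoth ξ'.1 ξ'.2 (fun e => hne (Subtype.ext e)) m' hm'⟩
      subst e
      obtain rfl : m' = m := Nat.cast_injective (R := ℂ) (hm'.symm.trans hm)
      exact hsign
    · rw [hdeg]
      rcases hsign with h | h <;> rw [h] <;> simp
  choose f hf using key
  have hnd : ∀ χ, ∃ m : ℕ, classInner (fun c : C => (χ.1 : K → ℂ) c) ((f χ).1 : C → ℂ) = (m : ℂ) ∧ ¬ p ∣ m := fun χ => by
    obtain ⟨m, hm, h1, -⟩ := (hf χ).1 (f χ)
    refine ⟨m, hm, fun hd => ?_⟩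
    rw [← ZMod.natCast_eq_zero_iff] at hd
    rcases h1 rfl with h | h <;> simp [hd] at h
  -- an invariant character of the fixed points has a unique partner
  have huniq : ∀ ξ : {ξ : IrrCharacter C // ∀ (s : S) (c c' : C), (c' : K) = s • (c : K) → (ξ : C → ℂ) c' = (ξ : C → ℂ) c},
      ∃! χ : {χ : IrrCharacter K // OpInv S (χ : K → ℂ)},
        ∃ m : ℕ, classInner (fun c : C => (χ.1 : K → ℂ) c) (ξ.1 : C → ℂ) = (m : ℂ) ∧ ¬ p ∣ m := by
    intro ξ
    haveI := Fintype.ofFinite (Q.subgroupOf C)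
    letI actC : MulDistribMulAction S C :=
      { smul := fun s t => ⟨s • (t : K), hCS s t⟩
        one_smul := fun t => Subtype.ext (one_smul S (t : K))
        mul_smul := fun s r t => Subtype.ext (mul_smul s r (t : K))
        smul_mul := fun s a b => Subtype.ext (smul_mul' s (a : K) (b : K))
        smul_one := fun s => Subtype.ext (smul_one s) }
    let eC : Q.subgroupOf C ≃* Q := Subgroup.subgroupOfEquivOfLe hQC
    obtain ⟨θ', hθ', hθ'S⟩ := exists_fixed_constituent (K := C) hp hS (Q.subgroupOf C)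
      (fun h => hidx (h.trans (Subgroup.relIndex_dvd_index_of_normal Q C))) (fun s q => hQS s ⟨_, q.2⟩) ξ.1
      (fun s c => ξ.2 s c _ rfl)
    let θ : IrrCharacter Q := ⟨fun q => (θ' : Q.subgroupOf C → ℂ) (eC.symm q), isIrrCharacter_comp_mulEquiv eC.symm θ'.2⟩
    have hθS : ∀ (s : S) (q q' : Q), (q' : K) = s • (q : K) → (θ : Q → ℂ) q' = (θ : Q → ℂ) q := fun s q q' h =>
      hθ'S s (eC.symm q) (eC.symm q') (Subtype.ext h)
    have hover : ∀ φ : C → ℂ, classInner (fun q : Q => φ ⟨q, hQC q.2⟩) (θ : Q → ℂ) =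
        classInner (fun q : Q.subgroupOf C => φ q) (θ' : Q.subgroupOf C → ℂ) := fun φ =>
      classInner_comp_mulEquiv eC.symm (fun q : Q.subgroupOf C => φ q) (θ' : Q.subgroupOf C → ℂ)
    obtain ⟨χ, hχ, hm, hu⟩ := (glauberman_theta hM hS Q C hQ hidx hQS hC hQC hCS θ hθS).2 ξ.1 ξ.2 (by rw [hover]; exact hθ')
    refine ⟨⟨χ, hχ⟩, hm, fun χ' h' => Subtype.ext (hu χ'.1 χ'.2 ?_ h')⟩
    -- the partner lies over the same character of Q
    obtain ⟨θ₁, hθ₁, hθ₁S⟩ := exists_fixed_constituent hp hS Q hidx hQS χ'.1 χ'.2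
    obtain ⟨ξ₁, hξ₁, hξ₁θ, -, -, -, -, hoth⟩ :=
      (glauberman_theta hM hS Q C hQ hidx hQS hC hQC hCS θ₁ hθ₁S).1 χ'.1 χ'.2 hθ₁
    obtain ⟨m, hm', hmd⟩ := h'
    obtain rfl : ξ₁ = ξ.1 := by
      by_contra hne
      exact hmd (hoth ξ.1 ξ.2 (fun e => hne e.symm) m hm')
    have h1 : classInner (fun q : Q.subgroupOf C => (ξ.1 : C → ℂ) q) (fun q => (θ₁ : Q → ℂ) (eC q)) ≠ 0 := by
      exact fun h0 => hξ₁θ ((classInner_comp_mulEquiv eC (fun q : Q => (ξ.1 : C → ℂ) ⟨q, hQC q.2⟩) (θ₁ : Q → ℂ)).symm.trans h0)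
    obtain ⟨c, hc⟩ := (mem_conjOrbit (Q.subgroupOf C)).1 (mem_conjOrbit_of_constituent (Q.subgroupOf C) ξ.1.2
      (isIrrCharacter_comp_mulEquiv eC θ₁.2) θ'.2 h1 hθ')
    have e : (θ : Q → ℂ) = Cfsg.Agent.Char.conjChar Q (c : K) (θ₁ : Q → ℂ) := funext fun q => by
      show (θ' : Q.subgroupOf C → ℂ) (eC.symm q) = _
      rw [← hc]
      rfl
    rw [e, classInner_restrict_conjChar Q (IsCharacter.isClassFunction (IsIrrCharacter.isCharacter χ'.1.2))]
    exact hθ₁
  refine ⟨f, ⟨fun χ χ' h => ?_, fun ξ => ?_⟩, hf⟩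
  · exact (huniq (f χ)).unique (hnd χ) (h ▸ hnd χ')
  · obtain ⟨χ, ⟨m, hm, hmd⟩, -⟩ := huniq ξ
    obtain ⟨m', hm', -, h2⟩ := (hf χ).1 ξ
    obtain rfl : m' = m := Nat.cast_injective (R := ℂ) (hm'.symm.trans hm)
    exact ⟨χ, by_contra fun hne => hmd (h2 fun e => hne e.symm)⟩

end Cfsg.Agent.Block
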