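import Cfsg.Agent.Lib.Block.Glauberman
import Cfsg.Agent.Lib.Block.SecondMain
import Cfsg.Agent.Lib.Char.DegreeIndex
import Cfsg.Agent.Lib.Char.Perm
import Mathlib.GroupTheory.Solvable
import Mathlib.GroupTheory.GroupAction.Quotient

/-!
Coprime operators from a solvable group: invariant characters and invariant constituents.
-/

namespace Cfsg.Agent.Block

open Cfsg Cfsg.Agent.Char
open scoped Classical ComplexConjugate

set_option linter.style.haveILetI false
set_option linter.unusedSectionVars false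

universe u w

theorem exists_normal_pgroup {S : Type w} [Group S] [Finite S] [Nontrivial S] (hsolv : Group.IsSolvable S) :
    ∃ (q : ℕ) (Q : Subgroup S), q.Prime ∧ Q.Normal ∧ IsPGroup q Q ∧ Q ≠ ⊥ := by
  obtain ⟨n, hn⟩ := hsolv.solvable
  induction n with
  | zero => exact absurd hn top_ne_bot
  | succ n ih =>
    by_cases h : derivedSeries S n = ⊥
    · exact ih h
    have hc : ∀ a ∈ derivedSeries S n, ∀ b ∈ derivedSeries S n, a * b = b * a := fun a ha b hb => by
      have hm := Subgroup.commutator_mem_commutator ha hb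
      rw [derivedSeries_succ] at hn
      rw [hn, Subgroup.mem_bot, commutatorElement_eq_one_iff_mul_comm] at hm
      exact hm
    obtain ⟨q, hq, hqd⟩ := Nat.exists_prime_and_dvd fun h1 => h (Subgroup.card_eq_one.1 h1)
    haveI := Fact.mk hq
    obtain ⟨a, ha⟩ := exists_prime_orderOf_dvd_card' q hqd
    let Q : Subgroup S :=
      { carrier := {x | x ∈ derivedSeries S n ∧ x ^ q = 1}
        one_mem' := ⟨one_mem _, one_pow q⟩
        mul_mem' := fun {x y} hx hy => ⟨mul_mem hx.1 hy.1, by
          rw [(show Commute x y from hc x hx.1 y hy.1).mul_pow, hx.2, hy.2, one_mul]⟩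
        inv_mem' := fun {x} hx => ⟨inv_mem hx.1, by rw [inv_pow, hx.2, inv_one]⟩ }
    have hmem : ∀ x : S, x ∈ Q ↔ x ∈ derivedSeries S n ∧ x ^ q = 1 := fun x => Iff.rfl
    refine ⟨q, Q, hq, ⟨fun x hx g => (hmem _).2 ?_⟩, fun x => ⟨1, Subtype.ext ?_⟩, fun hbot => ?_⟩
    · refine ⟨(derivedSeries_normal S n).conj_mem x ((hmem x).1 hx).1 g, ?_⟩
      rw [conj_pow, ((hmem x).1 hx).2, mul_one, mul_inv_cancel]
    · simpa using ((hmem x).1 x.2).2
    · have hq1 : (a : S) ^ q = 1 := by
        rw [← ha, ← Subgroup.orderOf_coe]; exact pow_orderOf_eq_one _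
      have : (a : S) ∈ (⊥ : Subgroup S) := hbot ▸ (hmem _).2 ⟨a.2, hq1⟩
      rw [Subgroup.mem_bot] at this
      rw [← Subgroup.orderOf_coe, this, orderOf_one] at ha
      exact hq.one_lt.ne ha

variable {S : Type w} [Group S] [Finite S] {G : Type u} [Group G] [Finite G] [MulDistribMulAction S G]

/-- The fixed points of a subgroup of operators. -/
def fixedSub (Q : Subgroup S) : Subgroup G where
  carrier := {g | ∀ s : Q, (s : S) • g = g}
  one_mem' := fun s => smul_one _
  mul_mem' := fun {a b} ha hb s => by rw [smul_mul', ha s, hb s]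
  inv_mem' := fun {a} ha s => by rw [smul_inv', ha s]

theorem mem_fixedSub {Q : Subgroup S} {g : G} : g ∈ fixedSub Q ↔ ∀ s : Q, (s : S) • g = g := Iff.rfl

theorem smul_mem_fixedSub (Q : Subgroup S) [Q.Normal] (s : S) {g : G} (hg : g ∈ (fixedSub Q : Subgroup G)) :
    s • g ∈ (fixedSub Q : Subgroup G) := fun t => by
  have h := hg ⟨s⁻¹ * (t : S) * s, by simpa using (inferInstance : Q.Normal).conj_mem t t.2 s⁻¹⟩
  calc (t : S) • s • g = s • (s⁻¹ * (t : S) * s) • g := by rw [smul_smul, smul_smul]; congr 1; group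
    _ = s • g := by rw [show (s⁻¹ * (t : S) * s) • g = g from h]

/-- The induced operators on the fixed points. -/
def fixedHomAut (Q : Subgroup S) [Q.Normal] : S →* MulAut (fixedSub (G := G) Q) where
  toFun s :=
    { toFun := fun c => ⟨s • (c : G), smul_mem_fixedSub Q s c.2⟩
      invFun := fun c => ⟨s⁻¹ • (c : G), smul_mem_fixedSub Q s⁻¹ c.2⟩
      left_inv := fun c => Subtype.ext (inv_smul_smul s (c : G))
      right_inv := fun c => Subtype.ext (smul_inv_smul s (c : G))
      map_mul' := fun a b => Subtype.ext (smul_mul' s (a : G) (b : G)) }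
  map_one' := MulEquiv.ext fun c => Subtype.ext (one_smul S (c : G))
  map_mul' s t := MulEquiv.ext fun c => Subtype.ext (mul_smul s t (c : G))

/-- The quotient operators on the fixed points. -/
@[reducible] def fixedAction (Q : Subgroup S) [Q.Normal] : MulDistribMulAction (S ⧸ Q) (fixedSub (G := G) Q) :=
  MulDistribMulAction.compHom _ (QuotientGroup.lift Q (fixedHomAut (G := G) Q) fun q hq =>
    MonoidHom.mem_ker.2 (MulEquiv.ext fun c => Subtype.ext (c.2 ⟨q, hq⟩)))

theorem fixedAction_coe (Q : Subgroup S) [Q.Normal] (s : S) (c : fixedSub (G := G) Q) :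
    letI := fixedAction (G := G) Q
    (((s : S ⧸ Q) • c : fixedSub (G := G) Q) : G) = s • (c : G) := rfl

theorem fixedHom_fixedSub (Q : Subgroup S) :
    FixedHom Q (fixedSub (G := G) Q).subtype :=
  ⟨Subgroup.subtype_injective _, fun g => ⟨fun ⟨c, hc⟩ s => hc ▸ c.2 s, fun h => ⟨⟨g, h⟩, rfl⟩⟩⟩

theorem coprime_fixed (hcop : (Nat.card G).Coprime (Nat.card S)) (Q : Subgroup S) :
    (Nat.card G).Coprime (Nat.card Q) ∧ ∀ [Q.Normal],
      (Nat.card (fixedSub (G := G) Q)).Coprime (Nat.card (S ⧸ Q)) :=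
  ⟨hcop.coprime_dvd_right (Subgroup.card_subgroup_dvd_card Q), fun {_} =>
    (hcop.coprime_dvd_right (Subgroup.card_quotient_dvd_card Q)).coprime_dvd_left
      (Subgroup.card_subgroup_dvd_card _)⟩

theorem card_quotient_lt {Q : Subgroup S} (hQ : Q ≠ ⊥) : Nat.card (S ⧸ Q) < Nat.card S := by
  rw [← Subgroup.index_eq_card, ← Q.index_mul_card]
  exact lt_mul_of_one_lt_right (Nat.pos_of_ne_zero Subgroup.index_ne_zero_of_finite)
    (Q.one_lt_card_iff_ne_bot.2 hQ)

/-- Partners are compatible with the operators. -/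
theorem opInv_of_partner {p : ℕ} (hp : p.Prime) (Q : Subgroup S) [Q.Normal] (hQ : IsPGroup p Q)
    (hcop : (Nat.card G).Coprime (Nat.card S)) [Fintype (fixedSub (G := G) Q)]
    {χ : IrrCharacter G} {β : IrrCharacter (fixedSub (G := G) Q)} {m : ℕ} (hχ : OpInv Q (χ : G → ℂ))
    (hm : classInner (fun c : fixedSub (G := G) Q => (χ : G → ℂ) c) (β : fixedSub (G := G) Q → ℂ) = (m : ℂ))
    (hmd : ¬ p ∣ m) :
    OpInv S (χ : G → ℂ) ↔ ∀ (s : S) (c c' : fixedSub (G := G) Q), (c' : G) = s • (c : G) →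
      (β : fixedSub (G := G) Q → ℂ) c' = (β : fixedSub (G := G) Q → ℂ) c := by
  obtain ⟨hfwd, hbwd⟩ := glauberman_pgroup hp hQ (coprime_fixed hcop Q).1 (fixedHom_fixedSub (G := G) Q)
  have hmove : ∀ s : S, classInner (fun c : fixedSub (G := G) Q => (χ : G → ℂ) (s • (c : G)))
      (fun c : fixedSub (G := G) Q => (β : fixedSub (G := G) Q → ℂ) (fixedHomAut Q s c)) = (m : ℂ) := by
    intro s
    rw [← hm, classInner, classInner]
    congr 1
    exact Fintype.sum_equiv (fixedHomAut (G := G) Q s).toEquiv _ _ fun c => rfl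
  constructor
  · intro hinv s c c' hcc
    let β' : IrrCharacter (fixedSub (G := G) Q) :=
      ⟨fun c => (β : fixedSub (G := G) Q → ℂ) (fixedHomAut Q s c), isIrrCharacter_comp_mulEquiv (fixedHomAut Q s) β.2⟩
    obtain ⟨β₀, m₀, -, -, -, -, hoth⟩ := hfwd χ hχ
    have hb : β = β₀ := by
      by_contra hne
      exact hmd (hoth β hne m hm)
    have hb' : β' = β₀ := by
      by_contra hne
      refine hmd (hoth β' hne m ?_)
      rw [← hmove s]
      exact congrArg₂ classInner (funext fun c => (hinv s (c : G)).symm) rfl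
    have e := congrFun (congrArg Subtype.val (hb'.trans hb.symm)) c
    rw [show c' = fixedHomAut Q s c from Subtype.ext hcc]
    exact e
  · intro hinv s g
    let χ' : IrrCharacter G :=
      ⟨fun g => (χ : G → ℂ) (s • g), isIrrCharacter_comp_mulEquiv (MulDistribMulAction.toMulEquiv G s) χ.2⟩
    have hχ' : OpInv Q (χ' : G → ℂ) := fun t g => by
      show (χ : G → ℂ) (s • (t : S) • g) = (χ : G → ℂ) (s • g)
      have h := hχ ⟨s * (t : S) * s⁻¹, (inferInstance : Q.Normal).conj_mem t t.2 s⟩ (s • g)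
      have e : s • (t : S) • g = (s * (t : S) * s⁻¹) • s • g := by rw [smul_smul, smul_smul]; congr 1; group
      rw [e]; exact h
    have hbb : (fun c : fixedSub (G := G) Q => (β : fixedSub (G := G) Q → ℂ) (fixedHomAut Q s c)) =
        (β : fixedSub (G := G) Q → ℂ) := funext fun c => hinv s c _ rfl
    have hm' := hmove s
    rw [hbb] at hm'
    exact congrFun (congrArg Subtype.val ((hbwd β).unique ⟨hχ', m, hm', hmd⟩ ⟨hχ, m, hm, hmd⟩)) g

/-- A projection killed in the trace kills all translates. -/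
theorem sum_conj_translate_eq_zero [Fintype G] {N : Subgroup G} [Fintype N] (χ : IrrCharacter G) (θ : IrrCharacter N)
    (h : classInner (fun n : N => (χ : G → ℂ) n) (θ : N → ℂ) = 0) (t : G) :
    ∑ n : N, conj ((θ : N → ℂ) n) * (χ : G → ℂ) ((n : G) * t) = 0 := by
  obtain ⟨k, ρ, -, hρ⟩ := χ.2
  set T := Representation.asAlgebraHom (ρ.comp N.subtype : Representation ℂ N (Fin k → ℂ)) (blockIdem {θ}) with hT
  have hTsum : T = ∑ n : N, (blockIdem ({θ} : Set (IrrCharacter N))).coeff n • ρ (n : G) := by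
    rw [hT, Representation.asAlgebraHom_def, MonoidAlgebra.lift_apply, Finsupp.sum_fintype _ _ (by simp)]
    rfl
  have hco : ∀ n : N, (blockIdem ({θ} : Set (IrrCharacter N))).coeff n =
      (Nat.card N : ℂ)⁻¹ * (θ : N → ℂ) 1 * conj ((θ : N → ℂ) n) := fun n => by
    simp only [blockIdem, coeff_mkA, blockCoeff, finsum_mem_singleton]; ring
  have htr : ∀ u : G, LinearMap.trace ℂ _ (T * ρ u) =
      (Nat.card N : ℂ)⁻¹ * (θ : N → ℂ) 1 * ∑ n : N, conj ((θ : N → ℂ) n) * (χ : G → ℂ) ((n : G) * u) := by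
    intro u
    rw [hTsum, Finset.sum_mul, map_sum, Finset.mul_sum]
    refine Finset.sum_congr rfl fun n _ => ?_
    rw [smul_mul_assoc, map_smul, ← map_mul, hco, ← hρ, smul_eq_mul]
    simp only [Representation.character]
    ring
  have h0 : LinearMap.trace ℂ _ T = 0 := by
    have := htr 1
    rw [map_one, mul_one] at this
    rw [this]
    have hs : ∑ n : N, conj ((θ : N → ℂ) n) * (χ : G → ℂ) ((n : G) * 1) = 0 := by
      rw [classInner, mul_eq_zero, or_iff_right (inv_ne_zero (Nat.cast_ne_zero.2 Nat.card_pos.ne'))] at h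
      rw [← h]
      exact Finset.sum_congr rfl fun n _ => by rw [mul_one, mul_comm]
    rw [hs, mul_zero]
  have hidem : IsIdempotentElem T := by
    show T * T = T
    rw [hT, ← map_mul, blockIdem_mul_self]
  have hT0 : T = 0 := by
    have hproj := LinearMap.IsIdempotentElem.isProj_range T hidem
    rw [LinearMap.IsProj.trace hproj, Nat.cast_eq_zero, Submodule.finrank_eq_zero] at h0
    exact LinearMap.range_eq_bot.1 h0
  have := htr t
  rw [hT0, zero_mul, map_zero, eq_comm, mul_eq_zero, or_iff_right (mul_ne_zero (inv_ne_zero (Nat.cast_ne_zero.2 Nat.card_pos.ne'))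
    (IsIrrCharacter.apply_one_ne_zero θ.2))] at this
  exact this

theorem exists_constituent_ind [Fintype G] {N : Subgroup G} [Fintype N] (θ : IrrCharacter N) :
    ∃ χ : IrrCharacter G, classInner (fun n : N => (χ : G → ℂ) n) (θ : N → ℂ) ≠ 0 := by
  have hc := isCharacter_indFun (IsIrrCharacter.isCharacter θ.2) (H := N)
  have hne : classInner (indFun N (θ : N → ℂ)) (indFun N (θ : N → ℂ)) ≠ 0 := fun h0 => by
    have h := congrFun (classInner_self_eq_zero h0) 1
    rw [indFun_one_apply, Pi.zero_apply, mul_eq_zero] at h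
    rcases h with h | h
    · exact Nat.cast_ne_zero.2 Subgroup.index_ne_zero_of_finite h
    · exact IsIrrCharacter.apply_one_ne_zero θ.2 h
  obtain ⟨χ, hχ, h1, -⟩ := exists_constituent hc hne
  refine ⟨⟨χ, hχ⟩, fun h => h1 ?_⟩
  rw [classInner_indFun N (θ : N → ℂ) (IsCharacter.isClassFunction (IsIrrCharacter.isCharacter hχ)),
    ← classInner_conj_symm, h, map_zero]

/-- The inner product with a character having one unit multiplicity. -/
theorem classInner_congr_partner {D : Type u} [Group D] [Fintype D] {p : ℕ} {f : D → ℂ} (hf : IsCharacter D f)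
    {g : D → ℂ} (hg : IsCharacter D g) {η : IrrCharacter D} {e m : ℕ} (he : classInner f (η : D → ℂ) = (e : ℂ))
    (hm : classInner g (η : D → ℂ) = (m : ℂ))
    (hoth : ∀ η' : IrrCharacter D, η' ≠ η → ∀ m' : ℕ, classInner g (η' : D → ℂ) = (m' : ℂ) → p ∣ m') :
    ∃ N : ℕ, classInner f g = (N : ℂ) ∧ (N : ZMod p) = (e : ZMod p) * (m : ZMod p) := by
  haveI := Fintype.ofFinite (IrrCharacter D)
  choose a ha using fun η : IrrCharacter D => classInner_natCast_of_isCharacter hf (IsIrrCharacter.isCharacter η.2)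
  choose b hb using fun η : IrrCharacter D => classInner_natCast_of_isCharacter hg (IsIrrCharacter.isCharacter η.2)
  refine ⟨∑ η, a η * b η, ?_, ?_⟩
  · conv_lhs => rw [IsClassFunction.eq_sum (IsCharacter.isClassFunction hg)]
    rw [classInner_sum_right, Nat.cast_sum]
    refine Finset.sum_congr rfl fun η _ => ?_
    rw [classInner_smul_right, ha, hb, Complex.conj_natCast]
    push_cast; ring
  · rw [Nat.cast_sum, Finset.sum_eq_single η]
    · rw [Nat.cast_mul, show a η = e from Nat.cast_injective (R := ℂ) ((ha η).symm.trans he),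
        show b η = m from Nat.cast_injective (R := ℂ) ((hb η).symm.trans hm)]
    · intro η' _ hne
      rw [Nat.cast_mul, (ZMod.natCast_eq_zero_iff _ _).2 (hoth η' hne _ (hb η')), mul_zero]
    · simp

/-- The key step: the partner of a character over the partner of θ lies over θ. -/
theorem classInner_partner_ne_zero [Fintype G] {p : ℕ} (hp : p.Prime) (Q : Subgroup S) (hQ : IsPGroup p Q)
    (hQ1 : p ∣ Nat.card Q) (hcop : (Nat.card G).Coprime (Nat.card S))
    [Fintype (fixedSub (G := G) Q)] {N : Subgroup G} [Fintype N] [N.Normal]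
    (hN : ∀ (s : Q) (n : N), (s : S) • (n : G) ∈ N) [Fintype (N.subgroupOf (fixedSub (G := G) Q))]
    {θ : IrrCharacter N} (hθ : ∀ (s : Q) (n n' : N), (n' : G) = (s : S) • (n : G) → (θ : N → ℂ) n' = (θ : N → ℂ) n)
    {χ : IrrCharacter G} (hχ : OpInv Q (χ : G → ℂ)) {β : IrrCharacter (fixedSub (G := G) Q)} {m : ℕ}
    (hm : classInner (fun c : fixedSub (G := G) Q => (χ : G → ℂ) c) (β : fixedSub (G := G) Q → ℂ) = (m : ℂ))
    (hmd : ¬ p ∣ m) {η : IrrCharacter (N.subgroupOf (fixedSub (G := G) Q))} {m₀ : ℕ}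
    (hm₀ : classInner (fun d : N.subgroupOf (fixedSub (G := G) Q) => (θ : N → ℂ) ⟨((d : fixedSub (G := G) Q) : G), d.2⟩)
      (η : _ → ℂ) = (m₀ : ℂ)) (hm₀d : ¬ p ∣ m₀)
    (hoth₀ : ∀ η' : IrrCharacter (N.subgroupOf (fixedSub (G := G) Q)), η' ≠ η → ∀ m' : ℕ,
      classInner (fun d : N.subgroupOf (fixedSub (G := G) Q) => (θ : N → ℂ) ⟨((d : fixedSub (G := G) Q) : G), d.2⟩)
        (η' : _ → ℂ) = (m' : ℂ) → p ∣ m')
    (hβη : classInner (fun d : N.subgroupOf (fixedSub (G := G) Q) => (β : fixedSub (G := G) Q → ℂ) d) (η : _ → ℂ) ≠ 0) :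
    classInner (fun n : N => (χ : G → ℂ) n) (θ : N → ℂ) ≠ 0 := by
  haveI := Fact.mk hp
  intro h0
  obtain ⟨M, hM⟩ := exists_isPModular hp
  haveI := prime_of_isPModular hM
  have hpG : ¬ p ∣ Nat.card G := fun hd =>
    hp.one_lt.ne' (Nat.eq_one_of_dvd_coprimes (coprime_fixed hcop Q).1 hd hQ1)
  letI : MulAction Q N :=
    { smul := fun s n => ⟨(s : S) • (n : G), hN s n⟩
      one_smul := fun n => Subtype.ext (one_smul S (n : G))
      mul_smul := fun s t n => Subtype.ext (mul_smul (s : S) (t : S) (n : G)) }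
  -- the vanishing sums over N reduce to (N.subgroupOf (fixedSub (G := G) Q))
  have hD : ∀ c : (fixedSub (G := G) Q), MemLocalIdeal M (∑ d : (N.subgroupOf (fixedSub (G := G) Q)), conj ((θ : N → ℂ) ⟨((d : (fixedSub (G := G) Q)) : G), d.2⟩) *
      (χ : G → ℂ) ((d : (fixedSub (G := G) Q)) * c : (fixedSub (G := G) Q))) := by
    intro c
    let f : N → ℂ := fun n => conj ((θ : N → ℂ) n) * (χ : G → ℂ) ((n : G) * (c : G))
    have hf : ∀ (s : Q) (n : N), f (s • n) = f n := fun s n => by
      show conj ((θ : N → ℂ) (s • n)) * (χ : G → ℂ) (((s : S) • (n : G)) * (c : G)) = _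
      rw [hθ s n (s • n) rfl]
      congr 1
      have hc : (s : S) • (c : G) = c := c.2 s
      have e := hχ s ((n : G) * (c : G))
      change (χ : G → ℂ) ((s : S) • ((n : G) * (c : G))) = _ at e
      rwa [smul_mul', hc] at e
    have hl : ∀ n : N, f n ∈ locRing M := fun n => mul_mem (by
      rw [← IsCharacter.map_inv (IsIrrCharacter.isCharacter θ.2)]; exact irr_mem_locRing θ _) (irr_mem_locRing χ _)
    have h := sum_congr_fixed hM hQ f hf hl
    rw [show ∑ n, f n = 0 from sum_conj_translate_eq_zero χ θ h0 (c : G), zero_sub] at h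
    have h' := memLocalIdeal_neg h
    rw [neg_neg, ← Finset.sum_filter] at h'
    convert h' using 1
    refine Finset.sum_bij (fun d _ => (⟨((d : (fixedSub (G := G) Q)) : G), d.2⟩ : N))
      (fun d _ => Finset.mem_filter.2 ⟨Finset.mem_univ _, fun s => Subtype.ext ((d : (fixedSub (G := G) Q)).2 s)⟩)
      (fun a _ b _ e => Subtype.ext (Subtype.ext (congrArg (fun n : N => (n : G)) e)))
      (fun n hn => ⟨⟨⟨(n : G), fun s => congrArg Subtype.val ((Finset.mem_filter.1 hn).2 s)⟩, n.2⟩, Finset.mem_univ _, rfl⟩)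
      (fun d _ => rfl)
  -- average against β
  choose n hn using fun β' : IrrCharacter (fixedSub (G := G) Q) => exists_mult (fixedSub (G := G) Q).subtype χ β'
  haveI := Fintype.ofFinite (IrrCharacter (fixedSub (G := G) Q))
  have hcl : IsClassFunction (fixedSub (G := G) Q) (fun c : (fixedSub (G := G) Q) => (χ : G → ℂ) c) :=
    IsCharacter.isClassFunction (IsCharacter.restrict (IsIrrCharacter.isCharacter χ.2) (fixedSub (G := G) Q))
  have hexp : ∀ c : (fixedSub (G := G) Q), (χ : G → ℂ) c = ∑ β' : IrrCharacter (fixedSub (G := G) Q), (n β' : ℂ) * (β' : (fixedSub (G := G) Q) → ℂ) c := fun c => by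
    have h := congrFun (IsClassFunction.eq_sum hcl) c
    simp only [Finset.sum_apply, Pi.smul_apply, smul_eq_mul] at h
    rw [h]
    exact Finset.sum_congr rfl fun β' _ => by rw [← hn β']; rfl
  have htot : MemLocalIdeal M (∑ c : (fixedSub (G := G) Q), conj ((β : (fixedSub (G := G) Q) → ℂ) c) *
      ∑ d : (N.subgroupOf (fixedSub (G := G) Q)), conj ((θ : N → ℂ) ⟨((d : (fixedSub (G := G) Q)) : G), d.2⟩) * (χ : G → ℂ) ((d : (fixedSub (G := G) Q)) * c : (fixedSub (G := G) Q))) :=
    memLocalIdeal_sum _ _ fun c _ => memLocalIdeal_mul_left (by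
      rw [← IsCharacter.map_inv (IsIrrCharacter.isCharacter β.2)]; exact irr_mem_locRing β _) (hD c)
  obtain ⟨e, he⟩ := classInner_natCast_of_isCharacter
    (IsCharacter.restrict (IsIrrCharacter.isCharacter β.2) (N.subgroupOf (fixedSub (G := G) Q))) (IsIrrCharacter.isCharacter η.2)
  obtain ⟨K, hK, hKp⟩ := classInner_congr_partner (f := fun d : (N.subgroupOf (fixedSub (G := G) Q)) => (β : (fixedSub (G := G) Q) → ℂ) d)
    (g := fun d : (N.subgroupOf (fixedSub (G := G) Q)) => (θ : N → ℂ) ⟨((d : (fixedSub (G := G) Q)) : G), d.2⟩)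
    (IsCharacter.restrict (IsIrrCharacter.isCharacter β.2) (N.subgroupOf (fixedSub (G := G) Q)))
    (isCharacter_comp (IsIrrCharacter.isCharacter θ.2)
      (MonoidHom.mk' (fun d : (N.subgroupOf (fixedSub (G := G) Q)) => (⟨((d : (fixedSub (G := G) Q)) : G), d.2⟩ : N)) fun a b => rfl))
    he hm₀ hoth₀
  -- translates of a character paired with a conjugate
  have hconv : ∀ (β' : IrrCharacter (fixedSub (G := G) Q)) (d : (fixedSub (G := G) Q)), ∑ c : (fixedSub (G := G) Q), (β' : (fixedSub (G := G) Q) → ℂ) (d * c) * conj ((β : (fixedSub (G := G) Q) → ℂ) c) =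
      if β' = β then (Nat.card (fixedSub (G := G) Q) : ℂ) * (β : (fixedSub (G := G) Q) → ℂ) d / (β : (fixedSub (G := G) Q) → ℂ) 1 else 0 := by
    intro β' d
    have hbl := mul_singleton (χ := β) (a := blockIdem ({β'} : Set (IrrCharacter (fixedSub (G := G) Q)))) (isCentralElt_blockIdem _)
    have h := sum_mul_central_apply β' 1 (isCentralElt_blockIdem ({β} : Set (IrrCharacter (fixedSub (G := G) Q)))) d
    rw [one_mul, omega_blockIdem] at h
    have h1 : ∑ g : (fixedSub (G := G) Q), (1 : MonoidAlgebra ℂ (fixedSub (G := G) Q)).coeff g * (β' : (fixedSub (G := G) Q) → ℂ) (g * d) = (β' : (fixedSub (G := G) Q) → ℂ) d := by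
      rw [Finset.sum_eq_single (1 : (fixedSub (G := G) Q))]
      · simp [MonoidAlgebra.one_def]
      · intro g _ hg; simp [MonoidAlgebra.one_def, Finsupp.single_apply, Ne.symm hg]
      · simp
    rw [h1] at h
    have hco : ∀ g : (fixedSub (G := G) Q), (blockIdem ({β} : Set (IrrCharacter (fixedSub (G := G) Q)))).coeff g =
        (Nat.card (fixedSub (G := G) Q) : ℂ)⁻¹ * (β : (fixedSub (G := G) Q) → ℂ) 1 * conj ((β : (fixedSub (G := G) Q) → ℂ) g) := fun g => by
      simp only [blockIdem, coeff_mkA, blockCoeff, finsum_mem_singleton]; ring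
    simp only [hco, mul_assoc, ← Finset.mul_sum] at h
    have hsw : ∑ c : (fixedSub (G := G) Q), conj ((β : (fixedSub (G := G) Q) → ℂ) c) * (β' : (fixedSub (G := G) Q) → ℂ) (c * d) =
        ∑ c : (fixedSub (G := G) Q), (β' : (fixedSub (G := G) Q) → ℂ) (d * c) * conj ((β : (fixedSub (G := G) Q) → ℂ) c) := Finset.sum_congr rfl fun c _ => by
      rw [mul_comm]
      congr 1
      have := IsCharacter.isClassFunction (IsIrrCharacter.isCharacter β'.2) (c * d) d
      rw [← this]; congr 1; group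
    rw [hsw] at h
    have hC0 : (Nat.card (fixedSub (G := G) Q) : ℂ) ≠ 0 := Nat.cast_ne_zero.2 Nat.card_pos.ne'
    have hb0 := IsIrrCharacter.apply_one_ne_zero β.2
    by_cases hbb : β' = β
    · subst hbb
      rw [if_pos (Set.mem_singleton _), one_mul] at h
      rw [if_pos rfl, eq_div_iff hb0]
      field_simp at h
      linear_combination h
    · rw [if_neg (show β' ∉ ({β} : Set (IrrCharacter (fixedSub (G := G) Q))) from hbb), zero_mul] at h
      rw [if_neg hbb]
      field_simp at h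
      rw [mul_zero, mul_eq_zero] at h
      exact h.resolve_left hb0
  have hval : ∑ c : (fixedSub (G := G) Q), conj ((β : (fixedSub (G := G) Q) → ℂ) c) *
      ∑ d : (N.subgroupOf (fixedSub (G := G) Q)), conj ((θ : N → ℂ) ⟨((d : (fixedSub (G := G) Q)) : G), d.2⟩) * (χ : G → ℂ) ((d : (fixedSub (G := G) Q)) * c : (fixedSub (G := G) Q)) =
      ((m * Nat.card (fixedSub (G := G) Q) * Nat.card (N.subgroupOf (fixedSub (G := G) Q)) : ℕ) : ℂ) * (charDegree (β : (fixedSub (G := G) Q) → ℂ) : ℂ)⁻¹ * (K : ℂ) := by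
    rw [← hK, classInner]
    simp only [Finset.mul_sum]
    rw [Finset.sum_comm]
    refine Finset.sum_congr rfl fun d _ => ?_
    simp only [hexp, Finset.mul_sum]
    rw [Finset.sum_comm, Finset.sum_eq_single β]
    · have h := hconv β (d : (fixedSub (G := G) Q))
      rw [if_pos rfl] at h
      have hnb : n β = m := Nat.cast_injective (R := ℂ) ((hn β).symm.trans hm)
      rw [Finset.sum_congr rfl (g := fun c : (fixedSub (G := G) Q) => (conj ((θ : N → ℂ) ⟨((d : (fixedSub (G := G) Q)) : G), d.2⟩) * (m : ℂ)) *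
        ((β : (fixedSub (G := G) Q) → ℂ) ((d : (fixedSub (G := G) Q)) * c) * conj ((β : (fixedSub (G := G) Q) → ℂ) c))) fun c _ => by rw [hnb]; ring, ← Finset.mul_sum, h,
        ← charDegree_cast (IsIrrCharacter.isCharacter β.2)]
      have hD0 : (Nat.card (N.subgroupOf (fixedSub (G := G) Q)) : ℂ) ≠ 0 := Nat.cast_ne_zero.2 Nat.card_pos.ne'
      push_cast
      field_simp
    · intro β' _ hne
      have h := hconv β' (d : (fixedSub (G := G) Q))
      rw [if_neg hne] at h
      rw [Finset.sum_congr rfl (g := fun c : (fixedSub (G := G) Q) => (conj ((θ : N → ℂ) ⟨((d : (fixedSub (G := G) Q)) : G), d.2⟩) * (n β' : ℂ)) *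
        ((β' : (fixedSub (G := G) Q) → ℂ) ((d : (fixedSub (G := G) Q)) * c) * conj ((β : (fixedSub (G := G) Q) → ℂ) c))) fun c _ => by ring, ← Finset.mul_sum, h, mul_zero]
    · simp
  rw [hval] at htot
  have hCG : Nat.card (fixedSub (G := G) Q) ∣ Nat.card G := Subgroup.card_subgroup_dvd_card (fixedSub (G := G) Q)
  have hDC : Nat.card (N.subgroupOf (fixedSub (G := G) Q)) ∣ Nat.card (fixedSub (G := G) Q) := Subgroup.card_subgroup_dvd_card (N.subgroupOf (fixedSub (G := G) Q))
  have hbC := charDegree_dvd_card β.2 (G := (fixedSub (G := G) Q))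
  have hnum : ¬ p ∣ m * Nat.card (fixedSub (G := G) Q) * Nat.card (N.subgroupOf (fixedSub (G := G) Q)) := fun hd => by
    rcases hp.dvd_mul.1 hd with h | h
    · rcases hp.dvd_mul.1 h with h | h
      exacts [hmd h, hpG (h.trans hCG)]
    · exact hpG (h.trans (hDC.trans hCG))
  have hden : ¬ p ∣ charDegree (β : (fixedSub (G := G) Q) → ℂ) := fun hd => hpG (hd.trans (hbC.trans hCG))
  rw [memLocalIdeal_unit_mul_iff (mul_mem (natCast_mem _ _) (inv_natCast_mem_locRing hM.1 hM.2.2 hden))
    (by rw [mul_inv, inv_inv]; exact mul_mem (inv_natCast_mem_locRing hM.1 hM.2.2 hnum) (natCast_mem _ _))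
    (mul_ne_zero (Nat.cast_ne_zero.2 fun h => hnum (by rw [h]; exact dvd_zero p))
      (inv_ne_zero (Nat.cast_ne_zero.2 (charDegree_pos β.2).ne'))),
    memLocalIdeal_natCast_iff hM.1 hM.2.2, ← ZMod.natCast_eq_zero_iff, hKp, mul_eq_zero,
    ZMod.natCast_eq_zero_iff, ZMod.natCast_eq_zero_iff] at htot
  rcases htot with h | h
  · -- the ramification of β over η is prime to p
    have he0 : classInner (fun d : (N.subgroupOf (fixedSub (G := G) Q)) => (β : (fixedSub (G := G) Q) → ℂ) d) (η : (N.subgroupOf (fixedSub (G := G) Q)) → ℂ) ≠ 0 := hβη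
    haveI : (N.subgroupOf (fixedSub (G := G) Q)).Normal := (inferInstance : N.Normal).subgroupOf (fixedSub (G := G) Q)
    have heq := restrict_degree_eq (N.subgroupOf (fixedSub (G := G) Q)) β.2 η.2 he0
    rw [he, ← charDegree_cast (IsIrrCharacter.isCharacter β.2), ← charDegree_cast (IsIrrCharacter.isCharacter η.2),
      ← Nat.cast_mul, ← Nat.cast_mul, Nat.cast_inj] at heq
    exact hden (heq ▸ h.mul_right _)
  · exact hm₀d h

theorem constituent_aux : ∀ (k : ℕ) (S : Type w) [Group S] [Finite S] (G : Type u) [Group G] [Finite G]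
    [MulDistribMulAction S G] [Fintype G], Nat.card S = k → Group.IsSolvable S →
    (Nat.card G).Coprime (Nat.card S) → ∀ (N : Subgroup G) [N.Normal] [Fintype N],
    (∀ (s : S) (n : N), s • (n : G) ∈ N) → ∀ θ : IrrCharacter N,
    (∀ (s : S) (n n' : N), (n' : G) = s • (n : G) → (θ : N → ℂ) n' = (θ : N → ℂ) n) →
    ∃ χ : IrrCharacter G, classInner (fun n : N => (χ : G → ℂ) n) (θ : N → ℂ) ≠ 0 ∧ OpInv S (χ : G → ℂ) := by
  intro k
  induction k using Nat.strong_induction_on with
  | _ k ih =>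
    intro S _ _ G _ _ _ _ hk hsolv hcop N _ _ hN θ hθ
    rcases subsingleton_or_nontrivial S with hsub | hnt
    · obtain ⟨χ, hχ⟩ := exists_constituent_ind θ
      exact ⟨χ, hχ, fun s g => by rw [Subsingleton.elim s 1, one_smul]⟩
    obtain ⟨p, Q, hp, hQn, hQ, hQ1⟩ := exists_normal_pgroup hsolv
    haveI := Fact.mk hp
    have hpQ : p ∣ Nat.card Q := by
      obtain ⟨j, hj⟩ := IsPGroup.iff_card.1 hQ
      rcases j with _ | j
      · exact absurd (Subgroup.card_eq_one.1 (by simpa using hj)) hQ1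
      · exact hj ▸ dvd_pow_self p j.succ_ne_zero
    set C := fixedSub (G := G) Q
    haveI := Fintype.ofFinite C
    letI := fixedAction (G := G) Q
    haveI : Group.IsSolvable (S ⧸ Q) := by
      haveI := hsolv
      infer_instance
    haveI hDn : (N.subgroupOf C).Normal := (inferInstance : N.Normal).subgroupOf C
    haveI := Fintype.ofFinite (N.subgroupOf C)
    -- the partner of θ on D
    letI : MulDistribMulAction Q N :=
      { smul := fun s n => ⟨(s : S) • (n : G), hN s n⟩
        one_smul := fun n => Subtype.ext (one_smul S (n : G))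
        mul_smul := fun s t n => Subtype.ext (mul_smul (s : S) (t : S) (n : G))
        smul_mul := fun s a b => Subtype.ext (smul_mul' (s : S) (a : G) (b : G))
        smul_one := fun s => Subtype.ext (smul_one (s : S)) }
    let ι : N.subgroupOf C →* N := MonoidHom.mk' (fun d => ⟨((d : C) : G), d.2⟩) fun a b => rfl
    have hι : FixedHom Q ι := by
      refine ⟨fun a b h => Subtype.ext (Subtype.ext (congrArg (fun n : N => (n : G)) h)), fun n => ⟨?_, fun h => ?_⟩⟩
      · rintro ⟨d, rfl⟩ s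
        exact Subtype.ext ((d : C).2 s)
      · exact ⟨⟨⟨(n : G), fun s => congrArg Subtype.val (h s)⟩, n.2⟩, rfl⟩
    have hcopN : (Nat.card N).Coprime (Nat.card Q) :=
      (coprime_fixed hcop Q).1.coprime_dvd_left (Subgroup.card_subgroup_dvd_card N)
    obtain ⟨η, m₀, hm₀, hm₀d, -, -, hoth₀⟩ :=
      (glauberman_pgroup hp hQ hcopN hι).1 θ (fun s n => hθ (s : S) n (s • n) rfl)
    have hηinv : ∀ (s : S ⧸ Q) (d d' : N.subgroupOf C), (d' : C) = s • (d : C) →
        (η : N.subgroupOf C → ℂ) d' = (η : N.subgroupOf C → ℂ) d := by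
      intro s d d' hdd
      obtain ⟨s, rfl⟩ := QuotientGroup.mk_surjective s
      let E : N.subgroupOf C ≃* N.subgroupOf C :=
        { toFun := fun d => ⟨(s : S ⧸ Q) • (d : C), hN s ⟨((d : C) : G), d.2⟩⟩
          invFun := fun d => ⟨((s⁻¹ : S) : S ⧸ Q) • (d : C), hN s⁻¹ ⟨((d : C) : G), d.2⟩⟩
          left_inv := fun d => Subtype.ext (Subtype.ext (inv_smul_smul s ((d : C) : G)))
          right_inv := fun d => Subtype.ext (Subtype.ext (smul_inv_smul s ((d : C) : G)))
          map_mul' := fun a b => Subtype.ext (Subtype.ext (smul_mul' s ((a : C) : G) ((b : C) : G))) }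
      let η' : IrrCharacter (N.subgroupOf C) :=
        ⟨fun d => (η : N.subgroupOf C → ℂ) (E d), isIrrCharacter_comp_mulEquiv E η.2⟩
      have hη' : η' = η := by
        by_contra hne
        refine hm₀d (hoth₀ η' hne m₀ ?_)
        rw [← hm₀, classInner, classInner]
        congr 1
        refine Fintype.sum_equiv E.toEquiv _ _ fun d => ?_
        show (θ : N → ℂ) (ι d) * conj ((η : N.subgroupOf C → ℂ) (E d)) =
          (θ : N → ℂ) (ι (E d)) * conj ((η : N.subgroupOf C → ℂ) (E d))
        rw [hθ s (ι d) (ι (E d)) rfl]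
      have e := congrFun (congrArg Subtype.val hη') d
      rw [show d' = E d from Subtype.ext hdd]
      exact e
    obtain ⟨β, hβη, hβinv⟩ := ih _ (hk ▸ card_quotient_lt hQ1) (S ⧸ Q) C rfl inferInstance
      ((coprime_fixed hcop Q).2) (N.subgroupOf C)
      (fun s d => by
        obtain ⟨s, rfl⟩ := QuotientGroup.mk_surjective s
        exact hN s ⟨((d : C) : G), d.2⟩) η hηinv
    obtain ⟨χ, ⟨hχ, m, hm, hmd⟩, -⟩ :=
      (glauberman_pgroup hp hQ (coprime_fixed hcop Q).1 (fixedHom_fixedSub (G := G) Q)).2 β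
    refine ⟨χ, classInner_partner_ne_zero hp Q hQ hpQ hcop (fun s n => hN (s : S) n)
      (fun s n n' h => hθ (s : S) n n' h) hχ hm hmd hm₀ hm₀d hoth₀ hβη, ?_⟩
    refine (opInv_of_partner hp Q hQ hcop hχ hm hmd).2 fun s c c' hcc => ?_
    rw [show c' = (s : S ⧸ Q) • c from Subtype.ext hcc]
    exact hβinv (s : S ⧸ Q) c

/-- An invariant class of G meets the fixed points. -/
theorem exists_fixed_isConj {p : ℕ} (hp : p.Prime) (Q : Subgroup S) (hQ : IsPGroup p Q) (hpG : ¬ p ∣ Nat.card G)
    (g : G) (h : ∀ s : Q, IsConj g ((s : S) • g)) : ∃ c : fixedSub (G := G) Q, IsConj g (c : G) := by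
  haveI := Fact.mk hp
  letI : MulAction Q {x : G // IsConj g x} :=
    { smul := fun s x => ⟨(s : S) • (x : G), (h s).trans
        ((MulDistribMulAction.toMonoidHom G (s : S)).map_isConj x.2)⟩
      one_smul := fun x => Subtype.ext (one_smul S (x : G))
      mul_smul := fun s t x => Subtype.ext (mul_smul (s : S) (t : S) (x : G)) }
  have hnd : ¬ p ∣ Nat.card {x : G // IsConj g x} := by
    rw [card_isConj_eq_index]
    exact fun hd => hpG (hd.trans (Subgroup.index_dvd_card _))
  obtain ⟨x, hx⟩ := hQ.nonempty_fixed_point_of_prime_not_dvd_card {x : G // IsConj g x} hnd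
  exact ⟨⟨(x : G), fun s => congrArg Subtype.val (hx s)⟩, x.2⟩

theorem count_aux : ∀ (k : ℕ) (S : Type w) [Group S] [Finite S] (G : Type u) [Group G] [Finite G]
    [MulDistribMulAction S G], Nat.card S = k → Group.IsSolvable S →
    (Nat.card G).Coprime (Nat.card S) →
    Nat.card {χ : IrrCharacter G // OpInv S (χ : G → ℂ)} =
      Nat.card {K : ConjClasses G // ∀ (s : S) (g : G), ConjClasses.mk g = K → ConjClasses.mk (s • g) = K} := by
  intro k
  induction k using Nat.strong_induction_on with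
  | _ k ih =>
    intro S _ _ G _ _ _ hk hsolv hcop
    rcases subsingleton_or_nontrivial S with hsub | hnt
    · have hfix : ∀ (s : S) (g : G), s • g = g := fun s g => by rw [Subsingleton.elim s 1, one_smul]
      rw [Nat.card_congr (Equiv.subtypeUnivEquiv (p := fun χ : IrrCharacter G => OpInv S (χ : G → ℂ))
          fun χ s g => by rw [hfix]),
        Nat.card_congr (Equiv.subtypeUnivEquiv (p := fun K : ConjClasses G =>
          ∀ (s : S) (g : G), ConjClasses.mk g = K → ConjClasses.mk (s • g) = K)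
          fun K s g h => by rw [hfix]; exact h), card_irrCharacter]
    obtain ⟨p, Q, hp, hQn, hQ, hQ1⟩ := exists_normal_pgroup hsolv
    haveI := Fact.mk hp
    have hpQ : p ∣ Nat.card Q := by
      obtain ⟨j, hj⟩ := IsPGroup.iff_card.1 hQ
      rcases j with _ | j
      · exact absurd (Subgroup.card_eq_one.1 (by simpa using hj)) hQ1
      · exact hj ▸ dvd_pow_self p j.succ_ne_zero
    have hpG : ¬ p ∣ Nat.card G := fun hd =>
      hp.one_lt.ne' (Nat.eq_one_of_dvd_coprimes (coprime_fixed hcop Q).1 hd hpQ)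
    set C := fixedSub (G := G) Q
    haveI := Fintype.ofFinite C
    letI := fixedAction (G := G) Q
    haveI : Group.IsSolvable (S ⧸ Q) := by
      haveI := hsolv
      infer_instance
    have hι := fixedHom_fixedSub (G := G) Q
    obtain ⟨hfwd, hbwd⟩ := glauberman_pgroup hp hQ (coprime_fixed hcop Q).1 hι
    have hIH := ih _ (hk ▸ card_quotient_lt hQ1) (S ⧸ Q) C rfl inferInstance ((coprime_fixed hcop Q).2)
    -- characters
    have hQinv : ∀ χ : G → ℂ, OpInv S χ → OpInv Q χ := fun χ h s g => h (s : S) g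
    choose F mF hmF hmdF hu₁ hu₂ hothF using fun χ : {χ : IrrCharacter G // OpInv S (χ : G → ℂ)} => hfwd χ.1 (hQinv _ χ.2)
    let Φ : {χ : IrrCharacter G // OpInv S (χ : G → ℂ)} → {β : IrrCharacter C // OpInv (S ⧸ Q) (β : C → ℂ)} :=
      fun χ => ⟨F χ, fun s c => by
        obtain ⟨s, rfl⟩ := QuotientGroup.mk_surjective s
        exact (opInv_of_partner hp Q hQ hcop (hQinv _ χ.2) (hmF χ) (hmdF χ)).1 χ.2 s c _ rfl⟩
    have hΦ : Function.Bijective Φ := by
      constructor
      · intro χ χ' h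
        have hF : F χ = F χ' := congrArg Subtype.val h
        exact Subtype.ext ((hbwd (F χ)).unique ⟨hQinv _ χ.2, mF χ, hmF χ, hmdF χ⟩
          ⟨hQinv _ χ'.2, mF χ', hF ▸ hmF χ', hmdF χ'⟩)
      · intro β
        obtain ⟨χ, ⟨hχ, m, hm, hmd⟩, -⟩ := hbwd β.1
        have hinv : OpInv S (χ : G → ℂ) := (opInv_of_partner hp Q hQ hcop hχ hm hmd).2 fun s c c' hcc => by
          rw [show c' = (s : S ⧸ Q) • c from Subtype.ext hcc]
          exact β.2 (s : S ⧸ Q) c
        refine ⟨⟨χ, hinv⟩, Subtype.ext ?_⟩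
        by_contra hne
        exact hmd (hothF ⟨χ, hinv⟩ β.1 (Ne.symm hne) m hm)
    rw [Nat.card_eq_of_bijective Φ hΦ, hIH]
    -- classes
    let Ψ : {K : ConjClasses C // ∀ (s : S ⧸ Q) (c : C), ConjClasses.mk c = K → ConjClasses.mk (s • c) = K} →
        {K : ConjClasses G // ∀ (s : S) (g : G), ConjClasses.mk g = K → ConjClasses.mk (s • g) = K} := fun K =>
      ⟨ConjClasses.map C.subtype K.1, fun s g hg => by
        obtain ⟨K, hK⟩ := K
        obtain ⟨c, rfl⟩ := ConjClasses.exists_rep K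
        have hc := ConjClasses.mk_eq_mk_iff_isConj.1 (hK (s : S ⧸ Q) c rfl)
        refine ConjClasses.mk_eq_mk_iff_isConj.2 (IsConj.trans
          ((MulDistribMulAction.toMonoidHom G s).map_isConj (ConjClasses.mk_eq_mk_iff_isConj.1 hg)) ?_)
        exact C.subtype.map_isConj hc⟩
    have hΨ : Function.Bijective Ψ := by
      constructor
      · rintro ⟨K, hK⟩ ⟨K', hK'⟩ h
        obtain ⟨c, rfl⟩ := ConjClasses.exists_rep K
        obtain ⟨c', rfl⟩ := ConjClasses.exists_rep K'
        exact Subtype.ext (ConjClasses.mk_eq_mk_iff_isConj.2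
          (isConj_fixed hp hQ hι hpG (ConjClasses.mk_eq_mk_iff_isConj.1 (congrArg Subtype.val h))))
      · rintro ⟨K, hK⟩
        obtain ⟨g, rfl⟩ := ConjClasses.exists_rep K
        obtain ⟨c, hc⟩ := exists_fixed_isConj hp Q hQ hpG g fun s =>
          (ConjClasses.mk_eq_mk_iff_isConj.1 (hK (s : S) g rfl)).symm
        refine ⟨⟨ConjClasses.mk c, fun s d hd => ?_⟩, Subtype.ext (ConjClasses.mk_eq_mk_iff_isConj.2 hc.symm)⟩
        obtain ⟨s, rfl⟩ := QuotientGroup.mk_surjective s
        have h1 : IsConj ((d : C) : G) g := (C.subtype.map_isConj (ConjClasses.mk_eq_mk_iff_isConj.1 hd)).trans hc.symm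
        have h2 : IsConj (s • ((d : C) : G)) g :=
          ((MulDistribMulAction.toMonoidHom G s).map_isConj h1).trans (ConjClasses.mk_eq_mk_iff_isConj.1 (hK s g rfl))
        exact ConjClasses.mk_eq_mk_iff_isConj.2 (isConj_fixed hp hQ hι hpG (h2.trans hc))
    exact Nat.card_eq_of_bijective Ψ hΨ

end Cfsg.Agent.Block
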