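import Cfsg.Agent.Lib.Block.GlaubermanSolvable
import Cfsg.Agent.Lib.Block.CentralQuotientBlock
import Cfsg.Agent.Lib.Block.Regular
import Cfsg.Agent.Lib.Char.Gallagher
import Cfsg.Agent.Lib.Char.Extension2

/-!
# The correspondence of Glauberman over an invariant character of a normal Sylow subgroup

An invariant character of the normal subgroup extends canonically, and the correspondence for the
factor group is transported by multiplication with the extension.
-/

set_option autoImplicit false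
set_option linter.style.haveILetI false

namespace Cfsg.Agent.Block

open Cfsg Cfsg.Agent.Char
open scoped ComplexConjugate

universe u v w

/-- Characters over an invariant character with an extension, through a surjection. -/
theorem twist_bijection {A : Type u} {B : Type v} [Group A] [Finite A] [Group B] [Finite B]
    (π : A →* B) (hπ : Function.Surjective π) [Fintype π.ker] {θ : π.ker → ℂ}
    (hθ : IsIrrCharacter π.ker θ) {X : A → ℂ} (hX : IsIrrCharacter A X) (hXN : ∀ n : π.ker, X n = θ n) :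
    (∀ β : IrrCharacter B, IsIrrCharacter A (fun a => (β : B → ℂ) (π a) * X a) ∧
        classInner (fun n : π.ker => (β : B → ℂ) (π n) * X n) θ ≠ 0) ∧
      (∀ β β' : IrrCharacter B, (∀ a, (β : B → ℂ) (π a) * X a = (β' : B → ℂ) (π a) * X a) → β = β') ∧
      ∀ ψ : A → ℂ, IsIrrCharacter A ψ → classInner (fun n : π.ker => ψ n) θ ≠ 0 →
        ∃ β : IrrCharacter B, ψ = fun a => (β : B → ℂ) (π a) * X a := by
  classical
  haveI := Fintype.ofFinite A
  have hinv : ∀ g, Cfsg.Agent.Char.conjChar π.ker g θ = θ := fun g => funext fun n => by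
    rw [Cfsg.Agent.Char.conjChar_apply, ← hXN, ← hXN]
    simpa using IsCharacter.isClassFunction (IsIrrCharacter.isCharacter hX) (n : A) g
  have hone : ((1 : π.ker → ℂ) * θ) = θ := one_mul _
  have hbij := gallagher π.ker isIrrCharacter_one (fun g => rfl) hinv (hone.symm ▸ hθ) hX hXN
  rw [hone] at hbij
  have hover : ∀ ψ : A → ℂ, IsIrrCharacter A ψ →
      (classInner (indFun π.ker θ) ψ ≠ 0 ↔ classInner (fun n : π.ker => ψ n) θ ≠ 0) := fun ψ hψ => by
    rw [classInner_indFun π.ker θ (IsCharacter.isClassFunction (IsIrrCharacter.isCharacter hψ)), ← classInner_conj_symm, map_ne_zero]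
  have hmem : ∀ β : IrrCharacter B, IsIrrCharacter A (fun a => (β : B → ℂ) (π a)) ∧
      classInner (indFun π.ker (1 : π.ker → ℂ)) (fun a => (β : B → ℂ) (π a)) ≠ 0 := fun β =>
    ⟨isIrrCharacter_comp_surjective π hπ β.2, mem_over_one_of_trivial π.ker (isIrrCharacter_comp_surjective π hπ β.2)
      fun n => by simp [MonoidHom.mem_ker.1 n.2]⟩
  refine ⟨fun β => ?_, fun β β' h => ?_, fun ψ hψ hψn => ?_⟩
  · obtain ⟨h1, h2⟩ := hbij.mapsTo (hmem β)
    exact ⟨h1, (hover _ h1).1 h2⟩
  · refine Subtype.ext (funext fun b => ?_)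
    obtain ⟨a, rfl⟩ := hπ b
    exact congrFun (hbij.injOn (hmem β) (hmem β') (funext h)) a
  · obtain ⟨γ, ⟨hγ, hγ1⟩, hγψ⟩ := hbij.surjOn ⟨hψ, (hover ψ hψ).2 hψn⟩
    obtain ⟨φ, hφ⟩ := exists_factor_quotient π.ker ⟨γ, hγ⟩ fun g hg y =>
      apply_mul_eq_of_over_one π.ker hγ hγ1 ⟨g, hg⟩ y
    let e := QuotientGroup.quotientKerEquivOfSurjective π hπ
    refine ⟨⟨fun b => (φ : A ⧸ π.ker → ℂ) (e.symm b), isIrrCharacter_comp_mulEquiv e.symm φ.2⟩, funext fun a => ?_⟩
    rw [← hγψ]
    show γ a * X a = (φ : A ⧸ π.ker → ℂ) (e.symm (π a)) * X a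
    rw [show e.symm (π a) = (a : A ⧸ π.ker) from e.symm_apply_eq.2 rfl, hφ]

variable {T : Type u} [Group T] [Finite T] {S : Type w} [Group S] [MulDistribMulAction S T]

/-- The determinant of a character composed with an automorphism. -/
theorem detOrder_comp_mulEquiv {X : T → ℂ} (hX : IsIrrCharacter T X) (e : T ≃* T) :
    detOrder (fun t => X (e t)) = detOrder X := by
  obtain ⟨μ, hμ⟩ := exists_detHom hX
  obtain ⟨n, ρ, hρ, rfl⟩ := hX
  haveI := hρ
  let ρe : Representation ℂ T (Fin n → ℂ) := ρ.comp e.toMonoidHom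
  haveI : ρe.IsIrreducible := isIrreducible_comp_surjective ρ e.toMonoidHom e.surjective
  have h1 : detChar (fun t => ρ.character (e t)) = fun t => ((μ.comp e.toMonoidHom) t : ℂ) := funext fun t => by
    rw [show (fun t => ρ.character (e t)) = ρe.character from rfl, detChar_eq]
    show LinearMap.det (ρ (e t)) = (μ (e t) : ℂ)
    rw [← congrFun hμ (e t), detChar_eq]
  rw [detOrder, detOrder, h1, hμ, orderOf_linearChar, orderOf_linearChar]
  exact orderOf_injective
    ({ toFun := fun l : T →* ℂˣ => l.comp e.toMonoidHom, map_one' := rfl, map_mul' := fun _ _ => rfl } : (T →* ℂˣ) →* (T →* ℂˣ))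
    (fun l l' h => MonoidHom.ext fun t => by simpa using DFunLike.congr_fun h (e.symm t)) μ

/-- The canonical extension is invariant. -/
theorem exists_invariant_extension (Q : Subgroup T) [Q.Normal] [Fintype Q]
    (hcop : Q.index.Coprime (Nat.card Q)) (hQS : ∀ (s : S) (q : Q), s • (q : T) ∈ Q) {θ : Q → ℂ}
    (hθ : IsIrrCharacter Q θ) (hθT : ∀ g, Cfsg.Agent.Char.conjChar Q g θ = θ)
    (hθS : ∀ (s : S) (q q' : Q), (q' : T) = s • (q : T) → θ q' = θ q) :
    ∃ X : T → ℂ, IsIrrCharacter T X ∧ (∀ q : Q, X q = θ q) ∧ OpInv S X := by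
  obtain ⟨l, hl⟩ := exists_detHom hθ
  have hdet : detOrder θ ∣ Nat.card Q := by
    rw [detOrder, hl, orderOf_linearChar]
    exact orderOf_dvd_of_pow_eq_one (MonoidHom.ext fun n => by
      rw [MonoidHom.pow_apply, ← map_pow, pow_card_eq_one', map_one, MonoidHom.one_apply])
  have hc : Nat.Coprime Q.index (detOrder θ * charDegree θ) :=
    Nat.Coprime.mul_right (hcop.coprime_dvd_right hdet) (hcop.coprime_dvd_right (charDegree_dvd_card hθ))
  obtain ⟨X, ⟨hX, hXθ, hXd⟩, huniq⟩ := exists_unique_extension_coprime hθ hθT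
    (d := charDegree θ) (charDegree_cast (IsIrrCharacter.isCharacter hθ)).symm hc
  refine ⟨X, hX, hXθ, fun s => congrFun (huniq _ (isIrrCharacter_comp_mulEquiv (MulDistribMulAction.toMulEquiv T s) hX) (fun q => ?_) ?_)⟩
  · show X (s • (q : T)) = θ q
    rw [← hθS s q ⟨_, hQS s q⟩ rfl, ← hXθ]
  · show Q.index.Coprime (detOrder fun g => X ((MulDistribMulAction.toMulEquiv T s) g))
    rw [detOrder_comp_mulEquiv hX (MulDistribMulAction.toMulEquiv T s), hXd]
    exact hcop.coprime_dvd_right hdet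

/-- The correspondence over an invariant character of a normal Sylow subgroup. -/
theorem glauberman_over [Finite S] {p : ℕ} (hp : p.Prime) (hS : IsPGroup p S) (Q : Subgroup T) [Q.Normal] [Fintype Q]
    (hQ : IsPGroup p Q) (hidx : ¬ p ∣ Q.index) (hQS : ∀ (s : S) (q : Q), s • (q : T) ∈ Q) {θ : Q → ℂ}
    (hθ : IsIrrCharacter Q θ) (hθT : ∀ g, Cfsg.Agent.Char.conjChar Q g θ = θ)
    (hθS : ∀ (s : S) (q q' : Q), (q' : T) = s • (q : T) → θ q' = θ q)
    {C : Type v} [Group C] [Fintype C] (ι : C →* T) (hι : Function.Injective ι)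
    (hrange : ∀ t : T, t ∈ ι.range ↔ ∀ s : S, t⁻¹ * (s • t) ∈ Q)
    (j : Q →* C) (hj : ∀ q : Q, ι (j q) = q) :
    (∀ ψ : IrrCharacter T, classInner (fun q : Q => (ψ : T → ℂ) q) θ ≠ 0 → OpInv S (ψ : T → ℂ) →
      ∃ γ : IrrCharacter C, classInner (fun q : Q => (γ : C → ℂ) (j q)) θ ≠ 0 ∧ ∃ m : ℕ,
        classInner (fun c : C => (ψ : T → ℂ) (ι c)) (γ : C → ℂ) = (m : ℂ) ∧ ¬ p ∣ m ∧
        ((m : ℤ) ≡ 1 [ZMOD p] ∨ (m : ℤ) ≡ -1 [ZMOD p]) ∧
        (charDegree (ψ : T → ℂ) : ZMod p) = (m : ZMod p) * (charDegree (γ : C → ℂ) : ZMod p) ∧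
        ∀ γ' : IrrCharacter C, γ' ≠ γ → ∀ m' : ℕ,
          classInner (fun c : C => (ψ : T → ℂ) (ι c)) (γ' : C → ℂ) = (m' : ℂ) → p ∣ m') ∧
    ∀ γ : IrrCharacter C, classInner (fun q : Q => (γ : C → ℂ) (j q)) θ ≠ 0 →
      ∃! ψ : IrrCharacter T, classInner (fun q : Q => (ψ : T → ℂ) q) θ ≠ 0 ∧ OpInv S (ψ : T → ℂ) ∧
        ∃ m : ℕ, classInner (fun c : C => (ψ : T → ℂ) (ι c)) (γ : C → ℂ) = (m : ℂ) ∧ ¬ p ∣ m := by
  classical
  haveI := Fintype.ofFinite T
  have hQcard : ∃ a, Nat.card Q = p ^ a := by haveI := Fact.mk hp; exact IsPGroup.iff_card.1 hQ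
  obtain ⟨a, ha⟩ := hQcard
  have hcop : Q.index.Coprime (Nat.card Q) := by
    rw [ha]; exact ((hp.coprime_iff_not_dvd.2 hidx).symm).pow_right a
  obtain ⟨X, hX, hXθ, hXS⟩ := exists_invariant_extension (S := S) Q hcop hQS hθ hθT hθS
  -- the operators on the factor group
  let act : S →* MulAut (T ⧸ Q) :=
    { toFun := fun s =>
        { toFun := QuotientGroup.map Q Q (MulDistribMulAction.toMonoidHom T s) fun q hq => hQS s ⟨q, hq⟩
          invFun := QuotientGroup.map Q Q (MulDistribMulAction.toMonoidHom T s⁻¹) fun q hq => hQS s⁻¹ ⟨q, hq⟩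
          left_inv := fun x => by
            obtain ⟨t, rfl⟩ := QuotientGroup.mk_surjective x
            exact congrArg (QuotientGroup.mk) (inv_smul_smul s t)
          right_inv := fun x => by
            obtain ⟨t, rfl⟩ := QuotientGroup.mk_surjective x
            exact congrArg (QuotientGroup.mk) (smul_inv_smul s t)
          map_mul' := map_mul _ }
      map_one' := MulEquiv.ext fun x => by
        obtain ⟨t, rfl⟩ := QuotientGroup.mk_surjective x
        exact congrArg (QuotientGroup.mk) (one_smul S t)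
      map_mul' := fun s r => MulEquiv.ext fun x => by
        obtain ⟨t, rfl⟩ := QuotientGroup.mk_surjective x
        exact congrArg (QuotientGroup.mk) (mul_smul s r t) }
  letI : MulDistribMulAction S (T ⧸ Q) := MulDistribMulAction.compHom _ act
  have hsmul : ∀ (s : S) (t : T), s • (t : T ⧸ Q) = ((s • t : T) : T ⧸ Q) := fun s t => rfl
  let F : Subgroup (T ⧸ Q) :=
    { carrier := {x | ∀ s : S, s • x = x}
      one_mem' := fun s => smul_one s
      mul_mem' := fun {x y} hx hy s => by rw [smul_mul', hx s, hy s]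
      inv_mem' := fun {x} hx s => by rw [smul_inv', hx s] }
  haveI := Fintype.ofFinite F
  have hFι : FixedHom S F.subtype :=
    ⟨Subgroup.subtype_injective _, fun x => ⟨fun ⟨c, hc⟩ s => hc ▸ c.2 s, fun h => ⟨⟨x, h⟩, rfl⟩⟩⟩
  have hmem : ∀ t : T, (t : T ⧸ Q) ∈ F ↔ t ∈ ι.range := fun t => by
    rw [hrange]
    exact forall_congr' fun s => by rw [hsmul, eq_comm, QuotientGroup.eq]
  let πC : C →* F := ((QuotientGroup.mk' Q).comp ι).codRestrict F fun c => (hmem _).2 ⟨c, rfl⟩
  have hπC : Function.Surjective πC := fun x => by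
    obtain ⟨t, ht⟩ := QuotientGroup.mk_surjective (x : T ⧸ Q)
    obtain ⟨c, rfl⟩ := (hmem t).1 (ht ▸ x.2)
    exact ⟨c, Subtype.ext ht⟩
  haveI := Fintype.ofFinite πC.ker
  haveI := Fintype.ofFinite (QuotientGroup.mk' Q).ker
  -- the twist bijections
  let eT : Q ≃* (QuotientGroup.mk' Q).ker := MulEquiv.subgroupCongr (QuotientGroup.ker_mk' Q).symm
  have hTb := twist_bijection (QuotientGroup.mk' Q) (QuotientGroup.mk'_surjective Q)
    (θ := fun n => θ (eT.symm n)) (isIrrCharacter_comp_mulEquiv eT.symm hθ) hX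
    (fun n => by rw [← hXθ]; rfl)
  have hjker : ∀ q : Q, j q ∈ πC.ker := fun q => MonoidHom.mem_ker.2 (Subtype.ext (by
    show ((ι (j q) : T) : T ⧸ Q) = 1
    rw [hj]; exact (QuotientGroup.eq_one_iff _).2 q.2))
  let jk : Q →* πC.ker := j.codRestrict πC.ker hjker
  have hjk : Function.Bijective jk := ⟨fun q q' h => Subtype.ext (by
      have h2 := congrArg (fun x : πC.ker => ι (x : C)) h
      simpa [jk, hj] using h2), fun x => by
    have h1 : ι (x : C) ∈ Q := (QuotientGroup.eq_one_iff _).1 (congrArg Subtype.val (MonoidHom.mem_ker.1 x.2))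
    exact ⟨⟨_, h1⟩, Subtype.ext (hι (hj _))⟩⟩
  let eC : Q ≃* πC.ker := MulEquiv.ofBijective jk hjk
  have heC : ∀ n : πC.ker, ι (n : C) = ((eC.symm n : Q) : T) := fun n => by
    obtain ⟨q, rfl⟩ := eC.surjective n
    rw [eC.symm_apply_apply]
    exact hj q
  have hXC : IsCharacter C (fun c => X (ι c)) := isCharacter_comp (IsIrrCharacter.isCharacter hX) ι
  have hXCirr : IsIrrCharacter C (fun c => X (ι c)) := by
    obtain ⟨n, ρ, hρ, hρX⟩ := hX
    haveI : Representation.IsIrreducible ((ρ.comp ι).comp j) := by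
      rw [isIrreducible_iff_classInner, show Representation.character ((ρ.comp ι).comp j) = θ from funext fun q => by
        rw [← hXθ, ← hρX, ← hj]; rfl]
      exact IsIrrCharacter.classInner_self hθ
    haveI := isIrreducible_of_comp j (ρ.comp ι) inferInstance
    rw [show (fun c => X (ι c)) = Representation.character (ρ.comp ι) from funext fun c => by rw [← hρX]; rfl]
    exact isIrrCharacter_character _
  have hCb := twist_bijection πC hπC (θ := fun n => θ (eC.symm n)) (isIrrCharacter_comp_mulEquiv eC.symm hθ)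
    hXCirr (fun n => by rw [heC, hXθ])
  have hqT : ∀ ψ : T → ℂ, classInner (fun q : Q => ψ q) θ =
      classInner (fun n : (QuotientGroup.mk' Q).ker => ψ n) (fun n => θ (eT.symm n)) := fun ψ =>
    (classInner_comp_mulEquiv eT.symm (fun q : Q => ψ q) θ).symm
  have hqC : ∀ γ : C → ℂ, classInner (fun q : Q => γ (j q)) θ =
      classInner (fun n : πC.ker => γ n) (fun n => θ (eC.symm n)) := fun γ => by
    rw [← classInner_comp_mulEquiv eC.symm (fun q : Q => γ (j q)) θ]
    congr 1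
    funext n
    exact congrArg γ (congrArg Subtype.val (eC.apply_symm_apply n))
  obtain ⟨hT1, hT2, hT3⟩ := hTb
  obtain ⟨hC1, hC2, hC3⟩ := hCb
  let twT : IrrCharacter (T ⧸ Q) → IrrCharacter T := fun β => ⟨_, (hT1 β).1⟩
  let twC : IrrCharacter F → IrrCharacter C := fun δ => ⟨_, (hC1 δ).1⟩
  -- multiplicities
  haveI := Fintype.ofFinite (IrrCharacter F)
  have hmult : ∀ (β : IrrCharacter (T ⧸ Q)) (γ : IrrCharacter C),
      classInner (fun c : C => (twT β : T → ℂ) (ι c)) (γ : C → ℂ) =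
        ∑ δ : IrrCharacter F, if twC δ = γ then classInner (fun x : F => (β : T ⧸ Q → ℂ) x) (δ : F → ℂ) else 0 := by
    intro β γ
    have h := IsClassFunction.eq_sum (IsCharacter.isClassFunction
      (IsCharacter.restrict (IsIrrCharacter.isCharacter β.2) F))
    rw [show (fun c : C => (twT β : T → ℂ) (ι c)) = ∑ δ : IrrCharacter F,
        classInner (fun x : F => (β : T ⧸ Q → ℂ) x) (δ : F → ℂ) • (twC δ : C → ℂ) from funext fun c => by
      have h2 := congrFun h (πC c)
      simp only [Finset.sum_apply, Pi.smul_apply, smul_eq_mul] at h2 ⊢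
      show (β : T ⧸ Q → ℂ) (ι c : T ⧸ Q) * X (ι c) = ∑ δ : IrrCharacter F, _ * ((δ : F → ℂ) (πC c) * X (ι c))
      rw [show ((ι c : T ⧸ Q)) = ((πC c : F) : T ⧸ Q) from rfl, h2, Finset.sum_mul]
      exact Finset.sum_congr rfl fun δ _ => by ring, classInner_sum_left]
    refine Finset.sum_congr rfl fun δ _ => ?_
    rw [classInner_smul_left, classInner_irr]
    split <;> simp
  have hinjC : Function.Injective twC := fun δ δ' h => hC2 δ δ' (congrFun (congrArg Subtype.val h))
  have hinjT : Function.Injective twT := fun β β' h => hT2 β β' (congrFun (congrArg Subtype.val h))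
  have hmult' : ∀ β δ, classInner (fun c : C => (twT β : T → ℂ) (ι c)) (twC δ : C → ℂ) =
      classInner (fun x : F => (β : T ⧸ Q → ℂ) x) (δ : F → ℂ) := fun β δ => by
    rw [hmult, Finset.sum_eq_single δ (fun δ' _ hne => if_neg fun e => hne (hinjC e)) (by simp), if_pos rfl]
  have hinvT : ∀ β, OpInv S (twT β : T → ℂ) ↔ OpInv S (β : T ⧸ Q → ℂ) := fun β => by
    refine ⟨fun h s x => ?_, fun h s t => ?_⟩
    · let β' : IrrCharacter (T ⧸ Q) := ⟨fun x => (β : T ⧸ Q → ℂ) (s • x),
        isIrrCharacter_comp_mulEquiv (MulDistribMulAction.toMulEquiv (T ⧸ Q) s) β.2⟩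
      have e : β' = β := hT2 β' β fun t => by
        have h1 := h s t
        show (β : T ⧸ Q → ℂ) (s • (t : T ⧸ Q)) * X t = (β : T ⧸ Q → ℂ) (t : T ⧸ Q) * X t
        rw [hsmul]
        refine Eq.trans ?_ h1
        show _ = (β : T ⧸ Q → ℂ) ((s • t : T) : T ⧸ Q) * X (s • t)
        rw [hXS s t]
      exact congrFun (congrArg Subtype.val e) x
    · show (β : T ⧸ Q → ℂ) ((s • t : T) : T ⧸ Q) * X (s • t) = (β : T ⧸ Q → ℂ) (t : T ⧸ Q) * X t
      rw [hXS s t, ← hsmul, h s]
  have hcop' : (Nat.card (T ⧸ Q)).Coprime (Nat.card S) := by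
    haveI := Fact.mk hp
    obtain ⟨k, hk⟩ := IsPGroup.iff_card.1 hS
    rw [hk, ← Subgroup.index_eq_card]
    exact ((hp.coprime_iff_not_dvd.2 hidx).symm).pow_right k
  obtain ⟨hfwd, hbwd⟩ := glauberman_pgroup hp hS hcop' hFι
  refine ⟨fun ψ hψ hψS => ?_, fun γ hγ => ?_⟩
  · obtain ⟨β, hβ⟩ := hT3 ψ ψ.2 (by rwa [hqT] at hψ)
    obtain rfl : ψ = twT β := Subtype.ext hβ
    obtain ⟨δ, m, hm, hmd, hsign, hdeg, hoth⟩ := hfwd β ((hinvT β).1 hψS)
    refine ⟨twC δ, by rw [hqC]; exact (hC1 δ).2, m, by rw [hmult']; exact hm, hmd, hsign, ?_, fun γ' hne m' hm' => ?_⟩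
    · have e1 : charDegree (twT β : T → ℂ) = charDegree (β : T ⧸ Q → ℂ) * charDegree θ := by
        apply Nat.cast_injective (R := ℂ)
        rw [Nat.cast_mul, charDegree_cast (IsIrrCharacter.isCharacter (twT β).2), charDegree_cast (IsIrrCharacter.isCharacter β.2),
          charDegree_cast (IsIrrCharacter.isCharacter hθ), ← hXθ]
        rfl
      have e2 : charDegree (twC δ : C → ℂ) = charDegree (δ : F → ℂ) * charDegree θ := by
        apply Nat.cast_injective (R := ℂ)
        rw [Nat.cast_mul, charDegree_cast (IsIrrCharacter.isCharacter (twC δ).2), charDegree_cast (IsIrrCharacter.isCharacter δ.2),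
          charDegree_cast (IsIrrCharacter.isCharacter hθ), ← hXθ]
        show (δ : F → ℂ) (πC 1) * X (ι 1) = _
        rw [map_one, map_one, OneMemClass.coe_one]
      rw [e1, e2, Nat.cast_mul, Nat.cast_mul, hdeg, mul_assoc]
    · by_cases hex : ∃ δ', twC δ' = γ'
      · obtain ⟨δ', rfl⟩ := hex
        rw [hmult'] at hm'
        exact hoth δ' (fun e => hne (e ▸ rfl)) m' hm'
      · rw [hmult, Finset.sum_eq_zero fun δ' _ => if_neg fun e => hex ⟨δ', e⟩] at hm'
        rw [show m' = 0 from Nat.cast_eq_zero.1 hm'.symm]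
        exact dvd_zero p
  · obtain ⟨δ, hδ⟩ := hC3 γ γ.2 (by rwa [hqC] at hγ)
    obtain rfl : γ = twC δ := Subtype.ext hδ
    obtain ⟨β, ⟨hβS, m, hm, hmd⟩, huniq⟩ := hbwd δ
    refine ⟨twT β, ⟨by rw [hqT]; exact (hT1 β).2, (hinvT β).2 hβS, m, by rw [hmult']; exact hm, hmd⟩, ?_⟩
    rintro ψ ⟨hψ, hψS, m', hm', hmd'⟩
    obtain ⟨β', hβ'⟩ := hT3 ψ ψ.2 (by rwa [hqT] at hψ)
    obtain rfl : ψ = twT β' := Subtype.ext hβ'
    rw [hmult'] at hm'
    rw [huniq β' ⟨(hinvT β').1 hψS, m', hm', hmd'⟩]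

end Cfsg.Agent.Block
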