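import Cfsg.Agent.Lib.Block.FirstMain
import Cfsg.Agent.Lib.Block.Glauberman
import Cfsg.Agent.Lib.Block.Regular
import Mathlib.LinearAlgebra.Matrix.NonsingularInverse

/-!
# Green's theorem: defect groups are intersections of two Sylow subgroups
-/

set_option autoImplicit false

open Cfsg.Agent.Char
open scoped ComplexConjugate

namespace Cfsg.Agent.Block

universe u

variable {G : Type u} [Group G] [Fintype G] {M : Ideal AlgInt} [hMp : M.IsPrime] {p : ℕ} [Fact p.Prime]
  {B : Set (IrrCharacter G)}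

omit hMp [Fact p.Prime] in
theorem blockCoeff_one_ne_zero (hB : B.Nonempty) : blockCoeff B 1 ≠ 0 := by
  classical
  haveI := Fintype.ofFinite (IrrCharacter G)
  obtain ⟨χ, hχ⟩ := hB
  rw [blockCoeff_eq_sum]
  refine mul_ne_zero (inv_ne_zero (Nat.cast_ne_zero.2 Nat.card_pos.ne')) ?_
  have e : ∀ ψ : IrrCharacter G, (if ψ ∈ B then (ψ : G → ℂ) 1 * conj ((ψ : G → ℂ) 1) else 0) =
      ((if ψ ∈ B then charDegree (ψ : G → ℂ) * charDegree (ψ : G → ℂ) else 0 : ℕ) : ℂ) := fun ψ => by
    split
    · rw [Nat.cast_mul, ← charDegree_cast (IsIrrCharacter.isCharacter ψ.2), map_natCast]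
    · simp
  rw [Finset.sum_congr rfl fun ψ _ => e ψ, ← Nat.cast_sum, Nat.cast_ne_zero]
  intro h
  have := Finset.sum_eq_zero_iff.1 h χ (Finset.mem_univ _)
  rw [if_pos hχ] at this
  exact (charDegree_pos χ.2).ne' (mul_self_eq_zero.1 this)

omit hMp [Fact p.Prime] in
/-- An idempotent function acts idempotently on a coset space. -/
theorem coset_mul_self (f : G → ℂ) (hf : ∀ x : G, ∑ z : G, f (x * z⁻¹) * f z = f x) (S : Subgroup G)
    [Fintype S] [Fintype (G ⧸ S)] (a b : G) :
    ∑ r : G ⧸ S, (∑ u : S, f (a * u * r.out⁻¹)) * ∑ v : S, f (r.out * v * b⁻¹) =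
      ∑ w : S, f (a * w * b⁻¹) := by
  have hbij : Function.Bijective fun x : (G ⧸ S) × S => x.1.out * (x.2 : G) := by
    refine ⟨fun a b e => ?_, fun g => ?_⟩
    · have e' : a.1 = b.1 := by
        have := congrArg (QuotientGroup.mk : G → G ⧸ S) e
        simp only at this
        rwa [QuotientGroup.mk_mul_of_mem _ a.2.2, QuotientGroup.mk_mul_of_mem _ b.2.2,
          QuotientGroup.out_eq', QuotientGroup.out_eq'] at this
      exact Prod.ext e' (Subtype.ext (mul_left_cancel (a := b.1.out) (by simpa [e'] using e)))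
    · obtain ⟨t, ht⟩ := QuotientGroup.mk_out_eq_mul S g
      exact ⟨(QuotientGroup.mk g, t⁻¹), by simp [ht]⟩
  have e2 : ∀ w : S, f (a * w * b⁻¹) =
      ∑ x : (G ⧸ S) × S, f (a * w * (x.1.out * (x.2 : G))⁻¹) * f (x.1.out * (x.2 : G) * b⁻¹) := by
    intro w
    rw [hbij.sum_comp (fun z => f (a * w * z⁻¹) * f (z * b⁻¹)), ← hf (a * w * b⁻¹)]
    refine Fintype.sum_equiv (Equiv.mulRight b) _ _ fun z => ?_
    simp [mul_assoc]
  rw [Finset.sum_congr rfl fun w _ => e2 w, Finset.sum_comm, Fintype.sum_prod_type]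
  refine Finset.sum_congr rfl fun r _ => ?_
  rw [Finset.mul_sum]
  refine Finset.sum_congr rfl fun v _ => ?_
  rw [Finset.sum_mul]
  refine Fintype.sum_equiv (Equiv.mulRight v) _ _ fun u => ?_
  simp [mul_assoc]

/-- Some element in the support of a block meets a Sylow subgroup and its conjugate only in its
centraliser there. -/
theorem exists_coeff_unit_inter (hM : IsPModular p M) (hB : IsPBlock M B) {S : Subgroup G}
    (hS : IsPGroup p S) :
    ∃ g : G, ¬ MemLocalIdeal M (blockCoeff B g) ∧
      S ⊓ S.map (MulAut.conj g).toMonoidHom ≤ Subgroup.centralizer ({g} : Set G) := by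
  classical
  haveI := Fintype.ofFinite S
  haveI := Fintype.ofFinite (G ⧸ S)
  by_contra! hcon
  -- the coset sums are all in the ideal
  have hy : ∀ h : G, MemLocalIdeal M (∑ u : S, blockCoeff B (h * u)) := by
    intro h
    let R : Subgroup G := S ⊓ S.map (MulAut.conj h).toMonoidHom
    letI : MulAction R S :=
      { smul := fun r u => ⟨h⁻¹ * ((r : G) * (h * (u : G)) * (r : G)⁻¹), by
          obtain ⟨s, hs, e⟩ := r.2.2
          rw [show h⁻¹ * ((r : G) * (h * (u : G)) * (r : G)⁻¹) = s * (u : G) * (r : G)⁻¹ by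
            rw [← e]; simp [mul_assoc]]
          exact mul_mem (mul_mem hs u.2) (inv_mem r.2.1)⟩
        one_smul := fun u => Subtype.ext (by
          show h⁻¹ * ((1 : G) * (h * (u : G)) * (1 : G)⁻¹) = u
          group)
        mul_smul := fun r r' u => Subtype.ext (by
          show h⁻¹ * (((r * r' : R) : G) * (h * (u : G)) * ((r * r' : R) : G)⁻¹) =
            h⁻¹ * ((r : G) * (h * (h⁻¹ * ((r' : G) * (h * (u : G)) * (r' : G)⁻¹))) * (r : G)⁻¹)
          rw [Subgroup.coe_mul]
          group) }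
    have hsmul : ∀ (r : R) (u : S), h * ((r • u : S) : G) = (r : G) * (h * (u : G)) * (r : G)⁻¹ :=
      fun r u => by
        show h * (h⁻¹ * ((r : G) * (h * (u : G)) * (r : G)⁻¹)) = _
        group
    have hfix := sum_congr_fixed (S := R) hM (hS.to_le inf_le_left) (fun u : S => blockCoeff B (h * u))
      (fun r u => by
        simp only [hsmul]
        simpa [blockIdem] using isCentralElt_blockIdem B (h * (u : G)) (r : G))
      (fun u => blockCoeff_mem_locRing hB _)
    have hz : MemLocalIdeal M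
        (∑ u : S, if (∀ r : R, r • u = u) then blockCoeff B (h * u) else 0) := by
      refine memLocalIdeal_sum _ _ fun u _ => ?_
      by_cases hu : ∀ r : R, r • u = u
      · rw [if_pos hu]
        by_contra hne
        refine hcon _ hne fun x hx => ?_
        have hxR : x ∈ R := by
          obtain ⟨hx1, s, hs, e⟩ := hx
          exact ⟨hx1, (u : G) * s * (u : G)⁻¹, mul_mem (mul_mem u.2 hs) (inv_mem u.2), by
            rw [← e]; simp [mul_assoc]⟩
        have h1 := hsmul ⟨x, hxR⟩ u
        rw [hu] at h1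
        exact mem_centralizer_singleton.2 (eq_mul_inv_iff_mul_eq.1 h1)
      · rw [if_neg hu]; exact memLocalIdeal_zero
    convert memLocalIdeal_add hfix hz using 1
    convert (sub_add_cancel (∑ u : S, blockCoeff B (h * u)) _).symm using 4
  -- the action on the cosets
  let E : Matrix (G ⧸ S) (G ⧸ S) ℂ := fun q r => ∑ u : S, blockCoeff B (q.out * u * r.out⁻¹)
  have hcl : ∀ a x : G, blockCoeff B (a * x * a⁻¹) = blockCoeff B x := fun a x => by
    simpa [blockIdem] using isCentralElt_blockIdem B x a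
  have hE : ∀ q r, MemLocalIdeal M (E q r) := fun q r => by
    have := hy (r.out⁻¹ * q.out)
    simp only [E]
    rwa [Finset.sum_congr rfl fun (u : S) _ => show blockCoeff B (q.out * u * r.out⁻¹) =
      blockCoeff B (r.out⁻¹ * q.out * u) by rw [← hcl r.out (r.out⁻¹ * q.out * u)]; congr 1; group]
  have hidem : E * E = E := by
    ext q s
    simp only [Matrix.mul_apply, E]
    have e1 : ∀ x : G, ∑ z : G, blockCoeff B (x * z⁻¹) * blockCoeff B z = blockCoeff B x := by
      intro x
      have h1 := congrArg (fun a => a.coeff x) (blockIdem_mul_self B)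
      simp only [MonoidAlgebra.coeff_mul_apply_right, blockIdem, coeff_mkA] at h1
      rw [Finsupp.sum_fintype _ _ (by simp)] at h1
      simpa [coeff_mkA] using h1
    exact coset_mul_self (fun x => blockCoeff B x) e1 S q.out s.out
  have hEl : ∀ q r, E q r ∈ locRing M := fun q r => mem_locRing_of_memLocalIdeal (hE q r)
  let E' : Matrix (G ⧸ S) (G ⧸ S) (locRing M) := fun q r => ⟨E q r, hEl q r⟩
  have hmap : (E'.map (IsLocalRing.residue (locRing M))) = 0 := by
    ext q r
    show IsLocalRing.residue _ (⟨E q r, hEl q r⟩ : locRing M) = 0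
    rw [← resC_of_mem]
    exact resC_eq_zero_of_memLocalIdeal (hE q r)
  have hidem' : E' * E' = E' :=
    Matrix.map_injective (f := (locRing M).subtype) Subtype.coe_injective
      (Matrix.map_mul.trans hidem)
  have hdet : IsUnit (1 - E').det := by
    refine (IsLocalRing.residue_ne_zero_iff_isUnit _).1 ?_
    rw [RingHom.map_det, RingHom.mapMatrix_apply, Matrix.map_sub _ (map_sub _), Matrix.map_one _ (map_zero _)
      (map_one _), hmap, sub_zero, Matrix.det_one]
    exact one_ne_zero
  have hunit : IsUnit (1 - E') := (Matrix.isUnit_iff_isUnit_det _).2 hdet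
  have h0 : E' = 0 := hunit.mul_left_eq_zero.1 (by rw [mul_sub, mul_one, hidem', sub_self])
  have h1 := congrArg Subtype.val (congrFun (congrFun h0 (QuotientGroup.mk 1)) (QuotientGroup.mk 1))
  simp only [E', E, Matrix.zero_apply, ZeroMemClass.coe_zero] at h1
  refine blockCoeff_one_ne_zero (isPBlock_nonempty hB) ?_
  rw [← h1]
  symm
  rw [Finset.sum_eq_single (1 : S)]
  · simp
  · intro u _ hu
    rw [hcl]
    refine blockCoeff_eq_zero_of_dvd hM hB ?_
    obtain ⟨k, hk⟩ := IsPGroup.iff_orderOf.1 hS u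
    rw [Subgroup.orderOf_coe, hk]
    refine dvd_pow_self p fun h => hu ?_
    rw [← orderOf_eq_one_iff, hk, h, pow_zero]
  · exact fun h => absurd (Finset.mem_univ _) h

end Cfsg.Agent.Block

namespace Cfsg.Agent.Block

universe v

variable {G : Type v} [Group G] [Fintype G] {M : Ideal AlgInt} [hMp : M.IsPrime] {p : ℕ} [Fact p.Prime]
  {B : Set (IrrCharacter G)}

/-- Green's theorem. -/
theorem green (hM : IsPModular p M) (hB : IsPBlock M B) {D : Subgroup G} (hD : IsDefectGroup p M B D)
    (P : Sylow p G) (hDP : D ≤ P) :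
    ∃ x : G, ¬ p ∣ orderOf x ∧
      (∃ S : Sylow p (Subgroup.centralizer ({x} : Set G)), sylowImage S = D) ∧
      (P : Subgroup G) ⊓ (P : Subgroup G).map (MulAut.conj x).toMonoidHom = D := by
  classical
  have hp := isPGroup_of_isDefectGroup hD
  let H : Subgroup G := Subgroup.normalizer (D : Set G)
  haveI := Fintype.ofFinite H
  have hDH : D ≤ H := Subgroup.le_normalizer
  have hCH := centralizer_le_normalizer' D
  obtain ⟨c, hc, hcD, hlam⟩ := exists_block_over hM hDH hCH hB hD
  obtain ⟨ξ, hξ⟩ := isPBlock_nonempty hc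
  have hbr := brFun_eq_of_lam hM le_rfl hB hD hc hcD hξ (hlam ξ hξ)
  obtain ⟨S, hS⟩ := (show IsPGroup p ((P : Subgroup G).subgroupOf H) from
    P.isPGroup'.comap_subtype).exists_le_sylow
  obtain ⟨g, hg, hint⟩ := exists_coeff_unit_inter hM hc (S := (S : Subgroup H)) S.isPGroup'
  have hDn : (D.subgroupOf H).Normal := Subgroup.normal_in_normalizer
  have hDS : D.subgroupOf H ≤ (S : Subgroup H) := (Subgroup.comap_mono hDP).trans hS
  have hQ : (S : Subgroup H) ⊓ (S : Subgroup H).map (MulAut.conj g).toMonoidHom = D.subgroupOf H := by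
    refine le_antisymm ?_ (le_inf hDS fun d hd => ⟨g⁻¹ * d * g, hDS (by
      simpa using hDn.conj_mem d hd g⁻¹), by simp [mul_assoc]⟩)
    obtain ⟨y, hy⟩ := defectLE_of_coeff_unit hM hc hcD hg _ (S.isPGroup'.to_le inf_le_left) hint
    intro x hx
    have h1 := hy ⟨x, hx, rfl⟩
    simpa [mul_assoc] using hDn.conj_mem _ h1 y⁻¹
  have hgC : (g : G) ∈ Subgroup.centralizer (D : Set G) := by
    refine mem_centralizer_subgroup.2 fun d hd => ?_
    have h1 : (⟨d, hDH hd⟩ : H) ∈ Subgroup.centralizer ({g} : Set H) := hint (hQ.symm ▸ hd)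
    exact mem_centralizer_singleton.2 ((mem_centralizer_singleton.1 h1).map H.subtype)
  have hu : ¬ MemLocalIdeal M (blockCoeff B (g : G)) := by
    intro h
    refine hg ?_
    have h1 := (brFun_eq_iff (isLocElt_blockIdem hB) (isLocElt_embH H (isLocElt_blockIdem hc))).1 hbr (g : G) hgC
    rw [coeff_embH] at h1
    simp only [blockIdem, coeff_mkA] at h1
    have h2 := memLocalIdeal_sub h h1
    rwa [sub_sub_cancel] at h2
  refine ⟨(g : G), fun hd => hu (by rw [blockCoeff_eq_zero_of_dvd hM hB hd]; exact memLocalIdeal_zero), ?_, ?_⟩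
  · obtain ⟨S', hS'⟩ := (show IsPGroup p (D.subgroupOf (Subgroup.centralizer ({(g : G)} : Set G))) from
      hp.comap_subtype).exists_le_sylow
    refine ⟨S', ?_⟩
    have hle : D ≤ sylowImage S' := fun d hd =>
      ⟨⟨d, mem_centralizer_subgroup.1 hgC hd⟩, hS' hd, rfl⟩
    refine (Subgroup.eq_of_le_of_card_ge hle ?_).symm
    obtain ⟨x, hx⟩ := defectLE_of_coeff_unit hM hB hD hu _ (isPGroup_sylowImage S') (sylowImage_le S')
    rw [← card_map_conj (sylowImage S') x]
    exact Subgroup.card_le_of_le hx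
  · let R : Subgroup G := (P : Subgroup G) ⊓ (P : Subgroup G).map (MulAut.conj (g : G)).toMonoidHom
    show R = D
    have hconj : ∀ d ∈ D, (g : G)⁻¹ * d * (g : G) = d := fun d hd => by
      rw [mul_assoc, ← (mem_centralizer_singleton.1 (mem_centralizer_subgroup.1 hgC hd)).eq, inv_mul_cancel_left]
    have hDR : D ≤ R := le_inf hDP fun d hd => ⟨d, hDP hd, by
      have := hconj d hd
      simp only [MulEquiv.toMonoidHom_eq_coe, MonoidHom.coe_coe, MulAut.conj_apply]
      calc (g : G) * d * (g : G)⁻¹ = (g : G) * ((g : G)⁻¹ * d * (g : G)) * (g : G)⁻¹ := by rw [this]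
        _ = d := by group⟩
    have hnorm : R ⊓ H ≤ D := by
      intro x hx
      obtain ⟨⟨hxP, u, huP, hu'⟩, hxH⟩ := hx
      have hu'' : (g : G) * u * (g : G)⁻¹ = x := hu'
      have huH : u ∈ H := by
        have : u = (g : G)⁻¹ * x * (g : G) := by rw [← hu'']; group
        rw [this]
        exact mul_mem (mul_mem (inv_mem g.2) hxH) g.2
      have h1 : (⟨x, hxH⟩ : H) ∈ (S : Subgroup H) ⊓ (S : Subgroup H).map (MulAut.conj g).toMonoidHom :=
        ⟨hS hxP, ⟨u, huH⟩, hS huP, Subtype.ext hu''⟩
      rw [hQ] at h1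
      exact h1
    by_contra hne
    haveI : Group.IsNilpotent R := (P.isPGroup'.to_le inf_le_left).isNilpotent
    have hlt : D.subgroupOf R < ⊤ := lt_top_iff_ne_top.2 fun h =>
      hne (le_antisymm (Subgroup.subgroupOf_eq_top.1 h) hDR)
    obtain ⟨x, hxN, hxD⟩ := SetLike.exists_of_lt (normalizerCondition_of_isNilpotent (G := R) _ hlt)
    refine hxD (hnorm ⟨x.2, ?_⟩)
    rw [Subgroup.mem_normalizer_iff] at hxN
    show (x : G) ∈ Subgroup.normalizer (D : Set G)
    rw [Subgroup.mem_normalizer_iff]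
    intro d
    constructor
    · intro hd
      exact (hxN ⟨d, hDR hd⟩).1 hd
    · intro hd
      have hdR : d ∈ R := by
        have h2 : ((x : G) * d * (x : G)⁻¹) ∈ R := hDR hd
        have := mul_mem (mul_mem (inv_mem x.2) h2) x.2
        simpa [mul_assoc] using this
      exact (hxN ⟨d, hdR⟩).2 hd

end Cfsg.Agent.Block
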