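import Cfsg.Agent.Lib.Block.Cover
import Cfsg.Agent.Lib.Block.CoverDefect
import Cfsg.Agent.Lib.Block.CoverChain
import Cfsg.Agent.Lib.Block.FirstMain
import Cfsg.Agent.Lib.Block.CompBlock
import Cfsg.Agent.Lib.Block.SecondMain
import Cfsg.Agent.Lib.Block.StabPair

/-!
# Covering blocks and the normalizer of a defect group (Harris–Knörr)

`N` is normal in `G` and `H` is a subgroup; blocks of `N ⊓ H` are read on `N.subgroupOf H`, and
are sent to `H.subgroupOf N` for induction inside `N`.
-/

set_option autoImplicit false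

open Cfsg.Agent.Char
open scoped ComplexConjugate

namespace Cfsg.Agent.Block

universe u

variable {G : Type u} [Group G] [Fintype G] {M : Ideal AlgInt} [hMp : M.IsPrime] {p : ℕ}
  {N H : Subgroup G}

/-- The two readings of `N ⊓ H`. -/
def meetEquiv (N H : Subgroup G) : (H.subgroupOf N) ≃* (N.subgroupOf H) where
  toFun n := ⟨⟨((n : N) : G), n.2⟩, (n : N).2⟩
  invFun n := ⟨⟨((n : H) : G), n.2⟩, (n : H).2⟩
  left_inv _ := rfl
  right_inv _ := rfl
  map_mul' _ _ := rfl

theorem omega_comp {A B : Type u} [Group A] [Finite A] [Group B] [Finite B] (e : A ≃* B)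
    (χ : B → ℂ) {a : MonoidAlgebra ℂ A} {b : MonoidAlgebra ℂ B}
    (h : ∀ x : A, a.coeff x = b.coeff (e x)) :
    omega (fun x => χ (e x)) a = omega χ b := by
  have ha : a = mkA fun x => b.coeff (e x) :=
    MonoidAlgebra.ext (Finsupp.ext fun x => by rw [h, coeff_mkA])
  have hb : b = mkA fun x => b.coeff x :=
    MonoidAlgebra.ext (Finsupp.ext fun x => by rw [coeff_mkA])
  rw [ha, omega_mkA_comp e χ fun x => b.coeff x, ← hb]

theorem inCoset_classSum [hN : N.Normal] (n : N) : InCoset N 1 (classSum (n : G)) := by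
  classical
  intro x hx
  simp only [classSum, coeff_mkA]
  refine if_neg fun hc => hx ?_
  obtain ⟨g, rfl⟩ := isConj_iff.1 hc
  exact (QuotientGroup.eq_one_iff _).2 (hN.conj_mem _ n.2 g)

variable [hN : N.Normal] [Fintype N] [Fintype H]

/-- Covering passes from `H` to `G` along induction. -/
theorem covers_of_induced [Fintype (N.subgroupOf H)] {c : Set (IrrCharacter H)}
    {B : Set (IrrCharacter G)} (hcB : IsInducedBlock M H c B)
    {e : Set (IrrCharacter (N.subgroupOf H))} (he : IsPBlock M e) (hce : Covers c e)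
    {d : Set (IrrCharacter N)}
    (hed : IsInducedBlock M (H.subgroupOf N) (compIrr (meetEquiv N H) '' e) d) : Covers B d := by
  refine (covers_iff_forall hcB.2.1 hed.2.1).2 fun χ hχ θ hθ n => ?_
  obtain ⟨ξ, hξ⟩ := isPBlock_nonempty hcB.1
  obtain ⟨η, hη⟩ := isPBlock_nonempty he
  have hcl : CL M (classSum (n : G)) := CL.classSum _
  have h : ro M χ (classSum (n : G)) = ro M θ (resH N (classSum (n : G))) := by
    have hs : InCoset (N.subgroupOf H) 1 (resH H (classSum (n : G))) := fun x hx => by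
      rw [coeff_resH]
      exact inCoset_classSum n _ fun hc => hx ((QuotientGroup.eq_one_iff x).2
        (Subgroup.mem_subgroupOf.2 ((QuotientGroup.eq_one_iff (x : G)).1 hc)))
    rw [← lam_eq_of_isInducedBlock hcB hξ hχ hcl, lam,
      ro_eq_of_covers hcB.1 he hce hξ hη (cl_resH (hcl.ps H)) hs,
      ← lam_eq_of_isInducedBlock hed ⟨η, hη, rfl⟩ hθ (cl_resH (hcl.ps N)), lam, ro, ro]
    congr 1
    exact (omega_comp (meetEquiv N H) (η : N.subgroupOf H → ℂ) fun x => by
      simp only [coeff_resH]; rfl).symm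
  rw [inducedCentralChar_eq_omega, ← omega_classSum]
  exact (resC_eq_iff (omega_mem_locRing χ hcl.1 hcl.2)
    (omega_mem_locRing θ (cl_resH (hcl.ps N)).1 (cl_resH (hcl.ps N)).2)).1 h

omit [Fintype H] in
/-- Conjugation commutes with induction inside `N`. -/
theorem isInducedBlock_conjBlk {h : H} {e : Set (IrrCharacter (N.subgroupOf H))}
    {d : Set (IrrCharacter N)}
    (hed : IsInducedBlock M (H.subgroupOf N) (compIrr (meetEquiv N H) '' e) d)
    (he : IsPBlock M e) :
    IsInducedBlock M (H.subgroupOf N)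
      (compIrr (meetEquiv N H) '' conjBlk (mem_normalizer_of_normal (N := N.subgroupOf H) h) e)
      (conjBlk (mem_normalizer_of_normal (N := N) (h : G)) d) := by
  classical
  haveI := Fintype.ofFinite (N.subgroupOf H)
  refine ⟨isPBlock_comp _ (isPBlock_conjBlk _ he), isPBlock_conjBlk _ hed.2.1, ?_⟩
  rintro _ ⟨_, ⟨η, hη, rfl⟩, rfl⟩ _ ⟨θ, hθ, rfl⟩ g
  set cf := normConj (mem_normalizer_of_normal (N := N) (h : G)) with hcf
  set cf' := normConj (mem_normalizer_of_normal (N := N.subgroupOf H) h) with hcf'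
  have key : inducedCentralChar (H.subgroupOf N)
        (fun x => (η : N.subgroupOf H → ℂ) (cf' (meetEquiv N H x))) g =
      inducedCentralChar (H.subgroupOf N)
        (fun x => (η : N.subgroupOf H → ℂ) (meetEquiv N H x)) (cf g) := by
    rw [inducedCentralChar_eq_omega, inducedCentralChar_eq_omega]
    have hψ := omega_comp (((meetEquiv N H).trans cf').trans (meetEquiv N H).symm)
      (fun x => (η : N.subgroupOf H → ℂ) (meetEquiv N H x))
      (a := resH (H.subgroupOf N) (classSum g)) (b := resH (H.subgroupOf N) (classSum (cf g)))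
      fun x => by
        have hx : ((((meetEquiv N H).trans cf').trans (meetEquiv N H).symm) x : N) = cf (x : N) := rfl
        simp only [coeff_resH, classSum, coeff_mkA, hx]
        have hiff : IsConj g (x : N) ↔ IsConj (cf g) (cf (x : N)) :=
          ⟨fun hc => cf.toMonoidHom.map_isConj hc, fun hc => by
            simpa using cf.symm.toMonoidHom.map_isConj hc⟩
        by_cases hc : IsConj g (x : N)
        · rw [if_pos hc, if_pos (hiff.1 hc)]
        · rw [if_neg hc, if_neg (mt hiff.2 hc)]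
    simpa using hψ
  show MemLocalIdeal M (inducedCentralChar (H.subgroupOf N)
    (fun x => (η : N.subgroupOf H → ℂ) (cf' (meetEquiv N H x))) g -
      centralChar (fun x => (θ : N → ℂ) (cf x)) g)
  rw [key, centralChar_comp_mulEquiv cf (θ : N → ℂ) g]
  exact hed.2.2 (compIrr (meetEquiv N H) η) ⟨η, hη, rfl⟩ θ hθ (cf g)

section Main

variable [Fintype (N.subgroupOf H)] [Fact p.Prime] {Q : Subgroup G}

omit hMp [Fintype G] [Fintype N] [Fintype H] [Fintype (N.subgroupOf H)] [Fact p.Prime] hN in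
theorem normalizer_le_of_inf_eq [hN : N.Normal] (hH : H = Subgroup.normalizer (Q : Set G))
    {R : Subgroup G} (hR : R ⊓ N = Q) : Subgroup.normalizer (R : Set G) ≤ H := by
  intro x hx
  rw [hH, Subgroup.mem_normalizer_iff]
  intro q
  rw [← hR, Subgroup.mem_inf, Subgroup.mem_inf,
    ← Subgroup.mem_normalizer_iff.1 hx q,
    ← Subgroup.mem_normalizer_iff.1 (mem_normalizer_of_normal (N := N) x) q]

/-- The Harris–Knörr correspondence. -/
theorem harris_knorr (hM : IsPModular p M) (hQ : IsPGroup p Q) (hQN : Q ≤ N)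
    (hH : H = Subgroup.normalizer (Q : Set G)) {d : Set (IrrCharacter N)} (hd : IsPBlock M d)
    (hdQ : IsDefectGroup p M d (Q.subgroupOf N)) {e : Set (IrrCharacter (N.subgroupOf H))}
    (he : IsPBlock M e)
    (heQ : IsDefectGroup p M e ((Q.subgroupOf H).subgroupOf (N.subgroupOf H)))
    (hed : IsInducedBlock M (H.subgroupOf N) (compIrr (meetEquiv N H) '' e) d) :
    (∀ c : Set (IrrCharacter H), IsPBlock M c → Covers c e →
        ∃! B : Set (IrrCharacter G), IsInducedBlock M H c B ∧ Covers B d) ∧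
    (∀ B : Set (IrrCharacter G), IsPBlock M B → Covers B d →
        ∃! c : Set (IrrCharacter H), (IsPBlock M c ∧ Covers c e) ∧ IsInducedBlock M H c B) := by
  classical
  have hQH : Q ≤ H := hH ▸ Subgroup.le_normalizer
  have hCQ : Subgroup.centralizer (Q : Set G) ≤ H := hH ▸ centralizer_le_normalizer' Q
  -- uniqueness of the induced block
  have huniq : ∀ c : Set (IrrCharacter H), ∀ B B' : Set (IrrCharacter G),
      IsInducedBlock M H c B → IsInducedBlock M H c B' → B = B' := by
    intro c B B' h h'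
    obtain ⟨ξ, hξ⟩ := isPBlock_nonempty h.1
    exact (isResHom_lam hM hQ hCQ (Or.inl hQH)
      (Factors.of_normal hM hQ hQH hH.le ξ)).eq_of_ne_zero h.2.1 h'.2.1
        (lam_blockIdem_of_isInducedBlock h hξ ▸ one_ne_zero)
        (lam_blockIdem_of_isInducedBlock h' hξ ▸ one_ne_zero)
  constructor
  · intro c hc hce
    obtain ⟨ξ, hξ⟩ := isPBlock_nonempty hc
    have hh := isResHom_lam hM hQ hCQ (Or.inl hQH) (Factors.of_normal hM hQ hQH hH.le ξ)
    obtain ⟨B, hB, h1⟩ := hh.exists_block
    have hcB := isInducedBlock_of_lam hc hξ hh hB (h1 ▸ one_ne_zero)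
    exact ⟨B, ⟨hcB, covers_of_induced hcB he hce hed⟩, fun B' h' => huniq c B' B h'.1 hcB⟩
  intro B hB hBd
  obtain ⟨P, hP, hPN⟩ := exists_defectGroup_inf_eq hM hB hd hBd hQN hdQ
  have hPp := isPGroup_of_isDefectGroup hP
  have hNP := normalizer_le_of_inf_eq hH hPN
  have hPH : P ≤ H := Subgroup.le_normalizer.trans hNP
  have hCP := (centralizer_le_normalizer' P).trans hNP
  obtain ⟨c, hc, hcP, hl⟩ := exists_block_over hM hPH hCP hB hP
  obtain ⟨ξ, hξ⟩ := isPBlock_nonempty hc
  have hfac := Factors.of_defectGroup hM hPH hc hcP hξ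
  have hcB : IsInducedBlock M H c B :=
    isInducedBlock_of_lam hc hξ (isResHom_lam hM hPp hCP (Or.inl hPH) hfac) hB
      (hl ξ hξ ▸ one_ne_zero)
  refine ⟨c, ⟨⟨hc, ?_⟩, hcB⟩, ?_⟩
  · -- a block below `c` with defect group `Q`
    obtain ⟨φ, hφ⟩ := exists_constituent' (N := N.subgroupOf H) ξ
    obtain ⟨g, -, hg⟩ := exists_covered_defectGroup hM hc (isPBlock_blockOf φ)
      ⟨ξ, hξ, φ, self_mem_blockOf φ, hφ⟩ hcP
    set e₁ := conjBlk (mem_normalizer_of_normal (N := N.subgroupOf H) g)
      (blockOf M (φ : N.subgroupOf H → ℂ)) with he₁def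
    have he₁ : IsPBlock M e₁ := isPBlock_conjBlk _ (isPBlock_blockOf φ)
    have hce₁ : Covers c e₁ := covers_conjBlk ⟨ξ, hξ, φ, self_mem_blockOf φ, hφ⟩ g
    have heq : (P.subgroupOf H ⊓ N.subgroupOf H).subgroupOf (N.subgroupOf H) =
        (Q.subgroupOf H).subgroupOf (N.subgroupOf H) := by
      ext x
      simp only [Subgroup.mem_subgroupOf, Subgroup.mem_inf, ← hPN]
    rw [heq] at hg
    -- its image inside `N`
    have himg : ∀ e' : Set (IrrCharacter (N.subgroupOf H)),
        IsDefectGroup p M e' ((Q.subgroupOf H).subgroupOf (N.subgroupOf H)) →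
        IsDefectGroup p M (compIrr (meetEquiv N H) '' e')
          ((Q.subgroupOf N).subgroupOf (H.subgroupOf N)) := fun e' h' => by
      have := isDefectGroup_comp (meetEquiv N H) h'
      rwa [show ((Q.subgroupOf H).subgroupOf (N.subgroupOf H)).map
          (meetEquiv N H).symm.toMonoidHom = (Q.subgroupOf N).subgroupOf (H.subgroupOf N) from by
        ext x; rw [Subgroup.mem_map_equiv]; exact Iff.rfl] at this
    have hNQN : Subgroup.normalizer ((Q.subgroupOf N : Subgroup N) : Set N) ≤ H.subgroupOf N := by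
      intro x hx
      rw [Subgroup.mem_subgroupOf, hH, Subgroup.mem_normalizer_iff]
      intro q
      constructor
      · intro hq
        exact (Subgroup.mem_normalizer_iff.1 hx ⟨q, hQN hq⟩).1 hq
      · intro hq
        have hqN : q ∈ N := (Subgroup.mem_normalizer_iff.1
          (mem_normalizer_of_normal (N := N) (x : G)) q).2 (hQN hq)
        exact (Subgroup.mem_normalizer_iff.1 hx ⟨q, hqN⟩).2 hq
    obtain ⟨d₁, hd₁, hd₁Q, hind₁⟩ := exists_induced_of_defectGroup hM hQ.comap_subtype hNQN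
      (isPBlock_comp (meetEquiv N H) he₁) (himg e₁ hg)
    -- it is conjugate to `d`
    have hBd₁ : Covers B d₁ := covers_of_induced hcB he₁ hce₁ hind₁
    obtain ⟨χ, hχ, θ, hθ, hχθ⟩ := id hBd₁
    have hone : ro M χ (blockOrbit M d) = 1 := by
      rw [ro, omega_blockOrbit_eq_one hB hd hBd hχ, resC_one]
    rw [ro, omega_eq_of_constituent χ θ hχθ (cl_blockOrbit d).1 (inCoset_blockOrbit d)] at hone
    have hmem : d₁ ∈ orbitBlocks M ⊤ (fun x _ => mem_normalizer_of_normal (N := N) x) d := by
      by_contra hn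
      have := (lam_orbitSum (M := M)
        (fun x (_ : x ∈ (⊤ : Subgroup G)) => mem_normalizer_of_normal (N := N) x) d hd₁ hθ).2 hn
      exact one_ne_zero (hone.symm.trans this)
    obtain ⟨-, g', hg'⟩ := mem_orbitBlocks.1 hmem
    obtain ⟨n, hn⟩ : ∃ n : N, ((n : G) * (g' : G)) ∈ H := by
      have h1 := isDefectGroup_comp (normConj (mem_normalizer_of_normal (N := N) (g' : G))) hdQ
      rw [show compIrr (normConj (mem_normalizer_of_normal (N := N) (g' : G))) '' d = d₁ from
        hg'.symm] at h1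
      obtain ⟨n, hn⟩ := isDefectGroup_conj hM hd₁ h1 hd₁Q
      refine ⟨n, ?_⟩
      have hfwd : ∀ q ∈ Q, ((n : G) * g') * q * ((n : G) * g')⁻¹ ∈ Q := fun q hq => by
        have hm : (⟨((n : G) * g') * q * ((n : G) * g')⁻¹,
            hN.conj_mem q (hQN hq) _⟩ : N) ∈ Q.subgroupOf N := by
          rw [Subgroup.subgroupOf, hn]
          refine ⟨_, ⟨⟨q, hQN hq⟩, hq, rfl⟩, Subtype.ext ?_⟩
          show (n : G) * ((g' : G) * q * (g' : G)⁻¹) * (n : G)⁻¹ = _
          group
        exact hm
      rw [hH]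
      exact Subgroup.mem_normalizer_fintype fun q hq => hfwd q hq
    set h : H := ⟨_, hn⟩ with hhdef
    have hd₁h : conjBlk (mem_normalizer_of_normal (N := N) (h : G)) d = d₁ := by
      rw [conjBlk_ext' (show (h : G) = (n : G) * g' from rfl) d, conjBlk_mul',
        show conjBlk (mem_normalizer_of_normal (N := N) (g' : G)) d = d₁ from hg'.symm]
      show conjIrr (mem_normalizer_of_normal (N := N) (n : G)) '' d₁ = d₁
      simp only [conjIrr_self_of_mem, Set.image_id']
    have hind₂ := isInducedBlock_conjBlk (h := h) hed he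
    rw [hd₁h] at hind₂
    have hheQ : IsDefectGroup p M (conjBlk (mem_normalizer_of_normal (N := N.subgroupOf H) h) e)
        ((Q.subgroupOf H).subgroupOf (N.subgroupOf H)) := by
      have := isDefectGroup_comp (normConj (mem_normalizer_of_normal (N := N.subgroupOf H) h)) heQ
      rwa [show ((Q.subgroupOf H).subgroupOf (N.subgroupOf H)).map
          (normConj (mem_normalizer_of_normal (N := N.subgroupOf H) h)).symm.toMonoidHom =
          (Q.subgroupOf H).subgroupOf (N.subgroupOf H) from by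
        ext x
        rw [Subgroup.mem_map_equiv]
        have hh2 : (h : G) ∈ Subgroup.normalizer (Q : Set G) := hH ▸ h.2
        simpa [Subgroup.mem_subgroupOf, normConj] using
          (Subgroup.mem_normalizer_iff.1 (inv_mem hh2) ((x : H) : G)).symm] at this
    obtain ⟨η₁, hη₁⟩ := isPBlock_nonempty hind₁.1
    obtain ⟨η₂, hη₂⟩ := isPBlock_nonempty hind₂.1
    have := eq_of_lam_eq_one hM hQ.comap_subtype hNQN hd₁ hind₁.1 (himg e₁ hg) hind₂.1
      (himg _ hheQ) hη₁ hη₂ (lam_blockIdem_of_isInducedBlock hind₁ hη₁)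
      (lam_blockIdem_of_isInducedBlock hind₂ hη₂)
    have he₁e := Set.image_injective.2 (compIrr_injective _) this
    have h2 := covers_conjBlk hce₁ h⁻¹
    rwa [he₁e, ← conjBlk_mul', conjBlk_ext' (inv_mul_cancel h) e,
      conjBlk_one _ e] at h2
  rintro c' ⟨⟨hc', hc'e⟩, hc'B⟩
  obtain ⟨R, hR, hRN⟩ := exists_defectGroup_inf_eq hM hc' he hc'e
    (Q := Q.subgroupOf H) (fun x hx => hQN hx) heQ
  set RG : Subgroup G := R.map H.subtype with hRG
  have hRGN : RG ⊓ N = Q := by
    ext x
    constructor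
    · rintro ⟨⟨r, hr, rfl⟩, hx⟩
      have : r ∈ R ⊓ N.subgroupOf H := ⟨hr, hx⟩
      rw [hRN] at this
      exact this
    · intro hx
      have h0 : (⟨x, hQH hx⟩ : H) ∈ Q.subgroupOf H := hx
      rw [← hRN] at h0
      exact ⟨⟨_, h0.1, rfl⟩, hQN hx⟩
  have hNR := normalizer_le_of_inf_eq hH hRGN
  have hRGp : IsPGroup p RG := (isPGroup_of_isDefectGroup hR).map _
  have hback : RG.subgroupOf H = R := Subgroup.comap_map_eq_self_of_injective H.subtype_injective R
  obtain ⟨B', hB', hB'R, hc'B'⟩ := exists_induced_of_defectGroup hM hRGp hNR hc' (hback.symm ▸ hR)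
  obtain rfl := huniq c' B B' hc'B hc'B'
  obtain ⟨g, hg⟩ := isDefectGroup_conj hM hB hB'R hP
  have hgH : g ∈ H := by
    rw [hH]
    refine Subgroup.mem_normalizer_fintype fun q hq => ?_
    have hq' : q ∈ RG ⊓ N := hRGN.symm ▸ hq
    have : g * q * g⁻¹ ∈ P ⊓ N := ⟨by rw [hg]; exact ⟨q, hq'.1, rfl⟩, hN.conj_mem q hq'.2 g⟩
    rwa [hPN] at this
  have hc'P : IsDefectGroup p M c' (P.subgroupOf H) := by
    have := isDefectGroup_map_conj hR (⟨g, hgH⟩ : H)
    rwa [show R.map (MulAut.conj (⟨g, hgH⟩ : H)).toMonoidHom = P.subgroupOf H from by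
      ext x
      rw [mem_map_conj_iff, Subgroup.mem_subgroupOf, hg, mem_map_conj_iff, ← hback]
      rfl] at this
  obtain ⟨ξ', hξ'⟩ := isPBlock_nonempty hc'
  exact (eq_of_lam_eq_one hM hPp hNP hB hc hcP hc' hc'P hξ hξ' (hl ξ hξ)
    (lam_blockIdem_of_isInducedBlock hc'B hξ')).symm

end Main

end Cfsg.Agent.Block
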