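import Cfsg.Agent.Lib.Block.StabSylow
import Cfsg.Agent.Lib.Block.Height
import Cfsg.Agent.Lib.Block.Glauberman

/-!
# A stable character of height zero below a normal subgroup
-/

set_option autoImplicit false
set_option linter.style.haveILetI false

open Cfsg Cfsg.Agent.Char
open scoped ComplexConjugate

namespace Cfsg.Agent.Block

universe u

variable {G : Type u} [Group G] [Finite G] {M : Ideal AlgInt} [hMp : M.IsPrime] {p : ℕ}
  [Fact p.Prime] {H : Subgroup G} {f : Set (IrrCharacter H)}

/-- A `p`-group fixing a block fixes a class on which its idempotent and central character are units. -/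
theorem exists_fixed_class_subgroup (hM : IsPModular p M) {S : Subgroup G} (hS : IsPGroup p S)
    (hf : IsPBlock M f)
    (hfix : ∀ t ∈ S, ∃ ht : t ∈ Subgroup.normalizer (H : Set G),
      conjBlk ht f = f) :
    ∃ y : H, ¬ MemLocalIdeal M ((blockIdem f).coeff y) ∧
      (∃ θ ∈ f, ¬ MemLocalIdeal M (centralChar (θ : H → ℂ) y)) ∧
      ∀ s ∈ S, ∃ h ∈ H, Commute (h * s) (y : G) := by
  classical
  obtain ⟨θ, hθ⟩ := isPBlock_nonempty hf
  haveI := Fintype.ofFinite (ConjClasses H)
  let cf : S → (H ≃* H) := fun s => normConj (hfix s s.2).1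
  letI : MulAction S (ConjClasses H) :=
    { smul := fun s => ConjClasses.map (cf s⁻¹).toMonoidHom
      one_smul := fun C => by
        induction C using Quotient.inductionOn with
        | h y => exact congrArg ConjClasses.mk (Subtype.ext (by simp [cf]))
      mul_smul := fun s r C => by
        induction C using Quotient.inductionOn with
        | h y => exact congrArg ConjClasses.mk (Subtype.ext (by simp [cf, mul_assoc])) }
  have hsmul : ∀ (s : S) (y : H), s • ConjClasses.mk y = ConjClasses.mk (cf s⁻¹ y) :=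
    fun _ _ => rfl
  let z : ConjClasses H → ℂ :=
    fun C => (blockIdem f).coeff (classRep C) * centralChar (θ : H → ℂ) (classRep C)
  have hecl := CL.blockIdem hf
  have hzl : ∀ C, z C ∈ locRing M := fun C => mul_mem (hecl.2 _) (centralChar_mem_locRing θ _)
  let sec : ResK M → ℂ := fun r => ((Function.surjInv IsLocalRing.residue_surjective r : locRing M) : ℂ)
  have hsec : ∀ r, resC M (sec r) = r := fun r => by
    rw [resC_of_mem (SetLike.coe_mem _)]
    exact Function.surjInv_eq IsLocalRing.residue_surjective r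
  have hcc : ∀ y y' : H, IsConj y y' →
      centralChar (θ : H → ℂ) y = centralChar (θ : H → ℂ) y' := fun y y' h => by
    rw [← omega_classSum, ← omega_classSum]
    congr 1
    refine MonoidAlgebra.ext (Finsupp.ext fun x => ?_)
    simp only [classSum, coeff_mkA]
    exact if_congr ⟨fun h' => h.symm.trans h', fun h' => h.trans h'⟩ rfl rfl
  have hzinv : ∀ (s : S) (C : ConjClasses H), resC M (z (s • C)) = resC M (z C) := by
    intro s C
    obtain ⟨hs, hsfix⟩ := hfix _ (s⁻¹).2
    have e1 : s • C = ConjClasses.mk (cf s⁻¹ (classRep C)) := by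
      rw [← hsmul s, mk_classRep]
    have hc' : IsConj (classRep (s • C)) (cf s⁻¹ (classRep C)) := by
      rw [e1]; exact (isConj_classRep_mk _).symm
    have ha' : (blockIdem f).coeff (classRep (s • C)) = (blockIdem f).coeff (classRep C) := by
      rw [IsClassFunction.apply_isConj hecl.1 hc']
      simp only [blockIdem, coeff_mkA]
      conv_rhs => rw [← hsfix, blockCoeff_conjBlk]
    have hcz : MemLocalIdeal M (centralChar (θ : H → ℂ) (classRep (s • C)) -
        centralChar (θ : H → ℂ) (classRep C)) := by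
      rw [hcc _ _ hc']
      have hmem : conjIrr hs θ ∈ f := by
        have h := (mem_conjBlk_iff hs f θ).2 hθ
        rwa [hsfix] at h
      have h2 := isPBlock_sameBlock hf hmem hθ (classRep C)
      have h3 : centralChar ((conjIrr hs θ : IrrCharacter H) : H → ℂ) (classRep C) =
          centralChar (θ : H → ℂ) (cf s⁻¹ (classRep C)) := by
        rw [← centralChar_comp_mulEquiv (cf s⁻¹)]
        rfl
      rw [h3] at h2
      exact h2
    refine (resC_eq_iff (hzl _) (hzl _)).2 ?_
    show MemLocalIdeal M (_ * _ - _ * _)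
    rw [ha', ← mul_sub]
    exact memLocalIdeal_mul_left (hecl.2 _) hcz
  have hsum := sum_congr_fixed hM hS (fun C => sec (resC M (z C)))
    (fun s C => by rw [hzinv]) fun C => SetLike.coe_mem _
  obtain ⟨C, hfixC, hC⟩ : ∃ C : ConjClasses H, (∀ s : S, s • C = C) ∧ resC M (z C) ≠ 0 := by
    by_contra! hnofix
    have h0 : resC M (∑ C, sec (resC M (z C))) = 0 := by
      refine resC_eq_zero_of_memLocalIdeal ?_
      have : MemLocalIdeal M
          (∑ C, if (∀ s : S, s • C = C) then sec (resC M (z C)) else 0) :=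
        memLocalIdeal_sum _ _ fun C _ => by
          split
          next h => exact (resC_eq_zero_iff (SetLike.coe_mem _)).1 (by rw [hsec, hnofix C h])
          · exact memLocalIdeal_zero
      simpa using memLocalIdeal_add hsum this
    have h1 : ro M θ (blockIdem f) = 0 := by
      rw [ro, omega_eq_sum_classes θ hecl.1, resC_sum _ _ fun C _ => hzl C]
      rw [resC_sum _ _ fun C _ => SetLike.coe_mem _] at h0
      rw [Finset.sum_congr rfl fun C _ => hsec (resC M (z C))] at h0
      exact h0
    rw [ro_blockIdem_mem hθ] at h1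
    exact one_ne_zero h1
  refine ⟨classRep C, fun h =>
    hC (resC_eq_zero_of_memLocalIdeal (memLocalIdeal_mul_right (centralChar_mem_locRing θ _) h)),
    ⟨θ, hθ, fun h => hC (resC_eq_zero_of_memLocalIdeal (memLocalIdeal_mul_left (hecl.2 _) h))⟩,
    fun s hs => ?_⟩
  have h1 := hfixC ⟨s, hs⟩
  rw [show C = ConjClasses.mk (classRep C) from (mk_classRep C).symm, hsmul] at h1
  obtain ⟨h, hh⟩ := isConj_iff.1 (ConjClasses.mk_eq_mk_iff_isConj.1 h1)
  have hh' : (h : G) * (s * ((classRep C : H) : G) * s⁻¹) * (h : G)⁻¹ =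
      ((classRep C : H) : G) := by
    have := congrArg (fun v : H => (v : G)) hh
    simpa [cf] using this
  refine ⟨h, h.2, ?_⟩
  show (h : G) * s * ((classRep C : H) : G) = ((classRep C : H) : G) * ((h : G) * s)
  conv_rhs => rw [← hh']
  group

section Coefficients

/-- The block idempotent coefficients are combinations of the character values. -/
theorem blockCoeff_eq_sum_sylow {K : Type u} [Group K] [Fintype K] (hM : IsPModular p M) {B : Set (IrrCharacter K)}
    (hB : IsPBlock M B) (P : Sylow p K) : ∃ m : ℂ,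
      (∀ χ : IrrCharacter K, m * classInner (sectionFun (P : Subgroup K) (1 : K)) (χ : K → ℂ) ∈ locRing M) ∧
      ∀ x : K, ¬ p ∣ orderOf x → blockCoeff B x =
        ∑ᶠ χ ∈ B, m * classInner (sectionFun (P : Subgroup K) (1 : K)) (χ : K → ℂ) * (χ : K → ℂ) x⁻¹ := by
  classical
  haveI := Fact.mk hM.1
  haveI := prime_of_isPModular hM
  set φ := sectionFun (P : Subgroup K) (1 : K)
  have hP1 : (P : Subgroup K) ≤ Subgroup.centralizer ({1} : Set K) := fun x _ =>
    mem_centralizer_singleton.2 (Commute.one_left x)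
  have hspan : IsSpanR M φ := isSpanR_sectionFun _ hP1
  have h1p : ¬ p ∣ orderOf (1 : K) := by rw [orderOf_one]; exact hM.1.not_dvd_one
  set a := (Nat.card K).factorization p
  set m := Nat.card K / p ^ a
  have hm : (Nat.card K : ℂ) = ((p ^ a : ℕ) : ℂ) * (m : ℂ) := by
    rw [← Nat.cast_mul, Nat.ordProj_mul_ordCompl_eq_self]
  have hφ1 : φ 1 = (m : ℂ) := by
    have hp0 : ((p ^ a : ℕ) : ℂ) ≠ 0 := Nat.cast_ne_zero.2 (pow_ne_zero _ hM.1.ne_zero)
    show sectionFun _ _ _ = _
    rw [sectionFun_self hM.1 h1p P.2 hP1, Sylow.card_eq_multiplicity,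
      show Subgroup.centralizer ({1} : Set K) = ⊤ from eq_top_iff.2 fun x _ =>
        mem_centralizer_singleton.2 (Commute.one_left x), Subgroup.card_top, hm,
      mul_div_cancel_left₀ _ hp0]
  refine ⟨(m : ℂ)⁻¹,
    fun χ => mul_mem (inv_natCast_mem_locRing hM.1 hM.2.2 (Nat.not_dvd_ordCompl hM.1 Nat.card_pos.ne'))
      (hspan.2 χ), fun x hx => ?_⟩
  have h1 := blockPart_regular (p := p) hM hB φ x⁻¹
  rw [orderOf_inv, if_neg hx, blockPart_eq_sum, Finset.sum_eq_single (1 : K), if_neg h1p, hφ1] at h1
  · have hk : blockKernel B x⁻¹ 1 = blockKernel B 1 x := by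
      simp only [blockKernel]
      refine finsum_congr fun χ => finsum_congr fun _ => ?_
      rw [IsCharacter.map_inv (IsIrrCharacter.isCharacter χ.2), conj_irr_one, mul_comm]
    rw [hk] at h1
    have hm0 : (m : ℂ) ≠ 0 := Nat.cast_ne_zero.2 fun h0 =>
      Nat.not_dvd_ordCompl hM.1 Nat.card_pos.ne' (show p ∣ m from h0 ▸ dvd_zero p)
    rw [blockCoeff_eq_blockKernel, ← inv_mul_cancel_left₀ hm0 ((Nat.card K : ℂ)⁻¹ * blockKernel B 1 x),
      mul_left_comm (m : ℂ), h1, blockPart, finsum_mem_eq_finite_toFinset_sum _ B.toFinite,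
      finsum_mem_eq_finite_toFinset_sum _ B.toFinite, Finset.mul_sum]
    refine Finset.sum_congr rfl fun χ _ => ?_
    rw [← mul_assoc]
    congr 3
    exact Subsingleton.elim _ _
  · intro y _ hy
    by_cases hyp : p ∣ orderOf y
    · rw [if_pos hyp, zero_mul]
    · have hzero : φ y = 0 := by
        refine sectionFun_eq_zero_of_not h1p hP1 P.2 hM.1 fun ⟨u, hu, hc⟩ => hy ?_
        have := isPPart_unique hM.1 hu ((isPPart_one_iff hM.1).2 hyp)
        rw [this, inv_one, mul_one] at hc
        obtain ⟨t, ht⟩ := isConj_iff.1 hc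
        rw [← ht]; simp
      rw [if_neg hyp, hzero, zero_mul]
  · simp

end Coefficients

/-- A block of a normal subgroup has a height zero character fixed by a Sylow subgroup of its stabiliser. -/
theorem exists_height_zero_fixed (hM : IsPModular p M) [H.Normal] (hb : IsPBlock M f) {T : Subgroup G}
    (hHT : H ≤ T) (hfix : ∀ t ∈ T, ∃ ht : t ∈ Subgroup.normalizer (H : Set G), conjBlk ht f = f) :
    ∃ θ ∈ f, blockHeight p f (θ : H → ℂ) = 0 ∧ ∃ S : Subgroup G, S ≤ T ∧ ¬ p ∣ S.relIndex T ∧
      ∀ s ∈ S, ∃ hs : s ∈ Subgroup.normalizer (H : Set G), conjIrr hs θ = θ := by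
  classical
  haveI := Fintype.ofFinite G
  haveI := Fintype.ofFinite H
  haveI := Fintype.ofFinite (IrrCharacter H)
  obtain ⟨Q⟩ : Nonempty (Sylow p (H.subgroupOf T)) := inferInstance
  obtain ⟨S₁, hS₁⟩ := (Q.isPGroup'.map (H.subgroupOf T).subtype).exists_le_sylow
  set S := (S₁ : Subgroup T).map T.subtype with hSdef
  have hST : S ≤ T := Subgroup.map_subtype_le _
  have hSp : IsPGroup p S := S₁.isPGroup'.map _
  have hSr : S.relIndex T = (S₁ : Subgroup T).index := by
    rw [hSdef, Subgroup.relIndex, Subgroup.subgroupOf,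
      Subgroup.comap_map_eq_self_of_injective T.subtype_injective]
  -- a Sylow subgroup of `H` normalised by `S`
  let P : Sylow p H :=
    { toSubgroup := S.subgroupOf H
      isPGroup' := hSp.comap_subtype
      is_maximal' := by
        intro R hR hle
        refine le_antisymm (fun r hr => ?_) hle
        let R' : Subgroup (H.subgroupOf T) := R.comap (Subgroup.subgroupOfEquivOfLe hHT).toMonoidHom
        have hR' : IsPGroup p R' := hR.comap_of_injective _ (Subgroup.subgroupOfEquivOfLe hHT).injective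
        have hQR : (Q : Subgroup (H.subgroupOf T)) ≤ R' := fun q hq => by
          refine hle ?_
          show ((Subgroup.subgroupOfEquivOfLe hHT q : H) : G) ∈ S
          exact ⟨(q : T), hS₁ ⟨q, hq, rfl⟩, rfl⟩
        have heq := Q.is_maximal' hR' hQR
        have hmem : (Subgroup.subgroupOfEquivOfLe hHT).symm r ∈ R' := by
          show Subgroup.subgroupOfEquivOfLe hHT ((Subgroup.subgroupOfEquivOfLe hHT).symm r) ∈ R
          rwa [MulEquiv.apply_symm_apply]
        rw [heq] at hmem
        exact ⟨_, hS₁ ⟨_, hmem, rfl⟩, rfl⟩ }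
  obtain ⟨y, hyu, ⟨θ₀, hθ₀, hω⟩, hy⟩ := exists_fixed_class_subgroup hM hSp hb (fun t ht => hfix t (hST ht))
  have hexp : classExp p y = minVal p f := le_antisymm (classExp_le_minVal hM hb hθ₀ hω)
    (minVal_le_classExp hM hb (by simpa [blockIdem] using hyu))
  have hreg : ¬ p ∣ orderOf y := fun h => hyu (by
    simp only [blockIdem, coeff_mkA]
    rw [blockCoeff_eq_zero_of_dvd hM hb h]
    exact memLocalIdeal_zero)
  obtain ⟨m, hmem, hsum⟩ := blockCoeff_eq_sum_sylow hM hb P
  set φ := sectionFun (P : Subgroup H) (1 : H) with hφ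
  let F : IrrCharacter H → ℂ := fun θ =>
    if θ ∈ f then m * classInner φ (θ : H → ℂ) * (θ : H → ℂ) y⁻¹ else 0
  have hsN : ∀ s : S, (s : G) ∈ Subgroup.normalizer (H : Set G) := fun s => (hfix _ (hST s.2)).1
  letI : MulAction S (IrrCharacter H) :=
    { smul := fun s θ => conjIrr (hsN s) θ
      one_smul := fun θ => conjIrr_one _ θ
      mul_smul := fun s r θ => conjIrr_mul (hsN s) (hsN r) θ }
  have hFinv : ∀ (s : S) (θ : IrrCharacter H), F (s • θ) = F θ := by
    intro s θ
    show F (conjIrr (hsN s) θ) = F θ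
    obtain ⟨hx, hxf⟩ := hfix _ (hST s.2)
    have hmemf : conjIrr (hsN s) θ ∈ f ↔ θ ∈ f := by
      conv_lhs => rw [← hxf]
      exact mem_conjBlk_iff hx f θ
    by_cases hθ : θ ∈ f
    · simp only [F, if_pos hθ, if_pos (hmemf.2 hθ)]
      congr 1
      · congr 1
        have hP : ∀ a : H, normConj (hsN s) a ∈ (P : Subgroup H) ↔ a ∈ (P : Subgroup H) := by
          intro a
          show (((normConj (hsN s) a : H)) : G) ∈ S ↔ (a : G) ∈ S
          rw [coe_normConj, Subgroup.mul_mem_cancel_right _ s.2, Subgroup.mul_mem_cancel_left _ (inv_mem s.2)]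
        have hφinv : ∀ a : H, φ (normConj (hsN s) a) = φ a := by
          intro a
          simp only [hφ, sectionFun, inv_one, one_mul]
          congr 2
          refine Nat.card_congr (Equiv.subtypeEquiv (normConj (hsN s)).symm.toEquiv fun h => ?_)
          rw [← hP (((normConj (hsN s)).symm.toEquiv h) * a * ((normConj (hsN s)).symm.toEquiv h)⁻¹)]
          simp [map_mul]
        simp only [classInner]
        congr 1
        refine Fintype.sum_equiv (normConj (hsN s)).toEquiv _ _ fun a => ?_
        show φ a * _ = φ (normConj (hsN s) a) * _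
        rw [hφinv a, conjIrr_apply]
        rfl
      · obtain ⟨h, hh, hc⟩ := hy (s : G) s.2
        rw [conjIrr_apply]
        refine IsIrrCharacter.apply_isConj θ.2 ?_
        -- the conjugate is conjugate inside `H`
        have hmemH : (s : G)⁻¹ * h * (s : G) ∈ H := by
          have := ‹H.Normal›.conj_mem _ hh (s : G)⁻¹
          rwa [inv_inv] at this
        refine (isConj_iff.2 ⟨(⟨_, hmemH⟩ : H), Subtype.ext ?_⟩).symm
        have h1 : (h * s : G) * (y : G)⁻¹ = (y : G)⁻¹ * (h * s : G) := hc.inv_right.eq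
        rw [coe_normConj]
        simp only [Subgroup.coe_mul, Subgroup.coe_inv]
        calc (s : G)⁻¹ * h * s * (y : G)⁻¹ * ((s : G)⁻¹ * h * s)⁻¹
            = (s : G)⁻¹ * ((h * s : G) * (y : G)⁻¹) * ((s : G)⁻¹ * h * s)⁻¹ := by group
          _ = (s : G)⁻¹ * ((y : G)⁻¹ * (h * s : G)) * ((s : G)⁻¹ * h * s)⁻¹ := by rw [h1]
          _ = (s : G)⁻¹ * (y : G)⁻¹ * s := by group
    · simp only [F, if_neg hθ, if_neg (fun h => hθ (hmemf.1 h))]
  have hl : ∀ θ, F θ ∈ locRing M := fun θ => by
    simp only [F]
    split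
    · exact mul_mem (hmem θ) (irr_mem_locRing θ _)
    · exact zero_mem _
  have hcongr := sum_congr_fixed hM hSp F hFinv hl
  have htot : ∑ θ : IrrCharacter H, F θ = blockCoeff f y := by
    rw [hsum y hreg, finsum_mem_eq_finite_toFinset_sum _ f.toFinite]
    simp only [F]
    rw [← Finset.sum_filter]
    exact Finset.sum_congr (Finset.ext fun θ => by simp) fun _ _ => rfl
  obtain ⟨θ, hθfix, hθF⟩ : ∃ θ : IrrCharacter H, (∀ s : S, s • θ = θ) ∧ ¬ MemLocalIdeal M (F θ) := by
    by_contra hcon
    push Not at hcon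
    refine hyu ?_
    simp only [blockIdem, coeff_mkA]
    rw [← htot]
    have h0 : MemLocalIdeal M (∑ θ : IrrCharacter H, if (∀ s : S, s • θ = θ) then F θ else 0) :=
      memLocalIdeal_sum _ _ fun θ _ => by
        split
        next h => exact hcon θ h
        · exact memLocalIdeal_zero
    simpa using memLocalIdeal_add hcongr h0
  have hθf : θ ∈ f := by
    by_contra h
    simp only [F, if_neg h] at hθF
    exact hθF memLocalIdeal_zero
  simp only [F, if_pos hθf] at hθF
  refine ⟨θ, hθf, ?_, S, hST, ?_, fun s hs => ⟨hsN ⟨s, hs⟩, hθfix ⟨s, hs⟩⟩⟩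
  · by_contra hh
    refine hθF (memLocalIdeal_mul_left (hmem θ) (memLocalIdeal_apply_of_lt hM θ y⁻¹ ?_))
    rw [classExp_inv, hexp]
    have := minVal_add_height (p := p) hθf
    omega
  · rw [hSr]
    exact S₁.not_dvd_index

end Cfsg.Agent.Block
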