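import Cfsg.Agent.S4721
import Cfsg.Agent.Lib.Solv.NormalPComplement

/-!
# Homocyclic Sylow 2-subgroups of rank two

The principal block has two non-trivial members of degree one, by the class multiplication coefficient of the
involutions at an element of the Sylow subgroup that no involution inverts.
-/

set_option autoImplicit false
set_option maxHeartbeats 800000
set_option linter.style.haveILetI false
set_option linter.unusedVariables false
set_option linter.unusedSectionVars false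

namespace Cfsg.Agent.Block.HomocyclicTwo

open Cfsg Cfsg.Agent Cfsg.Agent.Char Cfsg.Agent.Block Cfsg.Agent.Block.AbTI
open Cfsg.Agent.S4721 (exists_avoiding exists_int_value normalised)
open Cfsg.Agent.Solv (le_pPrimeCore card_pPrimeCore_coprime pPrimeCore_characteristic)
open scoped Classical ComplexConjugate

universe w

/-- The integral solutions of the degree relations. -/
theorem solve_degrees {q A B H : ℤ} (hq : 16 ≤ q) (h1 : 1 + A + B + H = 0)
    (h2 : (1 : ℚ) + 1 / A + 1 / B + 9 / H = 0) (hA : q ∣ A - 1) (hB : q ∣ B - 1) (hH : q ∣ H + 3) :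
    A = 1 ∨ B = 1 := by
  by_contra hne
  push Not at hne
  have hbig : ∀ X : ℤ, X ≠ 1 → q ∣ X - 1 → 15 ≤ |X| := fun X hX hd => by
    have h := Int.le_of_dvd (abs_pos.2 (sub_ne_zero.2 hX)) ((dvd_abs _ _).2 hd)
    have := abs_sub X 1
    norm_num at this
    linarith
  have hH0 : H ≠ 0 := fun e => by
    subst e
    have := Int.le_of_dvd (by norm_num) hH
    omega
  have hb : ∀ X : ℤ, 15 ≤ |X| → |(1 : ℚ) / X| ≤ 1 / 15 := fun X hX => by
    rw [abs_div, abs_one]
    exact one_div_le_one_div_of_le (by norm_num) (by exact_mod_cast hX)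
  obtain ⟨a1, a2⟩ := abs_le.1 (hb A (hbig A hne.1 hA))
  obtain ⟨b1, b2⟩ := abs_le.1 (hb B (hbig B hne.2 hB))
  have hHq : (H : ℚ) ≠ 0 := by exact_mod_cast hH0
  have h9 : (9 / (H : ℚ)) * H = 9 := div_mul_cancel₀ 9 hHq
  have hneg : (H : ℚ) < 0 := by nlinarith
  have hlo : (-11 : ℚ) < H := by nlinarith
  have hhi : (H : ℚ) < -7 := by nlinarith
  have hlo' : -11 < H := by exact_mod_cast hlo
  have hhi' : H < -7 := by exact_mod_cast hhi
  have := Int.le_of_dvd (show 0 < -(H + 3) by omega) (dvd_neg.2 hH)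
  omega

variable {G : Type w} [Group G] [Finite G] {M : Ideal AlgInt} [Fact (Nat.Prime 2)] {P : Sylow 2 G}

/-- The principal block contains a non-trivial linear character trivial on the Sylow subgroup. -/
theorem exists_linear (h : Hyp P 3) (hM : IsPModular 2 M) (hq16 : 16 ≤ Nat.card P) :
    ∃ l : G →* ℂˣ, l ≠ 1 ∧ ∀ x ∈ (P : Subgroup G), l x = 1 := by
  haveI := Fintype.ofFinite (P : Subgroup G)
  haveI : Finite ((P : Subgroup G) →* ℂˣ) := by
    refine Nat.finite_of_card_ne_zero ?_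
    rw [card_monoidHom_units]
    exact Subgroup.index_ne_zero_of_finite
  haveI := Fintype.ofFinite ((P : Subgroup G) →* ℂˣ)
  have hm2 : 3 + 1 < Nat.card P := by omega
  obtain ⟨ζ, δ, c, hD⟩ := normalised h hM hm2
  haveI : Nontrivial (P : Subgroup G) := Finite.one_lt_card_iff_nontrivial.1 (by omega)
  obtain ⟨x, hx⟩ := exists_prime_orderOf_dvd_card' (G := (P : Subgroup G)) 2 (by
    obtain ⟨k, hk⟩ := IsPGroup.iff_card.1 P.2
    rcases k with _ | k
    · rw [pow_zero] at hk; have : Nat.card P = 1 := hk; omega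
    · rw [hk]; exact dvd_pow_self 2 k.succ_ne_zero)
  set t : G := (x : G) with htdef
  have ht : orderOf t = 2 := by rw [htdef, Subgroup.orderOf_coe, hx]
  have htP : t ∈ (P : Subgroup G) := x.2
  have ht1 : t ≠ 1 := fun e => by rw [e, orderOf_one] at ht; omega
  have hp2 : (2 : ℕ) = 2 := rfl
  have hYB : (Finset.univ.erase (1 : (P : Subgroup G) →* ℂˣ)).image ζ ⊆ (principalBlock M G).toFinite.toFinset :=
    fun η hη => by
      obtain ⟨ψ, hψ, rfl⟩ := Finset.mem_image.1 hη
      exact (Set.Finite.mem_toFinset _).2 (hD.mem ψ (Finset.ne_of_mem_erase hψ))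
  have hcd : ∀ η ∈ (Finset.univ.erase (1 : (P : Subgroup G) →* ℂˣ)).image ζ, c η = 0 := fun η hη => by
    obtain ⟨ψ, hψ, rfl⟩ := Finset.mem_image.1 hη
    exact hD.coef_zeta ψ (Finset.ne_of_mem_erase hψ)
  have hnorm : ∑ χ ∈ (principalBlock M G).toFinite.toFinset \ (Finset.univ.erase (1 : (P : Subgroup G) →* ℂˣ)).image ζ,
      c χ * c χ = 3 := by
    have hn := hD.norm
    rw [← Finset.sum_sdiff hYB,
      Finset.sum_eq_zero (s := (Finset.univ.erase (1 : (P : Subgroup G) →* ℂˣ)).image ζ) (fun η hη => by rw [hcd η hη, mul_zero]),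
      add_zero, mul_zero, add_zero] at hn
    exact_mod_cast hn
  have hone : (⟨fun _ => 1, isIrrCharacter_one⟩ : IrrCharacter G) ∈
      (principalBlock M G).toFinite.toFinset \ (Finset.univ.erase (1 : (P : Subgroup G) →* ℂˣ)).image ζ := by
    haveI := prime_of_isPModular hM
    refine Finset.mem_sdiff.2 ⟨(Set.Finite.mem_toFinset _).2 (sameBlock_refl _), fun hm => ?_⟩
    obtain ⟨ψ, hψ, e⟩ := Finset.mem_image.1 hm
    exact (hD.trivial_apply h hm2 rfl (sameBlock_refl _)).2 ψ (Finset.ne_of_mem_erase hψ) e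
  have hX : ∀ χ ∈ (principalBlock M G).toFinite.toFinset \ (Finset.univ.erase (1 : (P : Subgroup G) →* ℂˣ)).image ζ,
      c χ = 1 ∨ c χ = -1 := fun χ hχ => by
    obtain ⟨hχB, hχY⟩ := Finset.mem_sdiff.1 hχ
    have h0 : c χ ≠ 0 :=
      hD.coeff_ne_zero h hM hm2 ((Set.Finite.mem_toFinset _).1 hχB) fun ψ hψ e =>
        hχY (Finset.mem_image.2 ⟨ψ, Finset.mem_erase.2 ⟨hψ, Finset.mem_univ _⟩, e⟩)
    have hle : c χ * c χ ≤ 3 :=
      le_of_le_of_eq (Finset.single_le_sum (fun i _ => mul_self_nonneg (c i)) hχ) hnorm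
    have h1 : c χ ≤ 1 := by nlinarith
    have h2 : -1 ≤ c χ := by nlinarith
    omega
  have hX3 : ((principalBlock M G).toFinite.toFinset \ (Finset.univ.erase (1 : (P : Subgroup G) →* ℂˣ)).image ζ).card = 3 := by
    have : (((principalBlock M G).toFinite.toFinset \ (Finset.univ.erase (1 : (P : Subgroup G) →* ℂˣ)).image ζ).card : ℤ) = 3 := by
      rw [Finset.card_eq_sum_ones, Nat.cast_sum, Nat.cast_one, ← hnorm]
      exact Finset.sum_congr rfl fun χ hχ => by rcases hX χ hχ with e | e <;> simp [e]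
    exact_mod_cast this
  have hXval : ∀ χ ∈ (principalBlock M G).toFinite.toFinset \ (Finset.univ.erase (1 : (P : Subgroup G) →* ℂˣ)).image ζ,
      ∀ y : G, y ∈ (P : Subgroup G) → y ≠ 1 → (χ : G → ℂ) y = ((-c χ : ℤ) : ℂ) := fun χ hχ y hy hy1 => by
    obtain ⟨hχB, hχY⟩ := Finset.mem_sdiff.1 hχ
    rw [hD.apply_eq h.comm ((Set.Finite.mem_toFinset _).1 hχB) (y := ⟨y, hy⟩) (fun e => hy1 (congrArg Subtype.val e)),
      Finset.sum_eq_zero fun ψ hψ => ?_, mul_zero, add_zero]
    · push_cast; rfl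
    · exact absurd (Finset.mem_image.2 ⟨ψ, Finset.mem_erase.2 ⟨(Finset.mem_filter.1 hψ).2.1, Finset.mem_univ _⟩,
        (Finset.mem_filter.1 hψ).2.2⟩) hχY
  haveI := prime_of_isPModular hM
  have hp := (Fact.out : Nat.Prime 2)
  have hB : IsPBlock M (principalBlock M G) := ⟨⟨fun _ => 1, isIrrCharacter_one⟩, rfl⟩
  set one : IrrCharacter G := ⟨fun _ => 1, isIrrCharacter_one⟩ with hone'
  obtain ⟨hc1, hζ1⟩ := hD.trivial_apply h hm2 (one := one) rfl (sameBlock_refl _)
  set BF := (principalBlock M G).toFinite.toFinset with hBF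
  set YF := (Finset.univ.erase (1 : (P : Subgroup G) →* ℂˣ)).image ζ with hYF
  obtain ⟨χ₂, χ₃, h23, herase⟩ := Finset.card_eq_two.1
    (show ((BF \ YF).erase one).card = 2 by rw [Finset.card_erase_of_mem hone, hX3])
  have h2 : χ₂ ∈ (BF \ YF).erase one := by rw [herase]; simp
  have h3 : χ₃ ∈ (BF \ YF).erase one := by rw [herase]; simp
  obtain ⟨h2ne, h2X⟩ := Finset.mem_erase.1 h2
  obtain ⟨h3ne, h3X⟩ := Finset.mem_erase.1 h3
  have hδ0 : (δ : ℂ) ≠ 0 := by rcases hD.sign with e | e <;> simp [e]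
  obtain ⟨ψ₀, hψ₀⟩ : ∃ ψ : (P : Subgroup G) →* ℂˣ, ψ ≠ 1 := by
    obtain ⟨y, hy⟩ : ∃ y : (P : Subgroup G), y ≠ 1 := by
      haveI : Nontrivial (P : Subgroup G) := Finite.one_lt_card_iff_nontrivial.1 (by omega)
      exact exists_ne 1
    letI : CommGroup (P : Subgroup G) := { (inferInstance : Group (P : Subgroup G)) with mul_comm := h.comm }
    obtain ⟨φ, hφ⟩ := CommGroup.exists_apply_ne_one_of_hasEnoughRootsOfUnity (P : Subgroup G) ℂ hy
    exact ⟨φ, fun e => hφ (by rw [e]; rfl)⟩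
  have hone1 : ¬ 2 ∣ orderOf (1 : G) := by rw [orderOf_one]; exact hp.not_dvd_one
  have hsplit : ∀ f : IrrCharacter G → ℂ, ∑ χ ∈ BF, (c χ : ℂ) * f χ =
      -f one + (c χ₂ : ℂ) * f χ₂ + (c χ₃ : ℂ) * f χ₃ := fun f => by
    rw [← Finset.sum_sdiff hYB, Finset.sum_eq_zero (s := YF) (fun η hη => by rw [hcd η hη, Int.cast_zero, zero_mul]),
      add_zero, ← Finset.add_sum_erase _ _ hone, herase, Finset.sum_pair h23, hc1]
    push_cast; ring
  have hdeg : ∀ ψ, ψ ≠ 1 → (ζ ψ : G → ℂ) 1 = (ζ ψ₀ : G → ℂ) 1 := fun ψ hψ => by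
    have e1 := hD.relation hM hψ hone1
    have e2 := hD.relation hM hψ₀ hone1
    exact mul_left_cancel₀ hδ0 (by linear_combination e1 - e2)
  set z : ℕ := charDegree (ζ ψ₀ : G → ℂ) with hz
  set x₂ : ℕ := charDegree (χ₂ : G → ℂ) with hx₂
  set x₃ : ℕ := charDegree (χ₃ : G → ℂ) with hx₃
  have hrel : -1 + c χ₂ * (x₂ : ℤ) + c χ₃ * (x₃ : ℤ) + δ * (z : ℤ) = 0 := by
    have e := hD.relation hM hψ₀ hone1
    rw [← hBF, hsplit fun χ => (χ : G → ℂ) 1, ← charDegree_cast (IsIrrCharacter.isCharacter (ζ ψ₀).2),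
      ← charDegree_cast (IsIrrCharacter.isCharacter χ₂.2), ← charDegree_cast (IsIrrCharacter.isCharacter χ₃.2)] at e
    refine Int.cast_injective (α := ℂ) ?_
    push_cast
    simp only [hone'] at e
    linear_combination e
  obtain ⟨y, hy1, hyt, hyuv, hy2⟩ := exists_avoiding h hm2 ht
  have hy1' : (y : G) ≠ 1 := fun e => hy1 (Subtype.ext e)
  have hK0 : ∀ g x : G, IsPPart 2 g x → ¬ IsConj x (y : G) → blockKernel (principalBlock M G) g y = 0 :=
    fun g x hgx hne => blockKernel_eq_zero_of_sections hM hgx (isPPart_self hp (pow_orderOf_of_mem y.2)) hne hB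
  choose v hv using fun χ : IrrCharacter G => exists_int_value χ ht
  -- expansion at y
  have hconjy : ∀ f : IrrCharacter G → ℂ, ∑ χ ∈ BF, f χ * conj ((χ : G → ℂ) (y : G)) =
      -∑ χ ∈ BF, (c χ : ℂ) * f χ +
        (δ : ℂ) * ∑ ψ ∈ Finset.univ.erase (1 : (P : Subgroup G) →* ℂˣ), f (ζ ψ) * conj (ψ y : ℂ) := fun f => by
    have e : ∀ χ ∈ BF, f χ * conj ((χ : G → ℂ) (y : G)) = -((c χ : ℂ) * f χ) + (δ : ℂ) *
        ∑ ψ ∈ Finset.univ.filter (fun ψ : (P : Subgroup G) →* ℂˣ => ψ ≠ 1 ∧ ζ ψ = χ), f (ζ ψ) * conj (ψ y : ℂ) := by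
      intro χ hχ
      rw [hD.apply_eq h.comm ((Set.Finite.mem_toFinset _).1 hχ) hy1, map_add, map_neg, map_mul, map_sum,
        map_intCast, map_intCast, mul_add, mul_neg, mul_comm (f χ) (c χ : ℂ), mul_left_comm, Finset.mul_sum (a := f χ)]
      congr 2
      exact Finset.sum_congr rfl fun ψ hψ => by rw [(Finset.mem_filter.1 hψ).2.2]
    rw [Finset.sum_congr rfl e, Finset.sum_add_distrib, Finset.sum_neg_distrib, ← Finset.mul_sum,
      ← Finset.sum_fiberwise_of_maps_to (s := Finset.univ.erase (1 : (P : Subgroup G) →* ℂˣ)) (t := BF) (g := ζ)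
        (fun ψ hψ => (Set.Finite.mem_toFinset _).2 (hD.mem ψ (Finset.ne_of_mem_erase hψ)))]
    congr 2
    refine Finset.sum_congr rfl fun χ _ => Finset.sum_congr ?_ fun _ _ => rfl
    ext ψ; simp
  obtain ⟨C, hC, hC1, hC2⟩ : ∃ C : ℤ, C = -3 ∧
      (δ : ℂ) * ∑ ψ ∈ Finset.univ.erase (1 : (P : Subgroup G) →* ℂˣ), (v (ζ ψ) : ℂ) * conj (ψ y : ℂ) = (C : ℂ) ∧
      (δ : ℂ) * ∑ ψ ∈ Finset.univ.erase (1 : (P : Subgroup G) →* ℂˣ), (v (ζ ψ) : ℂ) ^ 2 * conj (ψ y : ℂ) =
        -(δ : ℂ) * (C : ℂ) ^ 2 := by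
    have hsumy : ∑ ψ ∈ Finset.univ.erase (1 : (P : Subgroup G) →* ℂˣ), conj (ψ y : ℂ) = -1 := by
      have := congrArg conj (sum_dual h.comm y)
      rw [if_neg hy1, map_zero, map_sum,
        ← Finset.add_sum_erase _ _ (Finset.mem_univ (1 : (P : Subgroup G) →* ℂˣ))] at this
      simp only [MonoidHom.one_apply, Units.val_one, map_one] at this
      linear_combination this
    obtain ⟨t₀, ht₀, hn1, hn2⟩ := hy2 hp2
    haveI := Fintype.ofFinite (Subgroup.normalizer ((P : Subgroup G) : Set G))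
    have ht₀1 : t₀ ≠ 1 := fun e => by
      rw [e, OneMemClass.coe_one, isConj_one_left] at ht₀
      rw [ht₀, orderOf_one] at ht; omega
    set q : ℂ := (Nat.card (Subgroup.centralizer ((P : Subgroup G) : Set G)) : ℂ) with hq
    have hq0 : q ≠ 0 := Nat.cast_ne_zero.2 Nat.card_pos.ne'
    have hvψ : ∀ ψ : (P : Subgroup G) →* ℂˣ, ψ ≠ 1 →
        q * (v (ζ ψ) : ℂ) = (δ : ℂ) * ∑ n : Subgroup.normalizer ((P : Subgroup G) : Set G), (ψ (phi P n t₀) : ℂ) := by
      intro ψ hψ
      rw [← hv, IsIrrCharacter.apply_isConj (ζ ψ).2 ht₀, hD.apply_eq h.comm (hD.mem ψ hψ) ht₀1,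
        hD.coef_zeta ψ hψ, Int.cast_zero, neg_zero, zero_add, mul_left_comm]
      congr 1
      rw [Finset.mul_sum, ← Finset.sum_fiberwise_of_maps_to
        (s := (Finset.univ : Finset (Subgroup.normalizer ((P : Subgroup G) : Set G))))
        (t := Finset.univ.filter (fun φ : (P : Subgroup G) →* ℂˣ => φ ≠ 1 ∧ ζ φ = ζ ψ)) (g := fun n => tw P n ψ)
        (fun n _ => Finset.mem_filter.2 ⟨Finset.mem_univ _, tw_ne_one P hψ,
          (hD.eq_iff _ _ (tw_ne_one P hψ) hψ).2 ((twist_iff P _ _).2 ⟨n, rfl⟩)⟩)]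
      refine Finset.sum_congr rfl fun φ hφ => ?_
      rw [Finset.sum_congr rfl (g := fun _ => (φ t₀ : ℂ)) fun n hn => by
          rw [← (Finset.mem_filter.1 hn).2]; simp only [tw, MonoidHom.comp_apply],
        Finset.sum_const, nsmul_eq_mul]
      congr 1
      rw [← Fintype.card_subtype, ← Nat.card_eq_fintype_card, h.card_tw_eq hψ, if_pos]
      exact (hD.eq_iff _ _ (Finset.mem_filter.1 hφ).2.1 hψ).1 (Finset.mem_filter.1 hφ).2.2
    have horth : ∀ z : (P : Subgroup G), z ≠ y →
        ∑ ψ ∈ Finset.univ.erase (1 : (P : Subgroup G) →* ℂˣ), (ψ z : ℂ) * conj (ψ y : ℂ) = -1 := by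
      intro z hzy
      have := sum_dual h.comm (y⁻¹ * z)
      rw [if_neg (fun e => hzy (inv_mul_eq_one.1 e).symm),
        ← Finset.add_sum_erase _ _ (Finset.mem_univ (1 : (P : Subgroup G) →* ℂˣ))] at this
      simp only [MonoidHom.one_apply, Units.val_one, map_mul, map_inv, Units.val_mul, inv_one, one_mul] at this
      simp only [conj_hom, MonoidHom.inv_apply]
      rw [Finset.sum_congr rfl fun ψ _ => mul_comm ((ψ : (P : Subgroup G) →* ℂˣ) z : ℂ) _]
      linear_combination this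
    have hN : (Fintype.card (Subgroup.normalizer ((P : Subgroup G) : Set G)) : ℂ) = 3 * q := by
      rw [← Nat.card_eq_fintype_card, h.card_normalizer, Nat.cast_mul, hq]; norm_num
    have hδsq : (δ : ℂ) * δ = 1 := by rcases hD.sign with e | e <;> simp [e]
    refine ⟨-3, rfl, mul_left_cancel₀ hq0 ?_, mul_left_cancel₀ (mul_ne_zero hq0 hq0) ?_⟩
    · rw [mul_left_comm, Finset.mul_sum, Finset.sum_congr rfl fun ψ hψ => show q * ((v (ζ ψ) : ℂ) * conj (ψ y : ℂ)) =
        (δ : ℂ) * ∑ n : Subgroup.normalizer ((P : Subgroup G) : Set G), (ψ (phi P n t₀) : ℂ) * conj (ψ y : ℂ) by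
          rw [← mul_assoc, hvψ ψ (Finset.ne_of_mem_erase hψ), mul_assoc, Finset.sum_mul],
        ← Finset.mul_sum, Finset.sum_comm, Finset.sum_congr rfl fun n _ => horth _ (hn1 n),
        Finset.sum_const, Finset.card_univ, nsmul_eq_mul, hN]
      push_cast
      linear_combination (-3 * q) * hδsq
    · rw [mul_left_comm, Finset.mul_sum, Finset.sum_congr rfl fun ψ hψ =>
        show q * q * ((v (ζ ψ) : ℂ) ^ 2 * conj (ψ y : ℂ)) =
        (δ : ℂ) * δ * ∑ n : Subgroup.normalizer ((P : Subgroup G) : Set G),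
          ∑ n' : Subgroup.normalizer ((P : Subgroup G) : Set G),
            (ψ (phi P n t₀ * phi P n' t₀) : ℂ) * conj (ψ y : ℂ) by
          simp only [map_mul, Units.val_mul, ← Finset.sum_mul, ← Finset.mul_sum]
          have e := hvψ ψ (Finset.ne_of_mem_erase hψ)
          linear_combination (q * (v (ζ ψ) : ℂ) + (δ : ℂ) * ∑ n : Subgroup.normalizer ((P : Subgroup G) : Set G),
            (ψ (phi P n t₀) : ℂ)) * conj (ψ y : ℂ) * e,
        ← Finset.mul_sum, Finset.sum_comm, Finset.sum_congr rfl fun n _ => Finset.sum_comm,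
        Finset.sum_congr rfl fun n _ => Finset.sum_congr rfl fun n' _ => horth _ (hn2 n n')]
      simp only [Finset.sum_const, Finset.card_univ, nsmul_eq_mul, hN]
      push_cast
      linear_combination (-9 * (δ : ℂ) * q * q) * hδsq
  have E1 : 1 + (-c χ₂) * v χ₂ + (-c χ₃) * v χ₃ + C = 0 := by
    obtain ⟨x, hx⟩ := isPPart_exists hp t
    have e := hK0 t x hx (hyt x hx)
    rw [blockKernel, finsum_mem_eq_finite_toFinset_sum _ (principalBlock M G).toFinite, ← hBF,
      hconjy fun χ => (χ : G → ℂ) t, hsplit fun χ => (χ : G → ℂ) t] at e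
    simp only [hv] at e
    rw [hC1, ← hv one] at e
    simp only [hone'] at e
    refine Int.cast_injective (α := ℂ) ?_
    push_cast
    linear_combination e
  set XF := BF \ YF with hXF
  haveI := Fintype.ofFinite G
  set S := Finset.univ.filter (IsConj t) with hS
  have hsumK : ∑ q ∈ S ×ˢ S, blockKernel (principalBlock M G) (q.1 * q.2) y = 0 :=
    Finset.sum_eq_zero fun q hq => by
      obtain ⟨x, hx⟩ := isPPart_exists hp (q.1 * q.2)
      simp only [hS, Finset.mem_product, Finset.mem_filter, Finset.mem_univ, true_and] at hq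
      exact hK0 _ x hx (hyuv q.1 q.2 hq.1 hq.2 x hx)
  have E2 : (1 : ℂ) + (-c χ₂ : ℂ) * (v χ₂ : ℂ) ^ 2 / x₂ + (-c χ₃ : ℂ) * (v χ₃ : ℂ) ^ 2 / x₃ +
      -(δ : ℂ) * (C : ℂ) ^ 2 / z = 0 := by
    have hidx : ((Subgroup.centralizer ({t} : Set G)).index : ℂ) = S.card := by
      rw [← card_isConj_eq_index, Nat.card_eq_fintype_card, Fintype.card_subtype]
    have hS0 : (S.card : ℂ) ≠ 0 := Nat.cast_ne_zero.2 (Finset.card_ne_zero.2
      ⟨t, Finset.mem_filter.2 ⟨Finset.mem_univ _, IsConj.refl t⟩⟩)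
    have hs : ∀ χ : IrrCharacter G, ∑ q ∈ S ×ˢ S, (χ : G → ℂ) (q.1 * q.2) =
        (S.card : ℂ) ^ 2 * ((v χ : ℂ) ^ 2 / (χ : G → ℂ) 1) := fun χ => by
      have h1 := IsIrrCharacter.apply_one_ne_zero χ.2
      have hh := centralChar_mul χ.2 t t
      simp only [centralChar, hidx, hv] at hh
      rw [Finset.sum_product]
      field_simp at hh ⊢
      linear_combination -hh
    simp only [blockKernel, finsum_mem_eq_finite_toFinset_sum _ (principalBlock M G).toFinite] at hsumK
    rw [Finset.sum_comm, ← hBF, Finset.sum_congr rfl fun (χ : IrrCharacter G) _ => show ∑ q ∈ S ×ˢ S, (χ : G → ℂ) (q.1 * q.2) *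
      conj ((χ : G → ℂ) (y : G)) = (S.card : ℂ) ^ 2 * ((v χ : ℂ) ^ 2 / (χ : G → ℂ) 1 * conj ((χ : G → ℂ) (y : G))) by
        rw [← Finset.sum_mul, hs χ, mul_assoc], ← Finset.mul_sum, mul_eq_zero] at hsumK
    have e := hsumK.resolve_left (pow_ne_zero 2 hS0)
    rw [hconjy fun χ => (v χ : ℂ) ^ 2 / (χ : G → ℂ) 1, hsplit fun χ => (v χ : ℂ) ^ 2 / (χ : G → ℂ) 1,
      Finset.sum_congr rfl fun ψ hψ => show (v (ζ ψ) : ℂ) ^ 2 / (ζ ψ : G → ℂ) 1 * conj (ψ y : ℂ) =
        (z : ℂ)⁻¹ * ((v (ζ ψ) : ℂ) ^ 2 * conj (ψ y : ℂ)) by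
          rw [hdeg ψ (Finset.ne_of_mem_erase hψ), ← charDegree_cast (IsIrrCharacter.isCharacter (ζ ψ₀).2), ← hz]
          ring,
      ← Finset.mul_sum, mul_left_comm, hC2,
      ← charDegree_cast (IsIrrCharacter.isCharacter χ₂.2), ← charDegree_cast (IsIrrCharacter.isCharacter χ₃.2),
      ← hx₂, ← hx₃, ← hv one] at e
    simp only [hone', one_pow, div_one] at e
    linear_combination e
  -- congruences from the restriction to the Sylow subgroup
  set q : ℤ := (Nat.card P : ℤ) with hqdef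
  have hq0 : (Nat.card (P : Subgroup G) : ℂ) ≠ 0 := Nat.cast_ne_zero.2 Nat.card_pos.ne'
  have hcongX : ∀ χ ∈ XF, q ∣ -c χ * (charDegree (χ : G → ℂ) : ℤ) - 1 := fun χ hχ => by
    obtain ⟨k, hk⟩ := exists_sum_subgroup_eq χ (P : Subgroup G)
    rw [← Finset.add_sum_erase _ _ (Finset.mem_univ (1 : (P : Subgroup G))),
      Finset.sum_congr rfl (g := fun _ => ((-c χ : ℤ) : ℂ)) (fun (y : (P : Subgroup G)) hy => hXval χ hχ (y : G) y.2 fun e =>
        Finset.ne_of_mem_erase hy (Subtype.ext e)), Finset.sum_const, Finset.card_erase_of_mem (Finset.mem_univ _),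
      Finset.card_univ, ← Nat.card_eq_fintype_card, OneMemClass.coe_one,
      ← charDegree_cast (IsIrrCharacter.isCharacter χ.2), nsmul_eq_mul, Nat.cast_sub Nat.card_pos] at hk
    refine ⟨-c χ * (k + c χ), Int.cast_injective (α := ℂ) ?_⟩
    have hc2 : (c χ : ℂ) * c χ = 1 := by rcases hX χ hχ with e | e <;> simp [e]
    push_cast at hk ⊢
    simp only [hqdef, Int.cast_natCast]
    linear_combination (-(c χ : ℂ)) * hk + hc2
  have hcongz : q ∣ -δ * (z : ℤ) + 3 := by
    obtain ⟨k, hk⟩ := exists_sum_subgroup_eq (ζ ψ₀) (P : Subgroup G)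
    set F := Finset.univ.filter (fun ψ : (P : Subgroup G) →* ℂˣ => ψ ≠ 1 ∧ ζ ψ = ζ ψ₀) with hF
    have hF3 : F.card = 3 := by
      rw [← h.card_orbit hψ₀, Nat.card_eq_fintype_card, Fintype.card_subtype]
      congr 1
      ext φ
      have e := Set.ext_iff.1 (hD.fibre_eq hψ₀) φ
      simp only [Set.mem_setOf_eq, Finset.mem_coe, Finset.mem_filter, Finset.mem_univ, true_and] at e
      simp only [hF, Finset.mem_filter, Finset.mem_univ, true_and]
      exact e.symm
    have hsum : ∀ φ ∈ F, ∑ y ∈ Finset.univ.erase (1 : (P : Subgroup G)), (φ y : ℂ) = -1 := fun φ hφ => by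
      have := sum_hom_eq φ
      rw [if_neg (Finset.mem_filter.1 hφ).2.1, ← Finset.add_sum_erase _ _ (Finset.mem_univ (1 : (P : Subgroup G))),
        map_one, Units.val_one] at this
      linear_combination this
    rw [← Finset.add_sum_erase _ _ (Finset.mem_univ (1 : (P : Subgroup G))),
      Finset.sum_congr rfl (g := fun y => (δ : ℂ) * ∑ φ ∈ F, (φ y : ℂ)) (fun y hy => by
        rw [hD.apply_eq h.comm (hD.mem ψ₀ hψ₀) (Finset.ne_of_mem_erase hy), hD.coef_zeta ψ₀ hψ₀,
          Int.cast_zero, neg_zero, zero_add]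
        congr 1
        refine Finset.sum_congr ?_ fun _ _ => rfl
        ext
        simp [hF]),
      ← Finset.mul_sum, Finset.sum_comm, Finset.sum_congr rfl hsum, Finset.sum_const, hF3,
      OneMemClass.coe_one, ← charDegree_cast (IsIrrCharacter.isCharacter (ζ ψ₀).2), ← hz, nsmul_eq_mul] at hk
    refine ⟨-δ * k, Int.cast_injective (α := ℂ) ?_⟩
    have hd2 : (δ : ℂ) * δ = 1 := by rcases hD.sign with e | e <;> simp [e]
    push_cast at hk ⊢
    simp only [hqdef, Int.cast_natCast]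
    linear_combination (-(δ : ℂ)) * hk - 3 * hd2
  have hv2 : ∀ χ ∈ XF, v χ * v χ = 1 := fun χ hχ => by
    have e : v χ = -c χ := Int.cast_injective (α := ℂ) (by rw [← hv, hXval χ hχ t htP ht1])
    rw [e]; rcases hX χ hχ with e | e <;> simp [e]
  have hsol := solve_degrees (q := q) (A := -c χ₂ * (x₂ : ℤ)) (B := -c χ₃ * (x₃ : ℤ)) (H := -δ * (z : ℤ))
    (by rw [hqdef]; exact_mod_cast hq16) (by linear_combination -hrel) (by
      have e : ∀ (a : ℤ) (X : ℕ), (a = 1 ∨ a = -1) → ((1 : ℚ) / ((a * (X : ℤ) : ℤ) : ℚ)) = (a : ℚ) / X := by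
        rintro a X (rfl | rfl) <;> push_cast <;> ring
      have n1 : -c χ₂ = 1 ∨ -c χ₂ = -1 := by rcases hX χ₂ h2X with e | e <;> simp [e]
      have n2 : -c χ₃ = 1 ∨ -c χ₃ = -1 := by rcases hX χ₃ h3X with e | e <;> simp [e]
      have n3 : -δ = 1 ∨ -δ = -1 := by rcases hD.sign with e | e <;> simp [e]
      rw [show (9 : ℚ) / ((-δ * (z : ℤ) : ℤ) : ℚ) = 9 * (1 / ((-δ * (z : ℤ) : ℤ) : ℚ)) by ring, e _ _ n1, e _ _ n2, e _ _ n3]
      refine Rat.cast_injective (α := ℂ) ?_
      push_cast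
      have w2 : ((v χ₂ : ℂ)) ^ 2 = 1 := by rw [sq]; exact_mod_cast hv2 χ₂ h2X
      have w3 : ((v χ₃ : ℂ)) ^ 2 = 1 := by rw [sq]; exact_mod_cast hv2 χ₃ h3X
      rw [hC, w2, w3] at E2
      push_cast at E2
      linear_combination E2)
    (hcongX χ₂ h2X) (hcongX χ₃ h3X) hcongz
  have hfin : ∀ χ ∈ XF, χ ≠ one → -c χ * (charDegree (χ : G → ℂ) : ℤ) = 1 →
      ∃ l : G →* ℂˣ, l ≠ 1 ∧ ∀ y ∈ (P : Subgroup G), l y = 1 := by
    intro χ hχX hne e
    have hd0 := charDegree_pos χ.2
    have hc : c χ = -1 := by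
      rcases hX χ hχX with e' | e'
      · rw [e'] at e; omega
      · exact e'
    have hd : charDegree (χ : G → ℂ) = 1 := by rw [hc] at e; omega
    have h1 : (χ : G → ℂ) 1 = 1 := by rw [← charDegree_cast (IsIrrCharacter.isCharacter χ.2), hd, Nat.cast_one]
    obtain ⟨l, hl⟩ := IsCharacter.exists_monoidHom (IsIrrCharacter.isCharacter χ.2) h1
    refine ⟨l, fun e1 => hne (Subtype.ext ?_), fun y hy => ?_⟩
    · rw [hl, e1]; funext g; simp [hone']
    · rcases eq_or_ne y 1 with rfl | hy1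
      · rw [map_one]
      refine Units.val_injective ?_
      rw [← congrFun hl y, hXval χ hχX y hy hy1, hc]
      simp
  rcases hsol with e | e
  · exact hfin χ₂ h2X h2ne e
  · exact hfin χ₃ h3X h3ne e

/-- A permutation of at most three points of order three fixes nothing. -/
theorem perm_eq_one_of_fix {α : Type w} [Fintype α] [DecidableEq α] (hα : Fintype.card α ≤ 3)
    (σ : Equiv.Perm α) (h3 : σ ^ 3 = 1) {a : α} (ha : σ a = a) : σ = 1 := by
  have hs : σ.support.card ≤ 2 := by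
    have : σ.support ⊆ Finset.univ.erase a := fun b hb =>
      Finset.mem_erase.2 ⟨fun e => Equiv.Perm.mem_support.1 hb (e ▸ ha), Finset.mem_univ _⟩
    have := Finset.card_le_card this
    rw [Finset.card_erase_of_mem (Finset.mem_univ _), Finset.card_univ] at this
    omega
  rcases Nat.lt_or_ge σ.support.card 2 with h | h
  · exact Equiv.Perm.card_support_le_one.1 (by omega)
  · have hsw : σ.IsSwap := Equiv.Perm.card_support_eq_two.1 (le_antisymm hs h)
    have hsg := hsw.sign_eq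
    have e := congrArg Equiv.Perm.sign h3
    rw [map_pow, hsg, map_one] at e
    exact absurd e (by decide)

/-- A Sylow 2-subgroup which is abelian, with at most three involutions and order at least 16, is normal. -/
theorem sylow_normal : ∀ (N : ℕ) (G : Type w) [Group G] [Finite G], Nat.card G = N →
    ∀ P : Sylow 2 G, (∀ a b : (P : Subgroup G), a * b = b * a) → 16 ≤ Nat.card P →
    Nat.card {x : (P : Subgroup G) // x ≠ 1 ∧ x * x = 1} ≤ 3 →
    (∀ K : Subgroup G, K.Normal → Odd (Nat.card K) → K = ⊥) → (P : Subgroup G).Normal ∧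
    ((Subgroup.centralizer ((P : Subgroup G) : Set G)).relIndex (Subgroup.normalizer ((P : Subgroup G) : Set G)) = 1 ∨
      (Subgroup.centralizer ((P : Subgroup G) : Set G)).relIndex (Subgroup.normalizer ((P : Subgroup G) : Set G)) = 3) := by
  intro N
  induction N using Nat.strong_induction_on with
  | _ N ih =>
  intro G _ _ hN P hcomm h16 hinv hO
  set Nn := Subgroup.normalizer ((P : Subgroup G) : Set G) with hNn
  set C := Subgroup.centralizer ((P : Subgroup G) : Set G) with hC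
  have hPC : (P : Subgroup G) ≤ C := fun a ha => Subgroup.mem_centralizer_iff.2 fun b hb =>
    congrArg Subtype.val (hcomm ⟨b, hb⟩ ⟨a, ha⟩)
  haveI hCn : (C.subgroupOf Nn).Normal := by rw [hC, hNn, ← Subgroup.normalizerMonoidHom_ker]; infer_instance
  set Inv := {x : (P : Subgroup G) // x ≠ 1 ∧ x * x = 1} with hInv
  haveI := Fintype.ofFinite Inv
  -- the action of the normaliser on the involutions
  let f : Nn →* Equiv.Perm Inv :=
    { toFun := fun n =>
        { toFun := fun x => ⟨AbTI.phi P n x.1, fun e => x.2.1 (Subtype.ext (by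
            have h1 := congrArg Subtype.val e
            rw [AbTI.phi_coe] at h1
            exact conj_eq_one_iff.1 h1)), by rw [← map_mul, x.2.2, map_one]⟩
          invFun := fun x => ⟨AbTI.phi P n⁻¹ x.1, fun e => x.2.1 (Subtype.ext (by
            have h1 := congrArg Subtype.val e
            rw [AbTI.phi_coe] at h1
            exact conj_eq_one_iff.1 h1)), by rw [← map_mul, x.2.2, map_one]⟩
          left_inv := fun x => Subtype.ext (Subtype.ext (by simp [AbTI.phi_coe, mul_assoc]))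
          right_inv := fun x => Subtype.ext (Subtype.ext (by simp [AbTI.phi_coe, mul_assoc])) }
      map_one' := Equiv.ext fun x => Subtype.ext (Subtype.ext (by simp [AbTI.phi_coe]))
      map_mul' := fun a b => Equiv.ext fun x => Subtype.ext (Subtype.ext (by simp [AbTI.phi_coe, mul_assoc])) }
  have hodd : ¬ 2 ∣ (C.subgroupOf Nn).index := fun hd => (P.not_dvd_index) (hd.trans (by
    have : C.relIndex Nn ∣ C.index := ⟨Nn.index, (Subgroup.relIndex_mul_index (Subgroup.centralizer_le_normalizer _)).symm⟩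
    exact this.trans (Subgroup.index_dvd_of_le hPC)))
  -- an element acting trivially on the involutions with odd order modulo C centralises P
  have hker : f.ker ≤ C.subgroupOf Nn := by
    intro n hn
    rw [Subgroup.mem_subgroupOf]
    -- reduce to an element of odd order
    obtain ⟨i, k, hk, hord⟩ := Nat.exists_eq_pow_mul_and_not_dvd (orderOf_pos n).ne' 2 (by norm_num)
    have hodd' : Odd k := Nat.odd_iff.2 (Nat.two_dvd_ne_zero.1 hk)
    set n₁ := n ^ (2 ^ i) with hn₁
    have hn₁ker : n₁ ∈ f.ker := pow_mem hn _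
    have hn₁k : n₁ ^ k = 1 := by rw [hn₁, ← pow_mul, ← hord, pow_orderOf_eq_one]
    have hfix : ∀ (j : ℕ) (x : (P : Subgroup G)), x ^ 2 ^ j = 1 → AbTI.phi P n₁ x = x := by
      intro j
      induction j with
      | zero => intro x hx; rw [pow_zero, pow_one] at hx; rw [hx, map_one]
      | succ j ihj =>
        intro x hx
        have h2 : AbTI.phi P n₁ (x ^ 2) = x ^ 2 := ihj _ (by rw [← pow_mul, ← pow_succ', hx])
        set w := x⁻¹ * AbTI.phi P n₁ x with hw
        have hw2 : w * w = 1 := by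
          rw [map_pow, pow_two, pow_two] at h2
          rw [hw, mul_assoc, hcomm (AbTI.phi P n₁ x) (x⁻¹ * _), mul_assoc, h2]
          group
        have hwfix : AbTI.phi P n₁ w = w := by
          rcases eq_or_ne w 1 with e | e
          · rw [e, map_one]
          · exact congrArg Subtype.val (congrArg (fun σ : Equiv.Perm Inv => σ ⟨w, e, hw2⟩) (MonoidHom.mem_ker.1 hn₁ker))
        have hphi : AbTI.phi P n₁ x = x * w := by rw [hw, mul_inv_cancel_left]
        have hiter : ∀ r : ℕ, AbTI.phi P (n₁ ^ r) x = x * w ^ r := by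
          intro r
          induction r with
          | zero => exact Subtype.ext (by simp [AbTI.phi_coe])
          | succ r ihr =>
            have e : AbTI.phi P (n₁ ^ (r + 1)) x = AbTI.phi P n₁ (AbTI.phi P (n₁ ^ r) x) :=
              Subtype.ext (by simp [AbTI.phi_coe, pow_succ', mul_assoc])
            rw [e, ihr, map_mul, map_pow, hwfix, hphi, pow_succ', mul_assoc]
        have h3 := hiter k
        rw [hn₁k] at h3
        have hwk : w ^ k = 1 := by
          have e : AbTI.phi P (1 : Nn) x = x := Subtype.ext (by simp [AbTI.phi_coe])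
          rw [e] at h3
          exact (left_eq_mul.1 h3)
        have hw1 : w = 1 := by
          obtain ⟨r, rfl⟩ := hodd'
          rw [pow_succ, pow_mul, pow_two, hw2, one_pow, one_mul] at hwk
          exact hwk
        rw [hphi, hw1, mul_one]
    have hn₁C : (n₁ : G) ∈ C := Subgroup.mem_centralizer_iff.2 fun b hb => by
      obtain ⟨j, hj⟩ := P.2 ⟨b, hb⟩
      have := congrArg Subtype.val (hfix j ⟨b, hb⟩ hj)
      rw [AbTI.phi_coe, mul_inv_eq_iff_eq_mul] at this
      exact this.symm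
    -- n is a power of n₁ modulo C
    have h1 : ((n : Nn ⧸ C.subgroupOf Nn)) ^ 2 ^ i = 1 := by
      rw [← QuotientGroup.mk_pow, QuotientGroup.eq_one_iff, Subgroup.mem_subgroupOf]
      exact hn₁C
    have hcop : (orderOf (n : Nn ⧸ C.subgroupOf Nn)) = 1 := by
      refine Nat.eq_one_of_dvd_coprimes (a := 2 ^ i) (b := (C.subgroupOf Nn).index) ?_ (orderOf_dvd_of_pow_eq_one h1) ?_
      · exact (Nat.prime_two.coprime_iff_not_dvd.2 hodd).pow_left _
      · rw [Subgroup.index_eq_card]; exact orderOf_dvd_natCard _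
    exact Subgroup.mem_subgroupOf.1 ((QuotientGroup.eq_one_iff n).1 (orderOf_eq_one_iff.1 hcop))
  have hidx : C.relIndex Nn = 1 ∨ C.relIndex Nn = 3 := by
    have h1 : C.relIndex Nn ∣ f.ker.index := Subgroup.index_dvd_of_le hker
    rw [Subgroup.index_ker] at h1
    have h2 : C.relIndex Nn ∣ (Nat.card Inv).factorial := by
      refine h1.trans ((Subgroup.card_subgroup_dvd_card _).trans ?_)
      rw [Nat.card_eq_fintype_card, Fintype.card_perm, ← Nat.card_eq_fintype_card]
    have h3 : C.relIndex Nn ∣ 6 := h2.trans (Nat.factorial_dvd_factorial hinv)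
    have h4 : ¬ 2 ∣ C.relIndex Nn := hodd
    have h5 := Nat.le_of_dvd (by norm_num) h3
    interval_cases hh : C.relIndex Nn <;> revert h3 h4 <;> norm_num
  refine ⟨?_, hidx⟩
  rcases hidx with h1 | h3
  · -- Burnside's transfer theorem
    have hle : Nn ≤ C := Subgroup.relIndex_eq_one.1 h1
    have hK := MonoidHom.ker_transferSylow_isComplement' P hle
    have hKodd : Odd (Nat.card (MonoidHom.transferSylow P hle).ker) :=
      Nat.odd_iff.2 (Nat.two_dvd_ne_zero.1 (MonoidHom.not_dvd_card_ker_transferSylow P hle))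
    rw [hO _ inferInstance hKodd] at hK
    rw [Subgroup.isComplement'_bot_left.1 hK]
    infer_instance
  · have hHyp : AbTI.Hyp P 3 := by
      refine ⟨hcomm, h3, fun y hy hy1 => le_antisymm (fun n hn => ?_) (fun n hn => ⟨Subgroup.mem_centralizer_singleton_iff.2
        (Subgroup.mem_centralizer_iff.1 hn y hy).symm, Subgroup.centralizer_le_normalizer _ hn⟩)⟩
      obtain ⟨hn1, hn2⟩ := hn
      obtain ⟨k, hk⟩ := P.2 ⟨y, hy⟩
      obtain ⟨r, hr1, hr2⟩ : ∃ r : ℕ, (⟨y, hy⟩ : (P : Subgroup G)) ^ r ≠ 1 ∧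
          (⟨y, hy⟩ : (P : Subgroup G)) ^ r * (⟨y, hy⟩ : (P : Subgroup G)) ^ r = 1 := by
        obtain ⟨i, hi⟩ := IsPGroup.iff_orderOf.1 P.2 ⟨y, hy⟩
        rcases i with _ | i
        · rw [pow_zero, orderOf_eq_one_iff] at hi; exact absurd (congrArg Subtype.val hi) hy1
        · refine ⟨2 ^ i, fun e => ?_, ?_⟩
          · have := Nat.le_of_dvd (by positivity) (orderOf_dvd_of_pow_eq_one e)
            rw [hi, pow_succ] at this
            have : 0 < 2 ^ i := by positivity
            omega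
          · rw [← pow_add, ← two_mul, ← pow_succ', ← hi, pow_orderOf_eq_one]
      have h3mem : ((⟨n, hn2⟩ : Nn) : Nn) ^ 3 ∈ C.subgroupOf Nn := by
        have := Subgroup.pow_index_mem (C.subgroupOf Nn) ⟨n, hn2⟩
        rwa [show (C.subgroupOf Nn).index = 3 from h3] at this
      have hCk : ∀ c : Nn, c ∈ C.subgroupOf Nn → f c = 1 := fun c hc => Equiv.ext fun x => Subtype.ext (Subtype.ext (by
        show (AbTI.phi P c x.1 : G) = x.1
        rw [AbTI.phi_coe, mul_inv_eq_iff_eq_mul]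
        exact (Subgroup.mem_centralizer_iff.1 hc x.1 x.1.2).symm))
      have hf1 : f ⟨n, hn2⟩ = 1 := by
        refine perm_eq_one_of_fix (by rw [← Nat.card_eq_fintype_card]; exact hinv) _ ?_ (a := ⟨_, hr1, hr2⟩) ?_
        · rw [← map_pow]; exact hCk _ h3mem
        · refine Subtype.ext (Subtype.ext ?_)
          show (AbTI.phi P ⟨n, hn2⟩ ((⟨y, hy⟩ : (P : Subgroup G)) ^ r) : G) = _
          rw [map_pow, Subgroup.coe_pow, AbTI.phi_coe, Subgroup.coe_pow]
          show (n * y * n⁻¹) ^ r = y ^ r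
          rw [show n * y * n⁻¹ = y by rw [Subgroup.mem_centralizer_singleton_iff.1 hn1, mul_inv_cancel_right]]
      exact hker hf1
    obtain ⟨M, hM⟩ := exists_isPModular Nat.prime_two
    obtain ⟨l, hl1, hlP⟩ := exists_linear hHyp hM h16
    set L := l.ker with hL
    have hPL : (P : Subgroup G) ≤ L := fun y hy => hlP y hy
    have hlt : Nat.card L < N := hN ▸ lt_of_le_of_ne (Subgroup.card_le_card_group L) fun e => hl1 (by
      have := Subgroup.eq_top_of_card_eq L e
      exact MonoidHom.ext fun g => MonoidHom.mem_ker.1 (this ▸ Subgroup.mem_top g : g ∈ L))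
    let e : ((P.subtype hPL : Sylow 2 L) : Subgroup L) ≃* (P : Subgroup G) := Subgroup.subgroupOfEquivOfLe hPL
    obtain ⟨hn, -⟩ := ih _ hlt L rfl (P.subtype hPL) (fun a b => e.injective (by rw [map_mul, map_mul, hcomm]))
      (by rw [show Nat.card (P.subtype hPL) = Nat.card P from Nat.card_congr e.toEquiv]; exact h16)
      (le_of_eq_of_le (Nat.card_congr (e.toEquiv.subtypeEquiv fun x => by
        simp only [MulEquiv.toEquiv_eq_coe, EquivLike.coe_coe, ne_eq, EmbeddingLike.map_eq_one_iff, ← map_mul])) hinv)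
      (fun K hK hKodd => by
        haveI := hK
        by_contra hne
        -- the odd core of a normal subgroup is normal
        haveI hchar : (pPrimeCore 2 L).Characteristic := pPrimeCore_characteristic 2 L
        have hle : K ≤ pPrimeCore 2 L := le_pPrimeCore (hN := hK) (Nat.coprime_two_right.2 hKodd)
        have hbot := hO ((pPrimeCore 2 L).map L.subtype) inferInstance (by
          rw [Subgroup.card_map_of_injective L.subtype_injective]
          exact Nat.coprime_two_right.1 (card_pPrimeCore_coprime 2 L))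
        rw [Subgroup.map_eq_bot_iff_of_injective _ L.subtype_injective] at hbot
        exact hne (le_bot_iff.1 (hbot ▸ hle)))
    haveI := hn
    haveI := Sylow.characteristic_of_normal (P.subtype hPL) hn
    have e2 : ((P.subtype hPL : Sylow 2 L) : Subgroup L).map L.subtype = (P : Subgroup G) := by
      show ((P : Subgroup G).subgroupOf L).map L.subtype = _
      rw [Subgroup.subgroupOf_map_subtype, inf_eq_left.2 hPL]
    rw [← e2]
    infer_instance

end Cfsg.Agent.Block.HomocyclicTwo
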