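import Cfsg.Agent.Lib.Block.BrauerHom
import Cfsg.Agent.Lib.Block.RegInner

/-!
# Characters of `2`-defect zero and classes without fusion through involutions

If `u, z` lie in `2`-defect zero classes and the only solution of `t² = 1`, `z = t u` is `t = 1`, the
central characters of these classes restricted to defect zero characters are independent modulo `2`.
-/

set_option autoImplicit false

open Cfsg Cfsg.Agent.Char
open scoped ComplexConjugate

namespace Cfsg.Agent.Block

universe u

variable {G : Type u} [Group G] [Finite G] {M : Ideal AlgInt} [hMp : M.IsPrime]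

theorem coeff_eq_sum_omega [Fintype (IrrCharacter G)] {a : MonoidAlgebra ℂ G} (ha : IsCentralElt a)
    (g : G) : a.coeff g = (Nat.card G : ℂ)⁻¹ *
      ∑ χ : IrrCharacter G, omega (χ : G → ℂ) a * ((χ : G → ℂ) 1 * conj ((χ : G → ℂ) g)) := by
  classical
  have e : a = ∑ χ : IrrCharacter G, omega (χ : G → ℂ) a • blockIdem ({χ} : Set (IrrCharacter G)) := by
    refine eq_of_omega_eq ha (IsCentralElt.sum _ _ fun χ _ => (isCentralElt_blockIdem _).smul _)
      fun ψ => ?_
    rw [omega_sum, Finset.sum_eq_single ψ]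
    · rw [omega_smul, omega_blockIdem, if_pos (Set.mem_singleton ψ), mul_one]
    · intro χ _ hχ
      rw [omega_smul, omega_blockIdem, if_neg (by simpa using fun h => hχ h.symm), mul_zero]
    · simp
  conv_lhs => rw [e]
  rw [MonoidAlgebra.coeff_sum, Finsupp.finset_sum_apply, Finset.mul_sum]
  refine Finset.sum_congr rfl fun χ _ => ?_
  rw [MonoidAlgebra.coeff_smul, Finsupp.smul_apply, smul_eq_mul, blockIdem, coeff_mkA,
    blockCoeff_eq_sum, Finset.sum_eq_single χ]
  · rw [if_pos (Set.mem_singleton χ)]; ring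
  · intro ψ _ hψ
    rw [if_neg (by simpa using hψ)]
  · simp

/-- Central elements supported on defect zero classes with all central characters in `M` square
to zero modulo `M`. -/
theorem sq_memLocalIdeal {p : ℕ} (hM : IsPModular p M) {ι : Type*} [Fintype ι] (g : ι → G)
    (hg : ∀ i, ¬ p ∣ Nat.card (Subgroup.centralizer ({g i} : Set G))) (b : ι → ℂ)
    (hb : ∀ i, b i ∈ locRing M)
    (h0 : ∀ χ : IrrCharacter G, MemLocalIdeal M (omega (χ : G → ℂ) (∑ i, b i • classSum (g i))))
    (x : G) : MemLocalIdeal M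
      (((∑ i, b i • classSum (g i)) * (∑ i, b i • classSum (g i))).coeff x) := by
  classical
  haveI := Fintype.ofFinite (IrrCharacter G)
  have hc : IsCentralElt (∑ i, b i • classSum (g i)) :=
    IsCentralElt.sum _ _ fun i _ => (isCentralElt_classSum _).smul _
  rw [coeff_eq_sum_omega (hc.mul hc), Finset.mul_sum]
  refine memLocalIdeal_sum _ _ fun χ _ => ?_
  rw [omega_mul χ hc hc]
  have e : (Nat.card G : ℂ)⁻¹ * (χ : G → ℂ) 1 * omega (χ : G → ℂ) (∑ i, b i • classSum (g i)) =
      ∑ i, b i * ((Nat.card (Subgroup.centralizer ({g i} : Set G)) : ℂ)⁻¹ * (χ : G → ℂ) (g i)) := by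
    rw [omega_sum, Finset.mul_sum]
    refine Finset.sum_congr rfl fun i _ => ?_
    have h1 : (χ : G → ℂ) 1 ≠ 0 := IsIrrCharacter.apply_one_ne_zero χ.2
    have h2 : ((Nat.card (Subgroup.centralizer ({g i} : Set G)) : ℕ) : ℂ) ≠ 0 :=
      Nat.cast_ne_zero.2 Nat.card_pos.ne'
    have h3 : (Nat.card G : ℂ) ≠ 0 := Nat.cast_ne_zero.2 Nat.card_pos.ne'
    have h4 : (Nat.card G : ℂ) = ((Subgroup.centralizer ({g i} : Set G)).index : ℂ) *
        (Nat.card (Subgroup.centralizer ({g i} : Set G)) : ℂ) := by
      rw [← Nat.cast_mul, Subgroup.index_mul_card]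
    rw [omega_smul, omega_classSum, centralChar]
    field_simp
    rw [h4]; ring
  rw [show (Nat.card G : ℂ)⁻¹ * (omega (χ : G → ℂ) (∑ i, b i • classSum (g i)) *
      omega (χ : G → ℂ) (∑ i, b i • classSum (g i)) * ((χ : G → ℂ) 1 * conj ((χ : G → ℂ) x))) =
    omega (χ : G → ℂ) (∑ i, b i • classSum (g i)) * (((Nat.card G : ℂ)⁻¹ * (χ : G → ℂ) 1 *
      omega (χ : G → ℂ) (∑ i, b i • classSum (g i))) * conj ((χ : G → ℂ) x)) by ring, e]
  refine memLocalIdeal_mul_right (mul_mem (Subring.sum_mem _ fun i _ => mul_mem (hb i) (mul_mem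
    (inv_natCast_mem_locRing hM.1 hM.2.2 (hg i)) (irr_mem_locRing χ _))) ?_) (h0 χ)
  exact irr_mem_locRing ⟨_, IsIrrCharacter.conj χ.2⟩ x

/-- The number of such classes is at most the number of `2`-defect zero characters. -/
theorem card_le_defect_zero (hM : IsPModular 2 M) {ι : Type*} [Finite ι] (g : ι → G)
    (hg : ∀ i, ¬ 2 ∣ Nat.card (Subgroup.centralizer ({g i} : Set G)))
    (hinj : ∀ i j, IsConj (g i) (g j) → i = j)
    (hinv : ∀ i j, ∀ t : G, t ^ 2 = 1 → IsConj (g i) (t * g j) → t = 1) :
    Nat.card ι ≤ Nat.card {χ : IrrCharacter G //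
      (charDegree (χ : G → ℂ)).factorization 2 = (Nat.card G).factorization 2} := by
  classical
  haveI : Fact (Nat.Prime 2) := ⟨Nat.prime_two⟩
  haveI : CharP (ResK M) 2 := locRing_charP hM.1 hM.2.2
  haveI := Fintype.ofFinite ι
  haveI := Fintype.ofFinite G
  let Z := {χ : IrrCharacter G //
      (charDegree (χ : G → ℂ)).factorization 2 = (Nat.card G).factorization 2}
  haveI := Fintype.ofFinite Z
  let L : (ι → ResK M) →ₗ[ResK M] (Z → ResK M) :=
    { toFun := fun a χ => ∑ i, a i * resC M (centralChar ((χ.1 : IrrCharacter G) : G → ℂ) (g i))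
      map_add' := fun a a' => by ext χ; simp [add_mul, Finset.sum_add_distrib]
      map_smul' := fun c a => by ext χ; simp [Finset.mul_sum, mul_assoc] }
  have hker : Function.Injective L := by
    refine (injective_iff_map_eq_zero L).2 fun a ha => ?_
    have hl : ∀ i, ∃ b : ℂ, b ∈ locRing M ∧ resC M b = a i := fun i => by
      obtain ⟨⟨b, hb⟩, e⟩ := IsLocalRing.residue_surjective (a i)
      exact ⟨b, hb, by rw [resC_of_mem hb]; exact e⟩
    choose b hb hba using hl
    set y := ∑ i, b i • classSum (g i) with hy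
    have h0 : ∀ χ : IrrCharacter G, MemLocalIdeal M (omega (χ : G → ℂ) y) := by
      intro χ
      rw [hy, omega_sum]
      simp only [omega_smul, omega_classSum]
      by_cases hz : (charDegree (χ : G → ℂ)).factorization 2 = (Nat.card G).factorization 2
      · have h1 := congrFun ha ⟨χ, hz⟩
        refine (resC_eq_zero_iff (Subring.sum_mem _ fun i _ => mul_mem (hb i)
          (centralChar_mem_locRing χ _))).1 ?_
        rw [resC_sum _ _ fun i _ => mul_mem (hb i) (centralChar_mem_locRing χ _)]
        refine Eq.trans (Finset.sum_congr rfl fun i _ => ?_) h1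
        rw [resC_mul (hb i) (centralChar_mem_locRing χ _), hba]
      · refine memLocalIdeal_sum _ _ fun i _ => memLocalIdeal_mul_left (hb i) ?_
        by_contra hu
        apply hz
        have h2 := classExp_le_of_unit hM χ (g i) hu
        have h3 := classExp_add 2 (g i)
        have h4 : (Nat.card (Subgroup.centralizer ({g i} : Set G))).factorization 2 = 0 :=
          Nat.factorization_eq_zero_of_not_dvd (hg i)
        have h5 : (charDegree (χ : G → ℂ)).factorization 2 ≤ (Nat.card G).factorization 2 :=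
          (Nat.factorization_le_iff_dvd (charDegree_pos χ.2).ne' Nat.card_pos.ne').2
            (charDegree_dvd_card χ.2) 2
        omega
    have hyl : IsLocElt M y := IsLocElt.sum _ _ fun i _ => (isLocElt_classSum _).smul (hb i)
    have hyc : IsCentralElt y := IsCentralElt.sum _ _ fun i _ => (isCentralElt_classSum _).smul _
    have hco : ∀ x, y.coeff x = ∑ i, if IsConj (g i) x then b i else 0 := fun x => by
      simp only [hy, MonoidAlgebra.coeff_sum, Finsupp.finset_sum_apply, MonoidAlgebra.coeff_smul,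
        Finsupp.smul_apply, smul_eq_mul, classSum, coeff_mkA, mul_ite, mul_one, mul_zero]
    let f : G → ResK M := fun x => resC M (y.coeff x)
    have hsq : ∀ h, ∑ s, f s * f (s⁻¹ * h) = 0 := fun h => by
      have h1 := resC_eq_zero_of_memLocalIdeal (sq_memLocalIdeal hM g hg b hb h0 h)
      rw [← hy, MonoidAlgebra.coeff_mul_apply_left, Finsupp.sum_fintype _ _ (by simp),
        resC_sum _ _ fun s _ => mul_mem (hyl s) (hyl _)] at h1
      exact Eq.trans (Finset.sum_congr rfl fun s _ => (resC_mul (hyl s) (hyl _)).symm) h1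
    have hfc : ∀ a s, f (a * s * a⁻¹) = f s := fun a s => congrArg (resC M) (hyc s a)
    funext j
    set u := g j
    let F : G → ResK M := fun s => f (s * u) * f (s⁻¹ * u)
    have hF : ∑ s, F s = 0 := by
      rw [← hsq (u * u)]
      refine Fintype.sum_equiv (Equiv.mulRight u) _ _ fun s => ?_
      show f (s * u) * f (s⁻¹ * u) = f (s * u) * f ((s * u)⁻¹ * (u * u))
      congr 1
      rw [← hfc u⁻¹ (s⁻¹ * u)]
      exact congrArg f (by group)
    have hFi : ∀ s, F s⁻¹ = F s := fun s => by simp [F, mul_comm]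
    rw [← Finset.sum_filter_add_sum_filter_not Finset.univ (fun s : G => s⁻¹ = s),
      show ∑ s ∈ Finset.univ.filter (fun s : G => ¬ s⁻¹ = s), F s = 0 by
        refine Finset.sum_involution (fun s _ => s⁻¹) (fun s _ => ?_) (fun s hs _ => ?_)
          (fun s hs => ?_) (fun s _ => inv_inv s)
        · rw [hFi, CharTwo.add_self_eq_zero]
        · exact (Finset.mem_filter.1 hs).2
        · simp only [Finset.mem_filter, Finset.mem_univ, true_and, inv_inv] at hs ⊢
          exact fun h => hs h.symm, add_zero, Finset.sum_eq_single 1] at hF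
    · have hu : y.coeff u = b j := by
        rw [hco, Finset.sum_eq_single j]
        · exact if_pos (IsConj.refl _)
        · exact fun i _ hi => if_neg fun h => hi (hinj i j h)
        · simp
      simpa [F, f, hu, hba] using hF
    · intro s hs h1
      have : y.coeff (s * u) = 0 := by
        rw [hco]
        refine Finset.sum_eq_zero fun i _ => if_neg fun h => h1 (hinv i j s ?_ h)
        rw [pow_two]
        conv_lhs => arg 1; rw [← (Finset.mem_filter.1 hs).2]
        exact inv_mul_cancel s
      simp [F, f, this]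
    · simp
  have := LinearMap.finrank_le_finrank_of_injective hker
  rw [Module.finrank_pi, Module.finrank_pi] at this
  rwa [Nat.card_eq_fintype_card, Nat.card_eq_fintype_card]

/-- An element of order `3` moved to one of order `3` by an involution normalises a four-group. -/
theorem normalizes_of_involution_mul {H : Type*} [Group H] {u t : H} (hu : u ^ 3 = 1) (ht : t ^ 2 = 1)
    (h : (t * u) ^ 3 = 1) : ∃ Q : Subgroup H, IsPGroup 2 Q ∧
      u ∈ Subgroup.normalizer (Q : Set H) ∧ t ∈ Q := by
  set a := u * t * u⁻¹ with ha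
  set b := u * a * u⁻¹ with hb
  have hb1 : u * b * u⁻¹ = t := by
    rw [hb, ha, show u * (u * (u * t * u⁻¹) * u⁻¹) * u⁻¹ = (u * u * u) * t * (u * u * u)⁻¹ by group,
      show u * u * u = 1 by simpa [pow_succ] using hu]
    group
  have e : t * a * b = 1 := by
    rw [hb, ha, ← h]
    calc t * (u * t * u⁻¹) * (u * (u * t * u⁻¹) * u⁻¹)
        = t * u * t * u * t * (u ^ 2)⁻¹ := by group
      _ = t * u * t * u * t * u := by rw [show (u ^ 2)⁻¹ = u by
              rw [inv_eq_iff_mul_eq_one, ← pow_succ]; exact hu]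
      _ = (t * u) ^ 3 := by simp [pow_succ, mul_assoc]
  have ha2 : a * a = 1 := by
    rw [ha, show u * t * u⁻¹ * (u * t * u⁻¹) = u * (t * t) * u⁻¹ by group, ← pow_two, ht]
    group
  have hb2 : b * b = 1 := by
    rw [hb, show u * a * u⁻¹ * (u * a * u⁻¹) = u * (a * a) * u⁻¹ by group, ha2]
    group
  have ht2 : t * t = 1 := by rw [← pow_two, ht]
  have hab : a * b = t := by
    calc a * b = t * t * (a * b) := by rw [ht2, one_mul]
      _ = t * (t * a * b) := by group
      _ = t := by rw [e, mul_one]
  have hta : t * a = b := by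
    calc t * a = t * a * (b * b) := by rw [hb2, mul_one]
      _ = (t * a * b) * b := by group
      _ = b := by rw [e, one_mul]
  have inv_t : t⁻¹ = t := inv_eq_of_mul_eq_one_right ht2
  have inv_a : a⁻¹ = a := inv_eq_of_mul_eq_one_right ha2
  have inv_b : b⁻¹ = b := inv_eq_of_mul_eq_one_right hb2
  have hba : b * a = t := by rw [← inv_t, ← hab, mul_inv_rev, inv_a, inv_b]
  have hat : a * t = b := by rw [← inv_b, ← hta, mul_inv_rev, inv_a, inv_t]
  have htb : t * b = a := by rw [← hta, ← mul_assoc, ht2, one_mul]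
  have hbt : b * t = a := by rw [← inv_a, ← htb, mul_inv_rev, inv_t, inv_b]
  let Q : Subgroup H :=
    { carrier := {x | x = 1 ∨ x = t ∨ x = a ∨ x = b}
      one_mem' := Or.inl rfl
      mul_mem' := by
        intro x y hx hy
        rcases hx with rfl | rfl | rfl | rfl <;> rcases hy with rfl | rfl | rfl | rfl <;>
          simp [ha2, hb2, ht2, hab, hba, hat, hta, htb, hbt]
      inv_mem' := by
        intro x hx
        rcases hx with rfl | rfl | rfl | rfl <;> simp [inv_t, inv_a, inv_b] }
  refine ⟨Q, ?_, ?_, Or.inr (Or.inl rfl)⟩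
  · rintro ⟨x, hx⟩
    refine ⟨1, Subtype.ext ?_⟩
    rcases hx with rfl | rfl | rfl | rfl <;> simp [pow_two, ha2, hb2, ht2]
  · rw [Subgroup.mem_normalizer_iff]
    intro x
    show x ∈ Q ↔ u * x * u⁻¹ ∈ Q
    constructor
    · intro hx
      rcases hx with rfl | rfl | rfl | rfl
      · exact Or.inl (by group)
      · exact Or.inr (Or.inr (Or.inl rfl))
      · exact Or.inr (Or.inr (Or.inr rfl))
      · exact Or.inr (Or.inl hb1)
    · intro hx
      have key : ∀ y z, u * x * u⁻¹ = u * y * u⁻¹ → y = z → x = z := fun y z h1 h2 => by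
        rw [← h2]; exact mul_left_cancel (mul_right_cancel h1)
      rcases hx with h' | h' | h' | h'
      · exact Or.inl (key 1 1 (h'.trans (by group)) rfl)
      · exact Or.inr (Or.inr (Or.inr (key b b (h'.trans hb1.symm) rfl)))
      · exact Or.inr (Or.inl (key t t h' rfl))
      · exact Or.inr (Or.inr (Or.inl (key a a h' rfl)))

/-- Classes of elements of order `3` normalising no non-trivial `2`-subgroup. -/
theorem card_order_three_classes_le :
    Nat.card {C : ConjClasses G // ∃ g ∈ C.carrier, orderOf g = 3 ∧ ∀ Q : Subgroup G, IsPGroup 2 ↥Q →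
      g ∈ Subgroup.normalizer (Q : Set G) → Q = ⊥} ≤
    Nat.card {χ : IrrCharacter G //
      (charDegree (χ : G → ℂ)).factorization 2 = (Nat.card G).factorization 2} := by
  obtain ⟨M, hM⟩ := exists_isPModular Nat.prime_two
  haveI := prime_of_isPModular hM
  haveI : Fact (Nat.Prime 2) := ⟨Nat.prime_two⟩
  set ι := {C : ConjClasses G // ∃ g ∈ C.carrier, orderOf g = 3 ∧ ∀ Q : Subgroup G, IsPGroup 2 ↥Q →
      g ∈ Subgroup.normalizer (Q : Set G) → Q = ⊥}
  choose g hgC hg3 hgQ using fun C : ι => C.2
  refine card_le_defect_zero hM g (fun i hd => ?_) (fun i j h => Subtype.ext ?_) (fun i j t ht h => ?_)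
  · obtain ⟨⟨t, ht⟩, ht2⟩ := exists_prime_orderOf_dvd_card' 2 hd
    have hc := mem_centralizer_singleton.1 ht
    have ht2' : orderOf t = 2 := by rw [← ht2, Subgroup.orderOf_mk]
    have := hgQ i (Subgroup.zpowers t) (IsPGroup.of_card (n := 1) (by rw [Nat.card_zpowers, ht2', pow_one]))
      (Subgroup.centralizer_le_normalizer _ (show g i ∈ Subgroup.centralizer (Subgroup.zpowers t : Set G) by
        rw [Subgroup.mem_centralizer_iff]
        rintro x ⟨k, rfl⟩
        exact ((show Commute (g i) t from hc).symm.zpow_left k).eq))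
    rw [Subgroup.zpowers_eq_bot] at this
    simp [this] at ht2'
  · rw [← ConjClasses.mem_carrier_iff_mk_eq.1 (hgC i), ← ConjClasses.mem_carrier_iff_mk_eq.1 (hgC j)]
    exact ConjClasses.mk_eq_mk_iff_isConj.2 h
  · have h3 : (t * g j) ^ 3 = 1 := by
      obtain ⟨c, hc⟩ := isConj_iff.1 h
      rw [← hc, conj_pow, ← hg3 i, pow_orderOf_eq_one]
      group
    obtain ⟨Q, hQ, hn, htQ⟩ := normalizes_of_involution_mul (hg3 j ▸ pow_orderOf_eq_one (g j)) ht h3
    rwa [hgQ j Q hQ hn, Subgroup.mem_bot] at htQ

end Cfsg.Agent.Block
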