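import Cfsg.Agent.Lib.Block.NormalComplement
import Cfsg.Agent.Lib.Char.Zero
import Mathlib.GroupTheory.Transfer

/-!
The principal 2-block of a group with Klein four Sylow 2-subgroup and one class of involutions.
-/

namespace Cfsg.Agent.Block

open Cfsg Cfsg.Agent.Char
open scoped Classical ComplexConjugate

set_option linter.style.haveILetI false

universe u

variable {G : Type u} [Group G] [Finite G] {M : Ideal AlgInt}

theorem exists_sum_subgroup_eq (χ : IrrCharacter G) (H : Subgroup G) [Fintype H] :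
    ∃ b : ℕ, ∑ x : H, (χ : G → ℂ) x = (Nat.card H : ℂ) * (b : ℂ) := by
  obtain ⟨n, ρ, -, hχ⟩ := χ.2
  have h := finrank_invariants_cast H ρ
  rw [hχ, classInner, inv_mul_eq_iff_eq_mul₀ (Nat.cast_ne_zero.2 Nat.card_pos.ne')] at h
  refine ⟨_, Eq.trans ?_ h⟩
  simp

theorem klein_sylow {P : Sylow 2 G} (hP : Nat.card P = 4) (hexp : ∀ x : P, x * x = 1) (Q : Sylow 2 G) :
    Nat.card Q = 4 ∧ (∀ x ∈ (Q : Subgroup G), x * x = 1) ∧
      ∀ x ∈ (Q : Subgroup G), ∀ y ∈ (Q : Subgroup G), Commute x y := by
  haveI : Fact (Nat.Prime 2) := ⟨Nat.prime_two⟩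
  let e := P.equiv Q
  have hsq : ∀ x : Q, x * x = 1 := fun x => by
    rw [← e.apply_symm_apply x, ← map_mul, hexp, map_one]
  refine ⟨(Nat.card_congr e.toEquiv).symm.trans hP, fun x hx => congrArg Subtype.val (hsq ⟨x, hx⟩),
    fun x hx y hy => ?_⟩
  have h1 : x * y * (x * y) = 1 := congrArg Subtype.val (hsq (⟨x, hx⟩ * ⟨y, hy⟩))
  have hx1 : x * x = 1 := congrArg Subtype.val (hsq ⟨x, hx⟩)
  have hy1 : y * y = 1 := congrArg Subtype.val (hsq ⟨y, hy⟩)
  show x * y = y * x
  calc x * y = x * (x * y * (x * y)) * y := by rw [h1, mul_one]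
    _ = (x * x) * (y * x) * (y * y) := by group
    _ = y * x := by rw [hx1, hy1, one_mul, mul_one]

/-- The centraliser of an involution has a normal 2-complement. -/
theorem index_core_centralizer_involution {P : Sylow 2 G} (hP : Nat.card P = 4)
    (hexp : ∀ x : P, x * x = 1) {z : G} (hz : orderOf z = 2) :
    ∃ k : ℕ, (pPrimeCore 2 (Subgroup.centralizer ({z} : Set G))).index = 2 ^ k := by
  haveI : Fact (Nat.Prime 2) := ⟨Nat.prime_two⟩
  have hz2 : IsPGroup 2 (Subgroup.zpowers z) :=
    IsPGroup.of_card (n := 1) (by rw [Nat.card_zpowers, hz, pow_one])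
  obtain ⟨Q, hQ⟩ := hz2.exists_le_sylow
  have hzQ : z ∈ (Q : Subgroup G) := hQ (Subgroup.mem_zpowers z)
  obtain ⟨hQ4, hQsq, hQcomm⟩ := klein_sylow hP hexp Q
  have hQC : (Q : Subgroup G) ≤ Subgroup.centralizer ({z} : Set G) := fun x hx =>
    mem_centralizer_singleton.2 (hQcomm z hzQ x hx)
  let R := Q.subtype hQC
  have hR : ∀ x : Subgroup.centralizer ({z} : Set G),
      x ∈ (R : Subgroup (Subgroup.centralizer ({z} : Set G))) ↔ (x : G) ∈ (Q : Subgroup G) := fun x => Iff.rfl
  have hN : Subgroup.normalizer (SetLike.coe (R : Subgroup (Subgroup.centralizer ({z} : Set G)))) ≤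
      Subgroup.centralizer (SetLike.coe (R : Subgroup (Subgroup.centralizer ({z} : Set G)))) := by
    intro g hg
    rw [Subgroup.mem_centralizer_iff]
    intro a ha
    by_contra hne
    have hgn : ∀ n : ℕ, ∀ c : Subgroup.centralizer ({z} : Set G),
        c ∈ (R : Subgroup (Subgroup.centralizer ({z} : Set G))) →
          g ^ n * c * (g ^ n)⁻¹ ∈ (R : Subgroup (Subgroup.centralizer ({z} : Set G))) := fun n c hc =>
      (Subgroup.mem_normalizer_iff.1 (pow_mem hg n) c).1 hc
    obtain ⟨i, m, hm, hgm⟩ := Nat.exists_eq_pow_mul_and_not_dvd (orderOf_pos g).ne' 2 (by norm_num)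
    -- the 2-part of g lies in Q
    have hgR : g ^ m ∈ (R : Subgroup (Subgroup.centralizer ({z} : Set G))) := by
      have hle : Subgroup.zpowers (g ^ m) ≤
          Subgroup.normalizer (SetLike.coe (R : Subgroup (Subgroup.centralizer ({z} : Set G)))) := by
        rw [Subgroup.zpowers_le]; exact pow_mem hg m
      have hp : IsPGroup 2 (Subgroup.zpowers (g ^ m)) := by
        refine IsPGroup.of_card (n := i) ?_
        rw [Nat.card_zpowers, orderOf_pow, hgm, Nat.gcd_eq_right (dvd_mul_left _ _),
          Nat.mul_div_cancel _ (Nat.pos_of_ne_zero fun h0 => hm (by simp [h0]))]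
      have h2 := hp.to_sup_of_normal_right' R.isPGroup' hle
      have h3 := R.is_maximal' h2 le_sup_right
      rw [← h3]
      exact Subgroup.mem_sup_left (Subgroup.mem_zpowers _)
    -- conjugation by g squares to the identity on R
    have hzR : (⟨z, hQC hzQ⟩ : Subgroup.centralizer ({z} : Set G)) ∈
        (R : Subgroup (Subgroup.centralizer ({z} : Set G))) := hzQ
    set w : Subgroup.centralizer ({z} : Set G) := ⟨z, hQC hzQ⟩
    have hwc : ∀ x : Subgroup.centralizer ({z} : Set G), Commute w x := fun x =>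
      Subtype.ext (mem_centralizer_singleton.1 x.2).eq
    have haw : g * a * g⁻¹ = a * w := by
      have hb := hgn 1 a ha
      rw [pow_one] at hb
      set b := g * a * g⁻¹ with hb'
      by_contra hbw
      have hba : b ≠ a := fun h => hne (by rw [hb', mul_inv_eq_iff_eq_mul] at h; exact h.symm)
      have ha1 : a ≠ 1 := fun h => hne (by simp [h])
      have haw' : a ≠ w := fun h => hne (h ▸ (hwc g).eq)
      have hb1 : b ≠ 1 := fun h => ha1 (conj_eq_one_iff.1 (hb' ▸ h))
      have hbw' : b ≠ w := fun h => haw' (by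
        have h' : g * a * g⁻¹ = g * w * g⁻¹ := by
          rw [← hb', h, ← (hwc g).eq, mul_inv_cancel_right]
        exact mul_left_cancel (mul_right_cancel h'))
      have hw1 : w ≠ 1 := fun h => by
        have : z = 1 := congrArg Subtype.val h
        rw [this, orderOf_one] at hz; norm_num at hz
      have ha2 : a * a = 1 := Subtype.ext (hQsq _ ha)
      have hab : a * w ≠ 1 := fun h => haw' (mul_left_cancel (ha2.trans h.symm))
      -- five distinct elements in a group of order four
      have hsub : ({1, w, a, a * w, b} : Finset (Subgroup.centralizer ({z} : Set G))) ⊆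
          (Set.toFinite (SetLike.coe (R : Subgroup (Subgroup.centralizer ({z} : Set G))))).toFinset := by
        intro x hx
        simp only [Finset.mem_insert, Finset.mem_singleton] at hx
        rw [Set.Finite.mem_toFinset, SetLike.mem_coe]
        rcases hx with rfl | rfl | rfl | rfl | rfl
        · exact one_mem _
        · exact hzR
        · exact ha
        · exact mul_mem ha hzR
        · exact hb
      have hcard := Finset.card_le_card hsub
      rw [← Set.ncard_eq_toFinset_card, ← Nat.card_coe_set_eq] at hcard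
      have hR4 : Nat.card (R : Subgroup (Subgroup.centralizer ({z} : Set G))) = 4 := by
        rw [← hQ4]
        exact Nat.card_congr (Subgroup.subgroupOfEquivOfLe hQC).toEquiv
      have hwaw : w ≠ a * w := fun h => ha1 (by simpa using h.symm)
      have haaw : a ≠ a * w := fun h => hw1 (by simpa using h.symm)
      rw [Finset.card_insert_of_notMem (by simp [hw1.symm, ha1.symm, hab.symm, hb1.symm]),
        Finset.card_insert_of_notMem (by simp [haw'.symm, hwaw, hbw'.symm]),
        Finset.card_insert_of_notMem (by simp [haaw, hba.symm]),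
        Finset.card_insert_of_notMem (by simp [Ne.symm hbw]), Finset.card_singleton] at hcard
      exact absurd (hcard.trans hR4.le) (by norm_num)
    have hpow : ∀ n : ℕ, g ^ n * a * (g ^ n)⁻¹ = a * w ^ n := by
      intro n
      induction n with
      | zero => simp
      | succ n ih =>
        rw [pow_succ' g, mul_inv_rev, show g * g ^ n * a * ((g ^ n)⁻¹ * g⁻¹) =
          g * (g ^ n * a * (g ^ n)⁻¹) * g⁻¹ by group, ih, ← mul_assoc g a (w ^ n), mul_assoc (g * a),
          ((hwc g⁻¹).pow_left n).eq, ← mul_assoc, haw, mul_assoc, ← pow_succ']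
    have h1 := hpow m
    have hcm : g ^ m * a * (g ^ m)⁻¹ = a :=
      Subtype.ext (by
        simp only [Subgroup.coe_mul, Subgroup.coe_inv]
        rw [(hQcomm _ ((hR _).1 hgR) _ ((hR _).1 ha)).eq, mul_inv_cancel_right])
    rw [hcm, left_eq_mul] at h1
    have hw2 : orderOf w = 2 := by rw [← Subgroup.orderOf_coe]; exact hz
    exact hm (hw2 ▸ orderOf_dvd_of_pow_eq_one h1)
  refine Solv.hasNormalPComplement_iff_index.mp ⟨R, (MonoidHom.transferSylow R hN).ker, inferInstance, ?_⟩
  exact MonoidHom.ker_transferSylow_isComplement' R hN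

theorem regular_subgroup_centralizer_involution {P : Sylow 2 G} (hP : Nat.card P = 4)
    (hexp : ∀ x : P, x * x = 1) {z : G} (hz : orderOf z = 2) :
    ∀ x, x ∈ pPrimeCore 2 (Subgroup.centralizer ({z} : Set G)) ↔ ¬ 2 ∣ orderOf x :=
  haveI : Fact (Nat.Prime 2) := ⟨Nat.prime_two⟩
  regular_iff_mem_pPrimeCore (index_core_centralizer_involution hP hexp hz)

theorem blockKernel_principal_klein [Fintype G] (hM : IsPModular 2 M) {P : Sylow 2 G}
    (hP : Nat.card P = 4) (hexp : ∀ x : P, x * x = 1) {z : G} (hz : orderOf z = 2) :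
    blockKernel (principalBlock M G) z z = 4 := by
  haveI : Fact (Nat.Prime 2) := ⟨Nat.prime_two⟩
  haveI := prime_of_isPModular hM
  haveI := Fintype.ofFinite (Subgroup.centralizer ({z} : Set G))
  have hzk : ∃ k : ℕ, orderOf z = 2 ^ k := ⟨1, by rw [hz, pow_one]⟩
  have hB : IsPBlock M (principalBlock M G) := ⟨⟨fun _ => 1, isIrrCharacter_one⟩, rfl⟩
  have h := blockKernel_section (c := 1) (c' := 1) hM hzk hB (by simp) (by simp)
  simp only [Subgroup.coe_one, mul_one] at h
  rw [h, localBlocks_principal hM hzk, Finset.sum_singleton]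
  have h2 := card_mul_blockKernel_principal hM (regular_subgroup_centralizer_involution hP hexp hz) (one_mem _)
  rw [← Subgroup.card_mul_index (pPrimeCore 2 (Subgroup.centralizer ({z} : Set G))), Nat.cast_mul,
    index_eq_ordProj_of_regular (index_core_centralizer_involution hP hexp hz)] at h2
  rw [mul_left_cancel₀ (Nat.cast_ne_zero.2 Nat.card_pos.ne') h2]
  have hpart : 2 ^ (Nat.card (Subgroup.centralizer ({z} : Set G))).factorization 2 = 4 := by
    obtain ⟨Q, hQ⟩ := (IsPGroup.of_card (n := 1) (by rw [Nat.card_zpowers, hz, pow_one]) :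
      IsPGroup 2 (Subgroup.zpowers z)).exists_le_sylow
    obtain ⟨hQ4, -, hQcomm⟩ := klein_sylow hP hexp Q
    have hQC : (Q : Subgroup G) ≤ Subgroup.centralizer ({z} : Set G) := fun x hx =>
      mem_centralizer_singleton.2 (hQcomm z (hQ (Subgroup.mem_zpowers z)) x hx)
    rw [← (Q.subtype hQC).card_eq_multiplicity, ← hQ4]
    exact Nat.card_congr (Subgroup.subgroupOfEquivOfLe hQC).toEquiv
  rw [hpart]; norm_num

/-- The value at an involution, with the congruence from the restriction to a four-group. -/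
theorem exists_int_value_klein (χ : IrrCharacter G) {P : Sylow 2 G} (hP : Nat.card P = 4)
    (hexp : ∀ x : P, x * x = 1) (hone : ∀ s t : G, orderOf s = 2 → orderOf t = 2 → IsConj s t)
    {z : G} (hz : orderOf z = 2) :
    ∃ v : ℤ, (χ : G → ℂ) z = (v : ℂ) ∧ (4 : ℤ) ∣ (charDegree (χ : G → ℂ) : ℤ) + 3 * v := by
  haveI : Fact (Nat.Prime 2) := ⟨Nat.prime_two⟩
  haveI := Fintype.ofFinite (Subgroup.zpowers z)
  haveI := Fintype.ofFinite (P : Subgroup G)
  have hd := charDegree_cast (IsIrrCharacter.isCharacter χ.2)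
  have hsum : ∀ (H : Subgroup G) [Fintype H], (∀ x ∈ H, x ≠ 1 → orderOf x = 2) →
      ∑ x : H, (χ : G → ℂ) x = (charDegree (χ : G → ℂ) : ℂ) + ((Nat.card H - 1 : ℕ) : ℂ) * (χ : G → ℂ) z := by
    intro H _ hH
    rw [← Finset.add_sum_erase _ _ (Finset.mem_univ (1 : H)), Finset.sum_congr rfl
      (g := fun _ => (χ : G → ℂ) z) fun x hx => IsIrrCharacter.apply_isConj χ.2
        (hone _ _ (hH _ x.2 fun h => Finset.ne_of_mem_erase hx (Subtype.ext h)) hz),
      Finset.sum_const, Finset.card_erase_of_mem (Finset.mem_univ _), Finset.card_univ,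
      nsmul_eq_mul, Nat.card_eq_fintype_card, Subgroup.coe_one, ← hd]
  obtain ⟨a, ha⟩ := exists_sum_subgroup_eq χ (Subgroup.zpowers z)
  obtain ⟨b, hb⟩ := exists_sum_subgroup_eq χ (P : Subgroup G)
  rw [hsum _ (fun x hx hx1 => ?_), Nat.card_zpowers, hz] at ha
  swap
  · have h2 : orderOf x ∣ 2 := by rw [← hz]; exact orderOf_dvd_of_mem_zpowers hx
    exact ((Nat.dvd_prime Nat.prime_two).1 h2).resolve_left (by rwa [orderOf_eq_one_iff])
  rw [hsum _ (fun x hx hx1 => orderOf_eq_prime (by rw [pow_two]; exact congrArg Subtype.val (hexp ⟨x, hx⟩)) hx1),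
    hP] at hb
  push_cast at ha hb
  refine ⟨2 * (a : ℤ) - charDegree (χ : G → ℂ), by push_cast; linear_combination ha, ⟨(b : ℤ), ?_⟩⟩
  have : ((charDegree (χ : G → ℂ) : ℤ) : ℂ) + 3 * ((2 * (a : ℤ) - charDegree (χ : G → ℂ) : ℤ) : ℂ) =
      ((4 * (b : ℤ) : ℤ) : ℂ) := by
    push_cast; linear_combination hb - 3 * ha
  exact_mod_cast this

/-- Data of the principal block: values at an involution are ±1, and there are four characters. -/
theorem principal_klein (hM : IsPModular 2 M) {P : Sylow 2 G} (hP : Nat.card P = 4)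
    (hexp : ∀ x : P, x * x = 1) (hone : ∀ s t : G, orderOf s = 2 → orderOf t = 2 → IsConj s t)
    {z : G} (hz : orderOf z = 2) :
    Nat.card (principalBlock M G) = 4 ∧ blockRank 2 (principalBlock M G) = 3 ∧
      ∀ χ ∈ principalBlock M G, ∃ v : ℤ, (v = 1 ∨ v = -1) ∧ (χ : G → ℂ) z = (v : ℂ) ∧
        (4 : ℤ) ∣ (charDegree (χ : G → ℂ) : ℤ) - v := by
  haveI : Fact (Nat.Prime 2) := ⟨Nat.prime_two⟩
  haveI := Fintype.ofFinite G
  haveI := prime_of_isPModular hM
  set B := principalBlock M G with hB'
  let one : IrrCharacter G := ⟨fun _ => 1, isIrrCharacter_one⟩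
  have h1B : one ∈ B := sameBlock_refl _
  have hB : IsPBlock M B := ⟨one, rfl⟩
  choose v hv hv4 using fun χ : IrrCharacter G => exists_int_value_klein χ hP hexp hone hz
  have hv1 : v one = 1 := by
    have := hv one
    simp only [one] at this
    exact_mod_cast this.symm
  have hne : ∀ χ ∈ B, v χ ≠ 0 := by
    intro χ hχ h0
    have h4 := hv4 χ
    rw [h0, mul_zero, add_zero] at h4
    have h4' : 4 ∣ charDegree (χ : G → ℂ) := by exact_mod_cast h4
    have hsing : blockOf M (χ : G → ℂ) = {χ} := by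
      refine blockOf_eq_singleton hM χ fun hd => ?_
      obtain ⟨c, hc⟩ := charDegree_dvd_card χ.2 (G := G)
      rw [hc, Nat.mul_div_cancel_left _ (charDegree_pos χ.2)] at hd
      have h8 : 8 ∣ Nat.card G := hc ▸ Nat.mul_dvd_mul h4' hd
      have h3 := (Nat.prime_two.pow_dvd_iff_le_factorization Nat.card_pos.ne').1
        (show 2 ^ 3 ∣ Nat.card G by simpa using h8)
      have h22 : 2 ^ (Nat.card G).factorization 2 = 2 ^ 2 := by rw [← P.card_eq_multiplicity, hP]; norm_num
      have := Nat.pow_right_injective le_rfl h22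
      omega
    have := isPBlock_eq_of_mem hB (isPBlock_blockOf χ) hχ (self_mem_blockOf χ)
    rw [hsing] at this
    rw [this, Set.mem_singleton_iff] at h1B
    rw [← h1B, hv1] at h0
    exact one_ne_zero h0
  have hsum : ∑ χ ∈ B.toFinite.toFinset, (v χ) ^ 2 = 4 := by
    have h := blockKernel_principal_klein hM hP hexp hz
    rw [blockKernel, finsum_mem_eq_finite_toFinset_sum _ B.toFinite] at h
    refine Int.cast_injective (α := ℂ) ?_
    push_cast
    refine Eq.trans (Finset.sum_congr rfl fun χ _ => ?_) h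
    rw [hv χ, map_intCast, sq]
  have hsq : ∀ χ ∈ B, (v χ) ^ 2 = 1 := by
    intro χ hχ
    have hm := B.toFinite.mem_toFinset.2 hχ
    by_contra hn
    have h2 : 2 ≤ |v χ| := by
      by_contra hlt
      have hpos := abs_pos.2 (hne χ hχ)
      have : |v χ| = 1 := by omega
      exact hn (by rw [← sq_abs, this, one_pow])
    have h4 : 4 ≤ (v χ) ^ 2 := by rw [← sq_abs]; nlinarith
    have hχone : χ ≠ one := fun h => hn (by rw [h, hv1, one_pow])
    have := Finset.add_le_sum (fun i hi => sq_nonneg (v i)) hm (B.toFinite.mem_toFinset.2 h1B) hχone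
    rw [hv1, hsum] at this
    linarith
  have hcard : Nat.card B = 4 := by
    rw [Finset.sum_congr rfl fun χ hχ => hsq χ (B.toFinite.mem_toFinset.1 hχ), Finset.sum_const,
      nsmul_eq_mul, mul_one] at hsum
    rw [Nat.card_coe_set_eq, Set.ncard_eq_toFinset_card]
    exact_mod_cast hsum
  refine ⟨hcard, ?_, fun χ hχ => ⟨v χ, sq_eq_one_iff.1 (hsq χ hχ), hv χ, ?_⟩⟩
  · have hz1 : (1 : G) ≠ z := fun h => by rw [← h, orderOf_one] at hz; norm_num at hz
    have h := card_block_eq_sum hM hB {1, z} (by
      intro x hx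
      simp only [Finset.mem_insert, Finset.mem_singleton] at hx
      rcases hx with rfl | rfl
      exacts [⟨0, by simp⟩, ⟨1, by rw [hz, pow_one]⟩]) (by
      intro g hg
      obtain ⟨k, hk⟩ := hg
      have hg2 : g * g = 1 := by
        obtain ⟨Q, hQ⟩ := (IsPGroup.of_card (n := k) (by rw [Nat.card_zpowers, hk]) :
          IsPGroup 2 (Subgroup.zpowers g)).exists_le_sylow
        exact (klein_sylow hP hexp Q).2.1 g (hQ (Subgroup.mem_zpowers g))
      by_cases hg1 : g = 1
      · subst hg1
        exact ⟨1, ⟨by simp, IsConj.refl 1⟩, fun y hy => isConj_one_right.1 hy.2⟩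
      · have hgo : orderOf g = 2 := orderOf_eq_prime (by rwa [pow_two]) hg1
        refine ⟨z, ⟨by simp, hone g z hgo hz⟩, fun y hy => ?_⟩
        rcases Finset.mem_insert.1 hy.1 with rfl | hy'
        · exact absurd (isConj_one_left.1 hy.2) hg1
        · exact Finset.mem_singleton.1 hy')
    rw [hcard, Finset.sum_pair hz1, sum_localBlocks_one hM hB, hB',
      localBlocks_principal hM ⟨1, by rw [hz, pow_one]⟩, Finset.sum_singleton,
      blockRank_principal_eq_one hM (regular_subgroup_centralizer_involution hP hexp hz)] at h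
    rw [hB']
    omega
  · have := hv4 χ
    omega

end Cfsg.Agent.Block
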