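import Cfsg.Agent.Lib.Block.DefectCount
import Cfsg.Agent.Lib.Block.DefectCore
import Cfsg.Agent.Lib.Block.InvolutionZero
import Cfsg.Agent.Lib.Block.Congr

/-!
# Counting the blocks with a given normal defect group

The number of blocks with defect group a normal `p`-subgroup `D` is the rank modulo `p` of the
matrix counting pairs of elements of the defect-`D` classes in one coset of a Sylow subgroup.
-/

set_option autoImplicit false

open Cfsg Cfsg.Agent.Char
open scoped ComplexConjugate Matrix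

namespace Cfsg.Agent.Block

universe u

theorem rank_map_ringHom {F K : Type*} [Field F] [Field K] (f : F →+* K) {m n : Type*} [Fintype m]
    [Fintype n] (A : Matrix m n F) : (A.map f).rank = A.rank := by
  classical
  set V := LinearMap.range A.mulVecLin
  have hr : A.rank = Module.finrank F V := rfl
  set e := (Module.finBasis F V).equivFun
  set L : (Fin (Module.finrank F V) → F) →ₗ[F] (m → F) := V.subtype ∘ₗ e.symm.toLinearMap
  set R : (n → F) →ₗ[F] (Fin (Module.finrank F V) → F) := e.toLinearMap ∘ₗ A.mulVecLin.rangeRestrict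
  have hA : A.mulVecLin = L ∘ₗ R := LinearMap.ext fun x => by simp [L, R]
  obtain ⟨L', hL'⟩ := L.exists_leftInverse_of_injective (LinearMap.ker_eq_bot.2
    (by simpa [L] using V.injective_subtype.comp e.symm.injective))
  obtain ⟨R', hR'⟩ := R.exists_rightInverse_of_surjective (LinearMap.range_eq_top.2
    (by simpa [R] using e.surjective.comp A.mulVecLin.surjective_rangeRestrict))
  have hA' : A = LinearMap.toMatrix' L * LinearMap.toMatrix' R := by
    rw [← LinearMap.toMatrix'_comp, ← hA]
    exact (LinearMap.toMatrix'_toLin' A).symm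
  have hI : LinearMap.toMatrix' L' * A * LinearMap.toMatrix' R' = 1 := by
    rw [hA', ← Matrix.mul_assoc, ← LinearMap.toMatrix'_comp, hL', LinearMap.toMatrix'_id, Matrix.one_mul,
      ← LinearMap.toMatrix'_comp, hR', LinearMap.toMatrix'_id]
  apply le_antisymm
  · conv_lhs => rw [hA', Matrix.map_mul]
    refine (Matrix.rank_mul_le_left _ _).trans ((Matrix.rank_le_card_width _).trans ?_)
    rw [Fintype.card_fin, hr]
  · have h := congrArg (fun X => X.map f) hI
    simp only [Matrix.map_mul, Matrix.map_one f f.map_zero f.map_one] at h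
    have h2 := (Matrix.rank_mul_le_left _ ((LinearMap.toMatrix' R').map f)).trans
      (Matrix.rank_mul_le_right ((LinearMap.toMatrix' L').map f) (A.map f))
    rw [h, Matrix.rank_one, Fintype.card_fin, ← hr] at h2
    exact h2

variable {G : Type u} [Group G] [Finite G] {M : Ideal AlgInt} [hMp : M.IsPrime] {p : ℕ}
  {D : Subgroup G}

theorem resC_natCast (n : ℕ) : resC M (n : ℂ) = (n : ResK M) := by
  rw [resC_of_mem (natCast_mem _ n)]
  exact map_natCast _ n

omit hMp in
theorem centralizer_sylow_eq {p : ℕ} [Fact p.Prime] [D.Normal] {x : G}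
    (h : DefectLE p D x) (hx : classExp p x + (Nat.card D).factorization p = (Nat.card G).factorization p)
    (hD : IsPGroup p D) :
    ∀ S : Sylow p (Subgroup.centralizer ({x} : Set G)), (S : Subgroup _).map
      (Subgroup.centralizer ({x} : Set G)).subtype = D := by
  intro S
  obtain ⟨y, hy⟩ := h _ (isPGroup_sylowImage S) (sylowImage_le S)
  have hc : Nat.card (sylowImage S) = Nat.card D := by
    obtain ⟨k, hk⟩ := IsPGroup.iff_card.1 hD
    rw [hk, Nat.Prime.factorization_pow Fact.out, Finsupp.single_eq_same] at hx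
    have h2 := classExp_add p x
    rw [hk, show sylowImage S = (S : Subgroup _).map (Subgroup.centralizer ({x} : Set G)).subtype from rfl,
      Subgroup.card_map_of_injective (Subgroup.subtype_injective _), Sylow.card_eq_multiplicity]
    congr 1; omega
  have he := Subgroup.eq_of_le_of_card_ge hy (by rw [card_map_conj, hc])
  show sylowImage S = D
  ext z
  rw [← Subgroup.mem_map_iff_mem (f := (MulAut.conj y).toMonoidHom) (MulAut.conj y).injective (x := z), he]
  exact ⟨fun hz => by
    have := ‹D.Normal›.conj_mem _ hz y⁻¹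
    simpa [mul_assoc] using this, fun hz => ‹D.Normal›.conj_mem z hz y⟩

/-- The indicator of a normal subgroup. -/
noncomputable def subSum (D : Subgroup G) : MonoidAlgebra ℂ G :=
  mkA fun x => by classical exact if x ∈ D then 1 else 0

omit hMp in
theorem isCentralElt_subSum [D.Normal] : IsCentralElt (subSum D) := by
  classical
  intro x h
  simp only [subSum, coeff_mkA]
  refine if_congr ?_ rfl rfl
  refine ⟨fun hx => ?_, fun hx => ‹D.Normal›.conj_mem x hx h⟩
  have := ‹D.Normal›.conj_mem _ hx h⁻¹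
  simpa [mul_assoc] using this

omit hMp in
theorem omega_subSum [D.Normal] (χ : IrrCharacter G) :
    omega (χ : G → ℂ) (subSum D) = 0 ∨ omega (χ : G → ℂ) (subSum D) = (Nat.card D : ℂ) := by
  classical
  haveI := Fintype.ofFinite G
  have e : subSum D * subSum D = (Nat.card D : ℂ) • subSum D := by
    refine MonoidAlgebra.ext (Finsupp.ext fun x => ?_)
    rw [MonoidAlgebra.coeff_mul_apply_left, Finsupp.sum_fintype _ _ (by simp), MonoidAlgebra.coeff_smul,
      Finsupp.smul_apply, smul_eq_mul]
    simp only [subSum, coeff_mkA, ite_mul, one_mul, zero_mul]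
    by_cases hx : x ∈ D
    · rw [if_pos hx, mul_one, Finset.sum_congr rfl fun g _ => (show _ = if g ∈ D then (1 : ℂ) else 0 from
        ite_congr rfl (fun hg => if_pos (mul_mem (inv_mem hg) hx)) (fun _ => rfl))]
      rw [← Finset.sum_filter, Finset.sum_const, nsmul_one, Nat.card_eq_fintype_card, Fintype.card_subtype]
    · rw [if_neg hx, mul_zero]
      refine Finset.sum_eq_zero fun g _ => ?_
      split_ifs with hg hgx
      · exact absurd (by simpa using mul_mem hg hgx) hx
      · rfl
      · rfl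
  have h := congrArg (omega (χ : G → ℂ)) e
  rw [omega_mul χ isCentralElt_subSum isCentralElt_subSum, omega_smul] at h
  exact (mul_eq_mul_right_iff.1 h).symm.imp_left id

/-- The scalar attached to a character of a block of defect `D`. -/
theorem pow_mul_degree_mem (hM : IsPModular p M) {B : Set (IrrCharacter G)} {χ : IrrCharacter G}
    (hχ : χ ∈ B) {d : ℕ} (hd : minVal p B + d = (Nat.card G).factorization p) :
    ((p ^ d : ℕ) : ℂ) * (Nat.card G : ℂ)⁻¹ * (χ : G → ℂ) 1 ∈ locRing M := by
  haveI := prime_of_isPModular hM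
  set n := charDegree (χ : G → ℂ)
  have hn' : p ^ n.factorization p * (n / p ^ n.factorization p) = n := Nat.ordProj_mul_ordCompl_eq_self n p
  have hc := charDegree_cast (IsIrrCharacter.isCharacter χ.2)
  set g' := Nat.card G / p ^ (Nat.card G).factorization p
  have hg' : p ^ (Nat.card G).factorization p * g' = Nat.card G := Nat.ordProj_mul_ordCompl_eq_self _ p
  have hv := minVal_le (p := p) hχ
  have e : ((p ^ d : ℕ) : ℂ) * (Nat.card G : ℂ)⁻¹ * (χ : G → ℂ) 1 =
      ((g' : ℂ))⁻¹ * ((p ^ (n.factorization p - minVal p B) * (n / p ^ n.factorization p) : ℕ) : ℂ) := by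
    have hp0 : (p : ℂ) ≠ 0 := Nat.cast_ne_zero.2 hM.1.ne_zero
    rw [← hc, show (Nat.card G : ℂ) = ((p ^ (minVal p B + d) * g' : ℕ) : ℂ) from
        congrArg Nat.cast (hd ▸ hg'.symm),
      show (n : ℂ) = ((p ^ n.factorization p * (n / p ^ n.factorization p) : ℕ) : ℂ) from
        congrArg Nat.cast hn'.symm]
    obtain ⟨j, hj⟩ := Nat.exists_eq_add_of_le hv
    rw [hj, Nat.add_sub_cancel_left]
    have hg0 : (g' : ℂ) ≠ 0 := Nat.cast_ne_zero.2 fun h0 =>
      Nat.not_dvd_ordCompl hM.1 (Nat.card_pos (α := G)).ne' (show p ∣ g' by rw [h0]; exact dvd_zero p)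
    push_cast
    rw [pow_add, pow_add]
    field_simp
  rw [e]
  exact mul_mem (inv_natCast_mem_locRing hM.1 hM.2.2 (Nat.not_dvd_ordCompl hM.1 Nat.card_pos.ne'))
    (natCast_mem _ _)

theorem dvd_of_div_mem (hM : IsPModular p M) {n m : ℕ} (h : (n : ℂ) / ((p ^ m : ℕ) : ℂ) ∈ locRing M) :
    p ^ m ∣ n := by
  haveI := prime_of_isPModular hM
  by_contra hd
  have hn : n ≠ 0 := fun h0 => hd (by rw [h0]; exact dvd_zero _)
  have hv : n.factorization p < m := by
    by_contra hge
    push Not at hge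
    exact hd ((pow_dvd_pow p hge).trans (Nat.ordProj_dvd n p))
  set u := n / p ^ n.factorization p
  have hu : p ^ n.factorization p * u = n := Nat.ordProj_mul_ordCompl_eq_self _ p
  have e : (u : ℂ) = (n : ℂ) / ((p ^ m : ℕ) : ℂ) * ((p ^ (m - n.factorization p) : ℕ) : ℂ) := by
    have hp0 : (p : ℂ) ≠ 0 := Nat.cast_ne_zero.2 hM.1.ne_zero
    obtain ⟨j, hj⟩ := Nat.exists_eq_add_of_le hv.le
    rw [show (n : ℂ) = ((p ^ n.factorization p * u : ℕ) : ℂ) from congrArg Nat.cast hu.symm, hj, Nat.add_sub_cancel_left]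
    push_cast
    rw [pow_add]
    field_simp
  exact Nat.not_dvd_ordCompl hM.1 hn ((memLocalIdeal_natCast_iff hM.1 hM.2.2 _).1
    (e ▸ memLocalIdeal_mul_left h (memLocalIdeal_natCast_pow hM.1 hM.2.2 (Nat.sub_ne_zero_of_lt hv))))

omit hMp in
theorem blockCoeff_mul_subSum (hM : IsPModular p M) [D.Normal] (hD : IsPGroup p D) {B : Set (IrrCharacter G)}
    (hB : IsPBlock M B) {x : G} (hx : ¬ p ∣ orderOf x) (hxD : ∀ u ∈ D, Commute x u) :
    (blockIdem B * subSum D).coeff x = blockCoeff B x := by
  classical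
  haveI := Fintype.ofFinite G
  haveI := prime_of_isPModular hM
  haveI := Fact.mk hM.1
  rw [MonoidAlgebra.coeff_mul_apply_left, Finsupp.sum_fintype _ _ (by simp), Finset.sum_eq_single x]
  · simp [blockIdem, subSum, one_mem]
  · intro g _ hg
    simp only [blockIdem, subSum, coeff_mkA]
    by_cases hmem : g⁻¹ * x ∈ D
    · rw [blockCoeff_eq_zero_of_dvd hM hB, zero_mul]
      set u := g⁻¹ * x with hu
      have hgu : g = x * u⁻¹ := by rw [hu]; group
      obtain ⟨k, hk⟩ := IsPGroup.iff_orderOf.1 hD ⟨u, hmem⟩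
      rw [Subgroup.orderOf_mk] at hk
      rw [hgu, ((hxD u hmem).inv_right).orderOf_mul_eq_mul_orderOf_of_coprime, orderOf_inv, hk]
      · refine dvd_mul_of_dvd_right (dvd_pow_self p ?_) _
        intro h0
        rw [h0, pow_zero, orderOf_eq_one_iff] at hk
        exact hg (by rw [hgu, hk, inv_one, mul_one])
      · rw [orderOf_inv, hk]
        exact ((hM.1.coprime_iff_not_dvd.2 hx).pow_left k).symm
    · rw [if_neg hmem, mul_zero]
  · simp

/-- `blockCoeff B 1` over the smallest degree power is a unit when the defect group is normal. -/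
theorem coeff_one_div_unit (hM : IsPModular p M) [Fact p.Prime] [D.Normal]
    (hD : IsPGroup p D) {B : Set (IrrCharacter G)} (hB : IsPBlock M B) (hBD : IsDefectGroup p M B D)
    (hd : minVal p B + (Nat.card D).factorization p = (Nat.card G).factorization p) :
    blockCoeff B 1 / ((p ^ minVal p B : ℕ) : ℂ) ∈ locRing M ∧
      ¬ MemLocalIdeal M (blockCoeff B 1 / ((p ^ minVal p B : ℕ) : ℂ)) := by
  classical
  haveI := Fintype.ofFinite (IrrCharacter G)
  obtain ⟨g, hg⟩ := exists_isDefectClass hB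
  have hge := classExp_eq_minVal_of_isDefectClass hM hB hg
  obtain ⟨S⟩ : Nonempty (Sylow p (Subgroup.centralizer ({g} : Set G))) := inferInstance
  have hS := centralizer_sylow_eq (defectLE_of_coeff_unit hM hB hBD hg.2.1) (by rw [hge]; exact hd) hD S
  have hgD : ∀ u ∈ D, Commute g u := fun u hu =>
    mem_centralizer_singleton.1 (sylowImage_le S (show u ∈ sylowImage S by rw [show sylowImage S = D from hS]; exact hu))
  have hgr : ¬ p ∣ orderOf g := not_dvd_orderOf_defectClass hM hB hg
  set κ : IrrCharacter G → ℂ := fun χ => if χ ∈ B then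
    (Nat.card G : ℂ)⁻¹ * omega (χ : G → ℂ) (subSum D) * (χ : G → ℂ) 1 * (χ : G → ℂ) 1 *
      (((p ^ minVal p B : ℕ) : ℂ))⁻¹ else 0 with hκ
  have hκm : ∀ χ, κ χ ∈ locRing M := fun χ => by
    simp only [hκ]
    split_ifs with hχ
    · rcases omega_subSum (D := D) χ with h | h <;> rw [h]
      · simp
      · obtain ⟨k, hk⟩ := IsPGroup.iff_card.1 hD
        have hkf : (Nat.card D).factorization p = k := by
          rw [hk, Nat.Prime.factorization_pow Fact.out, Finsupp.single_eq_same]
        set n := charDegree (χ : G → ℂ)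
        have hn' : p ^ n.factorization p * (n / p ^ n.factorization p) = n :=
          Nat.ordProj_mul_ordCompl_eq_self n p
        have hv := minVal_le (p := p) hχ
        have e : (χ : G → ℂ) 1 * (((p ^ minVal p B : ℕ) : ℂ))⁻¹ =
            ((p ^ (n.factorization p - minVal p B) * (n / p ^ n.factorization p) : ℕ) : ℂ) := by
          rw [← charDegree_cast (IsIrrCharacter.isCharacter χ.2)]
          rw [show (charDegree (χ : G → ℂ) : ℂ) =
            ((p ^ n.factorization p * (n / p ^ n.factorization p) : ℕ) : ℂ) from congrArg Nat.cast hn'.symm]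
          obtain ⟨j, hj⟩ := Nat.exists_eq_add_of_le hv
          have hp0 : (p : ℂ) ≠ 0 := Nat.cast_ne_zero.2 hM.1.ne_zero
          rw [hj, Nat.add_sub_cancel_left]
          push_cast
          rw [pow_add]
          field_simp
        rw [hk, show (Nat.card G : ℂ)⁻¹ * ((p ^ k : ℕ) : ℂ) * (χ : G → ℂ) 1 * (χ : G → ℂ) 1 *
          (((p ^ minVal p B : ℕ) : ℂ))⁻¹ = (((p ^ k : ℕ) : ℂ) * (Nat.card G : ℂ)⁻¹ * (χ : G → ℂ) 1) *
            ((χ : G → ℂ) 1 * (((p ^ minVal p B : ℕ) : ℂ))⁻¹) by ring, e]
        exact mul_mem (pow_mul_degree_mem hM hχ (hkf ▸ hd)) (natCast_mem _ _)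
    · exact zero_mem _
  have hp0 : (((p ^ minVal p B : ℕ) : ℂ)) ≠ 0 := Nat.cast_ne_zero.2 (pow_ne_zero _ hM.1.ne_zero)
  have hce : IsCentralElt (blockIdem B * subSum D) := (isCentralElt_blockIdem B).mul isCentralElt_subSum
  have hom : ∀ (χ : IrrCharacter G) (x : G),
      (Nat.card G : ℂ)⁻¹ * (omega (χ : G → ℂ) (blockIdem B * subSum D) * ((χ : G → ℂ) 1 * conj ((χ : G → ℂ) x))) =
      κ χ * (((p ^ minVal p B : ℕ) : ℂ) * (conj ((χ : G → ℂ) x) / (χ : G → ℂ) 1)) := fun χ x => by
    rw [omega_mul χ (isCentralElt_blockIdem B) isCentralElt_subSum, omega_blockIdem]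
    simp only [hκ]
    have h1 : (χ : G → ℂ) 1 ≠ 0 := IsIrrCharacter.apply_one_ne_zero χ.2
    split_ifs
    · field_simp
    · simp
  have h1 : ∑ χ, κ χ = blockCoeff B 1 / ((p ^ minVal p B : ℕ) : ℂ) := by
    rw [← blockCoeff_mul_subSum hM hD hB (x := (1 : G)) (by rw [orderOf_one]; exact hM.1.not_dvd_one)
      (fun u _ => Commute.one_left u), coeff_eq_sum_omega hce, Finset.mul_sum, Finset.sum_div]
    refine Finset.sum_congr rfl fun χ _ => ?_
    rw [hom χ 1, conj_irr_one, div_self (IsIrrCharacter.apply_one_ne_zero χ.2), mul_one,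
      mul_div_assoc, div_self hp0, mul_one]
  refine ⟨h1 ▸ Subring.sum_mem _ (fun χ _ => hκm χ), fun hmem => ?_⟩
  obtain ⟨φ, hφ⟩ := isPBlock_nonempty hB
  refine hg.2.1 ?_
  rw [← blockCoeff_mul_subSum hM hD hB hgr hgD, coeff_eq_sum_omega hce, Finset.mul_sum]
  have hcof : ((classCofactor p g : ℕ) : ℂ) ≠ 0 := Nat.cast_ne_zero.2 fun h0 =>
    not_dvd_classCofactor hM.1 g (by rw [h0]; exact dvd_zero p)
  have e : ∀ χ : IrrCharacter G, ((p ^ minVal p B : ℕ) : ℂ) * (conj ((χ : G → ℂ) g) / (χ : G → ℂ) 1) =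
      centralChar (χ : G → ℂ) g⁻¹ * ((classCofactor p g : ℕ) : ℂ)⁻¹ := fun χ => by
    have h1 : (χ : G → ℂ) 1 ≠ 0 := IsIrrCharacter.apply_one_ne_zero χ.2
    rw [centralChar, centralizer_singleton_inv, index_eq_mul_classCofactor p g, hge,
      IsCharacter.map_inv (IsIrrCharacter.isCharacter χ.2) g, Nat.cast_mul]
    field_simp
  rw [Finset.sum_congr rfl fun χ _ => (hom χ g).trans (by rw [e χ])]
  have h2 : MemLocalIdeal M ((∑ χ, κ χ) * (centralChar (φ : G → ℂ) g⁻¹ *
      ((classCofactor p g : ℕ) : ℂ)⁻¹)) := memLocalIdeal_mul_right (mul_mem (centralChar_mem_locRing φ _)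
    (inv_natCast_mem_locRing hM.1 hM.2.2 (not_dvd_classCofactor hM.1 g))) (h1 ▸ hmem)
  have h3 : MemLocalIdeal M ((∑ χ, κ χ * (centralChar (χ : G → ℂ) g⁻¹ * ((classCofactor p g : ℕ) : ℂ)⁻¹)) -
      (∑ χ, κ χ) * (centralChar (φ : G → ℂ) g⁻¹ * ((classCofactor p g : ℕ) : ℂ)⁻¹)) := by
    rw [Finset.sum_mul, ← Finset.sum_sub_distrib]
    refine memLocalIdeal_sum _ _ fun χ _ => ?_
    rw [← mul_sub, ← sub_mul]
    by_cases hχ : χ ∈ B
    · exact memLocalIdeal_mul_left (hκm χ) (memLocalIdeal_mul_right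
        (inv_natCast_mem_locRing hM.1 hM.2.2 (not_dvd_classCofactor hM.1 g))
        (isPBlock_sameBlock hB hχ hφ g⁻¹))
    · simp [hκ, hχ, memLocalIdeal_zero]
  simpa using memLocalIdeal_add h3 h2

/-- The blocks with normal defect group `D` are those of the corresponding least degree valuation. -/
theorem isDefectGroup_iff_minVal (hM : IsPModular p M) [Fact p.Prime] [D.Normal] (hD : IsPGroup p D)
    {B : Set (IrrCharacter G)} (hB : IsPBlock M B) :
    minVal p B + (Nat.card D).factorization p ≤ (Nat.card G).factorization p ∧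
      (IsDefectGroup p M B D ↔
        minVal p B + (Nat.card D).factorization p = (Nat.card G).factorization p) := by
  obtain ⟨E, hE⟩ := exists_isDefectGroup (p := p) hB
  have hle := pCore_le_defectGroup hM hB hE D hD
  obtain ⟨χ, hχ⟩ := isPBlock_nonempty hB
  have hm : minVal p B ≤ (Nat.card G).factorization p := (minVal_le hχ).trans (degree_factorization_le p χ)
  have hc : ∀ {E : Subgroup G}, IsDefectGroup p M B E →
      minVal p B + (Nat.card E).factorization p = (Nat.card G).factorization p := fun {E} hE => by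
    rw [card_defectGroup hM hB hE, Nat.Prime.factorization_pow Fact.out, Finsupp.single_eq_same,
      blockDefect_eq]
    omega
  have hdvd : (Nat.card D).factorization p ≤ (Nat.card E).factorization p :=
    (Nat.factorization_le_iff_dvd Nat.card_pos.ne' Nat.card_pos.ne').2 (Subgroup.card_dvd_of_le hle) p
  have := hc hE
  refine ⟨by omega, fun h => hc h, fun h => ?_⟩
  obtain ⟨k, hk⟩ := IsPGroup.iff_card.1 hD
  have hkf : (Nat.card D).factorization p = k := by
    rw [hk, Nat.Prime.factorization_pow Fact.out, Finsupp.single_eq_same]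
  have he : D = E := Subgroup.eq_of_le_of_card_ge hle (by
    rw [card_defectGroup hM hB hE, hk]
    refine Nat.pow_le_pow_right (Fact.out : p.Prime).pos ?_
    rw [blockDefect_eq]; omega)
  exact he ▸ hE

theorem rank_count_eq_card_blocks (hM : IsPModular p M) [Fact p.Prime] [D.Normal] (hD : IsPGroup p D)
    (S : Sylow p G) {ι : Type*} [Fintype ι] [DecidableEq ι] (K : ι → ConjClasses G)
    (hKinj : Function.Injective K)
    (hK : ∀ C : ConjClasses G, (∃ i, K i = C) ↔ ∃ x ∈ C.carrier, ¬ p ∣ orderOf x ∧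
      ∃ Q : Sylow p (Subgroup.centralizer ({x} : Set G)),
        (Q : Subgroup (Subgroup.centralizer ({x} : Set G))).map
          (Subgroup.centralizer ({x} : Set G)).subtype = D) :
    Nat.card {B : Set (IrrCharacter G) // IsPBlock M B ∧ IsDefectGroup p M B D} =
      (Matrix.of fun i j : ι => ((Nat.card {yz : G × G // yz.1 ∈ (K i).carrier ∧ yz.2 ∈ (K j).carrier ∧
        yz.2 * yz.1⁻¹ ∈ (S : Subgroup G)} / p ^ ((Nat.card G).factorization p -
          (Nat.card D).factorization p) : ℕ) : ZMod p)).rank := by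
  classical
  haveI : CharP (ResK M) p := locRing_charP hM.1 hM.2.2
  haveI := Fintype.ofFinite G
  haveI := Fintype.ofFinite (IrrCharacter G)
  haveI := Fintype.ofFinite (ConjClasses G)
  set d := (Nat.card D).factorization p with hd
  set a := (Nat.card G).factorization p with ha
  set Blk := {B : Set (IrrCharacter G) // IsPBlock M B ∧ IsDefectGroup p M B D}
  haveI := Fintype.ofFinite Blk
  set x : ι → G := fun i => classRep (K i) with hx
  -- properties of the classes
  have hKx : ∀ i, ¬ p ∣ orderOf (x i) ∧ classExp p (x i) + d = a := fun i => by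
    obtain ⟨y, hy, hyr, Q, hQ⟩ := (hK (K i)).1 ⟨i, rfl⟩
    have hconj : IsConj y (x i) := ConjClasses.mk_eq_mk_iff_isConj.1 (by
      rw [hx, mk_classRep, ConjClasses.mem_carrier_iff_mk_eq.1 hy])
    obtain ⟨c, hc⟩ := isConj_iff.1 hconj
    refine ⟨by rwa [← hc, orderOf_conj_eq], ?_⟩
    have hidx : classExp p (x i) = classExp p y := by
      simp only [classExp]
      rw [← card_isConj_eq_index (G := G) (x i), ← card_isConj_eq_index (G := G) y,
        Nat.card_congr (Equiv.subtypeEquivRight (p := fun z : G => IsConj (x i) z)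
          (q := fun z : G => IsConj y z) fun z => ⟨fun h => hconj.trans h, fun h => hconj.symm.trans h⟩)]
    rw [hidx, hd, ← hQ, Subgroup.card_map_of_injective (Subgroup.subtype_injective _),
      Sylow.card_eq_multiplicity, Nat.Prime.factorization_pow Fact.out, Finsupp.single_eq_same]
    exact classExp_add p y
  have hcover : ∀ B : Blk, ∀ C : ConjClasses G, ¬ p ∣ orderOf (classRep C) →
      ¬ MemLocalIdeal M (blockCoeff B.1 (classRep C)) → classExp p (classRep C) + d = a →
      ∃ i, K i = C := fun B C h1 h2 h3 => by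
    refine (hK C).2 ⟨classRep C, ConjClasses.mem_carrier_iff_mk_eq.2 (mk_classRep C), h1, ?_⟩
    obtain ⟨Q⟩ : Nonempty (Sylow p (Subgroup.centralizer ({classRep C} : Set G))) := inferInstance
    exact ⟨Q, centralizer_sylow_eq (defectLE_of_coeff_unit hM B.2.1 B.2.2 h2) h3 hD Q⟩
  choose φ hφ using fun B : Blk => isPBlock_nonempty B.2.1
  have hmin : ∀ B : Blk, minVal p B.1 + d = a := fun B =>
    (isDefectGroup_iff_minVal hM hD B.2.1).2.1 B.2.2
  -- the two matrices of central characters
  set W : Matrix Blk ι (ResK M) :=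
    Matrix.of fun B i => resC M (centralChar ((φ B : IrrCharacter G) : G → ℂ) (x i)) with hW
  set W' : Matrix Blk ι (ResK M) :=
    Matrix.of fun B i => resC M (centralChar ((φ B : IrrCharacter G) : G → ℂ) (x i)⁻¹) with hW'
  set V : Matrix ι Blk (ResK M) := Matrix.of fun i B => resC M (blockCoeff B.1 (x i)) with hV
  set V' : Matrix ι Blk (ResK M) := Matrix.of fun i B => resC M (blockCoeff B.1 (x i)⁻¹) with hV'
  set c : Blk → ResK M := fun B => resC M (blockCoeff B.1 1 / ((p ^ minVal p B.1 : ℕ) : ℂ)) with hc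
  have hWV : W * V = 1 := by
    ext B B'
    rw [Matrix.mul_apply]
    simp only [hW, hV, Matrix.of_apply]
    have e := sum_resC_coeff_mul hM B'.2.1 B.2.1 (hφ B) (fun C => ∃ i, K i = C)
      (fun C h1 h2 h3 h4 => hcover B' C h1 h2 (by have := hmin B; have := hmin B'; omega))
    rw [← Fintype.sum_equiv (Equiv.ofBijective (fun i => (⟨K i, i, rfl⟩ : {C // ∃ i, K i = C}))
        ⟨fun i j h => hKinj (congrArg Subtype.val h), fun ⟨C, i, h⟩ => ⟨i, Subtype.ext h⟩⟩) _ _
        (fun i => rfl), omega_blockIdem] at e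
    rw [Finset.sum_congr rfl fun i _ => mul_comm _ _]
    refine e.trans ?_
    rw [Matrix.one_apply]
    by_cases hBB : B = B'
    · subst hBB; rw [if_pos (hφ B), if_pos rfl, resC_one]
    · rw [if_neg hBB, if_neg, resC_zero]
      exact fun hmem => hBB (Subtype.ext (isPBlock_eq_of_mem B.2.1 B'.2.1 (hφ B) hmem))
  -- the permutation of the classes by inversion
  have hσ : ∀ i, ∃ j, IsConj (x i)⁻¹ (x j) := fun i => by
    obtain ⟨y, hy, hyr, Q, hQ⟩ := (hK (K i)).1 ⟨i, rfl⟩
    obtain ⟨j, hj⟩ := (hK (ConjClasses.mk y⁻¹)).2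
      ⟨y⁻¹, ConjClasses.mem_carrier_mk, by rwa [orderOf_inv], by
        rw [centralizer_singleton_inv]; exact ⟨Q, hQ⟩⟩
    refine ⟨j, ?_⟩
    have h1 : IsConj y (x i) := ConjClasses.mk_eq_mk_iff_isConj.1 (by
      rw [hx, mk_classRep, ConjClasses.mem_carrier_iff_mk_eq.1 hy])
    have h2 : IsConj y⁻¹ (x j) := ConjClasses.mk_eq_mk_iff_isConj.1 (by rw [hx, mk_classRep, hj])
    obtain ⟨c, hc⟩ := isConj_iff.1 h1
    exact IsConj.trans (IsConj.symm (isConj_iff.2 ⟨c, by rw [← hc]; group⟩)) h2
  choose σ hσ using hσ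
  have hσi : Function.Injective σ := fun i j h => hKinj (by
    rw [← mk_classRep (K i), ← mk_classRep (K j), ConjClasses.mk_eq_mk_iff_isConj]
    have h1 := (hσ i).trans ((h ▸ hσ j).symm)
    obtain ⟨c, hc⟩ := isConj_iff.1 h1
    refine isConj_iff.2 ⟨c, ?_⟩
    have := congrArg (·⁻¹) hc
    simpa [hx, mul_assoc] using this)
  have hW'V' : W' * V' = 1 := by
    rw [← hWV]
    ext B B'
    rw [Matrix.mul_apply, Matrix.mul_apply]
    refine Fintype.sum_bijective σ (Finite.injective_iff_bijective.1 hσi) _ _ fun i => ?_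
    obtain ⟨c, hc⟩ := isConj_iff.1 (hσ i)
    simp only [hW, hW', hV, hV', Matrix.of_apply]
    rw [← hc]
    have e1 : blockCoeff B'.1 (c * (x i)⁻¹ * c⁻¹) = blockCoeff B'.1 (x i)⁻¹ := by
      simpa [blockIdem] using isCentralElt_blockIdem B'.1 (x i)⁻¹ c
    have e2 : centralChar ((φ B : IrrCharacter G) : G → ℂ) (c * (x i)⁻¹ * c⁻¹) =
        centralChar ((φ B : IrrCharacter G) : G → ℂ) (x i)⁻¹ := by
      rw [← omega_classSum, ← omega_classSum]
      congr 1
      have hcj : IsConj (x i)⁻¹ (c * (x i)⁻¹ * c⁻¹) := isConj_iff.2 ⟨c, rfl⟩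
      refine MonoidAlgebra.ext (Finsupp.ext fun z => ?_)
      simp only [classSum, coeff_mkA]
      by_cases h : IsConj (x i)⁻¹ z
      · rw [if_pos h, if_pos (hcj.symm.trans h)]
      · rw [if_neg h, if_neg fun h' => h (hcj.trans h')]
    rw [e1, e2]
  -- the entries
  set N : Matrix ι ι (ZMod p) := Matrix.of fun i j : ι => ((Nat.card {yz : G × G // yz.1 ∈ (K i).carrier ∧
      yz.2 ∈ (K j).carrier ∧ yz.2 * yz.1⁻¹ ∈ (S : Subgroup G)} / p ^ (a - d) : ℕ) : ZMod p) with hN
  have hNk : N.map (ZMod.castHom dvd_rfl (ResK M)) = W'ᵀ * Matrix.diagonal c * W := by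
    ext i j
    rw [Matrix.map_apply, Matrix.mul_apply]
    simp only [Matrix.mul_diagonal, Matrix.transpose_apply, hN, hW, hW', Matrix.of_apply, map_natCast, hc]
    haveI := Fintype.ofFinite (S : Subgroup G)
    set n := Nat.card {yz : G × G // yz.1 ∈ (K i).carrier ∧ yz.2 ∈ (K j).carrier ∧
      yz.2 * yz.1⁻¹ ∈ (S : Subgroup G)}
    have hmem : ∀ (k : ι) (y : G), y ∈ (K k).carrier ↔ IsConj (x k) y := fun k y => by
      rw [ConjClasses.mem_carrier_iff_mk_eq, ← mk_classRep (K k), ConjClasses.mk_eq_mk_iff_isConj]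
      exact ⟨IsConj.symm, IsConj.symm⟩
    have hinvc : ∀ u v : G, IsConj u⁻¹ v⁻¹ ↔ IsConj u v := fun u v => by
      constructor <;> intro h <;> obtain ⟨c, hc⟩ := isConj_iff.1 h <;> refine isConj_iff.2 ⟨c, ?_⟩
      · have := congrArg (·⁻¹) hc; simpa [mul_assoc] using this
      · rw [← hc]; group
    set z := classSum (x j) * classSum (x i)⁻¹ with hz
    have hzc : IsCentralElt z := (isCentralElt_classSum _).mul (isCentralElt_classSum _)
    have hn : (n : ℂ) = ∑ s : (S : Subgroup G), z.coeff (s : G) := by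
      rw [← Finset.sum_subtype (Finset.univ.filter fun g => g ∈ (S : Subgroup G)) (by simp)
        (fun g => z.coeff g), Finset.sum_filter]
      have e : ∀ g : G, (if g ∈ (S : Subgroup G) then z.coeff g else 0) =
          ∑ w : G, if IsConj (x j) w ∧ IsConj (x i)⁻¹ (w⁻¹ * g) ∧ g ∈ (S : Subgroup G) then (1 : ℂ) else 0 := by
        intro g
        rw [hz, MonoidAlgebra.coeff_mul_apply_left, Finsupp.sum_fintype _ _ (by simp)]
        simp only [classSum, coeff_mkA, ite_mul, one_mul, zero_mul]
        by_cases hg : g ∈ (S : Subgroup G) <;> simp [hg, ite_and]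
      rw [Finset.sum_congr rfl fun g _ => e g, Finset.sum_comm,
        show (n : ℂ) = ∑ yz : G × G, if yz.1 ∈ (K i).carrier ∧ yz.2 ∈ (K j).carrier ∧
          yz.2 * yz.1⁻¹ ∈ (S : Subgroup G) then (1 : ℂ) else 0 by
        rw [← Finset.sum_filter, Finset.sum_const, nsmul_one]
        simp only [n, Nat.card_eq_fintype_card, Fintype.card_subtype],
        Fintype.sum_prod_type_right]
      refine Finset.sum_congr rfl fun w _ => ?_
      refine Fintype.sum_equiv ((Equiv.inv G).trans (Equiv.mulLeft w)) _ _ fun y => ?_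
      refine if_congr ?_ rfl rfl
      show _ ↔ IsConj (x j) w ∧ IsConj (x i)⁻¹ (w⁻¹ * (w * y⁻¹)) ∧ w * y⁻¹ ∈ (S : Subgroup G)
      rw [inv_mul_cancel_left, hinvc, hmem, hmem]
      tauto
    have hm : ∀ χ : IrrCharacter G, ∃ m : ℕ,
        ∑ s : (S : Subgroup G), conj ((χ : G → ℂ) (s : G)) = (Nat.card (S : Subgroup G) : ℂ) * (m : ℂ) := by
      intro χ
      have hch := isCharacter_comp (isCharacter_conj (IsIrrCharacter.isCharacter χ.2))
        (S : Subgroup G).subtype
      obtain ⟨m, hm⟩ := classInner_natCast_of_isCharacter hch (isCharacter_one (G := (S : Subgroup G)))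
      refine ⟨m, ?_⟩
      rw [← hm, classInner]
      simp [Nat.card_eq_fintype_card]
    choose m hm using hm
    set e : IrrCharacter G → ℂ := fun χ => ((p ^ d : ℕ) : ℂ) * (Nat.card G : ℂ)⁻¹ * (χ : G → ℂ) 1 * (m χ : ℂ)
      with he
    set T : IrrCharacter G → ℂ :=
      fun χ => e χ * centralChar (χ : G → ℂ) (x j) * centralChar (χ : G → ℂ) (x i)⁻¹ with hT
    have hp0 : ∀ k, ((p ^ k : ℕ) : ℂ) ≠ 0 := fun k => Nat.cast_ne_zero.2 (pow_ne_zero _ hM.1.ne_zero)
    have hda : d ≤ a := by have := (hKx i).2; omega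
    have hS : (Nat.card (S : Subgroup G) : ℂ) = ((p ^ (a - d) : ℕ) : ℂ) * ((p ^ d : ℕ) : ℂ) := by
      rw [Sylow.card_eq_multiplicity, ← Nat.cast_mul, ← pow_add, Nat.sub_add_cancel hda]
    have hnT : (n : ℂ) / ((p ^ (a - d) : ℕ) : ℂ) = ∑ χ, T χ := by
      rw [hn]
      simp only [coeff_eq_sum_omega hzc, Finset.mul_sum]
      rw [Finset.sum_comm, Finset.sum_div]
      refine Finset.sum_congr rfl fun χ _ => ?_
      rw [← Finset.mul_sum, ← Finset.mul_sum, ← Finset.mul_sum, hm χ, hz,
        omega_mul χ (isCentralElt_classSum _) (isCentralElt_classSum _), omega_classSum, omega_classSum, hS]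
      simp only [hT, he]
      field_simp [hp0 (a - d)]
      rw [div_eq_iff (hp0 (a - d))]
      ring
    -- integrality and vanishing
    have hTi : ∀ χ : IrrCharacter G, e χ * centralChar (χ : G → ℂ) (x i)⁻¹ ∈ locRing M := fun χ => by
      have h2 := classExp_add p (x i)⁻¹
      rw [classExp_inv] at h2
      have hce := (hKx i).2
      set C := Nat.card (Subgroup.centralizer ({(x i)⁻¹} : Set G))
      have hC : p ^ d * (C / p ^ C.factorization p) = C := by
        rw [show d = C.factorization p by omega]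
        exact Nat.ordProj_mul_ordCompl_eq_self C p
      have h4 : (Nat.card G : ℂ) = ((Subgroup.centralizer ({(x i)⁻¹} : Set G)).index : ℂ) * (C : ℂ) := by
        rw [← Nat.cast_mul, Subgroup.index_mul_card]
      have h5 : e χ * centralChar (χ : G → ℂ) (x i)⁻¹ =
          ((C / p ^ C.factorization p : ℕ) : ℂ)⁻¹ * ((χ : G → ℂ) (x i)⁻¹ * (m χ : ℂ)) := by
        have h1 : (χ : G → ℂ) 1 ≠ 0 := IsIrrCharacter.apply_one_ne_zero χ.2
        have hC0 : ((C / p ^ C.factorization p : ℕ) : ℂ) ≠ 0 := Nat.cast_ne_zero.2 fun h0 =>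
          Nat.card_pos.ne' (show C = 0 by rw [← hC, h0, mul_zero])
        have h3 : ((Subgroup.centralizer ({(x i)⁻¹} : Set G)).index : ℂ) ≠ 0 :=
          Nat.cast_ne_zero.2 Subgroup.index_ne_zero_of_finite
        simp only [he, centralChar]
        rw [h4, show (C : ℂ) = ((p ^ d * (C / p ^ C.factorization p) : ℕ) : ℂ) from congrArg Nat.cast hC.symm,
          Nat.cast_mul]
        field_simp [hp0 d]
        rw [div_eq_iff (hp0 d)]
        ring
      rw [h5]
      exact mul_mem (inv_natCast_mem_locRing hM.1 hM.2.2 (Nat.not_dvd_ordCompl hM.1 Nat.card_pos.ne'))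
        (mul_mem (irr_mem_locRing χ _) (natCast_mem _ _))
    have hTm : ∀ χ, T χ ∈ locRing M := fun χ => by
      simp only [hT]
      rw [mul_right_comm]
      exact mul_mem (hTi χ) (centralChar_mem_locRing χ _)
    have hT0 : ∀ χ : IrrCharacter G, (¬ ∃ B : Blk, χ ∈ B.1) → resC M (T χ) = 0 := fun χ hχ => by
      refine resC_eq_zero_of_memLocalIdeal ?_
      simp only [hT]
      rw [mul_right_comm]
      refine memLocalIdeal_mul_left (hTi χ) (not_not.1 fun hu => hχ ?_)
      have hB := isPBlock_blockOf (M := M) χ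
      have h1 := classExp_le_minVal hM hB (self_mem_blockOf χ) hu
      have h2 := (isDefectGroup_iff_minVal hM hD hB).1
      have hce := (hKx j).2
      exact ⟨⟨_, hB, (isDefectGroup_iff_minVal hM hD hB).2.2 (by omega)⟩, self_mem_blockOf χ⟩
    have hdiv : p ^ (a - d) ∣ n := dvd_of_div_mem hM (by
      rw [hnT]; exact Subring.sum_mem _ fun χ _ => hTm χ)
    rw [← resC_natCast, Nat.cast_div hdiv (hp0 _), hnT, resC_sum _ _ fun χ _ => hTm χ]
    rw [show (∑ χ, resC M (T χ)) = ∑ χ, ∑ B : Blk, if χ ∈ B.1 then resC M (T χ) else 0 from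
      Finset.sum_congr rfl fun χ _ => ?_, Finset.sum_comm]
    · refine Finset.sum_congr rfl fun B _ => ?_
      have hec : ∀ χ ∈ B.1, e χ ∈ locRing M := fun χ hχ => by
        simp only [he]
        exact mul_mem (pow_mul_degree_mem hM hχ (hmin B)) (natCast_mem _ _)
      have hcB : ∑ χ, (if χ ∈ B.1 then e χ else 0) = blockCoeff B.1 1 / ((p ^ minVal p B.1 : ℕ) : ℂ) := by
        have hs : ∑ s : (S : Subgroup G), blockCoeff B.1 (s : G) = blockCoeff B.1 1 := by
          rw [Finset.sum_eq_single 1]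
          · simp
          · intro s _ hs
            refine blockCoeff_eq_zero_of_dvd hM B.2.1 ?_
            obtain ⟨k, hk⟩ := IsPGroup.iff_orderOf.1 S.isPGroup' s
            rw [Subgroup.orderOf_coe, hk]
            exact dvd_pow_self p fun h0 => hs (by rwa [h0, pow_zero, orderOf_eq_one_iff] at hk)
          · simp
        rw [← hs, Finset.sum_div]
        simp only [blockCoeff_eq_sum, Finset.mul_sum, Finset.sum_div]
        rw [Finset.sum_comm]
        refine Finset.sum_congr rfl fun χ _ => ?_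
        by_cases hχ : χ ∈ B.1
        · simp only [if_pos hχ]
          rw [← Finset.sum_div, ← Finset.mul_sum, ← Finset.mul_sum, hm χ, hS,
            show minVal p B.1 = a - d by have := hmin B; omega]
          simp only [he]
          field_simp [hp0 (a - d)]
          rw [eq_div_iff (hp0 (a - d))]
        · simp [hχ]
      rw [← hcB, resC_sum _ _ fun χ _ => by split_ifs with h; exacts [hec χ h, zero_mem _],
        Finset.mul_sum, Finset.sum_mul]
      refine Finset.sum_congr rfl fun χ _ => ?_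
      split_ifs with hχ
      · simp only [hT]
        rw [resC_mul (mul_mem (hec χ hχ) (centralChar_mem_locRing χ _)) (centralChar_mem_locRing χ _),
          resC_mul (hec χ hχ) (centralChar_mem_locRing χ _),
          (resC_eq_iff (centralChar_mem_locRing χ (x j)) (centralChar_mem_locRing (φ B) _)).2
            (isPBlock_sameBlock B.2.1 hχ (hφ B) _),
          (resC_eq_iff (centralChar_mem_locRing χ (x i)⁻¹) (centralChar_mem_locRing (φ B) _)).2
            (isPBlock_sameBlock B.2.1 hχ (hφ B) _)]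
        ring
      · simp
    · by_cases h : ∃ B : Blk, χ ∈ B.1
      · obtain ⟨B, hB⟩ := h
        rw [Finset.sum_eq_single B, if_pos hB]
        · intro B' _ hne
          exact if_neg fun h' => hne (Subtype.ext (isPBlock_eq_of_mem B'.2.1 B.2.1 h' hB))
        · simp
      · rw [hT0 χ h]
        simp
  have hc0 : ∀ B, c B ≠ 0 := fun B => by
    obtain ⟨h1, h2⟩ := coeff_one_div_unit hM hD B.2.1 B.2.2 (hmin B)
    exact fun h => h2 ((resC_eq_zero_iff h1).1 h)
  have hdiag : (Matrix.diagonal c).rank = Fintype.card Blk := by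
    rw [Matrix.rank_diagonal]
    exact Fintype.card_congr (Equiv.subtypeUnivEquiv hc0)
  rw [Nat.card_eq_fintype_card, ← rank_map_ringHom (ZMod.castHom dvd_rfl (ResK M)) N]
  apply le_antisymm
  · have e : V'ᵀ * N.map (ZMod.castHom dvd_rfl (ResK M)) * V = Matrix.diagonal c := by
      rw [hNk, show V'ᵀ * (W'ᵀ * Matrix.diagonal c * W) * V = (W' * V')ᵀ * Matrix.diagonal c * (W * V) by
        simp only [Matrix.transpose_mul, Matrix.mul_assoc], hW'V', hWV, Matrix.transpose_one,
        Matrix.one_mul, Matrix.mul_one]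
    calc Fintype.card Blk = (V'ᵀ * N.map (ZMod.castHom dvd_rfl (ResK M)) * V).rank := by rw [e, hdiag]
      _ ≤ _ := (Matrix.rank_mul_le_left _ _).trans (Matrix.rank_mul_le_right _ _)
  · rw [hNk]
    exact (Matrix.rank_mul_le_right _ _).trans (Matrix.rank_le_card_height W)

end Cfsg.Agent.Block
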