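import Cfsg.Agent.Lib.Block.CycTrace

/-!
# Integral forms evaluated at roots of unity of prime power order

The average conjugate of a non-zero value is at least the minimum of the form.
-/

set_option autoImplicit false

open Cfsg Cfsg.Agent.Char
open scoped ComplexConjugate

namespace Cfsg.Agent.Block

theorem trace_root_prime_pow {p N : ℕ} (hp : p.Prime) (hpN : p ∣ N) [NeZero N] (x : cycF N) {k : ℕ}
    (hx : x ^ p ^ k = 1) :
    ((p : ℚ) - 1) * Algebra.trace ℚ (cycF N) x =
      (Module.finrank ℚ (cycF N) : ℚ) * ((if x = 1 then (p : ℚ) else 0) - if x ^ p = 1 then 1 else 0) := by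
  classical
  haveI : NeZero p := ⟨hp.ne_zero⟩
  by_cases h1 : x = 1
  · subst h1
    rw [show (1 : cycF N) = algebraMap ℚ (cycF N) 1 from (map_one _).symm, Algebra.trace_algebraMap]
    simp
    ring
  obtain ⟨j, -, hj⟩ := (Nat.dvd_prime_pow hp).1 (orderOf_dvd_of_pow_eq_one hx)
  have hprim : IsPrimitiveRoot x (p ^ j) := hj ▸ IsPrimitiveRoot.orderOf x
  have hj0 : j ≠ 0 := by
    rintro rfl
    exact h1 (orderOf_eq_one_iff.1 (hj.trans (pow_zero p)))
  -- primitive roots of the same order have the same trace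
  have hsame : ∀ z : cycF N, IsPrimitiveRoot z (p ^ j) →
      Algebra.trace ℚ (cycF N) z = Algebra.trace ℚ (cycF N) x := by
    intro z hz
    have hmin : minpoly ℚ z = minpoly ℚ x := by
      rw [← Polynomial.cyclotomic_eq_minpoly_rat hz (pow_pos hp.pos j),
        ← Polynomial.cyclotomic_eq_minpoly_rat hprim (pow_pos hp.pos j)]
    have ez := IntermediateField.adjoin.finrank (Algebra.IsIntegral.isIntegral (R := ℚ) z)
    have ex := IntermediateField.adjoin.finrank (Algebra.IsIntegral.isIntegral (R := ℚ) x)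
    have hz' := trace_eq_finrank_mul_minpoly_nextCoeff ℚ z
    have hx' := trace_eq_finrank_mul_minpoly_nextCoeff ℚ x
    have mz := Module.finrank_mul_finrank ℚ (IntermediateField.adjoin ℚ ({z} : Set (cycF N))) (cycF N)
    have mx := Module.finrank_mul_finrank ℚ (IntermediateField.adjoin ℚ ({x} : Set (cycF N))) (cycF N)
    rw [ez, hmin] at mz
    rw [ex] at mx
    have hne : 0 < (minpoly ℚ x).natDegree := minpoly.natDegree_pos (Algebra.IsIntegral.isIntegral x)
    rw [hz', hx', hmin, Nat.eq_of_mul_eq_mul_left hne (mz.trans mx.symm)]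
  obtain ⟨ω, hω⟩ : ∃ ω : cycF N, IsPrimitiveRoot ω p := by
    obtain ⟨c, hc⟩ := hpN
    have hc0 : c ≠ 0 := by rintro rfl; exact NeZero.ne N (by rw [hc, mul_zero])
    have hζ := Complex.isPrimitiveRoot_exp N (NeZero.ne N)
    have := hζ.pow (Nat.pos_of_ne_zero (NeZero.ne N)) (show N = c * p by rw [hc, mul_comm])
    exact ⟨⟨_, pow_mem (root_mem_cycF hζ.pow_eq_one) c⟩,
      IsPrimitiveRoot.of_map_of_injective (f := (cycF N).val) this Subtype.val_injective⟩
  have hgeom : ∑ i ∈ Finset.range p, ω ^ i = 0 := hω.geom_sum_eq_zero hp.one_lt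
  rcases Nat.lt_or_ge j 2 with hj2 | hj2
  · have hj1 : j = 1 := by omega
    subst hj1
    rw [pow_one] at hprim hsame
    have hg := congrArg (Algebra.trace ℚ (cycF N)) hgeom
    rw [map_zero, map_sum, ← Finset.add_sum_erase _ _ (Finset.mem_range.2 hp.pos), pow_zero,
      show (1 : cycF N) = algebraMap ℚ (cycF N) 1 from (map_one _).symm, Algebra.trace_algebraMap,
      Finset.sum_congr rfl (g := fun _ => Algebra.trace ℚ (cycF N) x) (fun i hi => hsame _ (by
        obtain ⟨hi0, hip⟩ := Finset.mem_erase.1 hi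
        exact hω.pow_of_coprime i ((Nat.Prime.coprime_iff_not_dvd hp).2 fun hd =>
          hi0 (Nat.eq_zero_of_dvd_of_lt hd (Finset.mem_range.1 hip))).symm)),
      Finset.sum_const, Finset.card_erase_of_mem (Finset.mem_range.2 hp.pos), Finset.card_range,
      nsmul_eq_mul, nsmul_eq_mul, mul_one, Nat.cast_sub hp.one_lt.le, Nat.cast_one] at hg
    rw [if_neg h1, if_pos hprim.pow_eq_one]
    linear_combination hg
  · have hp2 : x ^ p ≠ 1 := fun h => by
      have := hprim.dvd_of_pow_eq_one _ h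
      have h2 : p ^ 2 ∣ p := (pow_dvd_pow p hj2).trans this
      have := Nat.le_of_dvd hp.pos h2
      have := hp.one_lt
      nlinarith
    rw [if_neg h1, if_neg hp2, sub_zero, mul_zero]
    refine mul_eq_zero_of_right _ ?_
    have hg := congrArg (fun t => Algebra.trace ℚ (cycF N) (x * t)) hgeom
    simp only [mul_zero, map_zero, Finset.mul_sum, map_sum] at hg
    rw [Finset.sum_congr rfl (g := fun _ => Algebra.trace ℚ (cycF N) x) (fun i _ => hsame _ (by
      refine IsPrimitiveRoot.iff_orderOf.2 ?_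
      have hωi : (ω ^ i) ^ p ^ (j - 1) = 1 := by
        rw [← pow_mul, mul_comm, pow_mul, show j - 1 = (j - 2) + 1 by omega, pow_succ', pow_mul,
          hω.pow_eq_one, one_pow, one_pow]
      haveI := Fact.mk hp
      obtain ⟨j', rfl⟩ := Nat.exists_eq_succ_of_ne_zero hj0
      refine orderOf_eq_prime_pow ?_ ?_
      · rw [Nat.succ_sub_one] at hωi
        rw [mul_pow, hωi, mul_one]
        intro h
        have := Nat.le_of_dvd (pow_pos hp.pos _) (hprim.dvd_of_pow_eq_one _ h)
        exact absurd this (not_le.2 (Nat.pow_lt_pow_right hp.one_lt (Nat.lt_succ_self _)))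
      · rw [mul_pow, hprim.pow_eq_one, pow_succ', pow_mul, ← pow_mul ω i p, mul_comm i p, pow_mul,
          hω.pow_eq_one, one_pow, one_pow, one_mul])), Finset.sum_const, Finset.card_range, nsmul_eq_mul] at hg
    exact (mul_eq_zero.1 hg).resolve_left (Nat.cast_ne_zero.2 hp.ne_zero)

/-- The value of an integral form. -/
def formVal {ι : Type*} [Fintype ι] (Z : ι → ι → ℤ) (v w : ι → ℤ) : ℤ := ∑ i, ∑ j, v i * w j * Z i j

variable {ι : Type*} [Fintype ι]

theorem formVal_sum_left {κ : Type*} (Z : ι → ι → ℤ) (s : Finset κ) (v : κ → ι → ℤ) (w : ι → ℤ) :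
    formVal Z (∑ a ∈ s, v a) w = ∑ a ∈ s, formVal Z (v a) w := by
  simp only [formVal, Finset.sum_apply, Finset.sum_mul]
  rw [Finset.sum_comm (s := s)]
  exact Finset.sum_congr rfl fun i _ => Finset.sum_comm

theorem formVal_comm (Z : ι → ι → ℤ) (hZ : ∀ i j, Z i j = Z j i) (v w : ι → ℤ) :
    formVal Z v w = formVal Z w v := by
  rw [formVal, Finset.sum_comm]
  exact Finset.sum_congr rfl fun i _ => Finset.sum_congr rfl fun j _ => by rw [hZ j i]; ring

theorem formVal_sub_sub (Z : ι → ι → ℤ) (hZ : ∀ i j, Z i j = Z j i) (v w : ι → ℤ) :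
    formVal Z (v - w) (v - w) = formVal Z v v + formVal Z w w - 2 * formVal Z v w := by
  have h : formVal Z (v - w) (v - w) = formVal Z v v + formVal Z w w - (formVal Z v w + formVal Z w v) := by
    simp only [formVal, ← Finset.sum_add_distrib, ← Finset.sum_sub_distrib, Pi.sub_apply]
    exact Finset.sum_congr rfl fun i _ => Finset.sum_congr rfl fun j _ => by ring
  rw [h, formVal_comm Z hZ w v]
  ring

theorem formVal_parallelogram (Z : ι → ι → ℤ) (u w : ι → ℤ) :
    formVal Z (u + w) (u + w) + formVal Z (u - w) (u - w) = 2 * formVal Z u u + 2 * formVal Z w w := by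
  simp only [formVal, Finset.mul_sum, ← Finset.sum_add_distrib]
  exact Finset.sum_congr rfl fun i _ => Finset.sum_congr rfl fun j _ => by
    simp only [Pi.add_apply, Pi.sub_apply]; ring

/-- Spread of `p` vectors in the form. -/
theorem spread_ge {κ : Type*} [DecidableEq κ] (Z : ι → ι → ℤ) (hZ : ∀ i j, Z i j = Z j i) (L : ℤ)
    (hQ : ∀ v, 0 ≤ formVal Z v v ∧ (formVal Z v v ≠ 0 → L ≤ formVal Z v v))
    (s : Finset κ) (v : κ → ι → ℤ) :
    (s.card : ℤ) * (∑ a ∈ s, formVal Z (v a) (v a)) - formVal Z (∑ a ∈ s, v a) (∑ a ∈ s, v a) = 0 ∨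
    ((s.card : ℤ) - 1) * L ≤
      (s.card : ℤ) * (∑ a ∈ s, formVal Z (v a) (v a)) - formVal Z (∑ a ∈ s, v a) (∑ a ∈ s, v a) := by
  set P : κ → κ → ℤ := fun a b => formVal Z (v a - v b) (v a - v b) with hP
  set R := (s.card : ℤ) * (∑ a ∈ s, formVal Z (v a) (v a)) - formVal Z (∑ a ∈ s, v a) (∑ a ∈ s, v a)
  have hR : ∑ a ∈ s, ∑ b ∈ s, P a b = 2 * R := by
    simp only [hP, formVal_sub_sub Z hZ, Finset.sum_sub_distrib, Finset.sum_add_distrib, Finset.sum_const,
      nsmul_eq_mul, ← Finset.mul_sum]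
    have e : formVal Z (∑ a ∈ s, v a) (∑ a ∈ s, v a) = ∑ a ∈ s, ∑ b ∈ s, formVal Z (v a) (v b) := by
      rw [formVal_sum_left]
      refine Finset.sum_congr rfl fun a _ => ?_
      rw [formVal_comm Z hZ, formVal_sum_left]
      exact Finset.sum_congr rfl fun b _ => formVal_comm Z hZ _ _
    simp only [R, e]
    ring
  have hsym : ∀ a b, P a b = P b a := fun a b => by
    simp only [hP, formVal_sub_sub Z hZ, formVal_comm Z hZ (v a) (v b)]; ring
  by_cases hall : ∀ a ∈ s, ∀ b ∈ s, P a b = 0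
  · left
    rw [Finset.sum_eq_zero fun a ha => Finset.sum_eq_zero (hall a ha)] at hR
    omega
  right
  push Not at hall
  obtain ⟨a, ha, b, hb, hab⟩ := hall
  have hne : a ≠ b := fun h => hab (by simp [hP, h, formVal])
  have hc : ∀ c, L ≤ P a c + P c b := by
    intro c
    have h1 := (hQ (v a - v c)).1
    have h2 := (hQ (v c - v b)).1
    by_cases h : P a c = 0
    · by_cases h' : P c b = 0
      · have hpar := formVal_parallelogram Z (v a - v c) (v c - v b)
        rw [sub_add_sub_cancel] at hpar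
        have h3 := (hQ (v a - v c - (v c - v b))).1
        have h4 := (hQ (v a - v b)).1
        simp only [hP] at h h' hab
        rw [h, h'] at hpar
        exact absurd (by omega) hab
      · have := (hQ (v c - v b)).2 h'
        simp only [hP] at h this ⊢
        omega
    · have := (hQ (v a - v c)).2 h
      simp only [hP] at h this ⊢
      omega
  have hnn : ∀ u w, 0 ≤ P u w := fun u w => (hQ _).1
  have hL : ∀ w, L ≤ P a w + P b w := fun w => by rw [hsym b w]; exact hc w
  set s' := (s.erase a).erase b with hs'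
  have hba : b ∈ s.erase a := Finset.mem_erase.2 ⟨hne.symm, hb⟩
  have hcard : (s'.card : ℤ) = (s.card : ℤ) - 2 := by
    have e1 := Finset.card_erase_add_one ha
    have e2 := Finset.card_erase_add_one hba
    rw [hs']
    omega
  have expand : ∀ u : κ → ℤ, ∑ w ∈ s, u w = u a + (u b + ∑ w ∈ s', u w) := fun u => by
    rw [hs', Finset.add_sum_erase _ _ hba, Finset.add_sum_erase _ _ ha]
  have hz : ∀ u, P u u = 0 := fun u => by simp [hP, formVal]
  have hlow : (s'.card : ℤ) * L ≤ ∑ w ∈ s', (P a w + P b w) := by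
    have := Finset.card_nsmul_le_sum s' (fun w => P a w + P b w) L fun w _ => hL w
    rwa [nsmul_eq_mul] at this
  have hsum : ∑ w ∈ s', (P w a + P w b) ≤ ∑ w ∈ s', ∑ x ∈ s, P w x := Finset.sum_le_sum fun w _ => by
    rw [expand (P w)]
    have := Finset.sum_nonneg (s := s') fun x _ => hnn w x
    linarith
  have hPab : L ≤ P a b := (hQ _).2 hab
  rw [expand, expand (P a), expand (P b), hz, hz, hsym b a] at hR
  simp only [Finset.sum_add_distrib] at hlow hsum
  rw [Finset.sum_congr rfl fun w _ => hsym w a, Finset.sum_congr rfl fun w _ => hsym w b] at hsum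
  rw [hcard] at hlow
  linarith

/-- An integral form of minimum `L` at roots of unity of `p`-power order. -/
theorem trace_root_form_ge {p N : ℕ} (hp : p.Prime) (hpN : p ∣ N) [NeZero N]
    (Z : ι → ι → ℤ) (hZ : ∀ i j, Z i j = Z j i) (L : ℕ)
    (hQ : ∀ v, 0 ≤ formVal Z v v ∧ (formVal Z v v ≠ 0 → (L : ℤ) ≤ formVal Z v v))
    (n : ι → ℤ) (x : ι → cycF N) (hx : ∀ i, ∃ k : ℕ, x i ^ p ^ k = 1) (α : cycF N)
    (hα : α = ∑ i, ∑ j, ((n i * n j * Z i j : ℤ) : ℚ) • (x i * (x j)⁻¹))
    (hpos : 0 < Algebra.trace ℚ (cycF N) α) :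
    (L : ℚ) * (Module.finrank ℚ (cycF N) : ℚ) ≤ Algebra.trace ℚ (cycF N) α := by
  classical
  set F : ℚ := (Module.finrank ℚ (cycF N) : ℚ)
  have hp1 : (0 : ℚ) < (p : ℚ) - 1 := by
    have : (1 : ℚ) < p := by exact_mod_cast hp.one_lt
    linarith
  have hx0 : ∀ i, x i ≠ 0 := fun i h => by
    obtain ⟨k, hk⟩ := hx i
    rw [h, zero_pow (pow_ne_zero k hp.ne_zero)] at hk
    exact zero_ne_one hk
  set R : ℤ := ∑ i, ∑ j, n i * n j * Z i j *
    ((if x i = x j then (p : ℤ) else 0) - if x i ^ p = x j ^ p then 1 else 0) with hRdef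
  have htr : ((p : ℚ) - 1) * Algebra.trace ℚ (cycF N) α = F * (R : ℚ) := by
    rw [hα, map_sum, Finset.mul_sum, hRdef, Int.cast_sum, Finset.mul_sum]
    refine Finset.sum_congr rfl fun i _ => ?_
    rw [map_sum, Finset.mul_sum, Int.cast_sum, Finset.mul_sum]
    refine Finset.sum_congr rfl fun j _ => ?_
    obtain ⟨k, hk⟩ := hx i
    obtain ⟨k', hk'⟩ := hx j
    have hroot : (x i * (x j)⁻¹) ^ p ^ (k + k') = 1 := by
      rw [pow_add, mul_pow, inv_pow, pow_mul, hk, one_pow, mul_comm (p ^ k), pow_mul, hk', one_pow,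
        inv_one, mul_one]
    rw [map_smul, smul_eq_mul, mul_left_comm, trace_root_prime_pow hp hpN _ hroot, mul_pow, inv_pow]
    simp only [mul_inv_eq_one₀ (hx0 j), mul_inv_eq_one₀ (pow_ne_zero p (hx0 j))]
    push_cast
    ring
  have hRpos : 0 < R := by
    have h : 0 < F * (R : ℚ) := htr ▸ mul_pos hp1 hpos
    exact_mod_cast (pos_of_mul_pos_right h (Nat.cast_nonneg _) : (0 : ℚ) < (R : ℚ))
  set V : cycF N → ι → ℤ := fun w i => if x i = w then n i else 0 with hV
  set Y := Finset.univ.image fun i => x i ^ p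
  set cls : cycF N → Finset (cycF N) := fun w =>
    if h : ∃ i, x i ^ p = w then (Finset.univ : Finset (Fin p)).image fun k : Fin p =>
      x h.choose * ((Classical.epsilon fun ω : cycF N => IsPrimitiveRoot ω p) ^ (k : ℕ))
    else ∅ with hclsdef
  have hω : IsPrimitiveRoot (Classical.epsilon fun ω : cycF N => IsPrimitiveRoot ω p) p := by
    refine Classical.epsilon_spec (p := fun ω : cycF N => IsPrimitiveRoot ω p) ?_
    obtain ⟨c, hc⟩ := hpN
    have hζ := Complex.isPrimitiveRoot_exp N (NeZero.ne N)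
    have := hζ.pow (Nat.pos_of_ne_zero (NeZero.ne N)) (show N = c * p by rw [hc, mul_comm])
    exact ⟨⟨_, pow_mem (root_mem_cycF hζ.pow_eq_one) c⟩,
      IsPrimitiveRoot.of_map_of_injective (f := (cycF N).val) this Subtype.val_injective⟩
  have hcls : ∀ y ∈ Y, (cls y).card = p ∧ ∀ i, x i ∈ cls y ↔ x i ^ p = y := by
    intro y hy
    obtain ⟨i₀, -, hi₀⟩ := Finset.mem_image.1 hy
    have hex : ∃ i, x i ^ p = y := ⟨i₀, hi₀⟩
    simp only [hclsdef, dif_pos hex]
    refine ⟨?_, fun i => ⟨fun h => ?_, fun h => ?_⟩⟩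
    · rw [Finset.card_image_of_injective _ fun a b hab => ?_, Finset.card_univ, Fintype.card_fin]
      exact Fin.ext (hω.pow_inj a.2 b.2 (mul_left_cancel₀ (hx0 _) hab))
    · obtain ⟨k, -, hk⟩ := Finset.mem_image.1 h
      rw [← hk, mul_pow, hex.choose_spec, ← pow_mul, mul_comm (k : ℕ) p, pow_mul, hω.pow_eq_one, one_pow,
        mul_one]
    · haveI : NeZero p := ⟨hp.ne_zero⟩
      obtain ⟨k, hk, hke⟩ := hω.eq_pow_of_pow_eq_one
        (show ((x hex.choose)⁻¹ * x i) ^ p = 1 by
          rw [mul_pow, inv_pow, hex.choose_spec, h, inv_mul_cancel₀]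
          exact h ▸ pow_ne_zero p (hx0 i))
      exact Finset.mem_image.2 ⟨⟨k, hk⟩, Finset.mem_univ _, by
        show _ * _ ^ k = _
        rw [hke, mul_inv_cancel_left₀ (hx0 _)]⟩
  have hsumV : ∀ y ∈ Y, ∀ i, (∑ a ∈ cls y, V a) i = if x i ^ p = y then n i else 0 := fun y hy i => by
    simp only [Finset.sum_apply, hV, Finset.sum_ite_eq]
    exact if_congr ((hcls y hy).2 i) rfl rfl
  have hR : R = ∑ y ∈ Y, ((p : ℤ) * (∑ a ∈ cls y, formVal Z (V a) (V a)) -
      formVal Z (∑ a ∈ cls y, V a) (∑ a ∈ cls y, V a)) := by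
    symm
    simp only [formVal, Finset.mul_sum, ← Finset.sum_sub_distrib]
    rw [hRdef]
    refine (Finset.sum_congr rfl (g := fun y => ∑ i, ∑ j, if x i ^ p = y then n i * n j * Z i j *
      ((if x i = x j then (p : ℤ) else 0) - if x i ^ p = x j ^ p then 1 else 0) else 0) fun y hy => ?_).trans ?_
    · rw [Finset.sum_comm]
      refine (Finset.sum_sub_distrib _ _).symm.trans (Finset.sum_congr rfl fun i _ => ?_)
      rw [Finset.sum_comm]
      refine (Finset.sum_sub_distrib _ _).symm.trans (Finset.sum_congr rfl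
        (g := fun j => if x i ^ p = y then n i * n j * Z i j *
          ((if x i = x j then (p : ℤ) else 0) - if x i ^ p = x j ^ p then 1 else 0) else 0) fun j _ => ?_)
      rw [hsumV y hy, hsumV y hy]
      by_cases h : x i ^ p = y
      · rw [if_pos h, if_pos h]
        have hmem := ((hcls y hy).2 i).2 h
        by_cases hj : x i = x j
        · rw [if_pos hj, if_pos (by rw [← hj, h]), if_pos (by rw [hj]),
            Finset.sum_eq_single_of_mem (x i) hmem fun a _ ha => by simp [hV, Ne.symm ha]]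
          simp [hV, hj]
          ring
        · rw [if_neg hj, Finset.sum_eq_zero fun a _ => ?_]
          · by_cases hjp : x i ^ p = x j ^ p
            · rw [if_pos hjp, if_pos (hjp ▸ h)]; ring
            · rw [if_neg hjp, if_neg fun h' => hjp (h.trans h'.symm)]; ring
          · simp only [hV]
            by_cases hia : x i = a
            · rw [if_neg (show ¬ x j = a from fun h' => hj (hia.trans h'.symm))]; ring
            · rw [if_neg hia]; ring
      · rw [if_neg h, if_neg h, Finset.sum_eq_zero fun a ha => ?_]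
        · ring
        · simp only [hV]
          by_cases hia : x i = a
          · exact absurd (((hcls y hy).2 i).1 (hia ▸ ha)) h
          · rw [if_neg hia]; ring
    · rw [Finset.sum_comm]
      refine Finset.sum_congr rfl fun i _ => ?_
      rw [Finset.sum_comm]
      refine Finset.sum_congr rfl fun j _ => ?_
      rw [Finset.sum_ite_eq, if_pos (Finset.mem_image_of_mem _ (Finset.mem_univ i))]
  have hkey : ((p : ℤ) - 1) * (L : ℤ) ≤ R := by
    have hdich := fun y (hy : y ∈ Y) => by
      have h := spread_ge Z hZ (L : ℤ) hQ (cls y) V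
      rw [(hcls y hy).1] at h
      exact h
    have hnn : ∀ y ∈ Y, 0 ≤ (p : ℤ) * (∑ a ∈ cls y, formVal Z (V a) (V a)) -
        formVal Z (∑ a ∈ cls y, V a) (∑ a ∈ cls y, V a) := fun y hy => by
      rcases hdich y hy with h | h
      · exact h.ge
      · exact le_trans (mul_nonneg (sub_nonneg.2 (by exact_mod_cast hp.one_lt.le)) (Nat.cast_nonneg L)) h
    obtain ⟨y, hy, hyne⟩ := Finset.exists_ne_zero_of_sum_ne_zero (hR ▸ hRpos.ne')
    rw [hR]
    exact le_trans ((hdich y hy).resolve_left hyne) (Finset.single_le_sum hnn hy)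
  have hkey' : ((p : ℚ) - 1) * (L : ℚ) ≤ (R : ℚ) := by exact_mod_cast hkey
  refine le_of_mul_le_mul_left ?_ hp1
  rw [htr, mul_left_comm]
  calc (L : ℚ) * (((p : ℚ) - 1) * F) = F * (((p : ℚ) - 1) * L) := by ring
    _ ≤ F * (R : ℚ) := mul_le_mul_of_nonneg_left hkey' (Nat.cast_nonneg _)

end Cfsg.Agent.Block
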