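import Cfsg.Agent.Lib.Block.MinorBound
import Cfsg.Agent.Lib.Block.RootForm
import Cfsg.Agent.Lib.Block.SubsectionMajor
import Cfsg.Agent.Lib.Block.DefectOne
import Cfsg.Agent.Lib.Block.BrauerFeit
import Cfsg.Agent.Lib.Block.Congr
import Cfsg.Agent.Lib.Block.NormalDefectCount

/-!
# The integral form of a block of defect one, or of defect two with a central element
-/

set_option autoImplicit false

open Cfsg Cfsg.Agent.Char
open scoped ComplexConjugate

namespace Cfsg.Agent.Block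

universe u

variable {G : Type u} [Group G] [Finite G] {M : Ideal AlgInt} {p : ℕ}

theorem intCast_memLocalIdeal_iff (hM : IsPModular p M) (z : ℤ) :
    MemLocalIdeal M (z : ℂ) ↔ (p : ℤ) ∣ z := by
  haveI := prime_of_isPModular hM
  rw [Int.natCast_dvd, ← memLocalIdeal_natCast_iff hM.1 hM.2.2]
  rcases Int.natAbs_eq z with e | e
  · conv_lhs => rw [e, Int.cast_natCast]
  · conv_lhs => rw [e, Int.cast_neg, Int.cast_natCast]
    exact ⟨fun h => neg_neg (z.natAbs : ℂ) ▸ memLocalIdeal_neg h, memLocalIdeal_neg⟩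

theorem centralChar_inv_eq (χ : IrrCharacter G) (g : G) :
    centralChar (χ : G → ℂ) g⁻¹ =
      ((Subgroup.centralizer ({g} : Set G)).index : ℂ) * conj ((χ : G → ℂ) g) / (χ : G → ℂ) 1 := by
  rw [centralChar, IsCharacter.map_inv (IsIrrCharacter.isCharacter χ.2),
    show Subgroup.centralizer ({g⁻¹} : Set G) = Subgroup.centralizer ({g} : Set G) by
      ext x; simp [mem_centralizer_singleton, Commute.inv_left_iff, Commute.inv_right_iff]]

/-- Within a block the quotient `regInner / ψ 1` only depends on `χ` modulo `M`. -/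
theorem regInner_div_congr' [Fintype G] (hM : IsPModular p M) {B : Set (IrrCharacter G)} (hB : IsPBlock M B)
    (χ : IrrCharacter G) {ψ ψ' : IrrCharacter G} (hψ : ψ ∈ B) (hψ' : ψ' ∈ B) :
    MemLocalIdeal M (regInner p (χ : G → ℂ) (ψ : G → ℂ) / (ψ : G → ℂ) 1 -
      regInner p (χ : G → ℂ) (ψ' : G → ℂ) / (ψ' : G → ℂ) 1) := by
  classical
  haveI := prime_of_isPModular hM
  haveI := Fintype.ofFinite (ConjClasses G)
  have e : ∀ φ : IrrCharacter G, regInner p (χ : G → ℂ) (φ : G → ℂ) / (φ : G → ℂ) 1 =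
      ∑ K : ConjClasses G, if p ∣ orderOf K.out then 0 else
        (χ : G → ℂ) K.out * centralChar (φ : G → ℂ) (K.out)⁻¹ := by
    intro φ
    rw [regInner, sum_eq_sum_classes' (f := fun x : G => if p ∣ orderOf x then (0 : ℂ) else
      (χ : G → ℂ) x * conj ((φ : G → ℂ) x)) (fun a b hab => by
        obtain ⟨t, rfl⟩ := isConj_iff.1 hab
        simp only [orderOf_conj_eq, IsCharacter.isClassFunction (IsIrrCharacter.isCharacter χ.2) a t,
          IsCharacter.isClassFunction (IsIrrCharacter.isCharacter φ.2) a t]), Finset.sum_div]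
    refine Finset.sum_congr rfl fun K _ => ?_
    split
    · simp
    · rw [centralChar_inv_eq]; ring
  rw [e, e, ← Finset.sum_sub_distrib]
  refine memLocalIdeal_sum _ _ fun K _ => ?_
  split
  · rw [sub_self]; exact memLocalIdeal_zero
  · rw [← mul_sub]
    exact memLocalIdeal_mul_left
      (isIntegral_mem_locRing (IsCharacter.isIntegral (IsIrrCharacter.isCharacter χ.2) _))
      (isPBlock_sameBlock hB hψ hψ' _)

/-- All characters of a block of defect at most two have height zero. -/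
theorem height_eq_zero_of_defect_le_two (hM : IsPModular p M) {B : Set (IrrCharacter G)}
    (hB : IsPBlock M B) (hd : blockDefect p B ≤ 2) {χ : IrrCharacter G} (hχ : χ ∈ B) :
    blockHeight p B (χ : G → ℂ) = 0 := by
  classical
  haveI := Fintype.ofFinite G
  by_contra h
  have := (height_pos_facts hM hB hχ h).1
  omega

/-- The form of a block with a subset `S` carrying the kernel divided by `p ^ (d - 1)`. -/
theorem block_form_ge [Fintype G] [Fact p.Prime] (hM : IsPModular p M) {B : Set (IrrCharacter G)}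
    (hB : IsPBlock M B) {e : ℕ} (hd : blockDefect p B = e + 1) (he : e ≤ 1) (S : Finset (IrrCharacter G))
    (hSB : ∀ θ ∈ S, θ ∈ B)
    (hK : ∀ x y : G, ¬ p ∣ orderOf x → ¬ p ∣ orderOf y →
      ((p ^ e : ℕ) : ℂ) * ∑ θ ∈ S, (θ : G → ℂ) x * conj ((θ : G → ℂ) y) = blockKernel B x y)
    (z : B → B → ℤ) (hz : ∀ ξ η : B, (z ξ η : ℂ) = ((p ^ blockDefect p B : ℕ) : ℂ) *
      regInner p (ξ.1 : G → ℂ) (η.1 : G → ℂ) / (Nat.card G : ℂ))
    [Fintype B] (n : B → ℤ) :
    0 ≤ formVal z n n ∧ (formVal z n n ≠ 0 → (blockRank p B : ℤ) ≤ formVal z n n) := by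
  classical
  haveI := prime_of_isPModular hM
  have hG : (Nat.card G : ℂ) ≠ 0 := Nat.cast_ne_zero.2 Nat.card_pos.ne'
  have hp0 : (p : ℂ) ≠ 0 := Nat.cast_ne_zero.2 hM.1.ne_zero
  have hdle : blockDefect p B ≤ 2 := by omega
  set D : ℂ := ((p ^ blockDefect p B : ℕ) : ℂ) with hD
  have hDe : D = (p : ℂ) * ((p ^ e : ℕ) : ℂ) := by rw [hD, hd, pow_succ']; push_cast; ring
  have hzs : ∀ ξ η, z ξ η = z η ξ := fun ξ η => Int.cast_injective (α := ℂ) (by
    show ((z ξ η : ℤ) : ℂ) = ((z η ξ : ℤ) : ℂ)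
    rw [hz, hz, regInner_comm p (IsIrrCharacter.isCharacter ξ.1.2) (IsIrrCharacter.isCharacter η.1.2)])
  let T : S → B := fun θ => ⟨θ.1, hSB θ.1 θ.2⟩
  have hstep : ∀ (ξ : IrrCharacter G), ξ ∈ B → ∀ x, ¬ p ∣ orderOf x →
      ((p ^ e : ℕ) : ℂ) * ∑ θ ∈ S, regInner p (ξ : G → ℂ) (θ : G → ℂ) * (θ : G → ℂ) x =
        (Nat.card G : ℂ) * (ξ : G → ℂ) x := by
    intro ξ hξ x hx
    have h2 := sum_mul_blockKernel B ξ x
    rw [if_pos hξ] at h2
    rw [← h2]
    simp only [regInner, Finset.sum_mul]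
    rw [Finset.sum_comm, Finset.mul_sum]
    refine Finset.sum_congr rfl fun y _ => ?_
    by_cases hy : p ∣ orderOf y
    · simp [hy, blockKernel_eq_zero hM hB (g := x) (y := y) (fun e => hx (e.2 hy))]
    · simp only [hy, if_false]
      rw [← hK x y hx hy, Finset.mul_sum, Finset.mul_sum, Finset.mul_sum]
      exact Finset.sum_congr rfl fun θ _ => by ring
  have hrec : ∀ ξ η : B, ∑ θ : S, z ξ (T θ) * z (T θ) η = (p : ℤ) * z ξ η := by
    intro ξ η
    apply Int.cast_injective (α := ℂ)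
    simp only [Int.cast_sum, Int.cast_mul, Int.cast_natCast, hz, T]
    rw [Finset.sum_coe_sort S (fun θ => D * regInner p (ξ.1 : G → ℂ) (θ : G → ℂ) / (Nat.card G : ℂ) *
      (D * regInner p (θ : G → ℂ) (η.1 : G → ℂ) / (Nat.card G : ℂ)))]
    have h2 : ((p ^ e : ℕ) : ℂ) * ∑ θ ∈ S, regInner p (ξ.1 : G → ℂ) (θ : G → ℂ) *
        regInner p (θ : G → ℂ) (η.1 : G → ℂ) = (Nat.card G : ℂ) * regInner p (ξ.1 : G → ℂ) (η.1 : G → ℂ) := by
      have e1 : ∀ θ : IrrCharacter G, regInner p (θ : G → ℂ) (η.1 : G → ℂ) =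
          ∑ x : G, if p ∣ orderOf x then 0 else (θ : G → ℂ) x * conj ((η.1 : G → ℂ) x) := fun θ => rfl
      simp only [e1, Finset.mul_sum]
      rw [Finset.sum_comm]
      refine Finset.sum_congr rfl fun x _ => ?_
      by_cases hx : p ∣ orderOf x
      · simp [hx]
      · simp only [hx, if_false]
        rw [← mul_assoc, ← hstep ξ.1 ξ.2 x hx, Finset.mul_sum, Finset.sum_mul]
        exact Finset.sum_congr rfl fun θ _ => by ring
    rw [Finset.sum_congr rfl (g := fun θ : IrrCharacter G => D * D / ((Nat.card G : ℂ) * (Nat.card G : ℂ)) *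
      (regInner p (ξ.1 : G → ℂ) (θ : G → ℂ) * regInner p (θ : G → ℂ) (η.1 : G → ℂ))) (fun θ _ => by ring),
      ← Finset.mul_sum]
    rw [hDe] at *
    field_simp
    linear_combination h2
  have htr : ∑ θ : S, z (T θ) (T θ) = (p : ℤ) * (blockRank p B : ℤ) := by
    apply Int.cast_injective (α := ℂ)
    simp only [Int.cast_sum, Int.cast_mul, Int.cast_natCast, hz, T]
    rw [Finset.sum_coe_sort S (fun θ => D * regInner p (θ : G → ℂ) (θ : G → ℂ) / (Nat.card G : ℂ))]
    have h2 : ((p ^ e : ℕ) : ℂ) * ∑ θ ∈ S, regInner p (θ : G → ℂ) (θ : G → ℂ) =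
        (Nat.card G : ℂ) * (blockRank p B : ℂ) := by
      rw [card_mul_blockRank hM hB]
      simp only [regInner]
      rw [Finset.sum_comm, Finset.mul_sum]
      refine Finset.sum_congr rfl fun x _ => ?_
      by_cases hx : p ∣ orderOf x
      · simp [hx]
      · simp only [hx, if_false]
        exact hK x x hx hx
    rw [← Finset.sum_div, ← Finset.mul_sum, hDe]
    field_simp
    linear_combination h2
  -- congruences
  set W : B → ℂ := fun ξ => regInner p (ξ.1 : G → ℂ) (ξ.1 : G → ℂ) / (ξ.1 : G → ℂ) 1 with hW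
  have hzrk : ∀ i j k l : B, (p : ℤ) ∣ z i k * z j l - z i l * z j k := by
    intro i j k l
    set c : B → ℂ := fun ψ => D * (ψ.1 : G → ℂ) 1 / (Nat.card G : ℂ) with hc
    set R : B → B → ℂ := fun ξ ψ => regInner p (ξ.1 : G → ℂ) (ψ.1 : G → ℂ) / (ψ.1 : G → ℂ) 1 with hR
    have hzc : ∀ ξ ψ, (z ξ ψ : ℂ) = c ψ * R ξ ψ := fun ξ ψ => by
      have : (ψ.1 : G → ℂ) 1 ≠ 0 := IsIrrCharacter.apply_one_ne_zero ψ.1.2
      rw [hz]; simp only [hc, hR, hD]; field_simp
    have hcmem : ∀ ψ, c ψ ∈ locRing M := fun ψ => by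
      have h1 := pow_mul_degree_mem (p := p) hM ψ.2 (d := blockDefect p B) (by
        obtain ⟨χ₀, hχ₀, -⟩ := exists_height_zero p (isPBlock_nonempty hB)
        have := minVal_add_height (p := p) hχ₀
        have := degree_factorization_le p χ₀
        rw [blockDefect_eq]
        omega)
      simp only [hc, hD]
      rw [div_eq_mul_inv, mul_right_comm]
      exact h1
    have hRmem : ∀ ξ ψ, R ξ ψ ∈ locRing M := fun ξ ψ =>
      isIntegral_mem_locRing (isIntegral_regInner_div p (IsIrrCharacter.isCharacter ξ.1.2) ψ.1)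
    rw [← intCast_memLocalIdeal_iff hM]
    push_cast
    rw [hzc, hzc, hzc, hzc,
      show c k * R i k * (c l * R j l) - c l * R i l * (c k * R j k) =
        (c k * c l) * (R j l * (R i k - R i l) - R i l * (R j k - R j l)) by ring]
    exact memLocalIdeal_mul_left (mul_mem (hcmem k) (hcmem l)) (memLocalIdeal_sub
      (memLocalIdeal_mul_left (hRmem j l) (regInner_div_congr' hM hB i.1 k.2 l.2))
      (memLocalIdeal_mul_left (hRmem i l) (regInner_div_congr' hM hB j.1 k.2 l.2)))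
  have hzdiag : ∀ ξ : B, ¬ (p : ℤ) ∣ z ξ ξ := fun ξ h => by
    obtain ⟨w, hw, -, hiff⟩ := exists_qInt hM hB ξ.2 ξ.2
    have he' : w = z ξ ξ := Int.cast_injective (α := ℂ) (by show (w : ℂ) = _; rw [hw, hz])
    have h0 := height_eq_zero_of_defect_le_two hM hB hdle ξ.2
    rw [h0, he'] at hiff
    exact (hiff.1 (by simpa using h)) rfl
  -- the matrix
  set Mx : Matrix S S ℤ := (p : ℤ) • 1 - Matrix.of fun a b => z (T a) (T b) with hMx
  have hMxa : ∀ a b, Mx a b = (if a = b then (p : ℤ) else 0) - z (T a) (T b) := fun a b => by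
    simp [hMx, Matrix.one_apply, Matrix.natCast_apply, ← Matrix.diagonal_natCast, Matrix.diagonal_apply]
  have hsymm : Mx.transpose = Mx := by
    ext a b
    rw [Matrix.transpose_apply, hMxa, hMxa, hzs (T b) (T a)]
    simp [eq_comm]
  have hM2 : Mx * Mx = (p : ℤ) • Mx := by
    have h2 : (Matrix.of fun a b => z (T a) (T b)) * (Matrix.of fun a b => z (T a) (T b)) =
        (p : ℤ) • (Matrix.of fun a b : S => z (T a) (T b)) := by
      ext a b
      simp only [Matrix.mul_apply, Matrix.of_apply, Matrix.smul_apply, smul_eq_mul]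
      exact hrec (T a) (T b)
    simp only [hMx, sub_mul, mul_sub, smul_mul_assoc, mul_smul_comm, one_mul, mul_one, h2, smul_sub]
    abel
  have htr' : Mx.trace = (p : ℤ) * ((S.card : ℤ) - (blockRank p B : ℤ)) := by
    simp only [Matrix.trace, Matrix.diag, hMxa, if_true, Finset.sum_sub_distrib, Finset.sum_const,
      Finset.card_univ, Fintype.card_coe, nsmul_eq_mul]
    rw [htr]; ring
  have hrk : ∀ a b c d, (p : ℤ) ∣ Mx a c * Mx b d - Mx a d * Mx b c := fun a b c d => by
    have h1 := hzrk (T a) (T b) (T c) (T d)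
    rw [← ZMod.intCast_zmod_eq_zero_iff_dvd] at h1 ⊢
    simp only [hMxa]
    push_cast [apply_ite (Int.cast : ℤ → ZMod p)] at h1 ⊢
    simp only [ZMod.natCast_self, ite_self, zero_sub]
    linear_combination h1
  have hdiag : ∀ a, ¬ (p : ℤ) ∣ Mx a a := fun a h => hzdiag (T a) (by
    rw [hMxa, if_pos rfl] at h
    simpa using h)
  set q : S → ℤ := fun a => ∑ i, n i * z i (T a) with hq
  have hq2 : q ⬝ᵥ q = (p : ℤ) * formVal z n n := by
    simp only [dotProduct, hq, formVal, Finset.sum_mul, Finset.mul_sum]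
    rw [Finset.sum_comm]
    refine Finset.sum_congr rfl fun i _ => ?_
    rw [Finset.sum_comm]
    refine Finset.sum_congr rfl fun j _ => ?_
    rw [Finset.sum_congr rfl (g := fun a => n i * n j * (z i (T a) * z (T a) j))
      (fun a _ => by rw [hzs j (T a)]; ring), ← Finset.mul_sum, hrec]
    ring
  have hqM : Mx.mulVec q = 0 := by
    ext a
    have h1 : ∑ b, z (T a) (T b) * q b = (p : ℤ) * q a := by
      simp only [hq, Finset.mul_sum]
      rw [Finset.sum_comm]
      refine Finset.sum_congr rfl fun i _ => ?_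
      rw [Finset.sum_congr rfl (g := fun b => n i * (z (T a) (T b) * z (T b) i))
        (fun b _ => by rw [hzs i (T b)]; ring), ← Finset.mul_sum, hrec, hzs i (T a)]
      ring
    simp only [Matrix.mulVec, dotProduct, hMxa, sub_mul, ite_mul, zero_mul, Finset.sum_sub_distrib,
      Finset.sum_ite_eq, Finset.mem_univ, if_true, h1, Pi.zero_apply, sub_self]
  have hp : (0 : ℤ) < p := by exact_mod_cast hM.1.pos
  refine ⟨?_, fun hne => ?_⟩
  · have : 0 ≤ q ⬝ᵥ q := Finset.sum_nonneg fun a _ => mul_self_nonneg (q a)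
    rw [hq2] at this
    exact nonneg_of_mul_nonneg_right this hp
  have hq0 : q ≠ 0 := fun h => by
    rw [h, zero_dotProduct] at hq2
    exact hne ((mul_eq_zero.1 hq2.symm).resolve_left hp.ne')
  have hqrk : ∀ a b c, (p : ℤ) ∣ q a * Mx b c - q b * Mx a c := fun a b c => by
    have h1 := fun i => (ZMod.intCast_zmod_eq_zero_iff_dvd _ p).2 (hzrk i (T b) (T a) (T c))
    rw [← ZMod.intCast_zmod_eq_zero_iff_dvd]
    simp only [hMxa, hq]
    push_cast [apply_ite (Int.cast : ℤ → ZMod p)] at h1 ⊢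
    simp only [ZMod.natCast_self, ite_self, zero_sub, mul_neg, sub_neg_eq_add, Finset.sum_mul]
    rw [← Finset.sum_neg_distrib, ← Finset.sum_add_distrib]
    refine Finset.sum_eq_zero fun i _ => ?_
    have h2 := (ZMod.intCast_zmod_eq_zero_iff_dvd _ p).2 (hzrk i (T c) (T a) (T b))
    push_cast at h2
    rw [hzs (T a) (T c), hzs (T b) (T c)]
    linear_combination (-(n i : ZMod p)) * h2
  have key := sq_norm_ge_of_proj Mx hsymm hM2 _ htr' hrk hdiag q hqM hq0 hqrk
  rw [hq2, Fintype.card_coe, sub_sub_cancel] at key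
  exact le_of_mul_le_mul_left key hp

/-- The subset of a central element: the characters having it in the kernel. -/
theorem kernel_eq_mul_sum_central [Fintype G] (hM : IsPModular p M) {B : Set (IrrCharacter G)}
    (hB : IsPBlock M B) {x : G} (hx : ∀ y, x * y = y * x) (hxo : orderOf x = p) {g h : G}
    (hg : ¬ p ∣ orderOf g) (hh : ¬ p ∣ orderOf h) :
    (p : ℂ) * ∑ θ ∈ B.toFinite.toFinset.filter (fun θ : IrrCharacter G => (θ : G → ℂ) x = (θ : G → ℂ) 1),
      (θ : G → ℂ) g * conj ((θ : G → ℂ) h) = blockKernel B g h := by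
  classical
  have e : ∀ θ : IrrCharacter G, ∑ i ∈ Finset.range p, (θ : G → ℂ) (x ^ i * g) =
      if (θ : G → ℂ) x = (θ : G → ℂ) 1 then (p : ℂ) * (θ : G → ℂ) g else 0 := by
    intro θ
    obtain ⟨n, ρ, hρ, hθ⟩ := θ.2
    obtain ⟨s, hs, hsy⟩ := exists_scalar_of_central ρ hρ hx
    rw [hxo] at hs
    have hs' : ∀ y, (θ : G → ℂ) (x * y) = s * (θ : G → ℂ) y := fun y => by rw [← hθ]; exact hsy y
    have hi : ∀ i : ℕ, (θ : G → ℂ) (x ^ i * g) = s ^ i * (θ : G → ℂ) g := by
      intro i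
      induction i with
      | zero => simp
      | succ i ih => rw [pow_succ', mul_assoc, hs', ih, pow_succ']; ring
    have hiff : (θ : G → ℂ) x = (θ : G → ℂ) 1 ↔ s = 1 := by
      have h1 := hs' 1
      rw [mul_one] at h1
      rw [h1]
      exact ⟨fun h => mul_right_cancel₀ (IsIrrCharacter.apply_one_ne_zero θ.2) (h.trans (one_mul _).symm),
        fun h => by rw [h, one_mul]⟩
    simp only [hi, ← Finset.sum_mul, hiff]
    split
    next h => subst h; simp
    next h =>
      rw [geom_sum_eq h, hs, sub_self, zero_div, zero_mul]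
  have hsum : ∑ i ∈ Finset.range p, blockKernel B (x ^ i * g) h = blockKernel B g h := by
    rw [Finset.sum_eq_single 0 ?_ (by simp [hM.1.ne_zero]), pow_zero, one_mul]
    intro i hi hi0
    refine blockKernel_eq_zero hM hB fun heq => hh (heq.1 ?_)
    have hxi : orderOf (x ^ i) = p := by
      rw [orderOf_pow, hxo, ((Nat.Prime.coprime_iff_not_dvd hM.1).2 fun hd =>
        hi0 (Nat.eq_zero_of_dvd_of_lt hd (Finset.mem_range.1 hi))), Nat.div_one]
    have hcomm : Commute (x ^ i) g := (show Commute x g from hx g).pow_left i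
    rw [hcomm.orderOf_mul_eq_mul_orderOf_of_coprime (by
      rw [hxi]; exact (Nat.Prime.coprime_iff_not_dvd hM.1).2 hg), hxi]
    exact dvd_mul_right _ _
  rw [← hsum, Finset.mul_sum, Finset.sum_filter]
  simp only [blockKernel, finsum_mem_eq_finite_toFinset_sum _ B.toFinite]
  rw [Finset.sum_comm]
  refine Finset.sum_congr rfl fun θ _ => ?_
  rw [← Finset.sum_mul, e θ]
  split <;> ring

/-- The integral form of a block with a small defect is at least the rank. -/
theorem exists_form_small [Fintype G] [Fact p.Prime] (hM : IsPModular p M) {B : Set (IrrCharacter G)}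
    (hB : IsPBlock M B) (hd : blockDefect p B ≤ 2)
    (hc : blockDefect p B = 2 → ∃ x : G, (∀ y, x * y = y * x) ∧ orderOf x = p) [Fintype B] :
    ∃ z : B → B → ℤ, (∀ ξ η : B, (z ξ η : ℂ) = ((p ^ blockDefect p B : ℕ) : ℂ) *
        regInner p (ξ.1 : G → ℂ) (η.1 : G → ℂ) / (Nat.card G : ℂ)) ∧ (∀ ξ η, z ξ η = z η ξ) ∧
      ∀ n : B → ℤ, 0 ≤ formVal z n n ∧ (formVal z n n ≠ 0 → (blockRank p B : ℤ) ≤ formVal z n n) := by
  classical
  haveI := prime_of_isPModular hM
  choose! z hz using fun (ξ : IrrCharacter G) (hξ : ξ ∈ B) (η : IrrCharacter G) (hη : η ∈ B) =>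
    exists_qInt hM hB hξ hη
  have hzC : ∀ ξ η : B, (z ξ.1 η.1 : ℂ) = ((p ^ blockDefect p B : ℕ) : ℂ) *
      regInner p (ξ.1 : G → ℂ) (η.1 : G → ℂ) / (Nat.card G : ℂ) := fun ξ η => (hz _ ξ.2 _ η.2).1
  refine ⟨fun ξ η => z ξ.1 η.1, hzC, fun ξ η => Int.cast_injective (α := ℂ) ?_, ?_⟩
  · show ((z ξ.1 η.1 : ℤ) : ℂ) = ((z η.1 ξ.1 : ℤ) : ℂ)
    rw [hzC, hzC, regInner_comm p (IsIrrCharacter.isCharacter ξ.1.2) (IsIrrCharacter.isCharacter η.1.2)]
  obtain h0 | h1 | h2 : blockDefect p B = 0 ∨ blockDefect p B = 1 ∨ blockDefect p B = 2 := by omega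
  · intro n
    have hk := brauer_feit hM hB
    rw [h0, mul_zero, pow_zero] at hk
    obtain ⟨χ, hχ⟩ := isPBlock_nonempty hB
    haveI : Nonempty B := ⟨⟨χ, hχ⟩⟩
    haveI : Subsingleton B := (Nat.card_eq_one_iff_unique.1 (by
      have := Nat.card_pos (α := B); omega)).1
    have hl := card_mul_blockRank hM hB
    have hval : (z χ χ : ℂ) = (blockRank p B : ℂ) := by
      have h := hzC ⟨χ, hχ⟩ ⟨χ, hχ⟩
      rw [h0, pow_zero, Nat.cast_one, one_mul] at h
      rw [h, regInner, eq_comm, eq_div_iff (Nat.cast_ne_zero.2 Nat.card_pos.ne'), mul_comm, hl]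
      refine Finset.sum_congr rfl fun x _ => ?_
      split
      · rfl
      · rw [blockKernel, finsum_mem_eq_finite_toFinset_sum _ B.toFinite,
          Finset.sum_eq_single_of_mem χ (B.toFinite.mem_toFinset.2 hχ)]
        exact fun φ hφ hne => absurd (congrArg Subtype.val
          (Subsingleton.elim (⟨φ, B.toFinite.mem_toFinset.1 hφ⟩ : B) ⟨χ, hχ⟩)) hne
    have hval' : z χ χ = (blockRank p B : ℤ) := by exact_mod_cast hval
    have hform : formVal (fun ξ η : B => z ξ.1 η.1) n n = (n ⟨χ, hχ⟩) ^ 2 * (blockRank p B : ℤ) := by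
      rw [formVal, Fintype.sum_subsingleton _ ⟨χ, hχ⟩, Fintype.sum_subsingleton _ ⟨χ, hχ⟩, hval', sq]
    rw [hform]
    refine ⟨mul_nonneg (sq_nonneg _) (Nat.cast_nonneg _), fun h => ?_⟩
    have h1 : 1 ≤ (n ⟨χ, hχ⟩) ^ 2 := by
      have := (sq_nonneg (n ⟨χ, hχ⟩)).lt_of_ne (Ne.symm (left_ne_zero_of_mul h))
      omega
    exact le_mul_of_one_le_left (Nat.cast_nonneg _) h1
  · exact block_form_ge hM hB (e := 0) h1 zero_le_one B.toFinite.toFinset
      (fun θ h => B.toFinite.mem_toFinset.1 h) (fun x y _ _ => by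
        rw [pow_zero, Nat.cast_one, one_mul, blockKernel, finsum_mem_eq_finite_toFinset_sum _ B.toFinite])
      _ hzC
  · obtain ⟨x, hx, hxo⟩ := hc h2
    refine block_form_ge hM hB (e := 1) h2 le_rfl
      (B.toFinite.toFinset.filter fun θ : IrrCharacter G => (θ : G → ℂ) x = (θ : G → ℂ) 1)
      (fun θ h => B.toFinite.mem_toFinset.1 (Finset.mem_filter.1 h).1) (fun g h hg hh => ?_) _ hzC
    rw [pow_one]
    exact kernel_eq_mul_sum_central hM hB hx hxo hg hh

end Cfsg.Agent.Block
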