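import Cfsg.Agent.Lib.Block.SubsectionMatrix
import Cfsg.Agent.Lib.Block.CycTrace

/-!
# Height zero characters of a `2`-block and a subsection

The averaged diagonal of the matrix of a subsection consists of integers, odd at characters of
height zero.
-/

set_option autoImplicit false

open Cfsg Cfsg.Agent.Char
open scoped ComplexConjugate

namespace Cfsg.Agent.Block

universe u

local notation "CG(" y ")" => Subgroup.centralizer ({y} : Set _)

variable {G : Type u} [Group G] [Finite G] {M : Ideal AlgInt}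

theorem exists_diag_two (hM : IsPModular 2 M) {B : Set (IrrCharacter G)} (hB : IsPBlock M B)
    {y : G} (hy : ∃ k : ℕ, orderOf y = 2 ^ k)
    {b : Set (IrrCharacter (CG(y)))} (hind : IsInducedBlock M (CG(y)) b B) :
    ∃ t : IrrCharacter G → ℤ, (∀ χ ∈ B, 0 ≤ t χ) ∧
      ∑ χ ∈ B.toFinite.toFinset, t χ = ((2 ^ blockDefect 2 b * blockRank 2 b : ℕ) : ℤ) ∧
      ∀ χ ∈ B, blockHeight 2 B (χ : G → ℂ) = 0 → Odd (t χ) ∧
        (Nat.card {ψ : IrrCharacter G // ψ ∈ B ∧ blockHeight 2 B (ψ : G → ℂ) = 0} : ℤ) ≤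
          ((2 ^ blockDefect 2 b : ℕ) : ℤ) * t χ := by
  classical
  haveI := prime_of_isPModular hM
  haveI := Fintype.ofFinite (IrrCharacter CG(y))
  haveI := Fintype.ofFinite (IrrCharacter G)
  obtain ⟨hK, hint, hunit, hexp⟩ := subMat_props hM hy hind
  obtain ⟨hrow, htr⟩ := subMat_row hM hB hy hind
  choose s w hs hsymm hw using hexp
  choose ks hks using hs
  set K := ∑ χ : IrrCharacter G, ∑ ξ : IrrCharacter CG(y), ks χ ξ with hKdef
  set N := Nat.card G * 2 ^ K with hNdef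
  haveI : NeZero N := ⟨Nat.mul_ne_zero Nat.card_pos.ne' (pow_ne_zero _ two_ne_zero)⟩
  have hle : cycF (Nat.card G) ≤ cycF N := cycF_mono (dvd_mul_right _ _)
  have hpow : ∀ χ ξ, s χ ξ ^ 2 ^ K = 1 := fun χ ξ => by
    have h1 : ks χ ξ ≤ K := le_trans (Finset.single_le_sum (f := ks χ) (fun _ _ => Nat.zero_le _) (Finset.mem_univ ξ))
      (Finset.single_le_sum (f := fun χ => ∑ ξ, ks χ ξ) (fun _ _ => Nat.zero_le _) (Finset.mem_univ χ))
    obtain ⟨c, hc⟩ := Nat.exists_eq_add_of_le h1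
    rw [hc, pow_add, pow_mul, hks, one_pow]
  have hrmem : ∀ χ ξ, s χ ξ ∈ cycF N := fun χ ξ => root_mem_cycF (by
    rw [hNdef, mul_comm, pow_mul, hpow, one_pow])
  set r : IrrCharacter G → IrrCharacter CG(y) → IrrCharacter CG(y) → cycF N := fun χ ξ η =>
    ⟨s χ ξ * conj (s χ η), mul_mem (hrmem χ ξ) (conj_mem_cycF (hrmem χ η))⟩ with hr
  have hrp : ∀ χ ξ η, r χ ξ η ^ 2 ^ K = 1 := fun χ ξ η => Subtype.ext (by
    simp only [hr, IntermediateField.coe_pow, IntermediateField.coe_one]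
    rw [mul_pow, ← map_pow, hpow, hpow, map_one, mul_one])
  choose e he htre using fun χ ξ η => exists_trace_root (r χ ξ η) (hrp χ ξ η)
  set T := b.toFinite.toFinset
  have hesymm : ∀ χ ξ η, e χ ξ η = e χ η ξ := by
    intro χ ξ η
    have h1 : ∀ v : cycF N, (v = 1 ↔ (v : ℂ) = 1) ∧ (v = -1 ↔ (v : ℂ) = -1) := fun v =>
      ⟨⟨fun h => by rw [h]; simp, fun h => Subtype.ext (by simpa using h)⟩,
        ⟨fun h => by rw [h]; simp, fun h => Subtype.ext (by simpa using h)⟩⟩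
    have h2 : conj (s χ ξ * conj (s χ η)) = s χ η * conj (s χ ξ) := by
      rw [map_mul, Complex.conj_conj, mul_comm]
    simp only [he, h1, hr, ← h2]
    refine if_congr ?_ rfl (if_congr ?_ rfl rfl)
    · exact ⟨fun h => by rw [h, map_one], fun h => by simpa using congrArg conj h⟩
    · exact ⟨fun h => by rw [h, map_neg, map_one], fun h => by simpa using congrArg conj h⟩
  set α : IrrCharacter G → cycF N := fun χ => ⟨subMat 2 y b χ χ, hle (hK χ χ)⟩
  set t : IrrCharacter G → ℤ := fun χ => ∑ ξ ∈ T, ∑ η ∈ T, w χ ξ η * e χ ξ η with ht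
  have hdeg : (0 : ℚ) < (Module.finrank ℚ (cycF N) : ℚ) := by exact_mod_cast Module.finrank_pos
  have htα : ∀ χ, Algebra.trace ℚ (cycF N) (α χ) = (Module.finrank ℚ (cycF N) : ℚ) * (t χ : ℚ) := by
    intro χ
    have e1 : α χ = ∑ ξ ∈ T, ∑ η ∈ T, (w χ ξ η : ℚ) • r χ ξ η := by
      refine Subtype.ext ?_
      show subMat 2 y b χ χ = (cycF N).val _
      simp only [map_sum, map_smul, hr, IntermediateField.coe_val]
      rw [hw]
      refine Finset.sum_congr rfl fun ξ _ => Finset.sum_congr rfl fun η _ => ?_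
      simp [Algebra.smul_def]
    simp only [e1, map_sum, map_smul, htre, smul_eq_mul, ht, Int.cast_sum, Int.cast_mul, Finset.mul_sum]
    exact Finset.sum_congr rfl fun ξ _ => Finset.sum_congr rfl fun η _ => by ring
  have hrat : ∀ (χ : IrrCharacter G) (U : Finset (IrrCharacter G)),
      U ⊆ B.toFinite.toFinset → (∀ ψ, ψ ∈ B.toFinite.toFinset → ψ ∉ U → subMat 2 y b χ ψ = 0) →
      (∀ ψ ∈ U, subMat 2 y b χ ψ ≠ 0) →
      (U.card : ℚ) * (Module.finrank ℚ (cycF N) : ℚ) ≤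
        ((2 ^ blockDefect 2 b : ℕ) : ℚ) * ((Module.finrank ℚ (cycF N) : ℚ) * (t χ : ℚ)) := by
    intro χ U hU hz hnz
    refine le_trans (card_mul_finrank_le_trace U (fun ψ => subMat 2 y b χ ψ)
      (fun ψ _ => hle (hK χ ψ)) (fun ψ _ => hint χ ψ) hnz
      (((2 ^ blockDefect 2 b : ℕ) : ℚ) • α χ) ?_) (le_of_eq (by rw [map_smul, smul_eq_mul, htα]))
    rw [Finset.sum_subset hU fun ψ h h' => by rw [hz ψ h h', zero_mul]]
    simp only [conj_subMat]
    rw [hrow χ χ]
    rw [IntermediateField.coe_smul, Algebra.smul_def, eq_ratCast, Rat.cast_natCast]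
  have hpos : (0 : ℚ) < ((2 ^ blockDefect 2 b : ℕ) : ℚ) := by positivity
  refine ⟨t, fun χ _ => ?_, ?_, fun χ hχ h0 => ⟨?_, ?_⟩⟩
  · have h := hrat χ (B.toFinite.toFinset.filter fun ψ => subMat 2 y b χ ψ ≠ 0)
      (Finset.filter_subset _ _)
      (fun ψ h h' => by_contra fun hne => h' (Finset.mem_filter.2 ⟨h, hne⟩))
      (fun ψ h => (Finset.mem_filter.1 h).2)
    have h2 : (0 : ℚ) ≤ ((2 ^ blockDefect 2 b : ℕ) : ℚ) * ((Module.finrank ℚ (cycF N) : ℚ) * (t χ : ℚ)) :=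
      (mul_nonneg (Nat.cast_nonneg _) hdeg.le).trans h
    generalize (Module.finrank ℚ (cycF N) : ℚ) = deg at h2 hdeg
    have h3 : (0 : ℚ) ≤ (t χ : ℚ) := nonneg_of_mul_nonneg_right (nonneg_of_mul_nonneg_right h2 hpos) hdeg
    exact_mod_cast h3
  · have h1 : ∑ χ ∈ B.toFinite.toFinset, α χ =
        ((2 ^ blockDefect 2 b * blockRank 2 b : ℕ) : ℚ) • (1 : cycF N) := by
      refine Subtype.ext ?_
      rw [show ((∑ χ ∈ B.toFinite.toFinset, α χ : cycF N) : ℂ) = ∑ χ ∈ B.toFinite.toFinset, (α χ : ℂ) from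
        map_sum (cycF N).val _ _, IntermediateField.coe_smul, IntermediateField.coe_one]
      simp only [α]
      rw [htr]
      simp [Algebra.smul_def]
    have h2 := congrArg (Algebra.trace ℚ (cycF N)) h1
    rw [map_sum, map_smul, show (1 : cycF N) = algebraMap ℚ (cycF N) 1 from (map_one _).symm,
      Algebra.trace_algebraMap, Finset.sum_congr rfl fun χ _ => htα χ, ← Finset.mul_sum] at h2
    simp only [nsmul_eq_mul, mul_one, smul_eq_mul] at h2
    rw [mul_comm ((2 ^ blockDefect 2 b * blockRank 2 b : ℕ) : ℚ)] at h2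
    have h3 := mul_left_cancel₀ hdeg.ne' h2
    exact_mod_cast h3
  · -- parity
    set W : ℤ := ∑ ξ ∈ T, ∑ η ∈ T, w χ ξ η
    have hWM : ¬ MemLocalIdeal M (W : ℂ) := by
      intro hW
      refine hunit χ χ ⟨hχ, h0⟩ ⟨hχ, h0⟩ ?_
      have h1 : MemLocalIdeal M (subMat 2 y b χ χ - (W : ℂ)) := by
        rw [hw, Int.cast_sum, ← Finset.sum_sub_distrib]
        refine memLocalIdeal_sum _ _ fun ξ _ => ?_
        rw [Int.cast_sum, ← Finset.sum_sub_distrib]
        refine memLocalIdeal_sum _ _ fun η _ => ?_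
        rw [show (w χ ξ η : ℂ) * (s χ ξ * conj (s χ η)) - (w χ ξ η : ℂ) =
          (w χ ξ η : ℂ) * (s χ ξ * conj (s χ η) - 1) by ring]
        exact memLocalIdeal_mul_left (intCast_mem_locRing _)
          (sub_one_memLocalIdeal_of_pow hM (k := K) (by rw [mul_pow, ← map_pow, hpow, hpow, map_one, mul_one]))
      simpa using memLocalIdeal_add h1 hW
    have hWodd : Odd W := by
      rw [← Int.not_even_iff_odd]
      rintro ⟨c, hc⟩
      apply hWM
      rw [hc, show ((c + c : ℤ) : ℂ) = (c : ℂ) * ((2 : ℕ) : ℂ) by push_cast; ring]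
      exact memLocalIdeal_mul_left (intCast_mem_locRing c) ((memLocalIdeal_natCast_iff hM.1 hM.2.2 2).2 dvd_rfl)
    have h2 : ((t χ : ℤ) : ZMod 2) = (W : ZMod 2) := by
      simp only [ht, W, Int.cast_sum, Int.cast_mul]
      rw [sum_sum_symm_eq T (fun ξ η => (w χ ξ η : ZMod 2) * (e χ ξ η : ZMod 2)) ?_,
        sum_sum_symm_eq T (fun ξ η => (w χ ξ η : ZMod 2)) ?_]
      · refine Finset.sum_congr rfl fun ξ hξ => ?_
        have hr1 : r χ ξ ξ = 1 := by
          refine Subtype.ext ?_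
          simp only [hr, IntermediateField.coe_one]
          rw [Complex.mul_conj, Complex.normSq_eq_norm_sq,
            Complex.norm_eq_one_of_pow_eq_one (hpow χ ξ) (pow_ne_zero _ two_ne_zero)]
          simp
        rw [he, if_pos hr1, Int.cast_one, mul_one]
      · intro ξ hξ η hη
        rw [hsymm χ ξ (b.toFinite.mem_toFinset.1 hξ) η (b.toFinite.mem_toFinset.1 hη)]
      · intro ξ hξ η hη
        rw [hsymm χ ξ (b.toFinite.mem_toFinset.1 hξ) η (b.toFinite.mem_toFinset.1 hη), hesymm]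
    rw [Int.odd_iff] at hWodd ⊢
    have h3 := (ZMod.intCast_eq_intCast_iff' (t χ) W 2).1 h2
    omega
  · set F := B.toFinite.toFinset.filter fun ψ : IrrCharacter G => blockHeight 2 B (ψ : G → ℂ) = 0
    set U := B.toFinite.toFinset.filter fun ψ => subMat 2 y b χ ψ ≠ 0
    have hsub : F ⊆ U := fun ψ hψ => by
      simp only [F, U, Finset.mem_filter, B.toFinite.mem_toFinset] at hψ ⊢
      exact ⟨hψ.1, fun h => hunit χ ψ ⟨hχ, h0⟩ hψ (h ▸ memLocalIdeal_zero)⟩
    have h := hrat χ U (Finset.filter_subset _ _)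
      (fun ψ h h' => by_contra fun hne => h' (Finset.mem_filter.2 ⟨h, hne⟩))
      (fun ψ h => (Finset.mem_filter.1 h).2)
    rw [show Nat.card {ψ : IrrCharacter G // ψ ∈ B ∧ blockHeight 2 B (ψ : G → ℂ) = 0} = F.card by
      rw [Nat.card_eq_fintype_card, Fintype.card_subtype]; congr 1; ext ψ; simp [F]]
    have h4 : (U.card : ℚ) ≤ ((2 ^ blockDefect 2 b : ℕ) : ℚ) * (t χ : ℚ) :=
      le_of_mul_le_mul_right (h.trans_eq (by ring)) hdeg
    have h5 : (F.card : ℚ) ≤ (U.card : ℚ) := by exact_mod_cast Finset.card_le_card hsub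
    exact_mod_cast h5.trans h4

/-- Bounds from the odd diagonal. -/
theorem height_zero_two_bounds (hM : IsPModular 2 M) {B : Set (IrrCharacter G)} (hB : IsPBlock M B)
    {y : G} (hy : ∃ k : ℕ, orderOf y = 2 ^ k)
    {b : Set (IrrCharacter (CG(y)))} (hind : IsInducedBlock M (CG(y)) b B) {n : ℕ}
    (hn : n ^ 2 ≤ blockRank 2 b) (hn' : blockRank 2 b < (n + 1) ^ 2) :
    (Odd n → Nat.card {χ : IrrCharacter G // χ ∈ B ∧ blockHeight 2 B (χ : G → ℂ) = 0} ≤
      n * 2 ^ blockDefect 2 b) ∧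
    (¬ Odd n → (n + 1) * Nat.card {χ : IrrCharacter G // χ ∈ B ∧ blockHeight 2 B (χ : G → ℂ) = 0} ≤
      blockRank 2 b * 2 ^ blockDefect 2 b) := by
  classical
  obtain ⟨t, h0, hsum, hF⟩ := exists_diag_two hM hB hy hind
  haveI := Fintype.ofFinite (IrrCharacter G)
  set F := B.toFinite.toFinset.filter fun ψ : IrrCharacter G => blockHeight 2 B (ψ : G → ℂ) = 0
  have hc : Nat.card {ψ : IrrCharacter G // ψ ∈ B ∧ blockHeight 2 B (ψ : G → ℂ) = 0} = F.card := by
    rw [Nat.card_eq_fintype_card, Fintype.card_subtype]; congr 1; ext ψ; simp [F]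
  rw [hc] at hF ⊢
  set D : ℕ := 2 ^ blockDefect 2 b
  have hmem : ∀ ψ ∈ F, Odd (t ψ) ∧ (F.card : ℤ) ≤ (D : ℤ) * t ψ := fun ψ hψ => by
    simp only [F, Finset.mem_filter, B.toFinite.mem_toFinset] at hψ
    exact hF ψ hψ.1 hψ.2
  have hbig : ∀ m : ℤ, (∀ ψ ∈ F, m ≤ t ψ) → (F.card : ℤ) * m ≤ (D : ℤ) * (blockRank 2 b : ℤ) := by
    intro m hm
    rw [show (D : ℤ) * (blockRank 2 b : ℤ) = ∑ χ ∈ B.toFinite.toFinset, t χ by rw [hsum, Nat.cast_mul]]
    refine le_trans ?_ (Finset.sum_le_sum_of_subset_of_nonneg (s := F) (by exact Finset.filter_subset _ _)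
      fun ψ hψ _ => h0 ψ (B.toFinite.mem_toFinset.1 hψ))
    calc (F.card : ℤ) * m = ∑ _ψ ∈ F, m := by simp
      _ ≤ _ := Finset.sum_le_sum hm
  constructor
  · intro hodd
    by_cases hex : ∃ ψ ∈ F, t ψ ≤ (n : ℤ)
    · obtain ⟨ψ, hψ, hle⟩ := hex
      have h1 := (hmem ψ hψ).2
      have h2 : (F.card : ℤ) ≤ (D : ℤ) * (n : ℤ) :=
        h1.trans (mul_le_mul_of_nonneg_left hle (Int.natCast_nonneg _))
      rw [mul_comm n D]
      exact_mod_cast h2
    · push Not at hex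
      have h1 := hbig ((n : ℤ) + 2) fun ψ hψ => by
        have h2 := hex ψ hψ
        obtain ⟨a, ha⟩ := (hmem ψ hψ).1
        obtain ⟨c, hc'⟩ := hodd
        omega
      have h3 : F.card * (n + 2) ≤ D * blockRank 2 b := by exact_mod_cast h1
      have h4 : blockRank 2 b ≤ n * (n + 2) := by nlinarith
      have h5 : F.card * (n + 2) ≤ n * D * (n + 2) :=
        h3.trans ((Nat.mul_le_mul_left D h4).trans_eq (by ring))
      exact Nat.le_of_mul_le_mul_right h5 (by omega)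
  · intro heven
    rw [Nat.not_odd_iff_even] at heven
    by_cases hex : ∃ ψ ∈ F, t ψ < (n : ℤ) + 1
    · obtain ⟨ψ, hψ, hlt⟩ := hex
      obtain ⟨a, ha⟩ := (hmem ψ hψ).1
      obtain ⟨c, hc'⟩ := heven
      have hle : t ψ ≤ (n : ℤ) - 1 := by omega
      have h1 := (hmem ψ hψ).2
      have h2 : (F.card : ℤ) ≤ (D : ℤ) * ((n : ℤ) - 1) :=
        h1.trans (mul_le_mul_of_nonneg_left hle (Int.natCast_nonneg _))
      have hl : ((n : ℤ)) ^ 2 ≤ (blockRank 2 b : ℤ) := by exact_mod_cast hn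
      have h3 : ((n : ℤ) + 1) * (F.card : ℤ) ≤ (blockRank 2 b : ℤ) * (D : ℤ) := by
        have hD0 : (0 : ℤ) ≤ (D : ℤ) := Int.natCast_nonneg _
        nlinarith [mul_le_mul_of_nonneg_left h2 (show (0 : ℤ) ≤ (n : ℤ) + 1 by omega),
          mul_le_mul_of_nonneg_left hl hD0]
      exact_mod_cast h3
    · push Not at hex
      have h1 := hbig ((n : ℤ) + 1) hex
      have h3 : F.card * (n + 1) ≤ D * blockRank 2 b := by exact_mod_cast h1
      calc (n + 1) * F.card = F.card * (n + 1) := mul_comm _ _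
        _ ≤ _ := h3.trans_eq (mul_comm _ _)

end Cfsg.Agent.Block
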