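import Cfsg.Agent.Lib.Block.AbelianPair
import Cfsg.Agent.Lib.Block.CentralQuotientBlock
import Cfsg.Agent.Lib.Block.SubsectionTwo
import Cfsg.Agent.Lib.Block.SmallDefectForm
import Cfsg.Agent.Lib.Block.DefectOne
import Cfsg.Agent.Lib.Block.DefectBound

/-!
# Blocks with a Klein four defect group
-/

set_option autoImplicit false
set_option linter.style.haveILetI false
set_option linter.unusedSectionVars false

open Cfsg.Agent.Char
open scoped ComplexConjugate Pointwise

namespace Cfsg.Agent.Block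

universe u

local notation "CG(" P ")" => Subgroup.centralizer (SetLike.coe P)

variable {G : Type u} [Group G] [Finite G] {M : Ideal AlgInt}

theorem finrank_le_card {p : ℕ} (B : Set (IrrCharacter G)) : blockRank p B ≤ Nat.card B := by
  classical
  unfold blockRank
  haveI := Fintype.ofFinite B
  rw [← Set.coe_toFinset B, ← Finset.coe_image]
  refine le_trans (finrank_span_finset_le_card _) (le_trans Finset.card_image_le ?_)
  rw [Set.toFinset_card, ← Nat.card_eq_fintype_card, Set.coe_toFinset]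

/-- A 2-block of defect at most one has rank one. -/
theorem blockRank_le_one_of_defect_le_one (hM : IsPModular 2 M) {B : Set (IrrCharacter G)}
    (hB : IsPBlock M B) (hd : blockDefect 2 B ≤ 1) : blockRank 2 B ≤ 1 := by
  classical
  haveI := prime_of_isPModular hM
  haveI := Fintype.ofFinite G
  rcases Nat.le_one_iff_eq_zero_or_eq_one.1 hd with h0 | h1
  · have hk := brauer_feit hM hB
    rw [h0, mul_zero, pow_zero] at hk
    exact (finrank_le_card B).trans (by omega)
  have hk := card_block_defect_one hM hB h1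
  rw [Nat.card_eq_card_finite_toFinset B.toFinite, Finset.card_eq_two] at hk
  obtain ⟨χ, ψ, hne, hS⟩ := hk
  have hχ : χ ∈ B := B.toFinite.mem_toFinset.1 (by rw [hS]; simp)
  have hψ : ψ ∈ B := B.toFinite.mem_toFinset.1 (by rw [hS]; simp)
  have hh : ∀ θ ∈ B, blockHeight 2 B (θ : G → ℂ) = 0 := fun θ hθ =>
    height_eq_zero_of_defect_le_two hM hB (by omega) hθ
  have hG : (Nat.card G : ℂ) ≠ 0 := Nat.cast_ne_zero.2 Nat.card_pos.ne'
  have hdiag : ∀ θ θ' : IrrCharacter G, B.toFinite.toFinset = {θ, θ'} → θ ≠ θ' → θ ∈ B → θ' ∈ B →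
      (2 : ℂ) * regInner 2 (θ : G → ℂ) (θ : G → ℂ) / (Nat.card G : ℂ) = 1 := by
    intro θ θ' hS' hne' hθ hθ'
    obtain ⟨a, ha, -, ha2⟩ := exists_qInt hM hB hθ hθ
    obtain ⟨c, hc, -, hc2⟩ := exists_qInt hM hB hθ hθ'
    rw [hh θ hθ, zero_add, pow_one] at ha2
    rw [hh θ' hθ', zero_add, pow_one] at hc2
    have ha' : ¬ (2 : ℤ) ∣ a := fun h => ha2.1 h rfl
    have hc' : ¬ (2 : ℤ) ∣ c := fun h => hc2.1 h (hh θ hθ)
    rw [h1, pow_one] at ha hc
    push_cast at ha hc
    have hsum := sum_regInner_mul_regInner hM hB hθ (θ : G → ℂ)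
    rw [hS', Finset.sum_pair hne'] at hsum
    rw [regInner_comm 2 (IsIrrCharacter.isCharacter θ'.2) (IsIrrCharacter.isCharacter θ.2)] at hsum
    have hrel : (a : ℂ) * a + (c : ℂ) * c = 2 * a := by
      rw [ha, hc]
      field_simp
      linear_combination hsum
    have hrel' : a * a + c * c = 2 * a := by exact_mod_cast hrel
    have hc0 : c ≠ 0 := fun h => hc' (h ▸ dvd_zero _)
    have hc1 : 1 ≤ c * c := by
      have := mul_self_pos.2 hc0
      omega
    have ha1 : a = 1 := by nlinarith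
    rw [← ha, ha1, Int.cast_one]
  have e1 := hdiag χ ψ hS hne hχ hψ
  have e2 := hdiag ψ χ (hS.trans (Finset.pair_comm χ ψ)) hne.symm hψ hχ
  have hl := card_mul_blockRank hM hB
  have hsum : ∑ x : G, (if 2 ∣ orderOf x then 0 else blockKernel B x x) =
      regInner 2 (χ : G → ℂ) (χ : G → ℂ) + regInner 2 (ψ : G → ℂ) (ψ : G → ℂ) := by
    simp only [regInner, blockKernel, finsum_mem_eq_finite_toFinset_sum _ B.toFinite]
    rw [← Finset.sum_add_distrib]
    refine Finset.sum_congr rfl fun x _ => ?_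
    rw [hS, Finset.sum_pair hne]
    split <;> simp
  rw [hsum] at hl
  have : (blockRank 2 B : ℂ) = 1 := by
    field_simp at e1 e2
    apply mul_left_cancel₀ hG
    linear_combination hl + (1/2 : ℂ) * e1 + (1/2 : ℂ) * e2
  exact le_of_eq (by exact_mod_cast this)

/-- A block of defect two with a major subsection of rank one has four characters. -/
theorem card_eq_four_of_major (hM : IsPModular 2 M) {B : Set (IrrCharacter G)} (hB : IsPBlock M B)
    (hd : blockDefect 2 B = 2) {y : G} (hy : ∃ k : ℕ, orderOf y = 2 ^ k) :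
    ∀ C : Subgroup G, C = Subgroup.centralizer ({y} : Set G) → ∀ f : Set (IrrCharacter C),
      IsInducedBlock M C f B → blockDefect 2 f = 2 → blockRank 2 f = 1 → Nat.card B = 4 := by
  rintro C rfl f hind hfd hfl
  classical
  haveI := prime_of_isPModular hM
  haveI := Fintype.ofFinite G
  have hh : ∀ θ ∈ B, blockHeight 2 B (θ : G → ℂ) = 0 := fun θ hθ =>
    height_eq_zero_of_defect_le_two hM hB (by omega) hθ
  have hcard : Nat.card {ψ : IrrCharacter G // ψ ∈ B ∧ blockHeight 2 B (ψ : G → ℂ) = 0} = Nat.card B :=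
    Nat.card_congr ⟨fun a => ⟨a.1, a.2.1⟩, fun a => ⟨a.1, a.2, hh _ a.2⟩, fun _ => rfl, fun _ => rfl⟩
  obtain ⟨t, -, hsum, hodd⟩ := exists_diag_two hM hB hy hind
  rw [hfd, hfl] at hsum
  norm_num at hsum
  rw [hfd] at hodd
  set S := B.toFinite.toFinset with hS
  have hk : Nat.card B = S.card := Nat.card_eq_card_finite_toFinset B.toFinite
  have h1 : ∀ χ ∈ S, (S.card : ℤ) ≤ 4 * t χ := fun χ hχ => by
    have hχB := B.toFinite.mem_toFinset.1 hχ
    have := (hodd χ hχB (hh χ hχB)).2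
    rw [hcard, hk] at this
    simpa using this
  have h2 : (S.card : ℤ) * S.card ≤ 16 := by
    have := Finset.sum_le_sum h1
    rw [Finset.sum_const, ← Finset.mul_sum, hsum] at this
    simpa using this
  have hpar : ((S.card : ℤ) : ZMod 2) = 0 := by
    have h3 : ((∑ χ ∈ S, t χ : ℤ) : ZMod 2) = ∑ χ ∈ S, (1 : ZMod 2) := by
      rw [Int.cast_sum]
      refine Finset.sum_congr rfl fun χ hχ => ?_
      have hχB := B.toFinite.mem_toFinset.1 hχ
      obtain ⟨c, hc⟩ := (hodd χ hχB (hh χ hχB)).1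
      rw [hc]
      push_cast
      rw [show (2 : ZMod 2) = 0 from rfl, zero_mul, zero_add]
    rw [hsum] at h3
    simp only [Finset.sum_const, nsmul_one] at h3
    push_cast at h3 ⊢
    rw [← h3]
    rfl
  have hle : (S.card : ℤ) ≤ 4 := by nlinarith
  obtain ⟨χ, hχ⟩ := isPBlock_nonempty hB
  have hpos : 0 < S.card := Finset.card_pos.2 ⟨χ, B.toFinite.mem_toFinset.2 hχ⟩
  have hne2 : S.card ≠ 2 := by
    intro h
    obtain ⟨z, -, hz, hdiv, -⟩ := exists_qRow hM hB hχ
    rw [hd] at hz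
    obtain ⟨a, b, hab, hab'⟩ := Finset.card_eq_two.1 h
    have hoddz : ∀ ψ ∈ B, ¬ (2 : ℤ) ∣ z ψ := fun ψ hψ h2 => by
      have := (hdiv ψ hψ).2
      rw [hh ψ hψ, zero_add, pow_one] at this
      exact this.1 h2 (hh χ hχ)
    rw [← hS, hab', Finset.sum_pair hab] at hz
    norm_num at hz
    have ha : a ∈ B := B.toFinite.mem_toFinset.1 (by rw [← hS, hab']; simp)
    have hb : b ∈ B := B.toFinite.mem_toFinset.1 (by rw [← hS, hab']; simp)
    obtain ⟨u, hu⟩ := Int.not_even_iff_odd.1 (fun h => hoddz a ha h.two_dvd)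
    obtain ⟨v, hv⟩ := Int.not_even_iff_odd.1 (fun h => hoddz b hb h.two_dvd)
    have : (4 : ℤ) ∣ 2 := ⟨z χ - (u * u + u + v * v + v), by rw [hu, hv] at hz; linarith⟩
    norm_num at this
  rw [hk]
  have hle' : S.card ≤ 4 := by exact_mod_cast hle
  have hpar' : 2 ∣ S.card := (ZMod.natCast_eq_zero_iff _ _).1 (by simpa using hpar)
  omega

/-- Pairs on cyclic groups and local blocks carry the same ranks. -/
theorem sum_local_eq {p : ℕ} {B : Set (IrrCharacter G)} (y : G) :
    ∀ C : Subgroup G, C = Subgroup.centralizer ({y} : Set G) →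
      ∑ f ∈ (Set.toFinite {f : Set (IrrCharacter C) | IsInducedBlock M C f B}).toFinset, blockRank p f =
        ∑ b ∈ localBlocks M y B, blockRank p b := by
  rintro C rfl
  rfl

/-- The action of the group on indexed pairs. -/
def pairAct (x : G) (Z : BrauerPairIdx G) : BrauerPairIdx G :=
  ⟨Z.1.map (MulAut.conj x).toMonoidHom, conjBlock Z.1 x Z.2⟩

theorem pairAct_mul (y x : G) (Z : BrauerPairIdx G) :
    pairAct y (pairAct x Z) = pairAct (y * x) Z :=
  conjBlock_conjBlock Z.1 x y Z.2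

variable {P : Subgroup G} {e : Set (IrrCharacter (Subgroup.centralizer (P : Set G)))}
  {B : Set (IrrCharacter G)}

theorem pairAct_of_centralizes [M.IsPrime] {Q : Subgroup G}
    (f : Set (IrrCharacter (Subgroup.centralizer (Q : Set G)))) {c : G}
    (hc : c ∈ Subgroup.centralizer (Q : Set G)) : pairAct c ⟨Q, f⟩ = ⟨Q, f⟩ :=
  idx_of_fixed (centralizer_le_normalizer' Q hc) (conjBlk_of_mem_sup (Subgroup.mem_sup_right hc))

theorem exists_rank_one [M.IsPrime] (hM : IsPModular 2 M) (hPe : IsBrauerPair 2 M P e)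
    (hd : blockDefect 2 B = 2) (hB : IsPBlock M B) (hPc : Nat.card P = 4)
    (hab : ∀ a ∈ P, ∀ b ∈ P, a * b = b * a) {q : G} (hq : q ∈ P) (hqo : orderOf q = 2)
    {f : Set (IrrCharacter CG(Subgroup.zpowers q))}
    (hle : SubpairLE 2 M (Subgroup.zpowers q) f P e)
    (hind : IsInducedBlock M CG(Subgroup.zpowers q) f B) :
    blockDefect 2 f = 2 ∧ blockRank 2 f = 1 := by
  haveI : Fact (Nat.Prime 2) := ⟨Nat.prime_two⟩
  obtain ⟨D, hD, hPD⟩ := exists_defectGroup_centralizer hM hPe hind.1 hle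
  have hPC : P ≤ CG(Subgroup.zpowers q) := fun a ha => Subgroup.mem_centralizer_iff.2 fun b hb =>
    hab b (Subgroup.zpowers_le.2 hq hb) a ha
  have hge : 4 ≤ Nat.card D := by
    refine le_trans (le_of_eq ?_) (Subgroup.card_le_of_le hPD)
    rw [Nat.card_congr (Subgroup.subgroupOfEquivOfLe inf_le_right).toEquiv,
      inf_eq_left.2 hPC, hPc]
  rw [card_defectGroup hM hind.1 hD] at hge
  have hle' := blockDefect_le_of_induced hM hind
  have hd2 : blockDefect 2 f = 2 := by
    have : 2 ^ 2 ≤ 2 ^ blockDefect 2 f := hge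
    have := (Nat.pow_le_pow_iff_right Nat.one_lt_two).1 this
    omega
  refine ⟨hd2, le_antisymm ?_ (blockRank_pos Nat.prime_two (isPBlock_nonempty hind.1))⟩
  let q' : CG(Subgroup.zpowers q) := ⟨q, hPC hq⟩
  have hcen : ∀ z : CG(Subgroup.zpowers q), q' * z = z * q' := fun z =>
    Subtype.ext (Subgroup.mem_centralizer_iff.1 z.2 q (Subgroup.mem_zpowers q))
  have hord : orderOf q' = 2 := by rw [← Subgroup.orderOf_coe]; exact hqo
  obtain ⟨Q, hQ, hQ', B', hB', hdB', -, hrank⟩ := exists_quotient_block' hM hind.1 hcen hord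
  exact hrank.trans (blockRank_le_one_of_defect_le_one hM hB' (by omega))

/-- Conjugate pairs below a maximal pair with abelian group are conjugate by its stabiliser. -/
theorem exists_stab_of_conj [M.IsPrime] {p : ℕ} [Fact p.Prime] (hM : IsPModular p M)
    (hmax : IsMaximalBrauerPair p M B P e) (hab : ∀ a ∈ P, ∀ b ∈ P, a * b = b * a)
    {TP : Subgroup G} (hTP : IsStab P TP e) {Q Q' : Subgroup G}
    {f : Set (IrrCharacter CG(Q))} {f' : Set (IrrCharacter CG(Q'))}
    (hle : SubpairLE p M Q f P e) (hle' : SubpairLE p M Q' f' P e) {g : G}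
    (hg : pairAct g ⟨Q, f⟩ = ⟨Q', f'⟩) :
    ∃ t ∈ TP, ∀ q ∈ Q, t * q * t⁻¹ = g * q * g⁻¹ := by
  have hS := hmax.1.1.1
  have hQ : Q ≤ P := SubpairLE.le hle
  have hQ'P : Q' ≤ P := SubpairLE.le hle'
  have hF := isBlockFusionSystemOn_blockSystem hM hmax
  have hsat := blockSystem_isSaturated hM hmax hF
  have hC : ∀ R : Subgroup G, R ≤ P → P ≤ FusionSystem.centralizerIn P R := fun R hR a ha =>
    ⟨ha, Subgroup.mem_centralizer_iff.2 fun b hb => hab b (hR hb) a ha⟩
  have hmap : Q.map (MulAut.conj g).toMonoidHom = Q' := congrArg Sigma.fst hg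
  have hgP : Q.map (MulAut.conj g).toMonoidHom ≤ P := hmap ▸ hQ'P
  have hgle : SubpairLE p M (Q.map (MulAut.conj g).toMonoidHom) (conjBlock Q g f) P e := by
    show Relation.ReflTransGen (NormalSubpairRel p M) (pairAct g ⟨Q, f⟩) ⟨P, e⟩
    rw [hg]
    exact hle'
  have hφ : conjHom Q g ∈ (blockSystem hM hmax).Hom Q :=
    (hF.2 Q _).2 ⟨hQ, g, fun _ => rfl, hgP, f, hle, hgle⟩
  have hmor := Cfsg.Agent.Fusion.isMor_extFun hφ
  have hiso := hmor.isIso
  set R := hmor.image Q le_rfl
  have hfc : (blockSystem hM hmax).IsFullyCentralized R := ⟨hiso.le', fun R' _ =>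
    Subgroup.card_le_of_le (Cfsg.Agent.Fusion.centralizerIn_le.trans (hC R hiso.le'))⟩
  obtain ⟨f'', hf'', he⟩ := Cfsg.Agent.Fusion.exists_extension_centralizer
    (Cfsg.Agent.Fusion.fullyCentralized_receptive hS hsat hfc) hiso
  have hP := hf''.restrict ((hC Q hQ).trans le_sup_right)
  have hi := hP.isIso_self fun a ha => hP.mem ha
  obtain ⟨y, hy⟩ : Cfsg.Agent.Fusion.autOf hi ∈ (stabAct P TP hTP.le_normalizer).range := by
    rw [← autGroup_blockSystem hM hmax hF (show SubpairLE p M P e P e from Relation.ReflTransGen.refl) hTP]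
    exact Cfsg.Agent.Fusion.autOf_mem hi
  refine ⟨y, y.2, fun q hq => ?_⟩
  have h3 := congrArg (fun a : MulAut P => ((a ⟨q, hQ hq⟩ : P) : G)) hy
  rw [Cfsg.Agent.Fusion.autOf_apply] at h3
  change (y : G) * q * (y : G)⁻¹ = f'' q at h3
  rw [h3, he q hq, Cfsg.Agent.Fusion.extFun_apply _ hq]
  rfl

/-- The automorphisms of a four-group given by a subgroup of odd order. -/
theorem card_aut_klein (hPc : Nat.card P = 4) (hexp : ∀ a ∈ P, a * a = 1) (A : Subgroup (MulAut P))
    (hodd : ¬ 2 ∣ Nat.card A) : (Nat.card A = 1 ∨ Nat.card A = 3) ∧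
      (Nat.card A = 3 → ∀ a b : P, a ≠ 1 → b ≠ 1 → ∃ α ∈ A, α a = b) := by
  classical
  have hsq : ∀ a : P, a * a = 1 := fun a => Subtype.ext (hexp a a.2)
  have hcard3 : Nat.card {x : P // x ≠ 1} = 3 := by
    haveI := Fintype.ofFinite P
    rw [Nat.card_eq_fintype_card, Fintype.card_subtype_compl, Fintype.card_subtype_eq,
      ← Nat.card_eq_fintype_card, hPc]
  let ρ : MulAut P →* Equiv.Perm {x : P // x ≠ 1} :=
    { toFun := fun α => α.toEquiv.subtypeEquiv fun a => by simp
      map_one' := Equiv.ext fun _ => rfl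
      map_mul' := fun α β => Equiv.ext fun _ => rfl }
  have hinj : Function.Injective ρ := fun α β h => MulEquiv.ext fun a => by
    by_cases ha : a = 1
    · simp [ha]
    · exact congrArg Subtype.val (Equiv.ext_iff.1 h ⟨a, ha⟩)
  have hdvd : Nat.card A ∣ 6 := by
    have h := Subgroup.card_subgroup_dvd_card (A.map ρ)
    rw [Nat.card_congr (A.equivMapOfInjective ρ hinj).toEquiv.symm, Nat.card_perm, hcard3] at h
    exact h
  have hc : Nat.card A = 1 ∨ Nat.card A = 3 := by
    have h6 : Nat.card A ∈ Nat.divisors 6 := Nat.mem_divisors.2 ⟨hdvd, by norm_num⟩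
    rw [show Nat.divisors 6 = {1, 2, 3, 6} from rfl] at h6
    simp only [Finset.mem_insert, Finset.mem_singleton] at h6
    omega
  refine ⟨hc, fun h3 a b ha hb => ?_⟩
  haveI := Fintype.ofFinite {x : P // x ≠ 1}
  -- an automorphism of order three fixes no involution
  have hfix : ∀ α ∈ A, α a = a → α = 1 := by
    intro α hα hfa
    have hα3 : α ^ 3 = 1 := by
      have := pow_card_eq_one' (x := (⟨α, hα⟩ : A))
      rw [h3] at this
      exact congrArg Subtype.val this
    refine MulEquiv.ext fun r => ?_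
    show α r = r
    by_contra hr
    have hr1 : r ≠ 1 := fun h => hr (by rw [h, map_one])
    have hra : r ≠ a := fun h => hr (by rw [h, hfa])
    -- the three involutions
    have hall : ∀ x : P, x ≠ 1 → x = a ∨ x = r ∨ x = a * r := by
      intro x hx
      have har : a * r ≠ 1 := fun h => hra (by
        have := congrArg (a * ·) h
        rw [← mul_assoc, hsq, one_mul, mul_one] at this
        exact this)
      by_contra hh
      push Not at hh
      have h4 : ({⟨a, ha⟩, ⟨r, hr1⟩, ⟨a * r, har⟩, ⟨x, hx⟩} : Finset {x : P // x ≠ 1}).card ≤ 3 :=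
        hcard3 ▸ (Finset.card_le_univ _).trans (le_of_eq Nat.card_eq_fintype_card.symm)
      rw [Finset.card_insert_of_notMem, Finset.card_insert_of_notMem, Finset.card_insert_of_notMem,
        Finset.card_singleton] at h4
      · omega
      · simp [Ne.symm hh.2.2]
      · simp [Ne.symm hh.2.1, ha]
      · simp [Ne.symm hh.1, Ne.symm hra, hr1]
    have hαr1 : α r ≠ 1 := fun h => hr1 (α.injective (h.trans (map_one α).symm))
    rcases hall _ hαr1 with h | h | h
    · exact hra (α.injective (h.trans hfa.symm))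
    · exact hr h
    · have h2 : α (α r) = r := by rw [h, map_mul, hfa, h, ← mul_assoc, hsq, one_mul]
      have h5 : (α ^ 3) r = α r := by
        show α (α (α r)) = α r
        rw [h2]
      rw [hα3] at h5
      exact hr h5.symm
  let F : A → {x : P // x ≠ 1} := fun α => ⟨(α : MulAut P) a, fun h =>
    ha ((α : MulAut P).injective (h.trans (map_one (α : MulAut P)).symm))⟩
  have hF : Function.Injective F := fun α β h => by
    have h' : (α : MulAut P) a = (β : MulAut P) a := congrArg Subtype.val h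
    have := hfix ((α : MulAut P)⁻¹ * β) (A.mul_mem (A.inv_mem α.2) β.2) (by
      show (α : MulAut P).symm ((β : MulAut P) a) = a
      rw [← h', MulEquiv.symm_apply_apply])
    exact Subtype.ext (inv_mul_eq_one.1 this)
  obtain ⟨α, hα⟩ := ((Function.Injective.bijective_of_nat_card_le hF (by rw [hcard3, h3])).2 ⟨b, hb⟩)
  exact ⟨α, α.2, congrArg Subtype.val hα⟩

/-- Blocks with a Klein four defect group. -/
theorem klein_defect_block [M.IsPrime] (hM : IsPModular 2 M) (hB : IsPBlock M B)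
    (hPD : IsDefectGroup 2 M B P) (hPc : Nat.card P = 4) (hexp : ∀ a ∈ P, a * a = 1)
    (hc : IsInducedBlock M CG(P) e B) {T : Subgroup G} (hT : IsStab P T e) :
    (CG(P).relIndex T = 1 ∨ CG(P).relIndex T = 3) ∧ Nat.card B = 4 ∧
      blockRank 2 B = CG(P).relIndex T := by
  classical
  haveI : Fact (Nat.Prime 2) := ⟨Nat.prime_two⟩
  have hab : ∀ a ∈ P, ∀ b ∈ P, a * b = b * a := fun a ha b hb => by
    have h := hexp _ (mul_mem ha hb)
    have e1 : a⁻¹ = a := inv_eq_of_mul_eq_one_right (hexp a ha)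
    have e2 : b⁻¹ = b := inv_eq_of_mul_eq_one_right (hexp b hb)
    calc a * b = (a * b)⁻¹ := (inv_eq_of_mul_eq_one_right h).symm
      _ = b * a := by rw [mul_inv_rev, e1, e2]
  have hPC : P ≤ CG(P) := fun a ha => Subgroup.mem_centralizer_iff.2 fun b hb => hab b hb a ha
  have hP2 : IsPGroup 2 P := IsPGroup.of_card (n := 2) (by rw [hPc]; norm_num)
  have hpairP : IsBrauerPairOf 2 M B P e :=
    ⟨⟨hP2, hc.1⟩, hB, (isInducedBlock_iff_brauerOmega hM hP2 hPC hB hc.1).1 hc⟩
  have hmax := isMaximal_of_defectGroup hM hpairP hPD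
  have hd : blockDefect 2 B = 2 := by
    have h := card_defectGroup hM hB hPD
    rw [hPc] at h
    exact (Nat.pow_right_injective (le_refl 2) (h.symm.trans (by norm_num) : 2 ^ blockDefect 2 B = 2 ^ 2))
  -- the inertial index
  obtain ⟨FT, hFT⟩ := hT.exists_block hM hpairP.1
  obtain ⟨hPT, D, hD, hPD'⟩ := exists_defectGroup_normalizerIn hM hpairP.1
    (show SubpairLE 2 M P e P e from Relation.ReflTransGen.refl) hT hFT
  obtain ⟨x, hx, hDle⟩ := exists_card_normalizerIn_ge hM hmax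
    (show SubpairLE 2 M P e P e from Relation.ReflTransGen.refl) hT hFT hD
  have hPN : P ⊓ Subgroup.normalizer (P : Set G) = P := inf_eq_left.2 Subgroup.le_normalizer
  rw [hPN] at hPT hPD'
  have hDeq : D = P.subgroupOf T := (Subgroup.eq_of_le_of_card_ge hPD' (by
    rw [Nat.card_congr (Subgroup.subgroupOfEquivOfLe hPT).toEquiv]
    exact hDle.trans (Subgroup.card_le_of_le inf_le_left))).symm
  have hDbot : D.map (stabAct P T hT.le_normalizer) = ⊥ := by
    rw [Subgroup.map_eq_bot_iff, hDeq]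
    exact fun t ht => MonoidHom.mem_ker.2 ((stabAct_eq_one_iff t).2 (hPC (Subgroup.mem_subgroupOf.1 ht)))
  set A := (stabAct P T hT.le_normalizer).range with hA
  have hAc : Nat.card A = CG(P).relIndex T := by
    rw [hA, ← Subgroup.index_ker]
    congr 1
    ext t
    rw [MonoidHom.mem_ker, stabAct_eq_one_iff, Subgroup.mem_subgroupOf]
  have hodd : ¬ 2 ∣ Nat.card A := by
    have h := not_dvd_relIndex_stabAct hM hT hc.1 hFT hD
    rwa [hDbot, Subgroup.relIndex_bot_left] at h
  obtain ⟨he13, htrans⟩ := card_aut_klein hPc hexp A hodd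
  rw [← hAc]
  refine ⟨he13, ?_⟩
  -- the pairs below the maximal pair
  have hord : ∀ q ∈ P, q ≠ 1 → orderOf q = 2 := fun q hq hq1 =>
    orderOf_eq_prime (by rw [pow_two, hexp q hq]) hq1
  have hZle : ∀ q ∈ P, Subgroup.zpowers q ≤ P := fun q hq => Subgroup.zpowers_le.2 hq
  have hsub : ∀ q ∈ P, ∃ f : Set (IrrCharacter CG(Subgroup.zpowers q)),
      SubpairLE 2 M (Subgroup.zpowers q) f P e := fun q hq =>
    (existsUnique_subpair hM P e hpairP.1 _ (hZle q hq)).exists
  choose fq hfq using hsub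
  have hfind : ∀ q (hq : q ∈ P), IsInducedBlock M CG(Subgroup.zpowers q) (fq q hq) B := fun q hq => by
    have h := (SubpairLE.pairOf_iff hM (hfq q hq) B).1 hpairP
    exact (isInducedBlock_iff_brauerOmega hM h.1.1 (zpowers_le_centralizer_zpowers q) hB h.1.2).2 h.2.2
  haveI : Nontrivial P := Finite.one_lt_card_iff_nontrivial.1 (by rw [hPc]; norm_num)
  obtain ⟨q₀, hq₀1⟩ := exists_ne (1 : P)
  have hq₀ : (q₀ : G) ∈ P := q₀.2
  have hq₀ne : (q₀ : G) ≠ 1 := fun h => hq₀1 (Subtype.ext h)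
  have hq₀o := hord q₀ hq₀ hq₀ne
  have hq₀k : ∃ k : ℕ, orderOf (q₀ : G) = 2 ^ k := ⟨1, by rw [hq₀o, pow_one]⟩
  obtain ⟨hf₀d, hf₀l⟩ := exists_rank_one hM hpairP.1 hd hB hPc hab hq₀ hq₀o (hfq q₀ hq₀) (hfind q₀ hq₀)
  have hk : Nat.card B = 4 :=
    card_eq_four_of_major hM hB hd hq₀k _ (centralizer_zpowers (q₀ : G)) _ (hfind q₀ hq₀) hf₀d hf₀l
  refine ⟨hk, ?_⟩
  obtain ⟨X, h1X, hqX, hX, hXrep⟩ := exists_reps_pair Nat.prime_two hq₀k hq₀ne
  -- the local pairs
  let L : ∀ y : G, Finset (Set (IrrCharacter CG(Subgroup.zpowers y))) := fun y =>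
    (Set.toFinite {f : Set (IrrCharacter CG(Subgroup.zpowers y)) |
      IsInducedBlock M CG(Subgroup.zpowers y) f B}).toFinset
  have hLmem : ∀ y f, f ∈ L y ↔ IsInducedBlock M CG(Subgroup.zpowers y) f B := fun y f =>
    Set.Finite.mem_toFinset _
  let S := (X.erase 1).sigma L
  have hsum : Nat.card B = blockRank 2 B + ∑ z ∈ S, blockRank 2 z.2 := by
    rw [card_block_eq_sum hM hB X hX hXrep, ← Finset.add_sum_erase _ _ h1X,
      sum_localBlocks_one hM hB, Finset.sum_sigma]
    congr 1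
    exact Finset.sum_congr rfl fun y _ => (sum_local_eq y _ (centralizer_zpowers y)).symm
  have hpair : ∀ z ∈ S, IsBrauerPairOf 2 M B (Subgroup.zpowers z.1) z.2 := fun z hz => by
    obtain ⟨hz1, hz2⟩ := Finset.mem_sigma.1 hz
    have hind := (hLmem _ _).1 hz2
    have h2 := isPGroup_zpowers_of_orderOf (hX _ (Finset.mem_of_mem_erase hz1))
    exact ⟨⟨h2, hind.1⟩, hB,
      (isInducedBlock_iff_brauerOmega hM h2 (zpowers_le_centralizer_zpowers _) hB hind.1).1 hind⟩
  -- pairs of elements of order two determine the elements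
  have hgen : ∀ a b : G, orderOf a = 2 → b ≠ 1 → b ∈ Subgroup.zpowers a → b = a := by
    intro a b ha hb1 hb
    obtain ⟨i, rfl⟩ := hb
    dsimp only at hb1 ⊢
    rcases Int.even_or_odd i with ⟨j, rfl⟩ | ⟨j, rfl⟩
    · exact absurd (by rw [← two_mul, zpow_mul, zpow_two, ← pow_two, ← ha, pow_orderOf_eq_one, one_zpow]) hb1
    · rw [zpow_add, zpow_mul, zpow_two, ← pow_two, ← ha, pow_orderOf_eq_one, one_zpow, one_mul, zpow_one]
  -- an injection from the involutions in the case of trivial action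
  have hto : ∀ q : {x : P // x ≠ 1}, ∃ z ∈ S, ∃ g : G,
      pairAct g ⟨Subgroup.zpowers z.1, z.2⟩ = ⟨Subgroup.zpowers ((q.1 : P) : G), fq _ q.1.2⟩ := by
    intro q
    have hqne : ((q.1 : P) : G) ≠ 1 := fun h => q.2 (Subtype.ext h)
    obtain ⟨y, ⟨hyX, hconj⟩, -⟩ := hXrep ((q.1 : P) : G) ⟨1, by rw [hord _ q.1.2 hqne, pow_one]⟩
    obtain ⟨w, hw⟩ := isConj_iff.1 hconj
    have hy1 : y ≠ 1 := by
      rintro rfl
      exact hqne (conj_eq_one_iff.1 hw)
    have hmap : (Subgroup.zpowers ((q.1 : P) : G)).map (MulAut.conj w).toMonoidHom = Subgroup.zpowers y := by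
      rw [MonoidHom.map_zpowers]
      congr 1
    obtain ⟨k, hk'⟩ := exists_idx_eq (conjBlock _ w (fq _ q.1.2)) hmap.symm
    have hpk : IsBrauerPairOf 2 M B (Subgroup.zpowers y) k := by
      have h := IsBrauerPairOf.conj ((SubpairLE.pairOf_iff hM (hfq _ q.1.2) B).1 hpairP) w
      have e1 : IsBrauerPairOf 2 M B (pairAct w ⟨Subgroup.zpowers ((q.1 : P) : G), fq _ q.1.2⟩).1
          (pairAct w ⟨Subgroup.zpowers ((q.1 : P) : G), fq _ q.1.2⟩).2 := h
      rw [show pairAct w ⟨Subgroup.zpowers ((q.1 : P) : G), fq _ q.1.2⟩ = ⟨Subgroup.zpowers y, k⟩ from hk'.symm] at e1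
      exact e1
    refine ⟨⟨y, k⟩, Finset.mem_sigma.2 ⟨Finset.mem_erase.2 ⟨hy1, hyX⟩, (hLmem _ _).2
      ((isInducedBlock_iff_brauerOmega hM hpk.1.1 (zpowers_le_centralizer_zpowers _) hB hpk.1.2).2 hpk.2.2)⟩,
      w⁻¹, ?_⟩
    rw [hk']
    show pairAct w⁻¹ (pairAct w ⟨_, fq _ q.1.2⟩) = _
    rw [pairAct_mul, inv_mul_cancel]
    exact pairAct_of_centralizes (M := M) _ (one_mem _)
  have hposB := blockRank_pos Nat.prime_two (isPBlock_nonempty hB) (p := 2)
  have hposS : ∀ z ∈ S, 1 ≤ blockRank 2 z.2 := fun z hz =>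
    blockRank_pos Nat.prime_two (isPBlock_nonempty (hpair z hz).1.2)
  rcases he13 with h1 | h3
  · -- trivial action: three subsections
    choose Φ hΦS g hg using hto
    have hinj : Function.Injective fun q => (⟨Φ q, hΦS q⟩ : S) := by
      intro q q' h
      have hz : Φ q = Φ q' := congrArg Subtype.val h
      have hg' : pairAct (g q' * (g q)⁻¹) ⟨Subgroup.zpowers ((q.1 : P) : G), fq _ q.1.2⟩ =
          ⟨Subgroup.zpowers ((q'.1 : P) : G), fq _ q'.1.2⟩ := by
        rw [← hg q, pairAct_mul, mul_assoc, inv_mul_cancel, mul_one, hz, hg q']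
      obtain ⟨t, ht, hts⟩ := exists_stab_of_conj hM hmax hab hT (hfq _ q.1.2) (hfq _ q'.1.2) hg'
      have htC : t ∈ CG(P) := by
        have := Subgroup.relIndex_eq_one.1 (hAc ▸ h1) ht
        exact this
      have hqq := hts _ (Subgroup.mem_zpowers _)
      rw [show t * ((q.1 : P) : G) * t⁻¹ = ((q.1 : P) : G) by
        rw [← Subgroup.mem_centralizer_iff.1 htC _ q.1.2, mul_inv_cancel_right]] at hqq
      have hmem : ((q.1 : P) : G) ∈ Subgroup.zpowers ((q'.1 : P) : G) := by
        have h2 : (Subgroup.zpowers ((q.1 : P) : G)).map (MulAut.conj (g q' * (g q)⁻¹)).toMonoidHom =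
            Subgroup.zpowers ((q'.1 : P) : G) := congrArg Sigma.fst hg'
        rw [← h2]
        exact ⟨_, Subgroup.mem_zpowers _, hqq.symm⟩
      exact Subtype.ext (Subtype.ext (hgen _ _ (hord _ q'.1.2 fun h => q'.2 (Subtype.ext h))
        (fun h => q.2 (Subtype.ext h)) hmem))
    have h3 : 3 ≤ S.card := by
      have h := Nat.card_le_card_of_injective _ hinj
      rw [Nat.card_eq_finsetCard] at h
      refine le_trans (le_of_eq ?_) h
      haveI := Fintype.ofFinite P
      rw [Nat.card_eq_fintype_card, Fintype.card_subtype_compl, Fintype.card_subtype_eq,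
        ← Nat.card_eq_fintype_card, hPc]
    have hge : S.card ≤ ∑ z ∈ S, blockRank 2 z.2 := by
      rw [Finset.card_eq_sum_ones]
      exact Finset.sum_le_sum hposS
    rw [h1]
    omega
  · -- transitive action: one subsection
    have hz₀ : (⟨(q₀ : G), fq _ hq₀⟩ : Σ y : G, Set (IrrCharacter CG(Subgroup.zpowers y))) ∈ S :=
      Finset.mem_sigma.2 ⟨Finset.mem_erase.2 ⟨hq₀ne, hqX⟩, (hLmem _ _).2 (hfind _ hq₀)⟩
    have honly : ∀ z ∈ S, z = ⟨(q₀ : G), fq _ hq₀⟩ := by
      rintro ⟨y, k⟩ hz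
      obtain ⟨x, hx⟩ := exists_conj_le_maximal hM hmax (hpair _ hz)
      have hy1 : y ≠ 1 := Finset.ne_of_mem_erase (Finset.mem_sigma.1 hz).1
      have hyX := Finset.mem_of_mem_erase (Finset.mem_sigma.1 hz).1
      set q := x * y * x⁻¹ with hq
      have hqne : q ≠ 1 := fun h => hy1 (conj_eq_one_iff.1 h)
      have hqP : q ∈ P := SubpairLE.le hx ⟨y, Subgroup.mem_zpowers y, rfl⟩
      obtain ⟨α, ⟨t, rfl⟩, htq⟩ := htrans h3 ⟨q, hqP⟩ ⟨q₀, hq₀⟩ (fun h => hqne (congrArg Subtype.val h))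
        (fun h => hq₀ne (congrArg Subtype.val h))
      have htq' : (t : G) * q * (t : G)⁻¹ = q₀ := congrArg Subtype.val htq
      -- the conjugated pair
      have hfix : pairAct (t : G) ⟨P, e⟩ = ⟨P, e⟩ :=
        idx_of_fixed (hT.le_normalizer t.2) (hT.fixed hc.1 _ t.2)
      have hle : Relation.ReflTransGen (NormalSubpairRel 2 M)
          (pairAct (t : G) (pairAct x ⟨Subgroup.zpowers y, k⟩)) ⟨P, e⟩ := by
        rw [← hfix]
        exact SubpairLE.conj hx (t : G)
      rw [pairAct_mul] at hle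
      have hmap : (Subgroup.zpowers y).map (MulAut.conj ((t : G) * x)).toMonoidHom = Subgroup.zpowers (q₀ : G) := by
        rw [MonoidHom.map_zpowers]
        congr 1
        rw [← htq', hq]
        show (t : G) * x * y * ((t : G) * x)⁻¹ = _
        group
      obtain ⟨k', hk'⟩ := exists_idx_eq (conjBlock _ ((t : G) * x) k) hmap.symm
      have hk'le : SubpairLE 2 M (Subgroup.zpowers (q₀ : G)) k' P e := by
        show Relation.ReflTransGen (NormalSubpairRel 2 M) ⟨_, k'⟩ ⟨P, e⟩
        rw [hk']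
        exact hle
      obtain rfl : k' = fq _ hq₀ :=
        (existsUnique_subpair hM P e hpairP.1 _ (hZle _ hq₀)).unique hk'le (hfq _ hq₀)
      have hyq : y = (q₀ : G) := by
        have hcj : IsConj (q₀ : G) y := isConj_iff.2 ⟨((t : G) * x)⁻¹, by
          rw [← htq', hq]; group⟩
        obtain ⟨r, -, hr⟩ := hXrep (q₀ : G) hq₀k
        exact (hr y ⟨hyX, hcj⟩).trans (hr (q₀ : G) ⟨hqX, IsConj.refl _⟩).symm
      subst hyq
      have htx : (t : G) * x ∈ CG(Subgroup.zpowers (q₀ : G)) := by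
        rw [centralizer_zpowers, Subgroup.mem_centralizer_singleton_iff]
        have e2 : (t : G) * x * q₀ * ((t : G) * x)⁻¹ = q₀ := by
          conv_rhs => rw [← htq', hq]
          group
        exact mul_inv_eq_iff_eq_mul.1 e2
      have hE : (⟨Subgroup.zpowers (q₀ : G), fq _ hq₀⟩ : BrauerPairIdx G) = ⟨_, k⟩ :=
        hk'.trans (pairAct_of_centralizes (M := M) k htx)
      exact congrArg (Sigma.mk (q₀ : G)) (eq_of_heq (Sigma.mk.inj hE).2).symm
    have hS1 : S = {⟨(q₀ : G), fq _ hq₀⟩} := Finset.eq_singleton_iff_unique_mem.2 ⟨hz₀, honly⟩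
    rw [hS1, Finset.sum_singleton, hf₀l, hk] at hsum
    rw [h3]
    omega

end Cfsg.Agent.Block
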