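import Cfsg.Agent.Lib.Block.Columns
import Cfsg.Agent.Lib.Block.Induced
import Cfsg.Agent.Lib.Block.CompBlock
import Cfsg.Agent.Lib.Block.ChainToggle
import Cfsg.Agent.Lib.Block.Glauberman

/-!
# The alternating sum of `k - l` over chains of `p`-subgroups
-/

set_option autoImplicit false
set_option linter.style.haveILetI false
set_option linter.unusedSectionVars false

open Cfsg.Agent.Char
open scoped Classical ComplexConjugate

namespace Cfsg.Agent.Block.KR

universe u

variable {G : Type u} [Group G] [Finite G] {M : Ideal AlgInt} {p : ℕ}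

/-- The central character induced along a homomorphism. -/
noncomputable def indF {X : Type u} [Group X] [Finite X] (f : X →* G) (ψ : X → ℂ) (g : G) : ℂ :=
  omega ψ (resHom f (classSum g))

/-- The characters whose block induces `b` along `f`. -/
def indSet (M : Ideal AlgInt) {X : Type u} [Group X] [Finite X] (f : X →* G) (b : Set (IrrCharacter G)) :
    Set (IrrCharacter X) :=
  {ψ | ∀ χ ∈ b, ∀ g : G, MemLocalIdeal M (indF f (ψ : X → ℂ) g - centralChar (χ : G → ℂ) g)}

/-- The sum of `|ψ x| ^ 2` over regular `x` and characters of blocks inducing `b`. -/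
noncomputable def regDiag (M : Ideal AlgInt) (p : ℕ) {X : Type u} [Group X] [Finite X] (f : X →* G)
    (b : Set (IrrCharacter G)) : ℂ :=
  haveI := Fintype.ofFinite X
  ∑ x : X, if p ∣ orderOf x then 0 else blockKernel (indSet M f b) x x

theorem indF_subtype (H : Subgroup G) (ξ : H → ℂ) (g : G) :
    indF H.subtype ξ g = inducedCentralChar H ξ g := by
  rw [inducedCentralChar_eq_omega, indF]
  refine congrArg (omega ξ) (MonoidAlgebra.ext (Finsupp.ext fun h => ?_))
  simp [resHom, resH]

section Sets

variable [M.IsPrime] {X : Type u} [Group X] [Finite X] {f : X →* G} {b : Set (IrrCharacter G)}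

theorem mem_indSet_congr {ψ ψ' : IrrCharacter X} (h : SameBlock M (ψ' : X → ℂ) (ψ : X → ℂ))
    (hψ : ψ ∈ indSet M f b) : ψ' ∈ indSet M f b := fun χ hχ g => by
  have h1 := omega_congr h (isCentralElt_resHom f (CL.classSum (M := M) g).1)
    (isLocElt_resHom f (isLocElt_classSum g))
  have := memLocalIdeal_add h1 (hψ χ hχ g)
  convert this using 1
  simp only [indF]
  ring

theorem subset_indSet_of_mem {β : Set (IrrCharacter X)} (hβ : IsPBlock M β) {ψ : IrrCharacter X}
    (h : ψ ∈ β) (hψ : ψ ∈ indSet M f b) : β ⊆ indSet M f b :=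
  fun _ h' => mem_indSet_congr (isPBlock_sameBlock hβ h' h) hψ

/-- The blocks contained in a union of blocks. -/
noncomputable def blocksIn (M : Ideal AlgInt) (U : Set (IrrCharacter X)) : Finset (Set (IrrCharacter X)) :=
  U.toFinite.toFinset.image fun ψ : IrrCharacter X => blockOf M (ψ : X → ℂ)

theorem mem_blocksIn {β : Set (IrrCharacter X)} :
    β ∈ blocksIn M (indSet M f b) ↔ IsPBlock M β ∧ β ⊆ indSet M f b := by
  simp only [blocksIn, Finset.mem_image, Set.Finite.mem_toFinset]
  constructor
  · rintro ⟨ψ, hψ, rfl⟩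
    exact ⟨isPBlock_blockOf ψ, subset_indSet_of_mem (isPBlock_blockOf ψ) (self_mem_blockOf ψ) hψ⟩
  · rintro ⟨hβ, hsub⟩
    obtain ⟨ψ, hψ⟩ := isPBlock_nonempty hβ
    exact ⟨ψ, hsub hψ, (isPBlock_eq_blockOf hβ hψ).symm⟩

theorem blockKernel_indSet (x y : X) :
    blockKernel (indSet M f b) x y = ∑ β ∈ blocksIn M (indSet M f b), blockKernel β x y := by
  simp only [blockKernel, finsum_mem_eq_finite_toFinset_sum _ (Set.toFinite _)]
  rw [← Finset.sum_biUnion]
  · refine Finset.sum_congr (Finset.ext fun ψ => ?_) fun _ _ => rfl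
    simp only [Set.Finite.mem_toFinset, Finset.mem_biUnion, mem_blocksIn]
    exact ⟨fun h => ⟨_, ⟨isPBlock_blockOf ψ,
      subset_indSet_of_mem (isPBlock_blockOf ψ) (self_mem_blockOf ψ) h⟩, self_mem_blockOf ψ⟩,
      fun ⟨β, ⟨_, hsub⟩, h⟩ => hsub h⟩
  · intro β hβ β' hβ' hne
    refine Finset.disjoint_left.2 fun ψ h h' => hne ?_
    simp only [Set.Finite.mem_toFinset] at h h'
    exact isPBlock_eq_of_mem (mem_blocksIn.1 hβ).1 (mem_blocksIn.1 hβ').1 h h'

theorem blockKernel_indSet_eq_zero (hM : IsPModular p M) {x y : X}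
    (h : ¬(p ∣ orderOf x ↔ p ∣ orderOf y)) : blockKernel (indSet M f b) x y = 0 := by
  rw [blockKernel_indSet]
  exact Finset.sum_eq_zero fun β hβ => blockKernel_eq_zero hM (mem_blocksIn.1 hβ).1 h

end Sets

/-- The rank of a set of characters whose kernel separates regular and singular elements. -/
theorem card_mul_blockRank_of_separated {X : Type u} [Group X] [Fintype X] {p : ℕ}
    {B : Set (IrrCharacter X)}
    (hz : ∀ x y : X, ¬(p ∣ orderOf x ↔ p ∣ orderOf y) → blockKernel B x y = 0) :
    (Nat.card X : ℂ) * (blockRank p B : ℂ) = ∑ x : X, if p ∣ orderOf x then 0 else blockKernel B x x := by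
  have hG : (Nat.card X : ℂ) ≠ 0 := by simp [Nat.card_eq_fintype_card]
  set W := Submodule.span ℂ ((fun χ : IrrCharacter X => pRegularPart p (χ : X → ℂ)) '' B) with hW
  let P : (X → ℂ) →ₗ[ℂ] (X → ℂ) :=
    { toFun := fun f x => if p ∣ orderOf x then 0 else
        (Nat.card X : ℂ)⁻¹ * ∑ y, (if p ∣ orderOf y then 0 else f y) * blockKernel B x y
      map_add' := fun f f' => by
        funext x
        simp only [Pi.add_apply]
        split
        · simp
        · rw [← mul_add, ← Finset.sum_add_distrib]
          congr 1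
          exact Finset.sum_congr rfl fun y _ => by split <;> ring
      map_smul' := fun c f => by
        funext x
        simp only [Pi.smul_apply, smul_eq_mul, RingHom.id_apply]
        split
        · simp
        · rw [mul_left_comm c]
          congr 1
          rw [Finset.mul_sum]
          exact Finset.sum_congr rfl fun y _ => by split <;> ring }
  have hP : ∀ f x, P f x = if p ∣ orderOf x then 0 else
      (Nat.card X : ℂ)⁻¹ * ∑ y, (if p ∣ orderOf y then 0 else f y) * blockKernel B x y := fun _ _ => rfl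
  have hmem : ∀ f, P f ∈ W := fun f => by
    have : P f = ∑ χ ∈ B.toFinite.toFinset,
        classInner (fun y => if p ∣ orderOf y then 0 else f y) (χ : X → ℂ) •
          pRegularPart p (χ : X → ℂ) := by
      funext x
      rw [hP, ← blockPart_eq_sum]
      simp only [Finset.sum_apply, Pi.smul_apply, smul_eq_mul, pRegularPart_apply, blockPart,
        finsum_mem_eq_finite_toFinset_sum _ B.toFinite]
      split
      · simp
      · refine Finset.sum_congr rfl fun χ _ => ?_
        congr 2
        exact Subsingleton.elim _ _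
    rw [this]
    exact W.sum_mem fun χ hχ => W.smul_mem _ (Submodule.subset_span ⟨χ, B.toFinite.mem_toFinset.1 hχ, rfl⟩)
  have hfix : ∀ f ∈ W, P f = f := by
    intro f hf
    induction hf using Submodule.span_induction with
    | mem f hf =>
      obtain ⟨χ, hχ, rfl⟩ := hf
      funext x
      rw [hP]
      simp only [pRegularPart_apply]
      split
      · rfl
      next hx =>
        have h := sum_mul_blockKernel B χ x
        rw [if_pos hχ] at h
        rw [inv_mul_eq_iff_eq_mul₀ hG, ← h]
        refine Finset.sum_congr rfl fun y _ => ?_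
        split
        next hy => simp [hz x y (fun e => hx (e.2 hy))]
        · rfl
    | zero => simp
    | add f f' _ _ h h' => rw [map_add, h, h']
    | smul c f _ h => rw [map_smul, h]
  have htr : LinearMap.trace ℂ (X → ℂ) P = (Module.finrank ℂ W : ℂ) :=
    (LinearMap.IsProj.mk hmem hfix).trace
  rw [blockRank, ← hW, ← htr, LinearMap.trace_eq_matrix_trace ℂ (Pi.basisFun ℂ X), Matrix.trace,
    Finset.mul_sum]
  refine Finset.sum_congr rfl fun x _ => ?_
  rw [Matrix.diag_apply, LinearMap.toMatrix_apply, Pi.basisFun_repr, hP]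
  by_cases hx : p ∣ orderOf x
  · simp [hx]
  · rw [if_neg hx, if_neg hx, Finset.sum_eq_single x]
    · simp [hx, mul_inv_cancel_left₀ hG]
    · intro y _ hy
      simp [hy]
    · simp

section Main

variable [M.IsPrime] {X : Type u} [Group X] [Finite X] {f : X →* G} {b : Set (IrrCharacter G)}

/-- Induction in stages, as a congruence. -/
theorem indF_trans {C : Subgroup X} {γ : Set (IrrCharacter C)}
    {β : Set (IrrCharacter X)} (hind : IsInducedBlock M C γ β) {ψ : IrrCharacter C} (hψ : ψ ∈ γ)
    {η : IrrCharacter X} (hη : η ∈ β) (g : G) :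
    MemLocalIdeal M (indF (f.comp C.subtype) (ψ : C → ℂ) g - indF f (η : X → ℂ) g) := by
  haveI := Fintype.ofFinite X
  haveI := Fintype.ofFinite C
  haveI := Fintype.ofFinite (ConjClasses X)
  have hc : IsCentralElt (resHom f (classSum g)) := isCentralElt_resHom f (CL.classSum (M := M) g).1
  have hl : IsLocElt M (resHom f (classSum g)) := isLocElt_resHom f (isLocElt_classSum g)
  simp only [indF]
  rw [omega_eq_sum_classes η hc, omega_eq_sum, Finset.sum_div]
  simp only [mul_div_assoc]
  have e : ∀ c : C, (resHom (f.comp C.subtype) (classSum g)).coeff c =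
      (resHom f (classSum g)).coeff (c : X) := fun c => by simp [resHom]
  rw [Finset.sum_congr rfl fun c _ => by rw [e c],
    sum_subgroup_eq_inducedCentralChar C (a := fun x => (resHom f (classSum g)).coeff x)
      (fun x t => hc x t), ← Finset.sum_sub_distrib]
  refine memLocalIdeal_sum _ _ fun K _ => ?_
  rw [← mul_sub]
  exact memLocalIdeal_mul_left (hl _) (hind.2.2 ψ hψ η hη _)

/-- The section of a `p`-element as the regular diagonal of its centralizer. -/
theorem sectionDiag_indSet [Fintype X] (hM : IsPModular p M) (hb : IsPBlock M b) {y : X}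
    (hy : ∃ k : ℕ, orderOf y = p ^ k) :
    sectionDiag p (indSet M f b) y =
      regDiag M p (f.comp (Subgroup.centralizer ({y} : Set X)).subtype) b := by
  set C := Subgroup.centralizer ({y} : Set X)
  haveI := Fintype.ofFinite C
  obtain ⟨χ₀, hχ₀⟩ := isPBlock_nonempty hb
  have h1 : sectionDiag p (indSet M f b) y = ∑ β ∈ blocksIn M (indSet M f b), sectionDiag p β y := by
    simp only [sectionDiag]
    rw [Finset.sum_comm]
    refine Finset.sum_congr rfl fun g _ => ?_
    split
    · rw [blockKernel_indSet]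
    · simp
  rw [h1, Finset.sum_congr rfl fun β hβ => sectionDiag_eq hM (mem_blocksIn.1 hβ).1 hy]
  have hdisj : (↑(blocksIn M (indSet M f b)) : Set (Set (IrrCharacter X))).PairwiseDisjoint
      fun β => localBlocks M y β := by
    intro β hβ β' hβ' hne
    refine Finset.disjoint_left.2 fun γ h h' => hne ?_
    have h := mem_localBlocks.1 h
    have h' := mem_localBlocks.1 h'
    obtain ⟨ψ, hψ⟩ := isPBlock_nonempty h.1
    obtain ⟨η, hη⟩ := isPBlock_nonempty h.2.1
    obtain ⟨η', hη'⟩ := isPBlock_nonempty h'.2.1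
    refine isPBlock_eq_of_mem h.2.1 h'.2.1 hη ?_
    refine (isPBlock_mem_iff h'.2.1 hη').2 (mem_blockOf.2 fun g => ?_)
    show MemLocalIdeal M (centralChar (η' : X → ℂ) g - centralChar (η : X → ℂ) g)
    have := memLocalIdeal_sub (h.2.2 ψ hψ η hη g) (h'.2.2 ψ hψ η' hη' g)
    convert this using 1
    ring
  have hunion : (blocksIn M (indSet M f b)).biUnion (fun β => localBlocks M y β) =
      blocksIn M (indSet M (f.comp C.subtype) b) := by
    ext γ
    simp only [Finset.mem_biUnion, mem_localBlocks, mem_blocksIn]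
    constructor
    · rintro ⟨β, ⟨-, hβs⟩, hind⟩
      refine ⟨hind.1, fun ψ hψ χ hχ g => ?_⟩
      obtain ⟨η, hη⟩ := isPBlock_nonempty hind.2.1
      have := memLocalIdeal_add (indF_trans (f := f) hind hψ hη g) (hβs hη χ hχ g)
      convert this using 1
      ring
    · rintro ⟨hγ, hγs⟩
      obtain ⟨β, hind⟩ := inducedBlockDefined_centralizer hM hy hγ
      obtain ⟨ψ, hψ⟩ := isPBlock_nonempty hγ
      refine ⟨β, ⟨hind.2.1, fun η hη χ hχ g => ?_⟩, hind⟩
      have := memLocalIdeal_sub (hγs hψ χ hχ g) (indF_trans (f := f) hind hψ hη g)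
      convert this using 1
      ring
  rw [← Finset.mul_sum, ← Finset.sum_biUnion hdisj, hunion, Finset.mul_sum,
    Finset.sum_congr rfl fun γ hγ => card_mul_blockRank hM (mem_blocksIn.1 hγ).1, Finset.sum_comm]
  simp only [regDiag]
  refine Finset.sum_congr (Finset.ext fun _ => by simp) fun x _ => ?_
  split
  · simp
  · rw [blockKernel_indSet]

/-- The singular sections of a union of blocks. -/
theorem card_sub_rank_eq [Fintype X] (hM : IsPModular p M) (hb : IsPBlock M b) :
    (Nat.card X : ℂ) * ((Nat.card (indSet M f b) : ℂ) - (blockRank p (indSet M f b) : ℂ)) =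
      ∑ y ∈ Finset.univ.filter (fun y : X => y ≠ 1 ∧ ∃ k : ℕ, orderOf y = p ^ k),
        regDiag M p (f.comp (Subgroup.centralizer ({y} : Set X)).subtype) b := by
  have h1 : ∑ g : X, blockKernel (indSet M f b) g g =
      ∑ z ∈ Finset.univ.filter (fun z : X => ∃ k : ℕ, orderOf z = p ^ k),
        sectionDiag p (indSet M f b) z := by
    simp only [sectionDiag]
    rw [Finset.sum_comm]
    refine Finset.sum_congr rfl fun g _ => ?_
    obtain ⟨z, hz⟩ := isPPart_exists hM.1 g
    rw [Finset.sum_eq_single z]
    · rw [if_pos hz]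
    · exact fun w _ hw => if_neg fun h => hw (isPPart_unique hM.1 h hz)
    · intro h
      obtain ⟨y, -, -, hk, -⟩ := hz
      exact absurd (Finset.mem_filter.2 ⟨Finset.mem_univ z, hk⟩) h
  have h2 : sectionDiag p (indSet M f b) (1 : X) =
      (Nat.card X : ℂ) * (blockRank p (indSet M f b) : ℂ) := by
    rw [card_mul_blockRank_of_separated fun x y h => blockKernel_indSet_eq_zero hM h, sectionDiag]
    refine Finset.sum_congr rfl fun g _ => ?_
    have hiff : IsPPart p g 1 ↔ ¬ p ∣ orderOf g :=
      ⟨fun ⟨y, h, _, _, hy⟩ => by rwa [← h, one_mul], fun h =>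
        ⟨g, one_mul g, Commute.one_left g, ⟨0, by simp⟩, h⟩⟩
    by_cases hg : p ∣ orderOf g
    · rw [if_pos hg, if_neg fun h => hiff.1 h hg]
    · rw [if_neg hg, if_pos (hiff.2 hg)]
  rw [natCast_mul_card_block, ← Finset.add_sum_erase _ _
    (Finset.mem_filter.2 ⟨Finset.mem_univ (1 : X), 0, by simp⟩), h2] at h1
  rw [mul_sub, h1, add_sub_cancel_left]
  refine Finset.sum_congr (Finset.ext fun z => ?_) fun z hz => ?_
  · simp [and_comm]
  · exact sectionDiag_indSet hM hb (Finset.mem_filter.1 hz).2.2

end Main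

theorem regDiag_comp_equiv {X Y : Type u} [Group X] [Finite X] [Group Y] [Finite Y] (e : X ≃* Y)
    (f : Y →* G) (b : Set (IrrCharacter G)) :
    regDiag M p (f.comp e.toMonoidHom) b = regDiag M p f b := by
  have hind : ∀ (ψ : IrrCharacter Y) (g : G),
      indF (f.comp e.toMonoidHom) (compIrr e ψ : X → ℂ) g = indF f (ψ : Y → ℂ) g := fun ψ g => by
    haveI := Fintype.ofFinite X
    haveI := Fintype.ofFinite Y
    simp only [indF, omega_eq_sum, compIrr_apply, map_one]
    congr 1
    exact Fintype.sum_equiv e.toEquiv _ _ fun x => by simp [resHom]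
  have hset : indSet M (f.comp e.toMonoidHom) b = compIrr e '' indSet M f b := by
    ext η
    constructor
    · intro h
      refine ⟨compIrr e.symm η, fun χ hχ g => ?_, compIrr_symm e η⟩
      rw [← hind, compIrr_symm]
      exact h χ hχ g
    · rintro ⟨ψ, hψ, rfl⟩ χ hχ g
      rw [hind]
      exact hψ χ hχ g
  simp only [regDiag]
  letI := Fintype.ofFinite X
  letI := Fintype.ofFinite Y
  refine Fintype.sum_equiv e.toEquiv _ _ fun x => ?_
  rw [show orderOf (e.toEquiv x) = orderOf x from orderOf_injective e.toMonoidHom e.injective x, hset]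
  split
  · rfl
  · simp only [blockKernel, finsum_mem_image (compIrr_injective e).injOn, compIrr_apply]
    rfl

variable [M.IsPrime] [Fact p.Prime]

theorem indSet_subtype_eq {H : Subgroup G} {b : Set (IrrCharacter G)} (hb : IsPBlock M b) :
    indSet M H.subtype b = {ψ : IrrCharacter H | ∃ β : Set (IrrCharacter H), ψ ∈ β ∧ IsInducedBlock M H β b} := by
  ext ψ
  constructor
  · intro hψ
    refine ⟨blockOf M (ψ : H → ℂ), self_mem_blockOf ψ, isPBlock_blockOf ψ, hb, fun ξ hξ χ hχ g => ?_⟩
    have := subset_indSet_of_mem (isPBlock_blockOf ψ) (self_mem_blockOf ψ) hψ hξ χ hχ g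
    rwa [indF_subtype] at this
  · rintro ⟨β, hψ, hind⟩ χ hχ g
    rw [indF_subtype]
    exact hind.2.2 ψ hψ χ hχ g

/-- The subgroup counterpart of `card_sub_rank_eq`, summed over elements of the whole group. -/
theorem card_sub_rank_subgroup [Fintype G] (hM : IsPModular p M) {b : Set (IrrCharacter G)}
    (hb : IsPBlock M b) (H : Subgroup G) :
    (Nat.card H : ℂ) * ((Nat.card (indSet M H.subtype b) : ℂ) - (blockRank p (indSet M H.subtype b) : ℂ)) =
      ∑ y ∈ Finset.univ.filter (fun y : G => y ≠ 1 ∧ ∃ k : ℕ, orderOf y = p ^ k),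
        if y ∈ H then regDiag M p (Subgroup.centralizer ({y} : Set G) ⊓ H).subtype b else 0 := by
  haveI := Fintype.ofFinite H
  rw [card_sub_rank_eq hM hb, ← Finset.sum_filter]
  refine Finset.sum_bij (fun y _ => (y : G)) (fun y hy => ?_) (fun a _ c _ h => Subtype.ext h)
    (fun y hy => ?_) fun y _ => ?_
  · simp only [Finset.mem_filter, Finset.mem_univ, true_and] at hy ⊢
    exact ⟨⟨fun h => hy.1 (Subtype.ext h), by simpa [Subgroup.orderOf_coe] using hy.2⟩, y.2⟩
  · simp only [Finset.mem_filter, Finset.mem_univ, true_and] at hy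
    refine ⟨⟨y, hy.2⟩, ?_, rfl⟩
    simp only [Finset.mem_filter, Finset.mem_univ, true_and]
    exact ⟨fun h => hy.1.1 (congrArg Subtype.val h), by simpa [Subgroup.orderOf_mk] using hy.1.2⟩
  · set C := Subgroup.centralizer ({y} : Set H)
    have hmap : C.map H.subtype = Subgroup.centralizer ({(y : G)} : Set G) ⊓ H := by
      ext g
      simp only [C, Subgroup.mem_map, Subgroup.mem_inf, Subgroup.mem_centralizer_singleton_iff,
        Subgroup.coe_subtype]
      constructor
      · rintro ⟨h, hh, rfl⟩; exact ⟨congrArg Subtype.val hh, h.2⟩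
      · rintro ⟨hg, hgH⟩; exact ⟨⟨g, hgH⟩, Subtype.ext hg, rfl⟩
    rw [← hmap]
    exact regDiag_comp_equiv (C.equivMapOfInjective H.subtype H.subtype_injective) (C.map H.subtype).subtype b

/-- The alternating sum over chains. -/
theorem knorr_robinson (hM : IsPModular p M) {b : Set (IrrCharacter G)} (hb : IsPBlock M b) :
    (Nat.card G : ℤ) * ((Nat.card b : ℤ) - (blockRank p b : ℤ)) =
      ∑ s ∈ (Set.toFinite {s : Finset (Subgroup G) | IsChainN p s}).toFinset,
        (-1 : ℤ) ^ (s.card - 1) * (Nat.card (stab s) : ℤ) *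
          ((Nat.card (indSet M (stab s).subtype b) : ℤ) - (blockRank p (indSet M (stab s).subtype b) : ℤ)) := by
  haveI := Fintype.ofFinite G
  apply Int.cast_injective (α := ℂ)
  push_cast
  have hid : indSet M (MonoidHom.id G) b = b := by
    obtain ⟨χ₀, hχ₀⟩ := isPBlock_nonempty hb
    ext ψ
    have e : ∀ g, indF (MonoidHom.id G) (ψ : G → ℂ) g = centralChar (ψ : G → ℂ) g := fun g => by
      rw [indF, ← omega_classSum]
      exact congrArg (omega _) (MonoidAlgebra.ext (Finsupp.ext fun x => by simp [resHom]))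
    constructor
    · intro h
      refine (isPBlock_mem_iff hb hχ₀).2 (mem_blockOf.2 fun g => ?_)
      show MemLocalIdeal M (centralChar (χ₀ : G → ℂ) g - centralChar (ψ : G → ℂ) g)
      have := memLocalIdeal_neg (h χ₀ hχ₀ g)
      rwa [e, neg_sub] at this
    · intro h χ hχ g
      rw [e]
      exact isPBlock_sameBlock hb h hχ g
  have hG := card_sub_rank_eq (f := MonoidHom.id G) hM hb
  rw [hid] at hG
  rw [hG]
  simp only [mul_assoc, card_sub_rank_subgroup hM hb, Finset.mul_sum]
  rw [Finset.sum_comm]
  refine Finset.sum_congr rfl fun y hy => ?_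
  obtain ⟨hy1, hyp⟩ := (Finset.mem_filter.1 hy).2
  simp only [mul_ite, mul_zero]
  rw [← Finset.sum_filter]
  rw [sum_cancel hy1 hyp (fun K : Subgroup G => regDiag M p K.subtype b) _ fun t => by
    simp [Finset.mem_filter]]
  rfl

end Cfsg.Agent.Block.KR
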