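import Cfsg.Agent.Lib.Block.DegreeSquares
import Cfsg.Agent.Lib.Block.Regular
import Cfsg.Agent.Lib.Solv.TransferApps
import Cfsg.Agent.Lib.Solv.StructMisc
import Cfsg.Agent.Lib.Char.Linear

/-!
# Extending linear characters of a Sylow subgroup
-/

set_option autoImplicit false

open Cfsg.Agent.Char
open scoped ComplexConjugate

namespace Cfsg.Agent.Block

universe u

variable {G : Type u} [Group G] [Finite G] {p : ℕ}

/-- A family of characters behaving like a multiple of the regular one on a subgroup `P`, of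
coefficient prime to `p`, has a member of degree prime to `p` over each linear character of `P`. -/
theorem exists_over_of_sum_eq (P : Subgroup G) [Fintype P]
    (S : Finset (IrrCharacter G))
    (hsum : ∀ x ∈ P, x ≠ 1 → ∑ χ ∈ S, (χ : G → ℂ) 1 * (χ : G → ℂ) x = 0)
    {u : ℕ} (hu : ¬ p ∣ u) (hsq : ∑ χ ∈ S, charDegree (χ : G → ℂ) ^ 2 = Nat.card P * u)
    (l : P →* ℂˣ) :
    ∃ χ ∈ S, ¬ p ∣ charDegree (χ : G → ℂ) ∧
      classInner (fun x : P => (χ : G → ℂ) x) (fun x : P => (l x : ℂ)) ≠ 0 := by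
  classical
  have hl : IsIrrCharacter P (fun x : P => (l x : ℂ)) := isIrrCharacter_monoidHom l
  choose n hn using fun χ : IrrCharacter G =>
    classInner_natCast_of_isCharacter (IsCharacter.restrict (IsIrrCharacter.isCharacter χ.2) P)
      (IsIrrCharacter.isCharacter hl)
  have key : ((∑ χ ∈ S, charDegree (χ : G → ℂ) * n χ : ℕ) : ℂ) = (u : ℂ) := by
    push_cast
    simp only [← hn, classInner, charDegree_cast (IsIrrCharacter.isCharacter (Subtype.prop _))]
    simp only [Finset.mul_sum]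
    rw [Finset.sum_comm, Finset.sum_eq_single (1 : P)]
    · simp only [OneMemClass.coe_one, map_one, Units.val_one, mul_one]
      have h2 : ∑ χ ∈ S, (χ : G → ℂ) 1 * (χ : G → ℂ) 1 = (Nat.card P : ℂ) * (u : ℂ) := by
        rw [← Nat.cast_mul, ← hsq, Nat.cast_sum]
        refine Finset.sum_congr rfl fun χ _ => ?_
        rw [Nat.cast_pow, charDegree_cast (IsIrrCharacter.isCharacter χ.2), sq]
      have h3 : ∀ χ : IrrCharacter G, (χ : G → ℂ) 1 * ((Nat.card P : ℂ)⁻¹ * (χ : G → ℂ) 1) =
          (Nat.card P : ℂ)⁻¹ * ((χ : G → ℂ) 1 * (χ : G → ℂ) 1) := fun χ => by ring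
      simp only [h3]
      rw [← Finset.mul_sum, h2, inv_mul_cancel_left₀ (Nat.cast_ne_zero.2 Nat.card_pos.ne')]
    · intro x _ hx
      have h3 : ∀ χ : IrrCharacter G, (χ : G → ℂ) 1 *
          ((Nat.card P : ℂ)⁻¹ * ((χ : G → ℂ) (x : G) * conj ((l x : ℂ)))) =
          (Nat.card P : ℂ)⁻¹ * conj ((l x : ℂ)) * ((χ : G → ℂ) 1 * (χ : G → ℂ) (x : G)) :=
        fun χ => by ring
      simp only [h3]
      rw [← Finset.mul_sum, hsum _ x.2 (fun e => hx (Subtype.ext e)), mul_zero]
    · simp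
  have key' : ∑ χ ∈ S, charDegree (χ : G → ℂ) * n χ = u := by exact_mod_cast key
  by_contra hcon
  push Not at hcon
  refine hu (key' ▸ Finset.dvd_sum fun χ hχ => ?_)
  by_cases hd : p ∣ charDegree (χ : G → ℂ)
  · exact hd.mul_right _
  · have := hcon χ hχ hd
    rw [hn, Nat.cast_eq_zero] at this
    rw [this, mul_zero]
    exact dvd_zero p

/-- A linear character in such a family gives an extension. -/
theorem exists_extension_of_sum_eq (P : Subgroup G) [Fintype P]
    (S : Finset (IrrCharacter G))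
    (hsum : ∀ x ∈ P, x ≠ 1 → ∑ χ ∈ S, (χ : G → ℂ) 1 * (χ : G → ℂ) x = 0)
    {u : ℕ} (hu : ¬ p ∣ u) (hsq : ∑ χ ∈ S, charDegree (χ : G → ℂ) ^ 2 = Nat.card P * u)
    (hlin : ∀ χ ∈ S, ¬ p ∣ charDegree (χ : G → ℂ) → charDegree (χ : G → ℂ) = 1)
    (l : P →* ℂˣ) : ∃ m : G →* ℂˣ, ∀ x : P, m x = l x := by
  classical
  obtain ⟨χ, hχS, hχd, hne⟩ := exists_over_of_sum_eq P S hsum hu hsq l
  have h1 : (χ : G → ℂ) 1 = 1 := by
    rw [← charDegree_cast (IsIrrCharacter.isCharacter χ.2), hlin χ hχS hχd, Nat.cast_one]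
  obtain ⟨m, hm⟩ := IsCharacter.exists_monoidHom (IsIrrCharacter.isCharacter χ.2) h1
  refine ⟨m, fun x => ?_⟩
  by_contra hx
  refine hne ?_
  rw [hm]
  refine IsIrrCharacter.classInner_eq_zero (isIrrCharacter_monoidHom (m.comp P.subtype))
    (isIrrCharacter_monoidHom l) (fun e => hx (Units.ext ?_))
  exact congrFun e x

variable [Fact p.Prime]

/-- If every linear character of a Sylow subgroup extends, there is a normal complement. -/
theorem hasNormalPComplement_of_linear_extend (P : Sylow p G)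
    (h : ∀ l : ↥(P : Subgroup G) →* ℂˣ, ∃ m : G →* ℂˣ, ∀ x : (P : Subgroup G), m x = l x) :
    HasNormalPComplement p G := by
  have h1 : ∀ x : ↥(P : Subgroup G), (x : G) ∈ commutator G → x ∈ commutator ↥(P : Subgroup G) := by
    intro x hx
    by_contra hxn
    have hne : Abelianization.of x ≠ 1 := fun e => hxn ((QuotientGroup.eq_one_iff x).1 e)
    obtain ⟨φ, hφ⟩ := CommGroup.exists_apply_ne_one_of_hasEnoughRootsOfUnity
      (Abelianization ↥(P : Subgroup G)) ℂ hne
    obtain ⟨m, hm⟩ := h (φ.comp Abelianization.of)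
    exact hφ ((hm x).symm.trans (Abelianization.commutator_subset_ker m hx))
  haveI := Solv.pResidual_characteristic p G
  haveI : Group.IsNilpotent ↥(P : Subgroup G) := P.isPGroup'.isNilpotent
  have h2 : pResidual p G ⊓ (P : Subgroup G) ≤ (frattini P).map (P : Subgroup G).subtype := by
    intro x hx
    have hf := Solv.inf_pResidual_le_focal P ⟨hx.2, hx.1⟩
    have hc := Subgroup.focalSubgroup_le_commutator _ hf
    exact ⟨⟨x, hx.2⟩, Solv.commutator_le_frattini (h1 ⟨x, hx.2⟩ hc), rfl⟩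
  obtain ⟨Q, N, hN, hNQ⟩ := Solv.hasNormalPComplement_of_le_frattini P (pResidual p G) h2
  haveI : N.Normal := hN
  obtain ⟨he, hc, j, hj⟩ := Solv.complement_eq_pPrimeCore (N := N) (P := Q) hNQ
  obtain ⟨k, hk⟩ := Solv.exists_pResidual_index (p := p) (G := G)
  haveI : (pPrimeCore p ↥(pResidual p G)).Characteristic := inferInstance
  haveI : (N.map (pResidual p G).subtype).Normal := by
    rw [he]
    infer_instance
  refine Solv.hasNormalPComplement_of_normal (N.map (pResidual p G).subtype) ?_ ⟨j + k, ?_⟩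
  · rwa [Nat.card_congr (Subgroup.equivMapOfInjective N _ (Subgroup.subtype_injective _)).symm.toEquiv]
  · rw [Subgroup.index_map_subtype, hj, hk, pow_add]

end Cfsg.Agent.Block
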