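import Cfsg.Agent.Lib.Block.MajorHeight

/-!
# The number of characters bounded by a major subsection

A block has at most `p ^ d` times the rank of any of its major subsections many characters.
-/

set_option autoImplicit false
set_option linter.style.haveILetI false

open Cfsg Cfsg.Agent.Char
open scoped ComplexConjugate

namespace Cfsg.Agent.Block

universe u

variable {G : Type u} [Group G] [Finite G] {M : Ideal AlgInt} {p : ℕ}

theorem card_block_le_major (hM : IsPModular p M) {B : Set (IrrCharacter G)} (hB : IsPBlock M B)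
    {y : G} (hy : ∃ k : ℕ, orderOf y = p ^ k)
    {b : Set (IrrCharacter (Subgroup.centralizer ({y} : Set G)))}
    (hind : IsInducedBlock M (Subgroup.centralizer ({y} : Set G)) b B)
    (hd : blockDefect p b = blockDefect p B) :
    Nat.card B ≤ p ^ blockDefect p B * blockRank p b := by
  classical
  haveI := prime_of_isPModular hM
  obtain ⟨hK, hint, -, -⟩ := subMat_props hM hy hind
  obtain ⟨hrow, htr⟩ := subMat_row hM hB hy hind
  obtain ⟨-, hexact, -⟩ := subMat_major_props hM hB hy hind hd
  obtain ⟨χ₀, hχ₀, h00⟩ := exists_height_zero p (isPBlock_nonempty hB)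
  set N := Nat.card G with hN
  haveI : NeZero N := ⟨Nat.card_pos.ne'⟩
  set D := p ^ blockDefect p b with hD
  have hD0 : 0 < D := pow_pos hM.1.pos _
  have hF : (0 : ℚ) < (Module.finrank ℚ (cycF N) : ℚ) := by exact_mod_cast Module.finrank_pos
  set S := B.toFinite.toFinset with hS
  let v : IrrCharacter G → cycF N := fun χ => ⟨subMat p y b χ χ, hK χ χ⟩
  have hlow : ∀ χ ∈ S, (Module.finrank ℚ (cycF N) : ℚ) ≤ Algebra.trace ℚ (cycF N) (v χ) := by
    intro χ hχS
    have hχ := B.toFinite.mem_toFinset.1 hχS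
    have hne : v χ ≠ 0 := by
      intro h0
      have hzero : subMat p y b χ χ = 0 := congrArg Subtype.val h0
      have h1 := hrow χ χ
      rw [hzero, mul_zero] at h1
      have e : ∀ ψ, subMat p y b χ ψ * subMat p y b ψ χ =
          ((Complex.normSq (subMat p y b χ ψ) : ℝ) : ℂ) := fun ψ => by
        rw [← conj_subMat p y b χ ψ, Complex.mul_conj]
      simp only [e, ← Complex.ofReal_sum, Complex.ofReal_eq_zero] at h1
      have h2 : subMat p y b χ χ₀ = 0 := Complex.normSq_eq_zero.1
        ((Finset.sum_eq_zero_iff_of_nonneg fun ψ _ => Complex.normSq_nonneg _).1 h1 χ₀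
          (B.toFinite.mem_toFinset.2 hχ₀))
      refine hexact χ₀ χ hχ₀ h00 hχ ?_
      rw [← conj_subMat, h2, map_zero, zero_div]
      exact memLocalIdeal_zero
    refine finrank_le_trace S (fun ψ => subMat p y b χ ψ) (fun ψ _ => hK χ ψ) (v χ) (hint χ χ) hne
      (D : ℚ) (by exact_mod_cast hD0) ?_
    rw [coe_rat_smul_cycF]
    simp only [conj_subMat]
    rw [hrow χ χ]
    simp [v, hD]
  have hsum : ∑ χ ∈ S, Algebra.trace ℚ (cycF N) (v χ) =
      ((D * blockRank p b : ℕ) : ℚ) * (Module.finrank ℚ (cycF N) : ℚ) := by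
    have e : ∑ χ ∈ S, v χ = algebraMap ℚ (cycF N) ((D * blockRank p b : ℕ) : ℚ) := by
      refine Subtype.ext ?_
      rw [show ((∑ χ ∈ S, v χ : cycF N) : ℂ) = ∑ χ ∈ S, (v χ : ℂ) from map_sum (cycF N).val _ _, map_natCast]
      simpa [v, hD, hS] using htr
    rw [← map_sum, e, Algebra.trace_algebraMap, nsmul_eq_mul, mul_comm]
  have h := Finset.card_nsmul_le_sum S _ _ hlow
  rw [nsmul_eq_mul, hsum] at h
  have h2 : S.card ≤ D * blockRank p b := by exact_mod_cast le_of_mul_le_mul_right h hF
  rw [Nat.card_eq_card_finite_toFinset B.toFinite, ← hd]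
  exact h2

end Cfsg.Agent.Block
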