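import Mathlib

/-!
# Integer matrices that are a multiple of a projection of rank two

Such a symmetric matrix is pulled back from a reduced positive binary quadratic form.
-/

set_option autoImplicit false

namespace Cfsg.Agent.Block

theorem exists_reduced_form {ι : Type*} [Fintype ι] [DecidableEq ι] (z : ι → ι → ℤ) (q : ℕ) (hq : 0 < q)
    (hsymm : ∀ i j, z i j = z j i) (hsq : ∀ i j, ∑ k, z i k * z k j = (q : ℤ) * z i j)
    (htr : ∑ i, z i i = (q : ℤ) * 2) :
    ∃ (a b c : ℤ) (U V : ι → ℤ), 0 < a ∧ 0 < c ∧ 2 * |b| ≤ a ∧ 2 * |b| ≤ c ∧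
      ∀ i j, z i j = a * (U i * U j) + b * (U i * V j + V i * U j) + c * (V i * V j) := by
  classical
  set Z : (ι → ℤ) →ₗ[ℤ] (ι → ℤ) := Matrix.mulVecLin (Matrix.of z) with hZ
  have hZa : ∀ u i, Z u i = ∑ k, z i k * u k := fun u i => by
    simp [hZ, Matrix.mulVec, dotProduct]
  set f : (ι → ℚ) →ₗ[ℚ] (ι → ℚ) := Matrix.mulVecLin ((q : ℚ)⁻¹ • Matrix.of fun i j => (z i j : ℚ)) with hf
  have hqQ : (q : ℚ) ≠ 0 := Nat.cast_ne_zero.2 hq.ne'
  have hfa : ∀ u i, f u i = (q : ℚ)⁻¹ * ∑ k, (z i k : ℚ) * u k := fun u i => by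
    simp [hf, Matrix.mulVec, dotProduct, Finset.mul_sum, mul_assoc]
  have hff : ∀ u, f (f u) = f u := fun u => funext fun i => by
    have h : ∀ j, ∑ k, (z i k : ℚ) * (z k j : ℚ) = (q : ℚ) * (z i j : ℚ) := fun j => by exact_mod_cast hsq i j
    simp only [hfa, Finset.mul_sum]
    rw [Finset.sum_comm]
    refine Finset.sum_congr rfl fun j _ => ?_
    rw [show ∑ k, (q : ℚ)⁻¹ * ((z i k : ℚ) * ((q : ℚ)⁻¹ * ((z k j : ℚ) * u j))) =
      (q : ℚ)⁻¹ * (q : ℚ)⁻¹ * u j * ∑ k, (z i k : ℚ) * (z k j : ℚ) by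
        rw [Finset.mul_sum]; exact Finset.sum_congr rfl fun k _ => by ring, h]
    field_simp
  have hproj : LinearMap.IsProj (LinearMap.range f) f :=
    ⟨fun u => LinearMap.mem_range_self f u, fun x hx => by obtain ⟨u, rfl⟩ := hx; exact hff u⟩
  have hrank : Module.finrank ℚ (LinearMap.range f) = 2 := by
    have h := hproj.trace
    rw [hf, LinearMap.trace_eq_matrix_trace ℚ (Pi.basisFun ℚ ι), ← Matrix.toLin'_apply',
      LinearMap.toMatrix_eq_toMatrix', LinearMap.toMatrix'_toLin'] at h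
    have h1 : ((q : ℚ)⁻¹ • Matrix.of fun i j => (z i j : ℚ)).trace = 2 := by
      rw [Matrix.trace_smul]
      simp only [Matrix.trace, Matrix.diag, Matrix.of_apply, smul_eq_mul]
      rw [show ∑ i, (z i i : ℚ) = (q : ℚ) * 2 by exact_mod_cast htr]
      field_simp
    rw [h1] at h
    exact_mod_cast h.symm
  set cast : (ι → ℤ) →ₗ[ℤ] (ι → ℚ) := (Int.castAddHom ℚ).toIntLinearMap.compLeft ι with hcast
  have hcasta : ∀ u i, cast u i = (u i : ℚ) := fun u i => rfl
  have hcinj : Function.Injective cast := fun u w h => funext fun i => Int.cast_injective (congrFun h i)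
  have hfc : ∀ u, cast (Z u) ∈ LinearMap.range f := fun u => ⟨(q : ℚ) • cast u, funext fun i => by
    rw [map_smul, Pi.smul_apply, hfa, hcasta, hZa, smul_eq_mul, ← mul_assoc, mul_inv_cancel₀ hqQ, one_mul]
    simp [hcasta]⟩
  set L := LinearMap.range Z
  set e := Module.Free.chooseBasis ℤ L
  choose w hw using fun j => LinearMap.mem_range.1 (e j).2
  have hli : LinearIndependent ℤ (fun j => cast (e j : ι → ℤ)) :=
    (e.linearIndependent.map' L.subtype (Submodule.ker_subtype _)).map' cast (LinearMap.ker_eq_bot.2 hcinj)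
  have hliQ := (LinearIndependent.iff_fractionRing ℤ ℚ).1 hli
  let g : Module.Free.ChooseBasisIndex ℤ L → LinearMap.range f :=
    fun j => ⟨cast (e j : ι → ℤ), (hw j) ▸ hfc (w j)⟩
  have hg : LinearIndependent ℚ g := LinearIndependent.of_comp (LinearMap.range f).subtype hliQ
  have hcard : Fintype.card (Module.Free.ChooseBasisIndex ℤ L) ≤ 2 := hrank ▸ hg.fintype_card_le_finrank
  -- a spanning pair
  let P : (ι → ℤ) × (ι → ℤ) → Prop := fun uu => ∀ v, ∃ α β : ℤ, α • Z uu.1 + β • Z uu.2 = Z v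
  obtain ⟨u1, u2, hu⟩ : ∃ u1 u2, P (u1, u2) := by
    let em := Fintype.equivFin (Module.Free.ChooseBasisIndex ℤ L)
    let F : ℕ → (ι → ℤ) := fun k => if h : k < Fintype.card (Module.Free.ChooseBasisIndex ℤ L) then w (em.symm ⟨k, h⟩) else 0
    refine ⟨F 0, F 1, fun v => ?_⟩
    have hspan : Z v ∈ Submodule.span ℤ ({Z (F 0), Z (F 1)} : Set (ι → ℤ)) := by
      have h1 : (⟨Z v, LinearMap.mem_range_self Z v⟩ : L) = ∑ j, e.repr ⟨Z v, LinearMap.mem_range_self Z v⟩ j • e j :=
        (e.sum_repr _).symm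
      have h2 : Z v = L.subtype (⟨Z v, LinearMap.mem_range_self Z v⟩ : L) := rfl
      rw [h2, h1, map_sum]
      refine Submodule.sum_mem _ fun j _ => ?_
      rw [map_smul]
      refine Submodule.smul_mem _ _ (Submodule.subset_span ?_)
      show (e j : ι → ℤ) ∈ _
      have hj : F (em j : ℕ) = w j := by
        simp only [F, dif_pos (em j).2, Fin.eta, Equiv.symm_apply_apply]
      rw [← hw j, ← hj]
      have hlt : (em j : ℕ) < 2 := lt_of_lt_of_le (em j).2 hcard
      obtain hn | hn : (em j : ℕ) = 0 ∨ (em j : ℕ) = 1 := by omega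
      · rw [hn]; exact Set.mem_insert _ _
      · rw [hn]; exact Set.mem_insert_of_mem _ rfl
    exact Submodule.mem_span_pair.1 hspan
  set B : (ι → ℤ) → (ι → ℤ) → ℤ := fun u v => ∑ i, u i * Z v i with hB
  have hBsymm : ∀ u v, B u v = B v u := fun u v => by
    simp only [hB, hZa, Finset.mul_sum]
    rw [Finset.sum_comm]
    exact Finset.sum_congr rfl fun i _ => Finset.sum_congr rfl fun j _ => by rw [hsymm]; ring
  have hBsq : ∀ u, (q : ℤ) * B u u = ∑ i, Z u i ^ 2 := fun u => by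
    simp only [hB, Finset.mul_sum, hZa, sq, Finset.sum_mul]
    conv_rhs => rw [Finset.sum_comm]
    refine Finset.sum_congr rfl fun j _ => ?_
    rw [Finset.sum_comm]
    refine Finset.sum_congr rfl fun k _ => ?_
    calc (q : ℤ) * (u j * (z j k * u k)) = u j * u k * ((q : ℤ) * z j k) := by ring
      _ = _ := by rw [← hsq j k, Finset.mul_sum]; exact Finset.sum_congr rfl fun i _ => by rw [hsymm j i]; ring
  have hBpos : ∀ u, Z u ≠ 0 → 0 < B u u := fun u hne => by
    obtain ⟨i, hi⟩ : ∃ i, Z u i ≠ 0 := Function.ne_iff.1 hne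
    have h1 : 0 < ∑ i, Z u i ^ 2 :=
      Finset.sum_pos' (fun i _ => sq_nonneg _) ⟨i, Finset.mem_univ i, by positivity⟩
    rw [← hBsq] at h1
    exact pos_of_mul_pos_right h1 (Int.natCast_nonneg _)
  have hnz : ∀ uu, P uu → Z uu.1 ≠ 0 ∧ Z uu.2 ≠ 0 := by
    intro uu huu
    by_contra hcon
    obtain ⟨x, hx⟩ : ∃ x, ∀ v, ∃ γ : ℤ, γ • Z x = Z v := by
      rcases not_and_or.1 hcon with h | h <;> rw [not_not] at h
      · exact ⟨uu.2, fun v => by obtain ⟨α, β, h'⟩ := huu v; exact ⟨β, by rwa [h, smul_zero, zero_add] at h'⟩⟩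
      · exact ⟨uu.1, fun v => by obtain ⟨α, β, h'⟩ := huu v; exact ⟨α, by rwa [h, smul_zero, add_zero] at h'⟩⟩
    have hle : LinearMap.range f ≤ Submodule.span ℚ {cast (Z x)} := by
      rintro _ ⟨u, rfl⟩
      have : f u = ∑ k, (u k * (q : ℚ)⁻¹) • cast (Z (Pi.single k 1)) := funext fun i => by
        rw [hfa, Finset.sum_apply, Finset.mul_sum]
        refine Finset.sum_congr rfl fun k _ => ?_
        rw [Pi.smul_apply, hcasta, hZa, smul_eq_mul, Finset.sum_eq_single k]
        · simp; ring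
        · intro k' _ hk; simp [hk]
        · simp
      rw [this]
      refine Submodule.sum_mem _ fun k _ => Submodule.smul_mem _ _ ?_
      obtain ⟨γ, hγ⟩ := hx (Pi.single k 1)
      rw [← hγ, map_zsmul]
      exact zsmul_mem (Submodule.mem_span_singleton_self _) γ
    have h1 := Submodule.finrank_mono hle
    have h2 : Module.finrank ℚ (Submodule.span ℚ {cast (Z x)} : Submodule ℚ (ι → ℚ)) ≤ 1 := by
      refine (finrank_span_le_card ({cast (Z x)} : Set (ι → ℚ))).trans ?_
      simp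
    omega
  -- choose the least
  have hex : ∃ n : ℕ, ∃ uu, P uu ∧ B uu.1 uu.1 + B uu.2 uu.2 = (n : ℤ) :=
    ⟨(B u1 u1 + B u2 u2).toNat, (u1, u2), hu, (Int.toNat_of_nonneg
      (add_nonneg (hBpos _ (hnz _ hu).1).le (hBpos _ (hnz _ hu).2).le)).symm⟩
  obtain ⟨⟨v1, v2⟩, hv, hmin⟩ := Nat.find_spec hex
  have hleast : ∀ uu, P uu → B v1 v1 + B v2 v2 ≤ B uu.1 uu.1 + B uu.2 uu.2 := fun uu huu => by
    have hnn := add_nonneg (hBpos _ (hnz _ huu).1).le (hBpos _ (hnz _ huu).2).le
    have h := Nat.find_min' hex ⟨uu, huu, (Int.toNat_of_nonneg hnn).symm⟩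
    rw [hmin, ← Int.toNat_of_nonneg hnn]
    exact_mod_cast h
  have hadd : ∀ x y x' y', B (x + y) (x' + y') = B x x' + B x y' + B y x' + B y y' := fun x y x' y' => by
    simp only [hB, map_add, Pi.add_apply, add_mul, mul_add, Finset.sum_add_distrib]; ring
  have hsm : ∀ (s : ℤ) x y, B (s • x) y = s * B x y := fun s x y => by
    simp only [hB, Pi.smul_apply, smul_eq_mul, Finset.mul_sum, mul_assoc]
  have hred : ∀ x y, P (x, y) → P (y, x) ∧ ∀ s : ℤ, P (x, y + s • x) := fun x y hxy => by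
    refine ⟨fun v => ?_, fun s v => ?_⟩
    · obtain ⟨α, β, h⟩ := hxy v
      exact ⟨β, α, by rw [add_comm]; exact h⟩
    · obtain ⟨α, β, h⟩ := hxy v
      refine ⟨α - β * s, β, ?_⟩
      rw [← h]
      show (α - β * s) • Z x + β • Z (y + s • x) = _
      rw [map_add, map_smul]
      module
  have hbound : ∀ x y, P (x, y) → B x x + B y y = B v1 v1 + B v2 v2 → 2 * |B x y| ≤ B x x := by
    intro x y hxy heq
    by_contra hgt
    push Not at hgt
    obtain ⟨s, hs, hsb⟩ : ∃ s : ℤ, (s = 1 ∨ s = -1) ∧ s * B x y = -|B x y| := by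
      rcases le_or_gt 0 (B x y) with h | h
      · exact ⟨-1, Or.inr rfl, by rw [abs_of_nonneg h]; ring⟩
      · exact ⟨1, Or.inl rfl, by rw [abs_of_neg h]; ring⟩
    have h1 := hleast _ ((hred x y hxy).2 s)
    have h2 : B (y + s • x) (y + s • x) = B y y + 2 * (s * B x y) + s * (s * B x x) := by
      rw [hadd, hBsymm y (s • x), hsm, hsm, hBsymm x (s • x), hsm]; ring
    have h3 : s * s = 1 := by rcases hs with rfl | rfl <;> norm_num
    simp only [h2] at h1
    rw [hsb, ← mul_assoc, h3, one_mul] at h1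
    omega
  choose A C hAC using fun j => hv (Pi.single j 1)
  refine ⟨B v1 v1, B v1 v2, B v2 v2, A, C, hBpos _ (hnz _ hv).1, hBpos _ (hnz _ hv).2,
    hbound v1 v2 hv rfl, ?_, fun i j => ?_⟩
  · rw [hBsymm v1 v2]
    exact hbound v2 v1 (hred v1 v2 hv).1 (add_comm _ _)
  · have hcol : ∀ k i', Z (Pi.single k 1) i' = z i' k := fun k i' => by
      rw [hZa, Finset.sum_eq_single k]
      · simp
      · intro k' _ hk; simp [hk]
      · simp
    have hrow : ∀ x, Z x i = B x v1 * A i + B x v2 * C i := fun x => by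
      calc Z x i = B x (Pi.single i 1) := by
            simp only [hB, hcol, hZa]
            exact Finset.sum_congr rfl fun k _ => by rw [← hZa, hcol i k, hsymm i k, mul_comm]
        _ = ∑ k, x k * (A i * Z v1 k + C i * Z v2 k) := by
            simp only [hB]
            refine Finset.sum_congr rfl fun k _ => ?_
            rw [← congrFun (hAC i) k]
            simp
        _ = _ := by
            simp only [hB, mul_add, Finset.sum_add_distrib, Finset.sum_mul]
            congr 1 <;> exact Finset.sum_congr rfl fun k _ => by ring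
    rw [← hcol j i, ← congrFun (hAC j) i]
    simp only [Pi.add_apply, Pi.smul_apply, smul_eq_mul]
    rw [hrow v1, hrow v2, hBsymm v2 v1]
    ring

end Cfsg.Agent.Block
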