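import Cfsg.Agent.Lib.Block.SubsectionMajor
import Cfsg.Agent.Lib.Block.CycTrace
import Cfsg.Agent.Lib.Block.RankTwoForm
import Cfsg.Agent.Lib.Block.DefectOne
import Mathlib.RingTheory.Norm.Transitivity

/-!
# Blocks with a major subsection of rank at most two
-/

set_option autoImplicit false

open Cfsg Cfsg.Agent.Char
open scoped ComplexConjugate

namespace Cfsg.Agent.Block

universe u

local notation "CG(" y ")" => Subgroup.centralizer ({y} : Set _)

theorem coe_rat_smul_cycF {N : ℕ} (r : ℚ) (v : cycF N) : ((r • v : cycF N) : ℂ) = (r : ℂ) * (v : ℂ) := by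
  rw [IntermediateField.coe_smul, Algebra.smul_def, eq_ratCast]

theorem trace_smul_one {N : ℕ} [NeZero N] (r : ℚ) :
    Algebra.trace ℚ (cycF N) (r • (1 : cycF N)) = r * (Module.finrank ℚ (cycF N) : ℚ) := by
  rw [map_smul, show (1 : cycF N) = algebraMap ℚ (cycF N) 1 from (map_one _).symm, Algebra.trace_algebraMap,
    nsmul_eq_mul, mul_one, smul_eq_mul]

/-- A totally non-negative non-zero algebraic integer has average at least one. -/
theorem finrank_le_trace {ι : Type*} {N : ℕ} [NeZero N] (s : Finset ι) (z : ι → ℂ)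
    (hz : ∀ i ∈ s, z i ∈ cycF N) (v : cycF N) (hint : IsIntegral ℤ (v : ℂ)) (hv : v ≠ 0)
    (r : ℚ) (hr : 0 < r) (h : ∑ i ∈ s, z i * conj (z i) = ((r • v : cycF N) : ℂ)) :
    (Module.finrank ℚ (cycF N) : ℚ) ≤ Algebra.trace ℚ (cycF N) v := by
  classical
  have hN : N ≠ 0 := NeZero.ne N
  have hval : ∀ σ : cycF N →ₐ[ℚ] ℂ, ∃ x : ℝ, 0 < x ∧ σ v = (x : ℂ) := by
    intro σ
    have e : r • v = ∑ i ∈ s.attach, (⟨z i.1, hz i.1 i.2⟩ : cycF N) * ⟨conj (z i.1), conj_mem_cycF (hz i.1 i.2)⟩ := by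
      refine Subtype.ext ?_
      rw [← h, show ((∑ i ∈ s.attach, (⟨z i.1, hz i.1 i.2⟩ : cycF N) *
        ⟨conj (z i.1), conj_mem_cycF (hz i.1 i.2)⟩ : cycF N) : ℂ) = ∑ i ∈ s.attach, z i.1 * conj (z i.1) from
          map_sum (cycF N).val _ _]
      exact (Finset.sum_attach s (fun i => z i * conj (z i))).symm
    have e2 := congrArg σ e
    rw [Algebra.smul_def, map_mul, AlgHom.commutes, map_sum, eq_ratCast] at e2
    simp only [map_mul, alghom_conj hN σ (hz _ (Subtype.prop _)), Complex.mul_conj] at e2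
    rw [← Complex.ofReal_sum] at e2
    have hr0 : (r : ℂ) ≠ 0 := Rat.cast_ne_zero.2 hr.ne'
    refine ⟨(∑ i ∈ s.attach, Complex.normSq (σ ⟨z i.1, hz i.1 i.2⟩)) / (r : ℝ), ?_, ?_⟩
    · refine div_pos (lt_of_le_of_ne (Finset.sum_nonneg fun i _ => Complex.normSq_nonneg _) fun h0 => ?_)
        (by exact_mod_cast hr)
      rw [← h0, Complex.ofReal_zero, mul_eq_zero] at e2
      exact hv ((map_eq_zero σ).1 (e2.resolve_left hr0))
    · rw [Complex.ofReal_div, ← e2, Complex.ofReal_ratCast]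
      field_simp
  choose x hx hxv using hval
  have hvK : IsIntegral ℤ v :=
    (isIntegral_algebraMap_iff (A := cycF N) (B := ℂ) (algebraMap (cycF N) ℂ).injective).mp hint
  have hprod : ∏ σ, x σ = ((Algebra.norm ℚ v : ℚ) : ℝ) := by
    apply Complex.ofReal_injective
    rw [Complex.ofReal_prod, Finset.prod_congr rfl fun σ _ => (hxv σ).symm,
      ← Algebra.norm_eq_prod_embeddings, eq_ratCast, Complex.ofReal_ratCast]
  obtain ⟨n, hn⟩ : ∃ n : ℤ, Algebra.norm ℚ v = n := by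
    obtain ⟨n, hn⟩ := IsIntegrallyClosed.isIntegral_iff.1 (Algebra.isIntegral_norm ℚ hvK)
    exact ⟨n, by rw [← hn]; simp⟩
  have hn1 : (1 : ℝ) ≤ ∏ σ, x σ := by
    have hpos : (0 : ℝ) < ∏ σ, x σ := Finset.prod_pos fun σ _ => hx σ
    rw [hprod, hn] at hpos ⊢
    have : 0 < n := by exact_mod_cast hpos
    exact_mod_cast this
  have h1 : (0 : ℝ) ≤ ∑ σ, Real.log (x σ) := by
    rw [← Real.log_prod fun σ _ => (hx σ).ne']
    exact Real.log_nonneg hn1
  have h2 : ∑ σ, Real.log (x σ) ≤ ∑ σ, (x σ - 1) :=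
    Finset.sum_le_sum fun σ _ => Real.log_le_sub_one_of_pos (hx σ)
  rw [Finset.sum_sub_distrib, Finset.sum_const, nsmul_eq_mul, mul_one, Finset.card_univ, AlgHom.card] at h2
  have h3 : ((Algebra.trace ℚ (cycF N) v : ℚ) : ℝ) = ∑ σ, x σ := by
    apply Complex.ofReal_injective
    rw [Complex.ofReal_sum, Finset.sum_congr rfl fun σ _ => (hxv σ).symm, ← trace_eq_sum_embeddings,
      eq_ratCast, Complex.ofReal_ratCast]
  have h4 : ((Module.finrank ℚ (cycF N) : ℕ) : ℝ) ≤ ((Algebra.trace ℚ (cycF N) v : ℚ) : ℝ) := by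
    rw [h3]; linarith
  exact_mod_cast h4

variable {G : Type u} [Group G] [Finite G] {M : Ideal AlgInt} {p : ℕ}

/-- `k(B) ≤ p ^ d` when a major subsection has rank at most two. -/
theorem card_le_of_major_rank_le_two (hM : IsPModular p M) {B : Set (IrrCharacter G)} (hB : IsPBlock M B)
    {y : G} (hy : ∃ k : ℕ, orderOf y = p ^ k)
    {b : Set (IrrCharacter (CG(y)))} (hind : IsInducedBlock M (CG(y)) b B)
    (hd : blockDefect p b = blockDefect p B) (hl : blockRank p b ≤ 2) :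
    Nat.card B ≤ p ^ blockDefect p B := by
  classical
  haveI := prime_of_isPModular hM
  haveI := Fintype.ofFinite G
  haveI := Fintype.ofFinite CG(y)
  haveI := Fintype.ofFinite (IrrCharacter CG(y))
  haveI := Fintype.ofFinite (IrrCharacter G)
  obtain ⟨hK, hint, hunit, -⟩ := subMat_props hM hy hind
  obtain ⟨hrow, htr⟩ := subMat_row hM hB hy hind
  obtain ⟨hdiv, hexact, -⟩ := subMat_major_props hM hB hy hind hd
  rw [hd] at hrow htr
  set N := Nat.card G with hN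
  haveI : NeZero N := ⟨Nat.card_pos.ne'⟩
  set D : ℕ := p ^ blockDefect p B with hD
  have hDpos : 0 < D := pow_pos hM.1.pos _
  have hdeg : (0 : ℚ) < (Module.finrank ℚ (cycF N) : ℚ) := by exact_mod_cast Module.finrank_pos
  set m : IrrCharacter G → IrrCharacter G → ℂ := subMat p y b
  set α : IrrCharacter G → cycF N := fun χ => ⟨m χ χ, hK χ χ⟩
  set T : IrrCharacter G → ℚ := fun χ => Algebra.trace ℚ (cycF N) (α χ) with hT
  set q : IrrCharacter G → ℕ := fun χ => p ^ blockHeight p B (χ : G → ℂ) with hqdef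
  have hq : ∀ χ, (q χ : ℂ) ≠ 0 := fun χ => Nat.cast_ne_zero.2 (pow_ne_zero _ hM.1.ne_zero)
  rw [Nat.card_eq_card_finite_toFinset B.toFinite]
  set S := B.toFinite.toFinset
  have hmem : ∀ χ ∈ S, χ ∈ B := fun χ h => B.toFinite.mem_toFinset.1 h
  have hrow1 : ∀ χ, ∑ ψ ∈ S, m χ ψ * conj (m χ ψ) = (D : ℂ) * m χ χ := fun χ => by
    simp only [m, conj_subMat]; exact hrow χ χ
  obtain ⟨χ₀, hχ₀, h00⟩ := exists_height_zero p (isPBlock_nonempty hB)
  have hnz : ∀ χ ψ, χ ∈ B → blockHeight p B (χ : G → ℂ) = 0 → ψ ∈ B → m χ ψ ≠ 0 := fun χ ψ hχ h0 hψ h =>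
    hexact χ ψ hχ h0 hψ (by rw [show m χ ψ = 0 from h, zero_div]; exact memLocalIdeal_zero)
  have hdiag : ∀ χ ∈ B, m χ χ ≠ 0 := fun χ hχ h => by
    have h1 := hrow1 χ
    rw [h, mul_zero] at h1
    have h2 : ∀ ψ ∈ S, m χ ψ = 0 := fun ψ hψ => by
      have h3 : ∑ φ ∈ S, Complex.normSq (m χ φ) = 0 := by
        apply Complex.ofReal_injective
        rw [Complex.ofReal_sum, Complex.ofReal_zero, ← h1]
        exact Finset.sum_congr rfl fun φ _ => (Complex.mul_conj _).symm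
      exact Complex.normSq_eq_zero.1 ((Finset.sum_eq_zero_iff_of_nonneg fun φ _ => Complex.normSq_nonneg _).1 h3 ψ hψ)
    refine hnz χ₀ χ hχ₀ h00 hχ ?_
    show subMat p y b χ₀ χ = 0
    rw [← conj_subMat, show subMat p y b χ χ₀ = 0 from h2 χ₀ (B.toFinite.mem_toFinset.2 hχ₀), map_zero]
  have hTlow : ∀ χ ∈ B, (q χ : ℚ) * (Module.finrank ℚ (cycF N) : ℚ) ≤ T χ := by
    intro χ hχ
    set v : cycF N := ⟨m χ χ / (q χ : ℂ), div_mem (hK χ χ) (natCast_mem _ _)⟩
    have e : α χ = (q χ : ℚ) • v := by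
      refine Subtype.ext ?_
      rw [coe_rat_smul_cycF, Rat.cast_natCast]
      exact (mul_div_cancel₀ _ (hq χ)).symm
    have h := finrank_le_trace S (fun ψ => m χ ψ) (fun ψ _ => hK χ ψ) v (hdiv χ χ hχ)
      (fun h => div_ne_zero (hdiag χ hχ) (hq χ) (congrArg Subtype.val h)) ((D * q χ : ℕ) : ℚ)
      (by exact_mod_cast Nat.mul_pos hDpos (pow_pos hM.1.pos _))
      (by
        rw [hrow1, coe_rat_smul_cycF, Rat.cast_natCast, Nat.cast_mul]
        show _ = _ * (m χ χ / (q χ : ℂ))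
        field_simp [hq χ])
    simp only [hT]
    rw [e, map_smul, smul_eq_mul]
    exact mul_le_mul_of_nonneg_left h (Nat.cast_nonneg _)
  have hsum : ∑ χ ∈ S, T χ = ((D * blockRank p b : ℕ) : ℚ) * (Module.finrank ℚ (cycF N) : ℚ) := by
    simp only [hT]
    rw [← map_sum, ← trace_smul_one]
    congr 1
    refine Subtype.ext ?_
    rw [show ((∑ χ ∈ S, α χ : cycF N) : ℂ) = ∑ χ ∈ S, (α χ : ℂ) from map_sum (cycF N).val _ _,
      coe_rat_smul_cycF, Rat.cast_natCast, IntermediateField.coe_one, mul_one]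
    exact htr
  have hfinish : ∀ L : ℕ, 0 < L → blockRank p b ≤ L →
      (∀ χ ∈ S, (L : ℚ) * (Module.finrank ℚ (cycF N) : ℚ) ≤ T χ) → S.card ≤ D := by
    intro L hL hlL h
    have h1 := Finset.sum_le_sum h
    rw [hsum, Finset.sum_const, nsmul_eq_mul, ← mul_assoc] at h1
    have h2 := le_of_mul_le_mul_right h1 hdeg
    have h3 : S.card * L ≤ D * blockRank p b := by exact_mod_cast h2
    exact Nat.le_of_mul_le_mul_right (h3.trans (Nat.mul_le_mul_left D hlL)) hL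
  rcases Nat.lt_or_ge (blockRank p b) 2 with hl1 | hl2
  · refine hfinish 1 one_pos (by omega) fun χ hχ => le_trans (mul_le_mul_of_nonneg_right ?_ hdeg.le) (hTlow χ (hmem χ hχ))
    exact_mod_cast (pow_pos hM.1.pos _ : 0 < q χ)
  have hl' : blockRank p b = 2 := le_antisymm hl hl2
  -- coordinates
  let ι := {ξ : IrrCharacter CG(y) // ξ ∈ b}
  choose! zf hzf using fun (ξ : IrrCharacter CG(y)) (hξ : ξ ∈ b) (η : IrrCharacter CG(y)) (hη : η ∈ b) =>
    exists_qInt hM hind.1 hξ hη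
  have hzC : ∀ i j : ι, (zf i.1 j.1 : ℂ) = (D : ℂ) * regInner p (i.1 : CG(y) → ℂ) (j.1 : CG(y) → ℂ) /
      (Nat.card CG(y) : ℂ) := fun i j => by
    rw [(hzf i.1 i.2 j.1 j.2).1, hd]
  have hsubt : ∀ (f : IrrCharacter CG(y) → ℂ), ∑ i : ι, f i.1 = ∑ ξ ∈ b.toFinite.toFinset, f ξ := fun f =>
    (Finset.sum_subtype b.toFinite.toFinset (fun ξ => b.toFinite.mem_toFinset) f).symm
  have hC0 : (Nat.card CG(y) : ℂ) ≠ 0 := Nat.cast_ne_zero.2 Nat.card_pos.ne'
  obtain ⟨a, bb, c, U, V, ha, hc, hba, hbc, hform⟩ :=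
    exists_reduced_form (fun i j : ι => zf i.1 j.1) D hDpos
      (fun i j => Int.cast_injective (α := ℂ) (by
        show ((zf i.1 j.1 : ℤ) : ℂ) = ((zf j.1 i.1 : ℤ) : ℂ)
        rw [hzC, hzC, regInner_comm p (IsIrrCharacter.isCharacter i.1.2) (IsIrrCharacter.isCharacter j.1.2)]))
      (fun i j => Int.cast_injective (α := ℂ) (by
        simp only [Int.cast_sum, Int.cast_mul, Int.cast_natCast, hzC]
        rw [hsubt (fun ξ => (D : ℂ) * regInner p (i.1 : CG(y) → ℂ) (ξ : CG(y) → ℂ) / (Nat.card CG(y) : ℂ) *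
            ((D : ℂ) * regInner p (ξ : CG(y) → ℂ) (j.1 : CG(y) → ℂ) / (Nat.card CG(y) : ℂ))),
          Finset.sum_congr rfl (g := fun ξ : IrrCharacter CG(y) => (D : ℂ) * (D : ℂ) /
            ((Nat.card CG(y) : ℂ) * (Nat.card CG(y) : ℂ)) *
            (regInner p (i.1 : CG(y) → ℂ) (ξ : CG(y) → ℂ) * regInner p (ξ : CG(y) → ℂ) (j.1 : CG(y) → ℂ)))
            fun ξ _ => by ring, ← Finset.mul_sum, sum_regInner_mul_regInner hM hind.1 i.2]
        field_simp))
      (Int.cast_injective (α := ℂ) (by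
        simp only [Int.cast_sum, Int.cast_mul, Int.cast_natCast, hzC]
        rw [hsubt (fun ξ => (D : ℂ) * regInner p (ξ : CG(y) → ℂ) (ξ : CG(y) → ℂ) / (Nat.card CG(y) : ℂ)),
          ← Finset.sum_div, ← Finset.mul_sum,
          show ∑ ξ ∈ b.toFinite.toFinset, regInner p (ξ : CG(y) → ℂ) (ξ : CG(y) → ℂ) =
            (Nat.card CG(y) : ℂ) * (blockRank p b : ℂ) from ?_, hl']
        · push_cast; field_simp
        · rw [card_mul_blockRank hM hind.1]
          simp only [regInner]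
          rw [Finset.sum_comm]
          refine Finset.sum_congr rfl fun x _ => ?_
          by_cases hx : p ∣ orderOf x
          · simp [hx]
          · simp only [hx, if_false, blockKernel, finsum_mem_eq_finite_toFinset_sum _ b.toFinite]))
  set cf : IrrCharacter G → ι → ℂ := fun χ i => subCoeff y (χ : G → ℂ) (i.1 : CG(y) → ℂ) with hcf
  set x1 : IrrCharacter G → ℂ := fun χ => ∑ i : ι, cf χ i * (U i : ℂ) with hx1
  set x2 : IrrCharacter G → ℂ := fun χ => ∑ i : ι, cf χ i * (V i : ℂ) with hx2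
  have hmform : ∀ χ ψ, m χ ψ = (a : ℂ) * (x1 χ * conj (x1 ψ)) +
      (bb : ℂ) * (x1 χ * conj (x2 ψ) + x2 χ * conj (x1 ψ)) + (c : ℂ) * (x2 χ * conj (x2 ψ)) := by
    intro χ ψ
    have e1 : m χ ψ = ∑ i : ι, ∑ j : ι, cf χ i * conj (cf ψ j) * (zf i.1 j.1 : ℂ) := by
      simp only [hzC, hcf]
      rw [hsubt (fun ξ => ∑ j : ι, subCoeff y (χ : G → ℂ) (ξ : CG(y) → ℂ) *
        conj (subCoeff y (ψ : G → ℂ) (j.1 : CG(y) → ℂ)) *
        ((D : ℂ) * regInner p (ξ : CG(y) → ℂ) (j.1 : CG(y) → ℂ) / (Nat.card CG(y) : ℂ)))]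
      refine Eq.trans ?_ (Finset.sum_congr rfl fun ξ _ => (hsubt (fun η => subCoeff y (χ : G → ℂ) (ξ : CG(y) → ℂ) *
        conj (subCoeff y (ψ : G → ℂ) (η : CG(y) → ℂ)) *
        ((D : ℂ) * regInner p (ξ : CG(y) → ℂ) (η : CG(y) → ℂ) / (Nat.card CG(y) : ℂ)))).symm)
      show subMat p y b χ ψ = _
      rw [subMat_eq, hd, ← hD]
      simp only [blockPart_translate_eq_sum, regInner, Finset.mul_sum, Finset.sum_div]
      refine Eq.trans ?_ (Finset.sum_congr rfl fun ξ _ => Finset.sum_comm)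
      rw [Finset.sum_comm]
      refine Finset.sum_congr rfl fun k _ => ?_
      rw [Finset.sum_comm]
      by_cases h : p ∣ orderOf k
      · simp [h]
      · simp only [h, if_false, map_sum, map_mul, Finset.sum_mul, Finset.mul_sum]
        refine Finset.sum_congr rfl fun ξ _ => Finset.sum_congr rfl fun η _ => ?_
        field_simp
    rw [e1]
    simp only [hx1, hx2, map_sum, map_mul, map_intCast, Finset.mul_sum, Finset.sum_mul, ← Finset.sum_add_distrib]
    conv_rhs => rw [Finset.sum_comm]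
    refine Finset.sum_congr rfl fun i _ => Finset.sum_congr rfl fun j _ => ?_
    rw [show zf i.1 j.1 = _ from hform i j]
    push_cast
    ring
  have hxi : ∀ χ, (x1 χ ∈ cycF N ∧ IsIntegral ℤ (x1 χ)) ∧ (x2 χ ∈ cycF N ∧ IsIntegral ℤ (x2 χ)) := by
    intro χ
    have h : ∀ i : ι, cf χ i ∈ cycF N ∧ IsIntegral ℤ (cf χ i) := fun i => by
      refine ⟨?_, ?_⟩
      · simp only [hcf, subCoeff, classInner]
        refine mul_mem (inv_mem (natCast_mem _ _)) (sum_mem fun k _ => mul_mem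
          (character_mem_cycF (IsIrrCharacter.isCharacter χ.2) pow_card_eq_one')
          (conj_mem_cycF (character_mem_cycF (IsIrrCharacter.isCharacter i.1.2) (Subtype.ext ?_))))
        simp [hN]
      · obtain ⟨n, s, -, hs, hsi, -⟩ := exists_subCoeff_eq hM hy χ i.1
        simp only [hcf]
        rw [hs]
        exact hsi.mul (isIntegral_natCast _)
    exact ⟨⟨sum_mem fun i _ => mul_mem (h i).1 (intCast_mem _ _),
        IsIntegral.sum _ fun i _ => (h i).2.mul (isIntegral_intCast _)⟩,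
      ⟨sum_mem fun i _ => mul_mem (h i).1 (intCast_mem _ _),
        IsIntegral.sum _ fun i _ => (h i).2.mul (isIntegral_intCast _)⟩⟩
  have hsq : ∀ w : ℂ, ∀ (hw : w ∈ cycF N), IsIntegral ℤ w →
      0 ≤ Algebra.trace ℚ (cycF N) (⟨w * conj w, mul_mem hw (conj_mem_cycF hw)⟩ : cycF N) ∧
      (w ≠ 0 → (Module.finrank ℚ (cycF N) : ℚ) ≤
        Algebra.trace ℚ (cycF N) (⟨w * conj w, mul_mem hw (conj_mem_cycF hw)⟩ : cycF N)) := by
    intro w hw hwi
    have hne : w ≠ 0 → (Module.finrank ℚ (cycF N) : ℚ) ≤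
        Algebra.trace ℚ (cycF N) (⟨w * conj w, mul_mem hw (conj_mem_cycF hw)⟩ : cycF N) := fun h => by
      have := card_mul_finrank_le_trace (N := N) ({()} : Finset Unit) (fun _ => w) (fun _ _ => hw)
        (fun _ _ => hwi) (fun _ _ => h) ⟨w * conj w, mul_mem hw (conj_mem_cycF hw)⟩ (by simp)
      simpa using this
    refine ⟨?_, hne⟩
    by_cases h : w = 0
    · rw [show (⟨w * conj w, mul_mem hw (conj_mem_cycF hw)⟩ : cycF N) = 0 from Subtype.ext (by simp [h]), map_zero]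
    · exact le_trans hdeg.le (hne h)
  -- a height zero character seeing one coordinate with coefficient one
  have hcol : ∀ (x : IrrCharacter G → ℂ), (∀ χ, x χ ∈ cycF N ∧ IsIntegral ℤ (x χ)) →
      ∀ χ ∈ B, blockHeight p B (χ : G → ℂ) = 0 → (∀ ψ, m χ ψ = x χ * conj (x ψ)) → S.card ≤ D := by
    intro x hx χ hχ h0 hmx
    have hxχ : x χ ≠ 0 := fun h => hdiag χ hχ (by rw [hmx, h, zero_mul])
    have h1 := hrow1 χ
    simp only [hmx, map_mul, Complex.conj_conj] at h1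
    rw [Finset.sum_congr rfl (g := fun ψ => (x χ * conj (x χ)) * (x ψ * conj (x ψ))) fun ψ _ => by ring,
      ← Finset.mul_sum, mul_comm (D : ℂ)] at h1
    have h2 := mul_left_cancel₀ (mul_ne_zero hxχ ((map_ne_zero (starRingEnd ℂ)).2 hxχ)) h1
    have h3 := card_mul_finrank_le_trace S x (fun ψ _ => (hx ψ).1) (fun ψ _ => (hx ψ).2)
      (fun ψ hψ h => hnz χ ψ hχ h0 (hmem ψ hψ) (by rw [hmx, h, map_zero, mul_zero]))
      ((D : ℚ) • (1 : cycF N)) (by rw [h2, coe_rat_smul_cycF]; simp)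
    rw [trace_smul_one] at h3
    exact_mod_cast le_of_mul_le_mul_right h3 hdeg
  by_cases hex : (a = 1 ∧ ∃ χ ∈ B, blockHeight p B (χ : G → ℂ) = 0 ∧ x2 χ = 0) ∨
      (c = 1 ∧ ∃ χ ∈ B, blockHeight p B (χ : G → ℂ) = 0 ∧ x1 χ = 0)
  · rcases hex with ⟨h1, χ, hχ, h0, hz⟩ | ⟨h1, χ, hχ, h0, hz⟩
    · have hb0 : bb = 0 := abs_eq_zero.1 (by have := abs_nonneg bb; omega)
      exact hcol x1 (fun χ => (hxi χ).1) χ hχ h0 fun ψ => by rw [hmform, h1, hb0, hz]; simp
    · have hb0 : bb = 0 := abs_eq_zero.1 (by have := abs_nonneg bb; omega)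
      exact hcol x2 (fun χ => (hxi χ).2) χ hχ h0 fun ψ => by rw [hmform, h1, hb0, hz]; simp
  refine hfinish 2 two_pos hl fun χ hχS => ?_
  have hχ := hmem χ hχS
  by_cases h0 : blockHeight p B (χ : G → ℂ) = 0
  swap
  · refine le_trans (mul_le_mul_of_nonneg_right ?_ hdeg.le) (hTlow χ hχ)
    exact_mod_cast le_trans hM.1.two_le (Nat.le_self_pow h0 p)
  obtain ⟨e, he, hee⟩ : ∃ e : ℤ, (e = 1 ∨ e = -1) ∧ |bb| * e = bb := by
    rcases le_or_gt 0 bb with h | h
    · exact ⟨1, Or.inl rfl, by rw [abs_of_nonneg h, mul_one]⟩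
    · exact ⟨-1, Or.inr rfl, by rw [abs_of_neg h]; ring⟩
  set w := x1 χ + (e : ℂ) * x2 χ with hw
  have hwK : w ∈ cycF N := add_mem (hxi χ).1.1 (mul_mem (intCast_mem _ _) (hxi χ).2.1)
  have hwI : IsIntegral ℤ w := (hxi χ).1.2.add ((isIntegral_intCast _).mul (hxi χ).2.2)
  set A1 : cycF N := ⟨x1 χ * conj (x1 χ), mul_mem (hxi χ).1.1 (conj_mem_cycF (hxi χ).1.1)⟩
  set A2 : cycF N := ⟨x2 χ * conj (x2 χ), mul_mem (hxi χ).2.1 (conj_mem_cycF (hxi χ).2.1)⟩
  set A3 : cycF N := ⟨w * conj w, mul_mem hwK (conj_mem_cycF hwK)⟩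
  have hdec : α χ = ((a - |bb| : ℤ) : ℚ) • A1 + ((c - |bb| : ℤ) : ℚ) • A2 + ((|bb| : ℤ) : ℚ) • A3 := by
    refine Subtype.ext ?_
    rw [IntermediateField.coe_add, IntermediateField.coe_add, coe_rat_smul_cycF, coe_rat_smul_cycF,
      coe_rat_smul_cycF]
    simp only [Rat.cast_intCast, α, A1, A2, A3, hmform, hw, map_add, map_mul, map_intCast]
    have h1 : ((|bb| : ℤ) : ℂ) * (e : ℂ) = (bb : ℂ) := by exact_mod_cast hee
    have h2 : (e : ℂ) * (e : ℂ) = 1 := by rcases he with rfl | rfl <;> norm_num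
    push_cast at h1 ⊢
    linear_combination (-(x1 χ * conj (x2 χ) + x2 χ * conj (x1 χ))) * h1 -
      ((|bb| : ℤ) : ℂ) * (x2 χ * conj (x2 χ)) * h2
  have hTeq : T χ = ((a - |bb| : ℤ) : ℚ) * Algebra.trace ℚ (cycF N) A1 +
      ((c - |bb| : ℤ) : ℚ) * Algebra.trace ℚ (cycF N) A2 + ((|bb| : ℤ) : ℚ) * Algebra.trace ℚ (cycF N) A3 := by
    simp only [hT]
    rw [hdec, map_add, map_add, map_smul, map_smul, map_smul, smul_eq_mul, smul_eq_mul, smul_eq_mul]
  obtain ⟨t1, s1⟩ := hsq _ (hxi χ).1.1 (hxi χ).1.2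
  obtain ⟨t2, s2⟩ := hsq _ (hxi χ).2.1 (hxi χ).2.2
  obtain ⟨t3, s3⟩ := hsq w hwK hwI
  set F := (Module.finrank ℚ (cycF N) : ℚ)
  have hb0 : (0 : ℚ) ≤ ((|bb| : ℤ) : ℚ) := by exact_mod_cast abs_nonneg bb
  have ha1 : (0 : ℚ) ≤ ((a - |bb| : ℤ) : ℚ) := by exact_mod_cast (by have := abs_nonneg bb; omega : (0 : ℤ) ≤ a - |bb|)
  have hc1 : (0 : ℚ) ≤ ((c - |bb| : ℤ) : ℚ) := by exact_mod_cast (by have := abs_nonneg bb; omega : (0 : ℤ) ≤ c - |bb|)
  rw [hTeq, Nat.cast_ofNat]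
  by_cases hz1 : x1 χ = 0
  · have hz2 : x2 χ ≠ 0 := fun h => hdiag χ hχ (by rw [hmform, hz1, h]; simp)
    have hc2 : 2 ≤ c := by
      by_contra hlt
      exact hex (Or.inr ⟨by omega, χ, hχ, h0, hz1⟩)
    have hw2 : w ≠ 0 := by
      rw [hw, hz1, zero_add]
      exact mul_ne_zero (Int.cast_ne_zero.2 (by rcases he with rfl | rfl <;> norm_num)) hz2
    have hc2' : (2 : ℚ) ≤ ((c - |bb| : ℤ) : ℚ) + ((|bb| : ℤ) : ℚ) := by
      push_cast; have : (2 : ℚ) ≤ (c : ℚ) := by exact_mod_cast hc2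
      linarith
    nlinarith [mul_le_mul_of_nonneg_left (s2 hz2) hc1, mul_le_mul_of_nonneg_left (s3 hw2) hb0,
      mul_nonneg ha1 t1, mul_le_mul_of_nonneg_right hc2' hdeg.le]
  · by_cases hz2 : x2 χ = 0
    · have ha2 : 2 ≤ a := by
        by_contra hlt
        exact hex (Or.inl ⟨by omega, χ, hχ, h0, hz2⟩)
      have hw2 : w ≠ 0 := by rw [hw, hz2, mul_zero, add_zero]; exact hz1
      have ha2' : (2 : ℚ) ≤ ((a - |bb| : ℤ) : ℚ) + ((|bb| : ℤ) : ℚ) := by
        push_cast; have : (2 : ℚ) ≤ (a : ℚ) := by exact_mod_cast ha2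
        linarith
      nlinarith [mul_le_mul_of_nonneg_left (s1 hz1) ha1, mul_le_mul_of_nonneg_left (s3 hw2) hb0,
        mul_nonneg hc1 t2, mul_le_mul_of_nonneg_right ha2' hdeg.le]
    · have h22 : (2 : ℚ) ≤ ((a - |bb| : ℤ) : ℚ) + ((c - |bb| : ℤ) : ℚ) := by
        exact_mod_cast (by have := abs_nonneg bb; omega : (2 : ℤ) ≤ (a - |bb|) + (c - |bb|))
      nlinarith [mul_le_mul_of_nonneg_left (s1 hz1) ha1, mul_le_mul_of_nonneg_left (s2 hz2) hc1,
        mul_nonneg hb0 t3, mul_le_mul_of_nonneg_right h22 hdeg.le]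

end Cfsg.Agent.Block
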