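import Cfsg.Agent.Lib.Block.SubsectionMajor
import Cfsg.Agent.Lib.Block.MajorRankTwo
import Cfsg.Agent.Lib.Block.CycTrace

/-!
# Heights and the number of major subsections
-/

set_option autoImplicit false

open Cfsg.Agent.Char
open scoped ComplexConjugate Classical

namespace Cfsg.Agent.Block

universe u

local notation "CG(" y ")" => Subgroup.centralizer ({y} : Set _)

theorem trace_mul_conj_nonneg {N : ℕ} [NeZero N] {z : ℂ} (hz : z ∈ cycF N) :
    0 ≤ Algebra.trace ℚ (cycF N) (⟨z, hz⟩ * ⟨conj z, conj_mem_cycF hz⟩) := by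
  have h : ((Algebra.trace ℚ (cycF N) (⟨z, hz⟩ * ⟨conj z, conj_mem_cycF hz⟩) : ℚ) : ℝ) =
      ∑ σ : cycF N →ₐ[ℚ] ℂ, Complex.normSq (σ ⟨z, hz⟩) := by
    apply Complex.ofReal_injective
    rw [Complex.ofReal_sum, Complex.ofReal_ratCast, ← eq_ratCast (algebraMap ℚ ℂ), trace_eq_sum_embeddings]
    refine Finset.sum_congr rfl fun σ _ => ?_
    rw [map_mul, alghom_conj (NeZero.ne N) σ hz, Complex.mul_conj]
  have h2 : (0 : ℝ) ≤ ∑ σ : cycF N →ₐ[ℚ] ℂ, Complex.normSq (σ ⟨z, hz⟩) :=
    Finset.sum_nonneg fun σ _ => Complex.normSq_nonneg _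
  rw [← h] at h2
  exact_mod_cast h2

variable {G : Type u} [Group G] [Finite G] {M : Ideal AlgInt} {p : ℕ}

/-- The coefficients of the regular part of a section. -/
noncomputable def regCoeff (p : ℕ) (χ : IrrCharacter G) (x : G) (ξ : IrrCharacter (CG(x))) : ℂ :=
  haveI := Fintype.ofFinite (CG(x))
  classInner (fun c : CG(x) => if p ∣ orderOf c then 0 else (χ : G → ℂ) (x * (c : G)))
    (ξ : CG(x) → ℂ)

theorem regCoeff_mem_cycF (p : ℕ) (χ : IrrCharacter G) (x : G) (ξ : IrrCharacter (CG(x))) :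
    regCoeff p χ x ξ ∈ cycF (Nat.card G) := by
  simp only [regCoeff, classInner]
  refine mul_mem (inv_mem (IntermediateField.natCast_mem _ _)) (sum_mem fun c _ => ?_)
  split
  · rw [zero_mul]; exact zero_mem _
  · refine mul_mem (character_mem_cycF (IsIrrCharacter.isCharacter χ.2) (pow_card_eq_one'))
      (conj_mem_cycF (character_mem_cycF (IsIrrCharacter.isCharacter ξ.2) ?_))
    exact Subtype.ext (by rw [SubmonoidClass.coe_pow, pow_card_eq_one']; rfl)

theorem isClassFunction_regTranslate (p : ℕ) (χ : IrrCharacter G) (x : G) :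
    IsClassFunction (CG(x)) fun c : CG(x) => if p ∣ orderOf c then 0 else (χ : G → ℂ) (x * (c : G)) :=
  isClassFunction_regRestrict p
    (isClassFunction_translate (IsCharacter.isClassFunction (IsIrrCharacter.isCharacter χ.2)))

/-- A diagonal contribution is a sum of squares of coefficients. -/
theorem subMat_diag_eq (hM : IsPModular p M) (χ : IrrCharacter G) (x : G)
    {b : Set (IrrCharacter (CG(x)))} (hb : IsPBlock M b) :
    subMat p x b χ χ = ((p ^ blockDefect p b : ℕ) : ℂ) *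
      ∑ ξ ∈ b.toFinite.toFinset, regCoeff p χ x ξ * conj (regCoeff p χ x ξ) := by
  classical
  haveI := Fintype.ofFinite CG(x)
  haveI := Fintype.ofFinite (IrrCharacter CG(x))
  set T : CG(x) → ℂ := fun c => if p ∣ orderOf c then 0 else (χ : G → ℂ) (x * (c : G)) with hT
  have hX : ∀ c, (if p ∣ orderOf c then 0 else
      blockPart b (fun k : CG(x) => (χ : G → ℂ) (x * (k : G))) c) = blockPart b T c :=
    fun c => (blockPart_regular (p := p) hM hb _ c).symm
  have hbp : blockPart b T = ∑ ξ : IrrCharacter CG(x),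
      (if ξ ∈ b then classInner T (ξ : CG(x) → ℂ) else 0) • (ξ : CG(x) → ℂ) := by
    funext c
    simp only [blockPart, finsum_mem_eq_finite_toFinset_sum _ b.toFinite, Finset.sum_apply, Pi.smul_apply,
      smul_eq_mul, ite_mul, zero_mul]
    rw [← Finset.sum_filter]
    refine Finset.sum_congr (Finset.ext fun ξ => by simp) fun ξ _ => ?_
    congr 1
    simp only [classInner]
    congr 1
    exact Finset.sum_congr (Finset.ext fun _ => by simp) fun _ _ => rfl
  rw [subMat_eq, mul_assoc]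
  congr 1
  have hsum : ∀ c : CG(x), (if p ∣ orderOf c then 0 else
      blockPart b (fun k : CG(x) => (χ : G → ℂ) (x * (k : G))) c *
        conj (blockPart b (fun k : CG(x) => (χ : G → ℂ) (x * (k : G))) c)) =
      blockPart b T c * conj (blockPart b T c) := fun c => by
    rw [← hX c]
    split
    · rw [zero_mul]
    · rfl
  rw [Finset.sum_congr rfl fun c _ => hsum c]
  show classInner (blockPart b T) (blockPart b T) = _
  rw [hbp, classInner_sum_sum]
  simp only [ite_mul, zero_mul, apply_ite (conj : ℂ → ℂ), map_zero, mul_ite, mul_zero]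
  rw [Finset.sum_congr rfl (g := fun ξ : IrrCharacter CG(x) =>
    if ξ ∈ b then regCoeff p χ x ξ * conj (regCoeff p χ x ξ) else 0) fun ξ _ => ?_, ← Finset.sum_filter]
  · exact Finset.sum_congr (Finset.ext fun ξ => by simp) fun _ _ => rfl
  · by_cases hξ : ξ ∈ b
    · simp only [if_pos hξ]
      have : classInner T (ξ : CG(x) → ℂ) = regCoeff p χ x ξ := by
        simp only [regCoeff, classInner, hT]
        congr 1
        exact Finset.sum_congr (Finset.ext fun _ => by simp) fun _ _ => rfl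
      rw [this]
    · simp only [if_neg hξ]

/-- The norm of a character split into sections. -/
theorem sum_sections_regCoeff [Fintype G] (hM : IsPModular p M) (χ : IrrCharacter G) :
    ∑ x ∈ Finset.univ.filter (fun x : G => ∃ k : ℕ, orderOf x = p ^ k),
      (Nat.card CG(x) : ℂ) * ∑ ξ ∈ (Set.toFinite (Set.univ : Set (IrrCharacter CG(x)))).toFinset,
        regCoeff p χ x ξ * conj (regCoeff p χ x ξ) = (Nat.card G : ℂ) := by
  classical
  have hself : ∑ g : G, (χ : G → ℂ) g * conj ((χ : G → ℂ) g) = (Nat.card G : ℂ) := by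
    have h := IsIrrCharacter.classInner_self χ.2
    rwa [classInner, inv_mul_eq_iff_eq_mul₀ (Nat.cast_ne_zero.2 Nat.card_pos.ne'), mul_one] at h
  refine Eq.trans ?_ hself
  refine Eq.trans (b := ∑ x ∈ Finset.univ.filter (fun x : G => ∃ k : ℕ, orderOf x = p ^ k),
    ∑ g : G, if IsPPart p g x then (χ : G → ℂ) g * conj ((χ : G → ℂ) g) else 0) ?_ ?_
  · refine Finset.sum_congr rfl fun x hx => ?_
    haveI := Fintype.ofFinite CG(x)
    haveI := Fintype.ofFinite (IrrCharacter CG(x))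
    obtain ⟨k, hk⟩ := (Finset.mem_filter.1 hx).2
    have hT := isClassFunction_regTranslate p χ x
    have h := classInner_eq_sum_mul hT hT
    rw [show (Set.toFinite (Set.univ : Set (IrrCharacter CG(x)))).toFinset = Finset.univ from
      Finset.ext fun _ => by simp]
    have h2 : ∀ ξ : IrrCharacter CG(x), regCoeff p χ x ξ = classInner
        (fun c : CG(x) => if p ∣ orderOf c then 0 else (χ : G → ℂ) (x * (c : G))) (ξ : CG(x) → ℂ) := by
      intro ξ
      simp only [regCoeff, classInner]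
      congr 1
      exact Finset.sum_congr (Finset.ext fun _ => by simp) fun _ _ => rfl
    simp only [h2]
    rw [← h]
    simp only [classInner]
    rw [← mul_assoc, mul_inv_cancel₀ (Nat.cast_ne_zero.2 Nat.card_pos.ne'), one_mul, ← Finset.sum_filter]
    rw [← Finset.sum_filter_add_sum_filter_not Finset.univ (fun c : CG(x) => p ∣ orderOf c),
      Finset.sum_eq_zero fun c hc => by rw [if_pos (Finset.mem_filter.1 hc).2, zero_mul], zero_add]
    refine Finset.sum_bij (fun c _ => x * (c : G)) (fun c hc => ?_) (fun c _ c' _ he => ?_) (fun g hg => ?_)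
      (fun c hc => by rw [if_neg (Finset.mem_filter.1 hc).2])
    · simp only [Finset.mem_filter, Finset.mem_univ, true_and] at hc ⊢
      exact ⟨(c : G), rfl, centralizer_coe_iff c, ⟨k, hk⟩, by rwa [Subgroup.orderOf_coe]⟩
    · exact Subtype.ext (mul_left_cancel he)
    · simp only [Finset.mem_filter, Finset.mem_univ, true_and] at hg
      obtain ⟨y, h1, h3, -, h4⟩ := hg
      exact ⟨⟨y, mem_centralizer_singleton.2 h3⟩, Finset.mem_filter.2 ⟨Finset.mem_univ _,
        by rwa [Subgroup.orderOf_mk]⟩, h1⟩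
  · rw [Finset.sum_comm]
    refine Finset.sum_congr rfl fun g _ => ?_
    obtain ⟨z, hz⟩ := isPPart_exists hM.1 g
    rw [Finset.sum_eq_single z]
    · rw [if_pos hz]
    · exact fun w _ hw => if_neg fun h => hw (isPPart_unique hM.1 h hz)
    · intro h
      obtain ⟨y, -, -, hk, -⟩ := hz
      exact absurd (Finset.mem_filter.2 ⟨Finset.mem_univ z, hk⟩) h

/-- The height is limited by the number of major subsections. -/
theorem major_sum_le [Fintype G] (hM : IsPModular p M) {B : Set (IrrCharacter G)} (hB : IsPBlock M B)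
    (S : Finset (Σ x : G, Set (IrrCharacter (CG(x)))))
    (hS : ∀ s ∈ S, (∃ k : ℕ, orderOf s.1 = p ^ k) ∧ IsInducedBlock M (CG(s.1)) s.2 B ∧
      blockDefect p s.2 = blockDefect p B) {χ : IrrCharacter G} (hχ : χ ∈ B) :
    p ^ blockHeight p B (χ : G → ℂ) * ∑ s ∈ S, Nat.card CG(s.1) ≤
      p ^ blockDefect p B * Nat.card G := by
  classical
  haveI := prime_of_isPModular hM
  set N := Nat.card G with hN
  haveI : NeZero N := ⟨Nat.card_pos.ne'⟩
  set d := blockDefect p B with hd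
  set q : ℕ := p ^ blockHeight p B (χ : G → ℂ) with hq
  have hq0 : (q : ℂ) ≠ 0 := Nat.cast_ne_zero.2 (pow_ne_zero _ hM.1.ne_zero)
  have hf : (0 : ℚ) < (Module.finrank ℚ (cycF N) : ℚ) := by exact_mod_cast Module.finrank_pos
  -- squares of coefficients
  let z : (x : G) → IrrCharacter CG(x) → cycF N := fun x ξ =>
    ⟨regCoeff p χ x ξ, regCoeff_mem_cycF p χ x ξ⟩ *
      ⟨conj (regCoeff p χ x ξ), conj_mem_cycF (regCoeff_mem_cycF p χ x ξ)⟩
  let t : (x : G) → IrrCharacter CG(x) → ℚ := fun x ξ => Algebra.trace ℚ (cycF N) (z x ξ)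
  have ht : ∀ x ξ, 0 ≤ t x ξ := fun x ξ => trace_mul_conj_nonneg (regCoeff_mem_cycF p χ x ξ)
  have hz : ∀ x ξ, (z x ξ : ℂ) = regCoeff p χ x ξ * conj (regCoeff p χ x ξ) := fun x ξ => rfl
  -- each subsection contributes at least `q`
  have hlow : ∀ s ∈ S, (q : ℚ) * (Module.finrank ℚ (cycF N) : ℚ) ≤
      ((p ^ d : ℕ) : ℚ) * ∑ ξ ∈ s.2.toFinite.toFinset, t s.1 ξ := by
    intro s hs
    obtain ⟨hy, hind, hdef⟩ := hS s hs
    obtain ⟨hK, hint, -, -⟩ := subMat_props hM hy hind
    obtain ⟨hrow, -⟩ := subMat_row hM hB hy hind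
    obtain ⟨hdiv, hexact, -⟩ := subMat_major_props hM hB hy hind hdef
    have hm := subMat_diag_eq hM χ s.1 hind.1
    rw [hdef] at hm hrow
    set m : cycF N := ((p ^ d : ℕ) : cycF N) * ∑ ξ ∈ s.2.toFinite.toFinset, z s.1 ξ with hmdef
    have hmv : (m : ℂ) = subMat p s.1 s.2 χ χ := by
      rw [hm, hmdef, IntermediateField.coe_mul,
        show (((∑ ξ ∈ s.2.toFinite.toFinset, z s.1 ξ : cycF N)) : ℂ) =
          ∑ ξ ∈ s.2.toFinite.toFinset, (z s.1 ξ : ℂ) from map_sum (cycF N).val _ _]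
      simp only [hz, hd]
      norm_num
    set v : cycF N := (q : cycF N)⁻¹ * m with hv
    have hvv : (v : ℂ) = subMat p s.1 s.2 χ χ / (q : ℂ) := by
      rw [hv, IntermediateField.coe_mul, hmv, IntermediateField.coe_inv, div_eq_inv_mul]
      norm_num
    obtain ⟨χ₀, hχ₀, h00⟩ := exists_height_zero p (isPBlock_nonempty hB)
    have hne : v ≠ 0 := by
      intro h0
      have hzero : subMat p s.1 s.2 χ χ = 0 := by
        have := congrArg Subtype.val h0
        rw [hvv, show ((0 : cycF N) : ℂ) = 0 from rfl, div_eq_zero_iff] at this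
        exact this.resolve_right hq0
      have h1 := hrow χ χ
      rw [hzero, mul_zero] at h1
      have h2 : subMat p s.1 s.2 χ χ₀ = 0 := by
        have e : ∀ ψ, subMat p s.1 s.2 χ ψ * subMat p s.1 s.2 ψ χ =
            ((Complex.normSq (subMat p s.1 s.2 χ ψ) : ℝ) : ℂ) := fun ψ => by
          rw [← conj_subMat p s.1 s.2 χ ψ, Complex.mul_conj]
        simp only [e, ← Complex.ofReal_sum, Complex.ofReal_eq_zero] at h1
        exact Complex.normSq_eq_zero.1
          ((Finset.sum_eq_zero_iff_of_nonneg fun ψ _ => Complex.normSq_nonneg _).1 h1 χ₀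
            (B.toFinite.mem_toFinset.2 hχ₀))
      refine hexact χ₀ χ hχ₀ h00 hχ ?_
      rw [← conj_subMat, h2, map_zero, zero_div]
      exact memLocalIdeal_zero
    have hsum : ∑ ψ ∈ B.toFinite.toFinset, subMat p s.1 s.2 χ ψ * conj (subMat p s.1 s.2 χ ψ) =
        (((((p ^ d : ℕ) : ℚ) * (q : ℚ)) • v : cycF N) : ℂ) := by
      rw [coe_rat_smul_cycF, hvv]
      simp only [conj_subMat]
      rw [hrow χ χ]
      push_cast
      field_simp
    have h := finrank_le_trace B.toFinite.toFinset (fun ψ => subMat p s.1 s.2 χ ψ) (fun ψ _ => hK χ ψ) v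
      (by rw [hvv]; exact hdiv χ χ hχ) hne _
      (mul_pos (by exact_mod_cast pow_pos hM.1.pos d) (by exact_mod_cast pow_pos hM.1.pos _)) hsum
    have htr : Algebra.trace ℚ (cycF N) v = (q : ℚ)⁻¹ * (((p ^ d : ℕ) : ℚ) * ∑ ξ ∈ s.2.toFinite.toFinset, t s.1 ξ) := by
      have e : v = ((q : ℚ)⁻¹ * ((p ^ d : ℕ) : ℚ)) • ∑ ξ ∈ s.2.toFinite.toFinset, z s.1 ξ := by
        rw [hv, hmdef, Algebra.smul_def, map_mul, map_inv₀, map_natCast, map_natCast, mul_assoc]
      rw [e, map_smul, map_sum, smul_eq_mul, mul_assoc]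
    rw [htr, ← div_eq_inv_mul, le_div_iff₀ (by exact_mod_cast pow_pos hM.1.pos _)] at h
    rw [mul_comm (q : ℚ)]
    exact h
  -- compare with the norm of `χ`
  set X := Finset.univ.filter (fun x : G => ∃ k : ℕ, orderOf x = p ^ k) with hXdef
  set W := X.sigma fun x => (Set.toFinite (Set.univ : Set (IrrCharacter CG(x)))).toFinset with hW
  set U := W.filter fun w => ∃ s ∈ S, ∃ e : s.1 = w.1, w.2 ∈ e ▸ s.2 with hU
  have hdisj : ∑ w ∈ U, (Nat.card CG(w.1) : ℚ) * t w.1 w.2 =
      ∑ s ∈ S, (Nat.card CG(s.1) : ℚ) * ∑ ξ ∈ s.2.toFinite.toFinset, t s.1 ξ := by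
    simp only [Finset.mul_sum]
    rw [Finset.sum_sigma']
    symm
    refine Finset.sum_bij (fun a _ => (⟨a.1.1, a.2⟩ : Σ x : G, IrrCharacter CG(x))) ?_ ?_ ?_ (fun a _ => rfl)
    · rintro ⟨s, ξ⟩ ha
      obtain ⟨hs, hξ⟩ := Finset.mem_sigma.1 ha
      refine Finset.mem_filter.2 ⟨Finset.mem_sigma.2 ⟨Finset.mem_filter.2 ⟨Finset.mem_univ _, (hS s hs).1⟩,
        by simp⟩, s, hs, rfl, s.2.toFinite.mem_toFinset.1 hξ⟩
    · rintro ⟨⟨x, b⟩, ξ⟩ ha ⟨⟨x', b'⟩, ξ'⟩ ha' he
      obtain ⟨hs, hξ⟩ := Finset.mem_sigma.1 ha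
      obtain ⟨hs', hξ'⟩ := Finset.mem_sigma.1 ha'
      simp only [Sigma.mk.inj_iff] at he
      obtain ⟨rfl, he⟩ := he
      obtain rfl := eq_of_heq he
      obtain rfl : b = b' := isPBlock_eq_of_mem (hS _ hs).2.1.1 (hS _ hs').2.1.1
        (b.toFinite.mem_toFinset.1 hξ) (b'.toFinite.mem_toFinset.1 hξ')
      rfl
    · rintro ⟨x, ξ⟩ ha
      obtain ⟨-, ⟨x', b⟩, hs, e, hξ⟩ := Finset.mem_filter.1 ha
      dsimp only at e
      subst e
      exact ⟨⟨⟨_, b⟩, ξ⟩, Finset.mem_sigma.2 ⟨hs, b.toFinite.mem_toFinset.2 hξ⟩, rfl⟩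
  have htot : ∑ w ∈ W, (Nat.card CG(w.1) : ℚ) * t w.1 w.2 = (N : ℚ) * (Module.finrank ℚ (cycF N) : ℚ) := by
    rw [hW, Finset.sum_sigma]
    have e : algebraMap ℚ (cycF N) (N : ℚ) = ∑ x ∈ X, (Nat.card CG(x) : ℚ) •
        ∑ ξ ∈ (Set.toFinite (Set.univ : Set (IrrCharacter CG(x)))).toFinset, z x ξ := by
      refine Subtype.ext ?_
      rw [map_natCast, show ((∑ x ∈ X, (Nat.card CG(x) : ℚ) •
        ∑ ξ ∈ (Set.toFinite (Set.univ : Set (IrrCharacter CG(x)))).toFinset, z x ξ : cycF N) : ℂ) =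
          ∑ x ∈ X, (((Nat.card CG(x) : ℚ) • ∑ ξ ∈ (Set.toFinite (Set.univ : Set (IrrCharacter CG(x)))).toFinset,
            z x ξ : cycF N) : ℂ) from map_sum (cycF N).val _ _,
        show (((N : cycF N)) : ℂ) = (N : ℂ) from map_natCast (cycF N).val N]
      refine (sum_sections_regCoeff hM χ).symm.trans (Finset.sum_congr rfl fun x _ => ?_)
      rw [coe_rat_smul_cycF, show ((∑ ξ ∈ (Set.toFinite (Set.univ : Set (IrrCharacter CG(x)))).toFinset,
        z x ξ : cycF N) : ℂ) = ∑ ξ ∈ (Set.toFinite (Set.univ : Set (IrrCharacter CG(x)))).toFinset,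
          (z x ξ : ℂ) from map_sum (cycF N).val _ _]
      simp only [hz]
      norm_num
    have h2 := congrArg (Algebra.trace ℚ (cycF N)) e
    rw [Algebra.trace_algebraMap, map_sum, nsmul_eq_mul] at h2
    rw [mul_comm (N : ℚ), h2]
    refine Finset.sum_congr rfl fun x _ => ?_
    rw [map_smul, map_sum, smul_eq_mul, Finset.mul_sum]
  have hmain : ((q * ∑ s ∈ S, Nat.card CG(s.1) : ℕ) : ℚ) * (Module.finrank ℚ (cycF N) : ℚ) ≤
      ((p ^ d * N : ℕ) : ℚ) * (Module.finrank ℚ (cycF N) : ℚ) := by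
    calc ((q * ∑ s ∈ S, Nat.card CG(s.1) : ℕ) : ℚ) * (Module.finrank ℚ (cycF N) : ℚ)
        = ∑ s ∈ S, (Nat.card CG(s.1) : ℚ) * ((q : ℚ) * (Module.finrank ℚ (cycF N) : ℚ)) := by
          push_cast
          rw [Finset.mul_sum, Finset.sum_mul]
          exact Finset.sum_congr rfl fun s _ => by ring
      _ ≤ ∑ s ∈ S, (Nat.card CG(s.1) : ℚ) * (((p ^ d : ℕ) : ℚ) * ∑ ξ ∈ s.2.toFinite.toFinset, t s.1 ξ) :=
          Finset.sum_le_sum fun s hs => mul_le_mul_of_nonneg_left (hlow s hs) (Nat.cast_nonneg _)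
      _ = ((p ^ d : ℕ) : ℚ) * ∑ w ∈ U, (Nat.card CG(w.1) : ℚ) * t w.1 w.2 := by
          rw [hdisj, Finset.mul_sum]
          exact Finset.sum_congr rfl fun s _ => by ring
      _ ≤ ((p ^ d : ℕ) : ℚ) * ((N : ℚ) * (Module.finrank ℚ (cycF N) : ℚ)) := by
          rw [← htot]
          exact mul_le_mul_of_nonneg_left (Finset.sum_le_sum_of_subset_of_nonneg (Finset.filter_subset _ _)
            fun w _ _ => mul_nonneg (Nat.cast_nonneg _) (ht w.1 w.2)) (Nat.cast_nonneg _)
      _ = _ := by push_cast; ring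
  exact_mod_cast le_of_mul_le_mul_right hmain hf

end Cfsg.Agent.Block
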