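import Cfsg.Agent.Lib.Block.MajorTwo
import Cfsg.Agent.Lib.Block.Height

/-!
# Character counts from a major subsection of a `2`-block
-/

set_option autoImplicit false

open Cfsg Cfsg.Agent.Char
open scoped ComplexConjugate

namespace Cfsg.Agent.Block

universe u

local notation "CG(" y ")" => Subgroup.centralizer ({y} : Set _)

variable {G : Type u} [Group G] [Finite G] {M : Ideal AlgInt} {p : ℕ}

theorem blockDefect_eq_of_major [Fact p.Prime] (hM : IsPModular p M) {B : Set (IrrCharacter G)} (hB : IsPBlock M B)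
    {D : Subgroup G} (hD : IsDefectGroup p M B D) {z : G} (hzc : ∀ d ∈ D, d * z = z * d)
    {b : Set (IrrCharacter (CG(z)))} (hb : IsPBlock M b)
    (hbD : IsDefectGroup p M b (D.subgroupOf (CG(z)))) : blockDefect p b = blockDefect p B := by
  have hle : D ≤ CG(z) := fun d hd => mem_centralizer_singleton.2 (hzc d hd).symm
  have h1 := card_defectGroup hM hb hbD
  rw [Nat.card_congr (Subgroup.subgroupOfEquivOfLe hle).toEquiv, card_defectGroup hM hB hD] at h1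
  exact Nat.pow_right_injective (Fact.out : p.Prime).two_le h1.symm

/-- The three weighted counts. -/
theorem weight_le_of_small (hM : IsPModular 2 M) {B : Set (IrrCharacter G)} (hB : IsPBlock M B)
    {z : G} (hz : ∃ k : ℕ, orderOf z = 2 ^ k) {b : Set (IrrCharacter (CG(z)))}
    (hind : IsInducedBlock M (CG(z)) b B) (hd : blockDefect 2 b = blockDefect 2 B)
    (hsmall : blockRank 2 b ≤ 3 ∨ Nat.card B ≤ blockRank 2 b + 3) :
    3 * Nat.card B ≤ 3 * Nat.card {χ : IrrCharacter G // χ ∈ B ∧ blockHeight 2 B (χ : G → ℂ) = 0} +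
        2 * ∑ᶠ χ ∈ {χ : IrrCharacter G | χ ∈ B ∧ 1 ≤ blockHeight 2 B (χ : G → ℂ)},
          2 ^ blockHeight 2 B (χ : G → ℂ) ∧
      3 * Nat.card {χ : IrrCharacter G // χ ∈ B ∧ blockHeight 2 B (χ : G → ℂ) = 0} +
        2 * (∑ᶠ χ ∈ {χ : IrrCharacter G | χ ∈ B ∧ 1 ≤ blockHeight 2 B (χ : G → ℂ)},
          2 ^ blockHeight 2 B (χ : G → ℂ)) ≤ 3 * 2 ^ blockDefect 2 B := by
  classical
  haveI := prime_of_isPModular hM
  haveI := Fintype.ofFinite G
  haveI := Fintype.ofFinite (IrrCharacter G)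
  set T := B.toFinite.toFinset
  set F := T.filter fun χ : IrrCharacter G => blockHeight 2 B (χ : G → ℂ) = 0
  set R := T.filter fun χ : IrrCharacter G => ¬ blockHeight 2 B (χ : G → ℂ) = 0
  have hFR : F.card + R.card = T.card := Finset.card_filter_add_card_filter_not _
  rw [show Nat.card {χ : IrrCharacter G // χ ∈ B ∧ blockHeight 2 B (χ : G → ℂ) = 0} = F.card by
      rw [Nat.card_eq_fintype_card, Fintype.card_subtype]; congr 1; ext χ; simp [F, T],
    Nat.card_eq_card_finite_toFinset B.toFinite,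
    finsum_mem_eq_finite_toFinset_sum _ (Set.toFinite _),
    show (Set.toFinite {χ : IrrCharacter G | χ ∈ B ∧ 1 ≤ blockHeight 2 B (χ : G → ℂ)}).toFinset = R by
      ext χ; simp [R, T, Nat.one_le_iff_ne_zero]]
  change 3 * T.card ≤ _ ∧ _
  set S := ∑ χ ∈ R, 2 ^ blockHeight 2 B (χ : G → ℂ)
  have hR : 2 * R.card ≤ S := by
    rw [mul_comm, ← smul_eq_mul]
    refine Finset.card_nsmul_le_sum R _ 2 fun χ hχ => ?_
    calc 2 = 2 ^ 1 := rfl
      _ ≤ _ := Nat.pow_le_pow_right two_pos (Nat.one_le_iff_ne_zero.2 (Finset.mem_filter.1 hχ).2)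
  refine ⟨by omega, ?_⟩
  set D := 2 ^ blockDefect 2 B
  obtain ⟨χ₀, hχ₀, h00⟩ := exists_height_zero 2 (isPBlock_nonempty hB)
  have hF : 0 < F.card :=
    Finset.card_pos.2 ⟨χ₀, Finset.mem_filter.2 ⟨B.toFinite.mem_toFinset.2 hχ₀, h00⟩⟩
  rcases Nat.eq_zero_or_pos (blockDefect 2 B) with hd0 | hd0
  · have h := brauer_feit hM hB
    rw [Nat.card_eq_card_finite_toFinset B.toFinite, hd0, mul_zero, pow_zero] at h
    have hD1 : D = 1 := by simp [D, hd0]
    have h' : 4 * T.card ≤ 1 + 4 := h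
    have hT : T.card ≤ 1 := by omega
    have hR0 : R = ∅ := Finset.card_eq_zero.1 (by omega)
    have hS0 : S = 0 := by simp [S, hR0]
    omega
  obtain ⟨t, hsum, hF0, hF1⟩ := exists_major_two hM hB hz hind hd hd0
  set W := ∑ ψ ∈ T, (2 ^ blockHeight 2 B (ψ : G → ℂ)) ^ 2 with hW
  have hWF : 3 * F.card + 2 * S ≤ 3 * W := by
    rw [hW, ← Finset.sum_filter_add_sum_filter_not T (fun χ : IrrCharacter G => blockHeight 2 B (χ : G → ℂ) = 0)]
    have h1 : ∑ ψ ∈ F, (2 ^ blockHeight 2 B (ψ : G → ℂ)) ^ 2 = F.card := by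
      rw [Finset.card_eq_sum_ones]
      exact Finset.sum_congr rfl fun ψ hψ => by rw [(Finset.mem_filter.1 hψ).2]; rfl
    have h2 : S ≤ ∑ ψ ∈ R, (2 ^ blockHeight 2 B (ψ : G → ℂ)) ^ 2 :=
      Finset.sum_le_sum fun ψ _ => by nlinarith [Nat.one_le_pow (blockHeight 2 B (ψ : G → ℂ)) 2 two_pos]
    change 3 * F.card + 2 * S ≤ 3 * (∑ ψ ∈ F, _ + ∑ ψ ∈ R, _)
    rw [h1]
    omega
  have hlow : ∀ f : IrrCharacter G → ℤ, (∀ χ ∈ F, 3 ≤ f χ) →
      (∀ χ ∈ R, ((2 * 2 ^ blockHeight 2 B (χ : G → ℂ) : ℕ) : ℤ) ≤ f χ) →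
      ((3 * F.card + 2 * S : ℕ) : ℤ) ≤ ∑ χ ∈ T, f χ := by
    intro f h1 h2
    rw [← Finset.sum_filter_add_sum_filter_not T (fun χ : IrrCharacter G => blockHeight 2 B (χ : G → ℂ) = 0),
      Nat.cast_add]
    refine add_le_add ?_ ?_
    · push_cast
      calc 3 * (F.card : ℤ) = ∑ _χ ∈ F, (3 : ℤ) := by rw [Finset.sum_const, nsmul_eq_mul, mul_comm]
        _ ≤ _ := Finset.sum_le_sum h1
    · calc ((2 * S : ℕ) : ℤ) = ∑ χ ∈ R, ((2 * 2 ^ blockHeight 2 B (χ : G → ℂ) : ℕ) : ℤ) := by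
            simp only [S]; rw [Finset.mul_sum, Nat.cast_sum]
        _ ≤ _ := Finset.sum_le_sum h2
  have hgo : ∀ f : IrrCharacter G → ℤ, (∀ χ ∈ F, Odd (f χ) ∧ (W : ℤ) ≤ (D : ℤ) * f χ) →
      (∀ χ ∈ R, ((2 * 2 ^ blockHeight 2 B (χ : G → ℂ) : ℕ) : ℤ) ≤ f χ) →
      (∑ χ ∈ T, f χ ≤ (D : ℤ) * 3) → 3 * F.card + 2 * S ≤ 3 * D := by
    intro f h1 h2 h3
    by_cases hex : ∃ χ ∈ F, f χ ≤ 1
    · obtain ⟨χ, hχ, hle⟩ := hex
      have h4 : (W : ℤ) ≤ (D : ℤ) := (h1 χ hχ).2.trans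
        ((mul_le_mul_of_nonneg_left hle (Int.natCast_nonneg _)).trans_eq (mul_one _))
      have h5 : W ≤ D := by exact_mod_cast h4
      omega
    · push Not at hex
      have h4 := (hlow f (fun χ hχ => by
        have := hex χ hχ
        obtain ⟨a, ha⟩ := (h1 χ hχ).1
        omega) h2).trans h3
      have h5 : 3 * F.card + 2 * S ≤ D * 3 := by exact_mod_cast h4
      omega
  have hmem : ∀ χ ∈ T, χ ∈ B := fun χ h => B.toFinite.mem_toFinset.1 h
  rcases hsmall with hl | hk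
  · refine hgo t (fun χ hχ => ?_) (fun χ hχ => ?_) ?_
    · obtain ⟨hm, h0⟩ := Finset.mem_filter.1 hχ
      exact ⟨(hF0 χ (hmem χ hm) h0).1, (hF0 χ (hmem χ hm) h0).2.2.1⟩
    · obtain ⟨hm, h0⟩ := Finset.mem_filter.1 hχ
      exact (hF1 χ (hmem χ hm) h0).1
    · rw [hsum]
      exact_mod_cast Nat.mul_le_mul_left D hl
  · refine hgo (fun χ => (D : ℤ) - t χ) (fun χ hχ => ?_) (fun χ hχ => ?_) ?_
    · obtain ⟨hm, h0⟩ := Finset.mem_filter.1 hχ
      exact ⟨(hF0 χ (hmem χ hm) h0).2.1, (hF0 χ (hmem χ hm) h0).2.2.2⟩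
    · obtain ⟨hm, h0⟩ := Finset.mem_filter.1 hχ
      exact (hF1 χ (hmem χ hm) h0).2
    · rw [Finset.sum_sub_distrib, hsum, Finset.sum_const, nsmul_eq_mul]
      rw [Nat.card_eq_card_finite_toFinset B.toFinite] at hk
      have h4 : (T.card : ℤ) ≤ (blockRank 2 b : ℤ) + 3 := by exact_mod_cast hk
      rw [Nat.cast_mul]
      have h5 := mul_le_mul_of_nonneg_left h4 (Int.natCast_nonneg D)
      linarith

end Cfsg.Agent.Block
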