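import Mathlib.Analysis.Matrix.Spectrum
import Mathlib.Analysis.Matrix.PosDef
import Mathlib.LinearAlgebra.Matrix.ToLinearEquiv
import Mathlib.LinearAlgebra.FreeModule.PID
import Mathlib.LinearAlgebra.Matrix.SchurComplement
import Mathlib.FieldTheory.Finiteness
import Mathlib.RingTheory.Int.Basic
import Mathlib.Data.Real.StarOrdered
import Mathlib.Tactic

/-!
# A lower bound for Gram determinants by counting minors
-/

set_option autoImplicit false

open Matrix
open scoped ComplexConjugate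

namespace Cfsg.Agent.Block

theorem one_add_sum_le_prod' {ι : Type*} (s : Finset ι) (f : ι → ℝ) (hf : ∀ i ∈ s, 0 ≤ f i) :
    1 + ∑ i ∈ s, f i ≤ ∏ i ∈ s, (1 + f i) := by
  classical
  induction s using Finset.induction with
  | empty => simp
  | insert a s ha ih =>
    rw [Finset.sum_insert ha, Finset.prod_insert ha]
    have h1 := ih fun i hi => hf i (Finset.mem_insert_of_mem hi)
    have h2 : 0 ≤ ∑ i ∈ s, f i := Finset.sum_nonneg fun i hi => hf i (Finset.mem_insert_of_mem hi)
    nlinarith [hf a (Finset.mem_insert_self a s)]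

theorem one_add_trace_le_det {n : Type*} [Fintype n] [DecidableEq n] {C : Matrix n n ℝ}
    (hC : C.PosSemidef) : 1 + C.trace ≤ (1 + C).det := by
  have hh := hC.isHermitian
  set U := (hh.eigenvectorUnitary : Matrix n n ℝ) with hU
  set Dm : Matrix n n ℝ := diagonal hh.eigenvalues with hD
  have hUU : star U * U = 1 := Unitary.coe_star_mul_self hh.eigenvectorUnitary
  have hspec : C = U * Dm * star U := by
    have h := hh.spectral_theorem
    rwa [Unitary.conjStarAlgAut_apply] at h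
  have hdet : (1 + C).det = ∏ i, (1 + hh.eigenvalues i) := by
    refine (congrArg (fun c => (1 + c).det) hspec).trans ?_
    rw [Matrix.mul_assoc, det_one_add_mul_comm, Matrix.mul_assoc, hUU, Matrix.mul_one, hD,
      ← diagonal_one, diagonal_add, det_diagonal]
  have htr : C.trace = ∑ i, hh.eigenvalues i := by simpa using hh.trace_eq_sum_eigenvalues
  rw [hdet, htr]
  exact one_add_sum_le_prod' _ _ fun i _ => hC.eigenvalues_nonneg i

/-- A Gram determinant is bounded below by the number of rows, when all maximal minors are multiples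
of `p`. -/
theorem gram_det_ge {ι n : Type*} [Fintype ι] [Fintype n] [DecidableEq n] (X : Matrix ι n ℤ) (p : ℕ)
    (hdet : (Xᵀ * X).det ≠ 0) (hrow : ∀ i, X i ≠ 0)
    (hmin : ∀ f : n → ι, (p : ℤ) ∣ (X.submatrix f id).det) :
    (p : ℤ) ^ 2 * ((Fintype.card ι : ℤ) - Fintype.card n + 1) ≤ (Xᵀ * X).det := by
  classical
  set Y : Matrix ι n ℝ := X.map (Int.cast : ℤ → ℝ) with hY
  have hG : ((Xᵀ * X).det : ℝ) = (Yᵀ * Y).det := by
    show (Int.castRingHom ℝ) _ = _
    rw [RingHom.map_det, RingHom.mapMatrix_apply, Matrix.map_mul, transpose_map]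
    rfl
  have hinj : ∀ v, Y *ᵥ v = 0 → v = 0 := by
    intro v hv
    by_contra hne
    refine hdet (Int.cast_injective (α := ℝ) ?_)
    rw [hG, Int.cast_zero]
    exact exists_mulVec_eq_zero_iff.1 ⟨v, hne, by rw [← mulVec_mulVec, hv, mulVec_zero]⟩
  obtain ⟨κ, f, hf, hspan, hli⟩ := exists_linearIndependent' ℝ (fun i => Y i)
  have htop : Submodule.span ℝ (Set.range fun i => Y i) = ⊤ := by
    by_contra hne
    obtain ⟨φ, hφ0, hφ⟩ := Submodule.exists_le_ker_of_lt_top _ (lt_top_iff_ne_top.2 hne)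
    refine hφ0 ?_
    have hv : (fun j => φ (Pi.single j 1)) = 0 := hinj _ (funext fun i => by
      have h := LinearMap.mem_ker.1 (hφ (Submodule.subset_span ⟨i, rfl⟩))
      dsimp only at h
      rw [← Finset.univ_sum_single (Y i), map_sum] at h
      rw [mulVec, dotProduct, Pi.zero_apply, ← h]
      refine Finset.sum_congr rfl fun j _ => ?_
      rw [show (Pi.single j (Y i j) : n → ℝ) = Y i j • Pi.single j 1 by
        rw [← Pi.single_smul, smul_eq_mul, mul_one], map_smul, smul_eq_mul])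
    refine LinearMap.pi_ext' fun j => LinearMap.ext_ring ?_
    simpa using congrFun hv j
  haveI : Finite κ := Finite.of_injective f hf
  haveI := Fintype.ofFinite κ
  have hcard : Fintype.card κ = Fintype.card n := by
    have b := Module.Basis.mk hli (by rw [hspan, htop])
    rw [← Module.finrank_eq_card_basis b, Module.finrank_pi]
  obtain ⟨e⟩ := Fintype.card_eq.1 hcard.symm
  set g : n → ι := f ∘ e with hg
  have hginj : Function.Injective g := hf.comp e.injective
  set Z : Matrix n n ℤ := X.submatrix g id with hZ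
  set W : Matrix n n ℝ := Y.submatrix g id with hW
  have hWdet : W.det ≠ 0 := by
    intro h0
    obtain ⟨v, hv0, hv⟩ := exists_mulVec_eq_zero_iff.2 h0
    refine hv0 (hinj v (funext fun i => ?_))
    have hi : Y i ∈ Submodule.span ℝ (Set.range fun k => Y (f k)) := by
      rw [show (fun k => Y (f k)) = (fun i => Y i) ∘ f from rfl, hspan, htop]; trivial
    obtain ⟨c, hc⟩ := Submodule.mem_span_range_iff_exists_fun ℝ |>.1 hi
    show Y i ⬝ᵥ v = 0
    rw [← hc, sum_dotProduct, Finset.sum_eq_zero]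
    intro k _
    rw [smul_dotProduct, show Y (f k) ⬝ᵥ v = 0 from ?_, smul_zero]
    have := congrFun hv (e.symm k)
    simpa [hW, mulVec, hg, submatrix] using this
  have hWZ : W.det = (Z.det : ℝ) := by
    show _ = (Int.castRingHom ℝ) _
    rw [RingHom.map_det]
    rfl
  have hZdet : Z.det ≠ 0 := fun h => hWdet (by rw [hWZ, h, Int.cast_zero])
  haveI : Invertible W.det := invertibleOfNonzero hWdet
  set T : Matrix ι n ℝ := Y * W⁻¹ with hT
  have hWu : IsUnit W.det := isUnit_iff_ne_zero.2 hWdet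
  have hYT : Y = T * W := by rw [hT, Matrix.mul_assoc, nonsing_inv_mul W hWu, Matrix.mul_one]
  set r : Finset ι := Finset.univ.map ⟨g, hginj⟩ with hr
  set B : Matrix {i // i ∉ r} n ℝ := T.submatrix Subtype.val id with hB
  have hTg : ∀ k j, T (g k) j = (1 : Matrix n n ℝ) k j := fun k j => by
    rw [← mul_nonsing_inv W hWu]
    rfl
  have hTT : Tᵀ * T = 1 + Bᵀ * B := by
    ext a b
    rw [Matrix.mul_apply, Matrix.add_apply, Matrix.mul_apply, ← Finset.sum_add_sum_compl r]
    congr 1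
    · rw [hr, Finset.sum_map]
      simp [transpose_apply, hTg, Matrix.one_apply, Finset.sum_ite_eq', eq_comm]
    · exact Finset.sum_subtype _ (fun x => Finset.mem_compl) _
  have hpsd : (Bᵀ * B).PosSemidef := by
    have := posSemidef_conjTranspose_mul_self B
    rwa [conjTranspose_eq_transpose_of_trivial] at this
  have hdetY : (Yᵀ * Y).det = W.det ^ 2 * (1 + Bᵀ * B).det := by
    rw [hYT, transpose_mul, Matrix.mul_assoc, ← Matrix.mul_assoc Tᵀ, hTT, det_mul, det_mul, det_transpose]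
    ring
  have hrow2 : ∀ i : {i // i ∉ r}, ((p : ℝ)) ^ 2 ≤ W.det ^ 2 * ∑ j, B i j ^ 2 := by
    intro i
    set c : n → ℤ := X i.1 ᵥ* Z.adjugate with hc
    have hBc : ∀ j, W.det * B i j = (c j : ℝ) := by
      intro j
      have e1 : (W.det • T) i.1 j = (Y * W.adjugate) i.1 j := by
        rw [hT, nonsing_inv_apply W hWu, ← Matrix.mul_smul, smul_smul]
        simp [mul_inv_cancel₀ hWdet]
      have e2 : W.adjugate = Z.adjugate.map (Int.cast : ℤ → ℝ) := by
        show ((Int.castRingHom ℝ).mapMatrix Z).adjugate = _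
        rw [← RingHom.map_adjugate]
        rfl
      rw [hB, submatrix_apply, id, ← smul_eq_mul, ← Matrix.smul_apply, e1, e2, Matrix.mul_apply, hc]
      simp [vecMul, dotProduct, hY]
    obtain ⟨j, hj⟩ : ∃ j, c j ≠ 0 := by
      by_contra hall
      push Not at hall
      have h0 : c = 0 := funext hall
      refine hrow i.1 ?_
      have h1 : c ᵥ* Z = Z.det • X i.1 := by
        rw [hc, vecMul_vecMul, adjugate_mul, vecMul_smul, vecMul_one]
      rw [h0, zero_vecMul] at h1
      exact (smul_eq_zero.1 h1.symm).resolve_left hZdet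
    have hdvd : (p : ℤ) ∣ c j := by
      have h : c j = (Z.updateRow j (X i.1)).det := by
        rw [← cramer_transpose_apply, cramer_eq_adjugate_mulVec, ← adjugate_transpose, mulVec_transpose]
      rw [h, show Z.updateRow j (X i.1) = X.submatrix (Function.update g j i.1) id from by
        ext a b
        by_cases hab : a = j
        · subst hab; simp
        · simp [hab, hZ]]
      exact hmin _
    have h2 : ((p : ℤ)) ^ 2 ≤ c j ^ 2 := by
      rw [← sq_abs (c j)]
      exact pow_le_pow_left₀ (by positivity) (Int.le_of_dvd (abs_pos.2 hj) ((dvd_abs _ _).2 hdvd)) 2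
    calc ((p : ℝ)) ^ 2 ≤ (c j : ℝ) ^ 2 := by exact_mod_cast h2
      _ = W.det ^ 2 * B i j ^ 2 := by rw [← mul_pow, hBc]
      _ ≤ W.det ^ 2 * ∑ j, B i j ^ 2 := mul_le_mul_of_nonneg_left
          (Finset.single_le_sum (f := fun j => B i j ^ 2) (fun _ _ => sq_nonneg _) (Finset.mem_univ j))
          (sq_nonneg _)
  have htr : (Bᵀ * B).trace = ∑ i, ∑ j, B i j ^ 2 := by
    rw [Finset.sum_comm]
    simp [Matrix.trace, Matrix.mul_apply, transpose_apply, sq]
  have hW2 : ((p : ℝ)) ^ 2 ≤ W.det ^ 2 := by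
    rw [hWZ]
    have h : ((p : ℤ)) ^ 2 ≤ Z.det ^ 2 := by
      rw [← sq_abs Z.det]
      exact pow_le_pow_left₀ (by positivity) (Int.le_of_dvd (abs_pos.2 hZdet) ((dvd_abs _ _).2 (hmin g))) 2
    exact_mod_cast h
  have hcardr : (Fintype.card {i // i ∉ r} : ℝ) = (Fintype.card ι : ℝ) - Fintype.card n := by
    have h1 : Fintype.card {i // i ∉ r} = Fintype.card ι - Fintype.card n := by
      rw [Fintype.card_subtype_compl, Fintype.card_coe, hr, Finset.card_map, Finset.card_univ]
    rw [h1, Nat.cast_sub (Fintype.card_le_of_injective g hginj)]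
  have key : ((p : ℝ)) ^ 2 * ((Fintype.card ι : ℝ) - Fintype.card n + 1) ≤ (Yᵀ * Y).det := by
    rw [hdetY]
    refine le_trans ?_ (mul_le_mul_of_nonneg_left (one_add_trace_le_det hpsd) (sq_nonneg _))
    rw [htr, mul_add (W.det ^ 2), mul_one, Finset.mul_sum, ← hcardr, mul_add, mul_one, add_comm]
    refine add_le_add hW2 ?_
    rw [mul_comm, ← Finset.card_univ, ← nsmul_eq_mul, ← Finset.sum_const]
    exact Finset.sum_le_sum fun i _ => hrow2 i
  rw [← hG] at key
  exact_mod_cast key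

theorem exists_rankOne_mod {n : Type*} {p : ℕ} [Fact p.Prime] (Y : Matrix n n ℤ)
    (h : ∀ i j k l, (p : ℤ) ∣ Y i k * Y j l - Y i l * Y j k) :
    ∃ u v : n → ℤ, ∀ i j, (p : ℤ) ∣ Y i j - u i * v j := by
  by_cases h0 : ∀ i j, (p : ℤ) ∣ Y i j
  · exact ⟨0, 0, fun i j => by simpa using h0 i j⟩
  push Not at h0
  obtain ⟨i₀, j₀, h00⟩ := h0
  have h00' : (Y i₀ j₀ : ZMod p) ≠ 0 := fun h => h00 ((ZMod.intCast_zmod_eq_zero_iff_dvd _ p).1 h)
  refine ⟨fun i => Y i j₀, fun j => Y i₀ j * ((Y i₀ j₀ : ZMod p)⁻¹).val, fun i j => ?_⟩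
  have hh := (ZMod.intCast_zmod_eq_zero_iff_dvd _ p).2 (h i i₀ j j₀)
  rw [← ZMod.intCast_zmod_eq_zero_iff_dvd]
  push_cast at hh ⊢
  rw [ZMod.natCast_val, ZMod.cast_id]
  field_simp
  linear_combination hh

/-- `p ^ (r - 1)` divides the determinant of a matrix of rank one modulo `p`. -/
theorem det_dvd_of_minors {n : Type*} [Fintype n] [DecidableEq n] {p : ℕ} [Fact p.Prime]
    (Y : Matrix n n ℤ) (h : ∀ i j k l, (p : ℤ) ∣ Y i k * Y j l - Y i l * Y j k) :
    ((p : ℤ)) ^ (Fintype.card n - 1) ∣ Y.det := by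
  classical
  obtain ⟨u, v, huv⟩ := exists_rankOne_mod Y h
  choose H hH using huv
  set A : Matrix n n ℤ := Matrix.of H
  set col : Matrix n Unit ℤ := Matrix.of fun i _ => u i
  set row : Matrix Unit n ℤ := Matrix.of fun _ j => v j
  have hY : Y = ((p : ℤ) • A) - col * (-row) * 1 + 0 := by
    ext i j
    have := hH i j
    simp [A, col, row, Matrix.mul_apply, Matrix.smul_apply, Matrix.of_apply]
    linarith
  rw [hY, Matrix.mul_one, add_zero, ← det_fromBlocks_one₂₂ ((p : ℤ) • A) col (-row)]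
  rcases Nat.eq_zero_or_pos (Fintype.card n) with hn | hn
  · simp [hn]
  set S : Matrix (n ⊕ Unit) (n ⊕ Unit) ℤ := fromBlocks A col (-row) ((p : ℤ) • 1) with hS
  have e : (p : ℤ) * (fromBlocks ((p : ℤ) • A) col (-row) 1).det = ((p : ℤ)) ^ Fintype.card n * S.det := by
    have e1 : fromBlocks ((p : ℤ) • A) col (-row) 1 * diagonal (Sum.elim 1 fun _ : Unit => (p : ℤ)) =
        diagonal (Sum.elim (fun _ : n => (p : ℤ)) 1) * S := by
      ext i j
      rcases i with i | i <;> rcases j with j | j <;>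
        simp only [hS, Matrix.mul_diagonal, Matrix.diagonal_mul, Sum.elim_inl, Sum.elim_inr, fromBlocks_apply₁₁,
          fromBlocks_apply₁₂, fromBlocks_apply₂₁, fromBlocks_apply₂₂, Matrix.smul_apply, Pi.one_apply, smul_eq_mul,
          one_mul, mul_one, Matrix.one_apply, if_true] <;>
        first | ring | simp
    have e2 := congrArg Matrix.det e1
    rw [det_mul, det_mul, det_diagonal, det_diagonal, Fintype.prod_sum_type, Fintype.prod_sum_type] at e2
    simpa [mul_comm] using e2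
  obtain ⟨m, hm⟩ := Nat.exists_eq_succ_of_ne_zero hn.ne'
  rw [hm, Nat.succ_sub_one]
  rw [hm, pow_succ', mul_assoc] at e
  exact ⟨S.det, mul_left_cancel₀ (Int.natCast_ne_zero.2 (Fact.out (p := p.Prime)).ne_zero) e⟩

/-- Vectors killed by an integral `p`-multiple of a projection which has rank one modulo `p`. -/
theorem sq_norm_ge_of_proj {ι : Type*} [Fintype ι] [DecidableEq ι] {p : ℕ} [Fact p.Prime]
    (M : Matrix ι ι ℤ) (hsymm : Mᵀ = M) (hM2 : M * M = (p : ℤ) • M) (t : ℤ) (htr : M.trace = (p : ℤ) * t)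
    (hrk : ∀ i j k l, (p : ℤ) ∣ M i k * M j l - M i l * M j k) (hdiag : ∀ i, ¬ (p : ℤ) ∣ M i i)
    (q : ι → ℤ) (hq : M *ᵥ q = 0) (hq0 : q ≠ 0)
    (hqrk : ∀ i j k, (p : ℤ) ∣ q i * M j k - q j * M i k) :
    (p : ℤ) * ((Fintype.card ι : ℤ) - t) ≤ q ⬝ᵥ q := by
  classical
  have hp : (p : ℤ) ≠ 0 := Int.natCast_ne_zero.2 (Fact.out (p := p.Prime)).ne_zero
  have hp0 : (0 : ℤ) < p := by exact_mod_cast (Fact.out (p := p.Prime)).pos
  set F : (ι → ℤ) →ₗ[ℤ] (ι → ℤ) := Matrix.mulVecLin ((p : ℤ) • 1 - M) with hF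
  obtain ⟨s, hs⟩ := Module.projective_lifting_property F.rangeRestrict LinearMap.id F.surjective_rangeRestrict
  set V := LinearMap.ker F with hV
  have hmemV : ∀ v, v ∈ V ↔ M *ᵥ v = (p : ℤ) • v := fun v => by
    simp [hV, hF, sub_mulVec, smul_mulVec, sub_eq_zero, eq_comm]
  obtain ⟨r, bV⟩ := Submodule.basisOfPid (Pi.basisFun ℤ ι) V
  set A : Matrix ι (Fin r) ℤ := Matrix.of fun i j => (bV j : ι → ℤ) i with hA
  have hret : ∀ v, v - s (F.rangeRestrict v) ∈ V := fun v => by
    rw [hV, LinearMap.mem_ker, map_sub, sub_eq_zero]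
    exact (congrArg Subtype.val (LinearMap.congr_fun hs (F.rangeRestrict v))).symm
  set ρ : (ι → ℤ) →ₗ[ℤ] V :=
    LinearMap.codRestrict V (LinearMap.id - s ∘ₗ F.rangeRestrict) hret with hρ
  have hρV : ∀ v ∈ V, (ρ v : ι → ℤ) = v := fun v hv => by
    have : F.rangeRestrict v = 0 := Subtype.ext (LinearMap.mem_ker.1 hv)
    simp [hρ, this]
  set L : Matrix (Fin r) ι ℤ := LinearMap.toMatrix' (bV.equivFun.toLinearMap ∘ₗ ρ) with hL
  have hAL : ∀ v ∈ V, A *ᵥ (L *ᵥ v) = v := by
    intro v hv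
    rw [hL, LinearMap.toMatrix'_mulVec]
    conv_rhs => rw [← hρV v hv, ← bV.sum_equivFun (ρ v)]
    rw [Submodule.coe_sum]
    ext i
    simp [hA, mulVec, dotProduct, mul_comm]
  have hMcol : ∀ k, (fun i => M i k) ∈ V := fun k => by
    rw [hmemV]
    ext i
    have := congrFun (congrFun hM2 i) k
    simpa [Matrix.mul_apply, mulVec, dotProduct] using this
  have hALM : A * (L * M) = M := by
    ext i k
    have := congrFun (hAL _ (hMcol k)) i
    rw [mulVec_mulVec] at this
    rw [← Matrix.mul_assoc]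
    simpa [Matrix.mul_apply, mulVec, dotProduct] using this
  have hMA : M * A = (p : ℤ) • A := by
    ext i j
    have := congrFun ((hmemV _).1 (bV j).2) i
    simpa [hA, Matrix.mul_apply, mulVec, dotProduct] using this
  have hLA : L * A = 1 := by
    ext a j
    have h1 : (L *ᵥ (bV j : ι → ℤ)) = bV.equivFun (bV j) := by
      rw [hL, LinearMap.toMatrix'_mulVec, LinearMap.comp_apply,
        show ρ (bV j : ι → ℤ) = bV j from Subtype.ext (hρV _ (bV j).2)]
      rfl
    have := congrFun h1 a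
    rw [bV.equivFun_self] at this
    simpa [hA, Matrix.mul_apply, mulVec, dotProduct, Matrix.one_apply, eq_comm] using this
  have hr : (r : ℤ) = t := by
    refine mul_left_cancel₀ hp ?_
    rw [← htr, ← hALM, trace_mul_comm, Matrix.mul_assoc, hMA, Matrix.mul_smul, hLA, trace_smul, trace_one,
      Fintype.card_fin, smul_eq_mul]
  set Gm : Matrix (Fin r) (Fin r) ℤ := Aᵀ * A with hGm
  set Y : Matrix (Fin r) (Fin r) ℤ := L * M * Lᵀ with hY
  have hGY : Gm * Y = (p : ℤ) • 1 := by
    have hAM : Aᵀ * M = (p : ℤ) • Aᵀ := by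
      rw [← hsymm, ← transpose_mul, hMA, transpose_smul]
    rw [hGm, hY, Matrix.mul_assoc Aᵀ, ← Matrix.mul_assoc A, hALM, ← Matrix.mul_assoc, hAM, Matrix.smul_mul,
      ← transpose_mul, hLA, transpose_one]
  obtain ⟨u, v, huv⟩ := exists_rankOne_mod M hrk
  have hYrk : ∀ a b c d, (p : ℤ) ∣ Y a c * Y b d - Y a d * Y b c := by
    intro a b c d
    have hexp : ∀ x y, (Y x y : ZMod p) =
        (∑ i, (L x i : ZMod p) * (u i : ZMod p)) * (∑ k, (v k : ZMod p) * (L y k : ZMod p)) := fun x y => by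
      simp only [hY, Matrix.mul_apply, transpose_apply, Finset.sum_mul, Finset.mul_sum, Int.cast_sum,
        Int.cast_mul]
      rw [Finset.sum_comm]
      conv_rhs => rw [Finset.sum_comm]
      refine Finset.sum_congr rfl fun i _ => Finset.sum_congr rfl fun k _ => ?_
      have h1 := (ZMod.intCast_zmod_eq_zero_iff_dvd _ p).2 (huv i k)
      push_cast at h1
      linear_combination ((L x i : ZMod p) * (L y k : ZMod p)) * h1
    rw [← ZMod.intCast_zmod_eq_zero_iff_dvd]
    push_cast
    rw [hexp, hexp, hexp, hexp]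
    ring
  have hrow : ∀ i, ∃ j, A i j ≠ 0 := fun i => by
    by_contra hall
    push Not at hall
    refine hdiag i ?_
    rw [← hALM, Matrix.mul_apply, Finset.sum_eq_zero fun j _ => by rw [hall j, zero_mul]]
    exact dvd_zero _
  obtain ⟨i₀, hi₀⟩ := Function.ne_iff.1 hq0
  obtain ⟨j₀, -⟩ := hrow i₀
  have hdet : Gm.det * Y.det = (p : ℤ) ^ r := by
    rw [← det_mul, hGY, det_smul, det_one, mul_one, Fintype.card_fin]
  obtain ⟨c, hc⟩ := det_dvd_of_minors Y hYrk
  rw [Fintype.card_fin] at hc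
  have hGc : Gm.det * c = (p : ℤ) := by
    refine mul_left_cancel₀ (pow_ne_zero (r - 1) hp) ?_
    rw [← pow_succ, Nat.sub_add_cancel j₀.pos, ← hdet, hc]
    ring
  have hqA : ∀ j, ∑ i, A i j * q i = 0 := by
    intro j
    have h : (p : ℤ) * ∑ i, A i j * q i = 0 := by
      have e : ∀ i, (p : ℤ) * A i j = ∑ k, M i k * A k j := fun i => by
        rw [← Matrix.mul_apply, hMA, Matrix.smul_apply, smul_eq_mul]
      rw [Finset.mul_sum, Finset.sum_congr rfl (g := fun i => ∑ k, M i k * A k j * q i)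
        (fun i _ => by rw [← mul_assoc, e, Finset.sum_mul]), Finset.sum_comm]
      refine Finset.sum_eq_zero fun k _ => ?_
      have := congrFun hq k
      rw [mulVec, dotProduct, Pi.zero_apply] at this
      rw [Finset.sum_congr rfl (g := fun i => A k j * (M k i * q i)) (fun i _ => by
        rw [← show Mᵀ k i = M i k from rfl, hsymm]; ring), ← Finset.mul_sum, this, mul_zero]
    exact (mul_eq_zero.1 h).resolve_left hp
  set X : Matrix ι (Fin r ⊕ Unit) ℤ := Matrix.of fun i => Sum.elim (A i) (fun _ => q i) with hX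
  have hXX : Xᵀ * X = fromBlocks Gm 0 0 (Matrix.of fun _ _ => q ⬝ᵥ q) := by
    ext a b
    rcases a with a | a <;> rcases b with b | b
    · simp [hX, hGm, Matrix.mul_apply]
    · simpa [hX, Matrix.mul_apply] using hqA a
    · simpa [hX, Matrix.mul_apply, mul_comm] using hqA b
    · simp [hX, Matrix.mul_apply, dotProduct]
  have hXdet : (Xᵀ * X).det = Gm.det * (q ⬝ᵥ q) := by
    rw [hXX, det_fromBlocks_zero₂₁, det_unique (n := Unit)]
    rfl
  have hGne : Gm.det ≠ 0 := left_ne_zero_of_mul (hGc.trans_ne hp)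
  have hqq : 0 < q ⬝ᵥ q := lt_of_lt_of_le (mul_self_pos.2 hi₀)
    (Finset.single_le_sum (f := fun i => q i * q i) (fun i _ => mul_self_nonneg _) (Finset.mem_univ i₀))
  have hmin : ∀ f : Fin r ⊕ Unit → ι, (p : ℤ) ∣ (X.submatrix f id).det := by
    intro f
    rw [← ZMod.intCast_zmod_eq_zero_iff_dvd]
    show (Int.castRingHom (ZMod p)) _ = 0
    rw [RingHom.map_det, ← exists_mulVec_eq_zero_iff]
    set cc : ZMod p := (q i₀ : ZMod p) * (M i₀ i₀ : ZMod p)⁻¹
    refine ⟨Sum.elim (fun j => cc * ((L * M) j i₀ : ZMod p)) (fun _ => -1),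
      Function.ne_iff.2 ⟨Sum.inr (), by simp⟩, funext fun x => ?_⟩
    have hne : (M i₀ i₀ : ZMod p) ≠ 0 := fun h => hdiag i₀ ((ZMod.intCast_zmod_eq_zero_iff_dvd _ p).1 h)
    have hh := (ZMod.intCast_zmod_eq_zero_iff_dvd _ p).2 (hqrk (f x) i₀ i₀)
    push_cast at hh
    have e : ∑ j, (A (f x) j : ZMod p) * ((L * M) j i₀ : ZMod p) = (M (f x) i₀ : ZMod p) := by
      conv_rhs => rw [← hALM, Matrix.mul_apply]
      push_cast
      rfl
    simp only [mulVec, dotProduct, RingHom.mapMatrix_apply, Matrix.map_apply, submatrix_apply, id,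
      Fintype.sum_sum_type, Pi.zero_apply, hX, of_apply, Sum.elim_inl, Sum.elim_inr, Int.coe_castRingHom,
      Fintype.sum_unique]
    rw [Finset.sum_congr rfl (g := fun j => cc * ((A (f x) j : ZMod p) * ((L * M) j i₀ : ZMod p)))
      (fun j _ => by ring), ← Finset.mul_sum, e]
    simp only [cc]
    field_simp
    linear_combination (-1 : ZMod p) * hh
  have key := gram_det_ge X p (by rw [hXdet]; exact mul_ne_zero hGne hqq.ne')
    (fun i h => by
      obtain ⟨j, hj⟩ := hrow i
      exact hj (congrFun h (Sum.inl j))) hmin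
  rw [hXdet, Fintype.card_sum, Fintype.card_fin, Fintype.card_unit] at key
  push_cast at key
  rw [hr, show (Fintype.card ι : ℤ) - (t + 1) + 1 = (Fintype.card ι : ℤ) - t by ring] at key
  rcases le_or_gt ((Fintype.card ι : ℤ) - t) 0 with hneg | hpos
  · exact le_trans (mul_nonpos_of_nonneg_of_nonpos hp0.le hneg) hqq.le
  have hGpos : 0 < Gm.det := by
    by_contra hle
    push Not at hle
    have : Gm.det * (q ⬝ᵥ q) ≤ 0 := mul_nonpos_of_nonpos_of_nonneg hle hqq.le
    nlinarith [mul_pos (pow_pos hp0 2) hpos]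
  have hGle : Gm.det ≤ (p : ℤ) := Int.le_of_dvd hp0 ⟨c, hGc.symm⟩
  have h2 : Gm.det * (q ⬝ᵥ q) ≤ (p : ℤ) * (q ⬝ᵥ q) := mul_le_mul_of_nonneg_right hGle hqq.le
  refine le_of_mul_le_mul_left ?_ hp0
  linarith [key.trans h2, mul_comm (p : ℤ) (p : ℤ)]

end Cfsg.Agent.Block
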