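import Cfsg.Agent.Lib.Block.InvolutionZero
import Cfsg.Agent.Lib.Solv.Coprime
import Mathlib.GroupTheory.FixedPointFree

/-!
# Groups without characters of defect zero

If `G` has no character of `p`-defect zero and `z` has centraliser of order prime to `p`, then two
conjugates of `z` differ by a non-trivial element of any given Sylow `p`-subgroup.  Consequences for
groups in which involutions and elements of order `p` do not commute.
-/

set_option autoImplicit false

open Cfsg Cfsg.Agent.Char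
open scoped ComplexConjugate

namespace Cfsg.Agent.Block

universe u

variable {G : Type u} [Group G] [Finite G]

theorem classSum_mul_coeff_eq_zero_iff (z w x : G) :
    (classSum z * classSum w).coeff x = 0 ↔ ∀ g, IsConj z g → ¬ IsConj w (g⁻¹ * x) := by
  classical
  haveI := Fintype.ofFinite G
  rw [MonoidAlgebra.coeff_mul_apply_left, Finsupp.sum_fintype _ _ (by simp)]
  simp only [classSum, coeff_mkA, ite_mul, one_mul, zero_mul, ← ite_and]
  simp [Finset.sum_ite, Finset.filter_eq_empty_iff]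

theorem classSum_mul_inv_coeff_one (z : G) :
    (classSum z * classSum z⁻¹).coeff 1 = ((Subgroup.centralizer ({z} : Set G)).index : ℂ) := by
  classical
  haveI := Fintype.ofFinite G
  rw [MonoidAlgebra.coeff_mul_apply_left, Finsupp.sum_fintype _ _ (by simp)]
  simp only [classSum, coeff_mkA, mul_one]
  have e : ∀ g : G, IsConj z⁻¹ g⁻¹ ↔ IsConj z g := fun g => by
    constructor <;> intro h <;> obtain ⟨c, hc⟩ := isConj_iff.1 h <;> refine isConj_iff.2 ⟨c, ?_⟩
    · have := congrArg (·⁻¹) hc; simpa [mul_assoc] using this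
    · rw [← hc]; group
  simp only [e, ite_mul, one_mul, zero_mul, ← ite_and, and_self]
  rw [← Finset.sum_filter, Finset.sum_const, nsmul_one, ← card_isConj_eq_index, Nat.card_eq_fintype_card, Fintype.card_subtype]

/-- Two conjugates of an element with `p'`-centraliser differ by an element of a Sylow subgroup. -/
theorem exists_conj_diff_mem_sylow {p : ℕ} [Fact p.Prime] (z : G)
    (hz : ¬ p ∣ Nat.card (Subgroup.centralizer ({z} : Set G)))
    (hno : ¬ ∃ χ : IrrCharacter G,
      (charDegree (χ : G → ℂ)).factorization p = (Nat.card G).factorization p)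
    (S : Sylow p G) :
    ∃ x ∈ (S : Subgroup G), x ≠ 1 ∧ ∃ g, IsConj z g ∧ IsConj z⁻¹ (g⁻¹ * x) := by
  classical
  by_contra hcon
  push Not at hcon
  obtain ⟨M, hM⟩ := exists_isPModular (q := p) Fact.out
  haveI := prime_of_isPModular hM
  haveI := Fintype.ofFinite G
  haveI := Fintype.ofFinite (IrrCharacter G)
  haveI := Fintype.ofFinite (S : Subgroup G)
  set a := classSum z * classSum z⁻¹ with ha
  have hac : IsCentralElt a := (isCentralElt_classSum _).mul (isCentralElt_classSum _)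
  have h0 : ∀ (χ : IrrCharacter G) (w : G), ¬ p ∣ Nat.card (Subgroup.centralizer ({w} : Set G)) →
      MemLocalIdeal M (centralChar (χ : G → ℂ) w) := by
    intro χ w hw
    by_contra hu
    refine hno ⟨χ, ?_⟩
    have h2 := classExp_le_of_unit hM χ w hu
    have h3 := classExp_add p w
    have h4 : (Nat.card (Subgroup.centralizer ({w} : Set G))).factorization p = 0 :=
      Nat.factorization_eq_zero_of_not_dvd hw
    have h5 : (charDegree (χ : G → ℂ)).factorization p ≤ (Nat.card G).factorization p :=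
      (Nat.factorization_le_iff_dvd (charDegree_pos χ.2).ne' Nat.card_pos.ne').2
        (charDegree_dvd_card χ.2) p
    omega
  have hz' : ¬ p ∣ Nat.card (Subgroup.centralizer ({z⁻¹} : Set G)) := by
    rwa [centralizer_singleton_inv]
  set s := Nat.card (S : Subgroup G)
  have hs : (s : ℂ) ≠ 0 := Nat.cast_ne_zero.2 Nat.card_pos.ne'
  have hsum : (∑ x : (S : Subgroup G), a.coeff (x : G)) =
      ((Subgroup.centralizer ({z} : Set G)).index : ℂ) := by
    rw [Finset.sum_eq_single 1, Subgroup.coe_one, ha, classSum_mul_inv_coeff_one]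
    · intro x _ hx
      rw [ha, classSum_mul_coeff_eq_zero_iff]
      intro g hg hg'
      exact hcon x x.2 (fun h => hx (Subtype.ext h)) g hg hg'
    · simp
  have hmem : MemLocalIdeal M ((s : ℂ)⁻¹ * ∑ x : (S : Subgroup G), a.coeff (x : G)) := by
    simp only [coeff_eq_sum_omega hac, Finset.mul_sum]
    rw [Finset.sum_comm]
    refine memLocalIdeal_sum _ _ fun χ _ => ?_
    have hch := isCharacter_comp (isCharacter_conj (IsIrrCharacter.isCharacter χ.2))
      (S : Subgroup G).subtype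
    obtain ⟨m, hm⟩ := classInner_natCast_of_isCharacter hch (isCharacter_one (G := (S : Subgroup G)))
    have hm' : (s : ℂ)⁻¹ * ∑ x : (S : Subgroup G), conj ((χ : G → ℂ) (x : G)) = (m : ℂ) := by
      rw [← hm, classInner]
      simp [s, Nat.card_eq_fintype_card]
    have e : ∀ x : (S : Subgroup G), (s : ℂ)⁻¹ * ((Nat.card G : ℂ)⁻¹ *
        (omega (χ : G → ℂ) a * ((χ : G → ℂ) 1 * conj ((χ : G → ℂ) (x : G))))) =
        ((Nat.card G : ℂ)⁻¹ * omega (χ : G → ℂ) a * (χ : G → ℂ) 1) *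
          ((s : ℂ)⁻¹ * conj ((χ : G → ℂ) (x : G))) := fun x => by ring
    rw [Finset.sum_congr rfl fun x _ => e x, ← Finset.mul_sum, ← Finset.mul_sum, hm', ha,
      omega_mul χ (isCentralElt_classSum _) (isCentralElt_classSum _), omega_classSum, omega_classSum]
    have h4 : (Nat.card G : ℂ) = ((Subgroup.centralizer ({z⁻¹} : Set G)).index : ℂ) *
        (Nat.card (Subgroup.centralizer ({z⁻¹} : Set G)) : ℂ) := by
      rw [← Nat.cast_mul, Subgroup.index_mul_card]
    have e2 : (Nat.card G : ℂ)⁻¹ * centralChar (χ : G → ℂ) z⁻¹ * (χ : G → ℂ) 1 =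
        (Nat.card (Subgroup.centralizer ({z⁻¹} : Set G)) : ℂ)⁻¹ * (χ : G → ℂ) z⁻¹ := by
      have h1 : (χ : G → ℂ) 1 ≠ 0 := IsIrrCharacter.apply_one_ne_zero χ.2
      have h2 : (Nat.card (Subgroup.centralizer ({z⁻¹} : Set G)) : ℂ) ≠ 0 :=
        Nat.cast_ne_zero.2 Nat.card_pos.ne'
      have h3 : ((Subgroup.centralizer ({z⁻¹} : Set G)).index : ℂ) ≠ 0 :=
        Nat.cast_ne_zero.2 Subgroup.index_ne_zero_of_finite
      rw [centralChar, h4]
      field_simp
    rw [show (Nat.card G : ℂ)⁻¹ * (centralChar (χ : G → ℂ) z * centralChar (χ : G → ℂ) z⁻¹) *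
        (χ : G → ℂ) 1 * (m : ℂ) = centralChar (χ : G → ℂ) z * (((Nat.card G : ℂ)⁻¹ *
          centralChar (χ : G → ℂ) z⁻¹ * (χ : G → ℂ) 1) * (m : ℂ)) by ring, e2]
    exact memLocalIdeal_mul_right (mul_mem (mul_mem (inv_natCast_mem_locRing hM.1 hM.2.2 hz')
      (irr_mem_locRing χ _)) (natCast_mem _ _)) (h0 χ z hz)
  have hidx : (s : ℂ)⁻¹ * ((Subgroup.centralizer ({z} : Set G)).index : ℂ) =
      ((classCofactor p z : ℕ) : ℂ) := by
    have h3 := classExp_add p z
    rw [Nat.factorization_eq_zero_of_not_dvd hz, add_zero] at h3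
    rw [index_eq_mul_classCofactor p z, h3, Nat.cast_mul,
      show p ^ (Nat.card G).factorization p = s from (Sylow.card_eq_multiplicity S).symm,
      ← mul_assoc, inv_mul_cancel₀ hs, one_mul]
  rw [hsum, hidx, memLocalIdeal_natCast_iff hM.1 hM.2.2] at hmem
  exact not_dvd_classCofactor hM.1 z hmem

/-- An involution inverts some non-trivial element of a Sylow subgroup, up to conjugacy. -/
theorem exists_inverting {p : ℕ} [Fact p.Prime] (t : G) (ht : orderOf t = 2)
    (hz : ¬ p ∣ Nat.card (Subgroup.centralizer ({t} : Set G)))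
    (hno : ¬ ∃ χ : IrrCharacter G,
      (charDegree (χ : G → ℂ)).factorization p = (Nat.card G).factorization p)
    (S : Sylow p G) :
    ∃ x ∈ (S : Subgroup G), x ≠ 1 ∧ ∃ g, IsConj t g ∧ g * x * g⁻¹ = x⁻¹ := by
  obtain ⟨x, hx, hx1, g, hg, hgx⟩ := exists_conj_diff_mem_sylow t hz hno S
  refine ⟨x, hx, hx1, g, hg, ?_⟩
  have htt : t * t = 1 := by rw [← pow_two, ← ht, pow_orderOf_eq_one]
  rw [inv_eq_of_mul_eq_one_right htt] at hgx
  have hcc : ∀ y, IsConj t y → y * y = 1 := fun y hy => by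
    obtain ⟨c, hc⟩ := isConj_iff.1 hy
    rw [← hc, show c * t * c⁻¹ * (c * t * c⁻¹) = c * (t * t) * c⁻¹ by group, htt]; group
  have hgi : g⁻¹ = g := inv_eq_of_mul_eq_one_right (hcc g hg)
  have h := hcc _ hgx
  rw [hgi] at h
  rw [hgi, eq_inv_iff_mul_eq_one, show g * x * g * x = g * x * (g * x) by group, h]

/-- An element whose centraliser has odd order: the Sylow subgroups of that centraliser are inverted
by any involution inverting the element, if no involution commutes with a non-trivial `p`-element. -/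
theorem exists_inverted_sylow {p : ℕ} [Fact p.Prime] {g x : G} (hg : orderOf g = 2)
    (hgx : g * x * g⁻¹ = x⁻¹) (hodd : Odd (Nat.card (Subgroup.centralizer ({x} : Set G))))
    (hz : ¬ p ∣ Nat.card (Subgroup.centralizer ({g} : Set G))) :
    ∃ P : Sylow p (Subgroup.centralizer ({x} : Set G)), ∀ y : G,
      y ∈ (P : Subgroup (Subgroup.centralizer ({x} : Set G))).map
        (Subgroup.centralizer ({x} : Set G)).subtype → g * y * g⁻¹ = y⁻¹ := by
  have hgg : g * g = 1 := by rw [← pow_two, ← hg, pow_orderOf_eq_one]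
  have hgi : g⁻¹ = g := inv_eq_of_mul_eq_one_right hgg
  set C := Subgroup.centralizer ({x} : Set G) with hC
  have hAK : Subgroup.zpowers g ≤ Subgroup.normalizer (C : Set G) := by
    rw [Subgroup.zpowers_le, Subgroup.mem_normalizer_iff]
    have key : ∀ y : G, y ∈ C → g * y * g⁻¹ ∈ C := fun y hy => by
      have hy' : Commute x y := mem_centralizer_singleton.1 hy
      have h1 : Commute (g * x⁻¹ * g⁻¹) (g * y * g⁻¹) := (hy'.inv_left).map (MulAut.conj g).toMonoidHom
      rw [show g * x⁻¹ * g⁻¹ = (g * x * g⁻¹)⁻¹ by group, hgx, inv_inv] at h1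
      exact mem_centralizer_singleton.2 h1
    refine fun y => ⟨key y, fun h => ?_⟩
    have h2 := key _ h
    rw [hgi, show g * (g * y * g) * g = (g * g) * y * (g * g) by group, hgg, one_mul, mul_one] at h2
    exact h2
  have hcop : (Nat.card (Subgroup.zpowers g)).Coprime (Nat.card C) := by
    rw [Nat.card_zpowers, hg, Nat.coprime_two_left]; exact hodd
  obtain ⟨P, hP⟩ := Cfsg.Agent.Solv.exists_invariant_sylow (Subgroup.zpowers g) C hAK hcop
    (Or.inl inferInstance) p
  refine ⟨P, fun y hy => ?_⟩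
  set Q := (P : Subgroup C).map C.subtype with hQ
  have hgQ : ∀ y ∈ Q, g * y * g⁻¹ ∈ Q := fun y hy =>
    (Subgroup.mem_normalizer_iff.1 (hP (Subgroup.mem_zpowers g)) y).1 hy
  let φ : Q → Q := fun y => ⟨g * y * g⁻¹, hgQ y y.2⟩
  let φh : Q →* Q := MonoidHom.mk' φ fun a b => Subtype.ext (by
    show g * (a * b : G) * g⁻¹ = g * (a : G) * g⁻¹ * (g * b * g⁻¹); group)
  have hfix : MonoidHom.FixedPointFree φh := fun a ha => by
    by_contra hne
    have h1 : g * (a : G) * g⁻¹ = a := congrArg Subtype.val ha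
    obtain ⟨k, hk⟩ := IsPGroup.iff_orderOf.1 (P.isPGroup'.map C.subtype) a
    have hk0 : k ≠ 0 := fun h => hne (by rw [h, pow_zero, orderOf_eq_one_iff] at hk; exact hk)
    have hmem : (a : G) ∈ Subgroup.centralizer ({g} : Set G) :=
      mem_centralizer_singleton.2 (show g * (a : G) = a * g from mul_inv_eq_iff_eq_mul.1 h1)
    refine hz ((dvd_pow_self p hk0).trans ?_)
    rw [← hk, ← orderOf_submonoid a]
    exact Subgroup.orderOf_dvd_natCard _ hmem
  have hinv : Function.Involutive φh := fun a => Subtype.ext (by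
    show g * (g * (a : G) * g⁻¹) * g⁻¹ = a
    rw [hgi, show g * (g * (a : G) * g) * g = (g * g) * a * (g * g) by group, hgg, one_mul, mul_one])
  have := congrFun (MonoidHom.FixedPointFree.coe_eq_inv_of_involutive hfix hinv) ⟨y, hy⟩
  exact congrArg Subtype.val this

section NoOrderTwoP

variable {p : ℕ} [Fact p.Prime] (hp2 : p ≠ 2)
  (hC : ∀ g : G, g ≠ 1 → (∃ k : ℕ, orderOf g = p ^ k) →
    Odd (Nat.card ↥(Subgroup.centralizer ({g} : Set G))))
  (hno : ¬ ∃ χ : IrrCharacter G,
    (charDegree (χ : G → ℂ)).factorization p = (Nat.card G).factorization p)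

include hC in
theorem not_dvd_centralizer_involution {t : G} (ht : orderOf t = 2) :
    ¬ p ∣ Nat.card (Subgroup.centralizer ({t} : Set G)) := by
  intro hd
  obtain ⟨⟨x, hx⟩, hxp⟩ := exists_prime_orderOf_dvd_card' p hd
  rw [Subgroup.orderOf_mk] at hxp
  have hodd := hC x (fun h => by simp [h, (Fact.out : p.Prime).ne_one.symm] at hxp)
    ⟨1, by rw [hxp, pow_one]⟩
  have : (2 : ℕ) ∣ Nat.card (Subgroup.centralizer ({x} : Set G)) := by
    rw [← ht]
    exact Subgroup.orderOf_dvd_natCard _ (mem_centralizer_singleton.2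
      (show Commute x t from (show Commute t x from mem_centralizer_singleton.1 hx).symm))
  exact (Nat.not_even_iff_odd.2 hodd) (even_iff_two_dvd.2 this)

include hC hno in
/-- Every class of involutions contains an element inverting a given Sylow `p`-subgroup. -/
theorem exists_inverts_sylow (t : G) (ht : orderOf t = 2) (S : Sylow p G) :
    IsMulCommutative ↥(S : Subgroup G) ∧ (S : Subgroup G) ≠ ⊥ ∧
      ∃ g, IsConj t g ∧ ∀ y ∈ (S : Subgroup G), g * y * g⁻¹ = y⁻¹ := by
  have hpE : ∀ x ∈ (S : Subgroup G), ∃ k : ℕ, orderOf x = p ^ k := fun x hx => by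
    obtain ⟨k, hk⟩ := IsPGroup.iff_orderOf.1 S.isPGroup' ⟨x, hx⟩
    exact ⟨k, by rw [← hk, Subgroup.orderOf_mk]⟩
  have hco : ∀ g, IsConj t g → orderOf g = 2 := fun g hg => by
    obtain ⟨c, hc⟩ := isConj_iff.1 hg
    rw [← hc, ← MulAut.conj_apply, MulEquiv.orderOf_eq, ht]
  -- step 1: an element `x` and a conjugate of `t` inverting it
  obtain ⟨x, hx, hx1, g, hg, hgx⟩ := exists_inverting t ht (not_dvd_centralizer_involution hC ht) hno S
  obtain ⟨P, hP⟩ := exists_inverted_sylow (p := p) (hco g hg) hgx (hC x hx1 (hpE x hx))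
    (not_dvd_centralizer_involution hC (hco g hg))
  haveI : Nontrivial (S : Subgroup G) := ⟨⟨⟨x, hx⟩, 1, fun h => hx1 (congrArg Subtype.val h)⟩⟩
  -- a central element of `S`
  haveI := S.isPGroup'.center_nontrivial
  obtain ⟨⟨⟨z, hz⟩, hzc⟩, hz1⟩ := exists_ne (1 : Subgroup.center (S : Subgroup G))
  have hz1' : z ≠ 1 := fun h => hz1 (Subtype.ext (Subtype.ext h))
  have hcz : ∀ y ∈ (S : Subgroup G), Commute z y := fun y hy =>
    (congrArg Subtype.val (Subgroup.mem_center_iff.1 hzc ⟨y, hy⟩)).symm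
  -- `z` lies in a conjugate of `P`
  have hzC : z ∈ Subgroup.centralizer ({x} : Set G) :=
    mem_centralizer_singleton.2 (hcz x hx).symm
  obtain ⟨k, hk⟩ := hpE z hz
  obtain ⟨R, hR⟩ := (IsPGroup.of_card (n := k) (by
    rw [Nat.card_zpowers, ← Subgroup.orderOf_coe]; exact hk) :
      IsPGroup p (Subgroup.zpowers (⟨z, hzC⟩ : Subgroup.centralizer ({x} : Set G)))).exists_le_sylow
  obtain ⟨c, hc⟩ := MulAction.exists_smul_eq (Subgroup.centralizer ({x} : Set G)) P R
  have hzR : (⟨z, hzC⟩ : Subgroup.centralizer ({x} : Set G)) ∈ (c • P : Sylow p _).1 := by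
    rw [hc]; exact hR (Subgroup.mem_zpowers _)
  rw [Sylow.coe_subgroup_smul, Cfsg.Agent.Solv.mem_conj_smul] at hzR
  have hinv : g * ((c : G)⁻¹ * z * (c : G)) * g⁻¹ = ((c : G)⁻¹ * z * (c : G))⁻¹ :=
    hP _ (Subgroup.mem_map_of_mem _ hzR)
  set g' := (c : G) * g * (c : G)⁻¹ with hg'
  have hg't : IsConj t g' := hg.trans (isConj_iff.2 ⟨c, rfl⟩)
  have hg'z : g' * z * g'⁻¹ = z⁻¹ := by
    rw [hg', show (c : G) * g * (c : G)⁻¹ * z * ((c : G) * g * (c : G)⁻¹)⁻¹ =
      (c : G) * (g * ((c : G)⁻¹ * z * (c : G)) * g⁻¹) * (c : G)⁻¹ by group, hinv]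
    group
  -- step 2: `S` is a Sylow subgroup of the centraliser of `z`
  obtain ⟨P', hP'⟩ := exists_inverted_sylow (p := p) (hco g' hg't) hg'z (hC z hz1' (hpE z hz))
    (not_dvd_centralizer_involution hC (hco g' hg't))
  have hSC : (S : Subgroup G) ≤ Subgroup.centralizer ({z} : Set G) := fun y hy =>
    mem_centralizer_singleton.2 (hcz y hy)
  obtain ⟨R', hR'⟩ := (S.isPGroup'.comap_subtype :
    IsPGroup p ((S : Subgroup G).subgroupOf (Subgroup.centralizer ({z} : Set G)))).exists_le_sylow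
  obtain ⟨c', hc'⟩ := MulAction.exists_smul_eq (Subgroup.centralizer ({z} : Set G)) P' R'
  have key : ∀ y ∈ (S : Subgroup G),
      (c' : G) * g' * (c' : G)⁻¹ * y * ((c' : G) * g' * (c' : G)⁻¹)⁻¹ = y⁻¹ := by
    intro y hy
    have hy' : (⟨y, hSC hy⟩ : Subgroup.centralizer ({z} : Set G)) ∈ (c' • P' : Sylow p _).1 := by
      rw [hc']; exact hR' hy
    rw [Sylow.coe_subgroup_smul, Cfsg.Agent.Solv.mem_conj_smul] at hy'
    have h : g' * ((c' : G)⁻¹ * y * (c' : G)) * g'⁻¹ = ((c' : G)⁻¹ * y * (c' : G))⁻¹ :=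
      hP' _ (Subgroup.mem_map_of_mem _ hy')
    rw [show (c' : G) * g' * (c' : G)⁻¹ * y * ((c' : G) * g' * (c' : G)⁻¹)⁻¹ =
      (c' : G) * (g' * ((c' : G)⁻¹ * y * (c' : G)) * g'⁻¹) * (c' : G)⁻¹ by group, h]
    group
  refine ⟨⟨⟨fun a b => Subtype.ext ?_⟩⟩, fun h => hx1 (by rw [h, Subgroup.mem_bot] at hx; exact hx),
    (c' : G) * g' * (c' : G)⁻¹, hg't.trans (isConj_iff.2 ⟨c', rfl⟩), key⟩
  set f := (c' : G) * g' * (c' : G)⁻¹
  have h := key _ (mul_mem a.2 b.2)
  rw [show f * ((a : G) * b) * f⁻¹ = f * a * f⁻¹ * (f * b * f⁻¹) by group, key _ a.2, key _ b.2,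
    ← mul_inv_rev, inv_inj] at h
  exact h.symm

include hC hno in
/-- There is one class of involutions. -/
theorem isConj_involutions {s t : G} (hs : orderOf s = 2) (ht : orderOf t = 2) : IsConj s t := by
  obtain ⟨S⟩ : Nonempty (Sylow p G) := inferInstance
  obtain ⟨-, hS, s', hs', hs''⟩ := exists_inverts_sylow hC hno s hs S
  obtain ⟨-, -, t', ht', ht''⟩ := exists_inverts_sylow hC hno t ht S
  obtain ⟨x, hx, hx1⟩ : ∃ x ∈ (S : Subgroup G), x ≠ 1 := by
    by_contra h; push Not at h; exact hS ((Subgroup.eq_bot_iff_forall _).2 h)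
  obtain ⟨k, hk⟩ := IsPGroup.iff_orderOf.1 S.isPGroup' ⟨x, hx⟩
  rw [Subgroup.orderOf_mk] at hk
  have hco : ∀ a g : G, IsConj a g → orderOf a = 2 → g * g = 1 := fun a g hg ha => by
    obtain ⟨c, hc⟩ := isConj_iff.1 hg
    rw [← hc, show c * a * c⁻¹ * (c * a * c⁻¹) = c * (a * a) * c⁻¹ by group, ← pow_two a, ← ha,
      pow_orderOf_eq_one]; group
  have ss := hco s s' hs' hs
  have tt := hco t t' ht' ht
  set d := s' * t' with hd
  have hdC : d ∈ Subgroup.centralizer ({x} : Set G) := by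
    refine mem_centralizer_singleton.2 (show x * d = d * x from ?_)
    have h : d * x * d⁻¹ = x := by
      rw [hd, show s' * t' * x * (s' * t')⁻¹ = s' * (t' * x * t'⁻¹) * s'⁻¹ by group, ht'' x hx,
        show s' * x⁻¹ * s'⁻¹ = (s' * x * s'⁻¹)⁻¹ by group, hs'' x hx, inv_inv]
    exact (mul_inv_eq_iff_eq_mul.1 h).symm
  have hdo : Odd (orderOf d) :=
    Odd.of_dvd_nat (hC x hx1 ⟨k, hk⟩) (Subgroup.orderOf_dvd_natCard _ hdC)
  refine hs'.trans (IsConj.trans ?_ ht'.symm)
  obtain ⟨m, hm⟩ := hdo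
  refine isConj_iff.2 ⟨d ^ m, ?_⟩
  have hinv : s' * d * s'⁻¹ = d⁻¹ := by
    rw [hd, mul_inv_rev, inv_eq_of_mul_eq_one_right ss, inv_eq_of_mul_eq_one_right tt, ← mul_assoc s' s', ss,
      one_mul]
  have hpow : s' * (d ^ m)⁻¹ * s'⁻¹ = d ^ m := by
    rw [show s' * (d ^ m)⁻¹ * s'⁻¹ = (s' * d ^ m * s'⁻¹)⁻¹ by group, ← conj_pow, hinv, inv_pow,
      inv_inv]
  have h2 : d ^ m * d ^ m = d⁻¹ := by
    rw [← pow_add, eq_inv_iff_mul_eq_one, ← pow_succ, show m + m + 1 = orderOf d by omega,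
      pow_orderOf_eq_one]
  calc d ^ m * s' * (d ^ m)⁻¹ = d ^ m * (s' * (d ^ m)⁻¹ * s'⁻¹) * s' := by group
    _ = d⁻¹ * s' := by rw [hpow, h2]
    _ = t' := by
      rw [hd, mul_inv_rev, inv_eq_of_mul_eq_one_right ss, inv_eq_of_mul_eq_one_right tt, mul_assoc, ss,
        mul_one]

end NoOrderTwoP

end Cfsg.Agent.Block
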