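import Cfsg.Agent.Lib.Block.PPrimeDegrees
import Cfsg.Agent.Lib.Local.QuotientLocal
import Cfsg.Agent.Lib.Solv.Coprime
import Cfsg.Agent.Lib.Struct.FpfSub

/-!
# Defect zero when elements of `p`-power and `q`-power order do not commute
-/

set_option autoImplicit false
set_option linter.style.haveILetI false
set_option linter.unusedSectionVars false
set_option linter.unusedVariables false

namespace Cfsg.Agent.Block.NoPQ

open Cfsg Cfsg.Agent.Char Cfsg.Agent.Block
open scoped Classical Pointwise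

universe u

variable {G : Type u} [Group G] [Finite G]

/-- A finite set closed under conjugation by `a` is normalised by `a`. -/
theorem mem_normalizer_of_forall {A : Subgroup G} {a : G} (h : ∀ x ∈ A, a * x * a⁻¹ ∈ A) :
    a ∈ Subgroup.normalizer (A : Set G) := by
  rw [Subgroup.mem_normalizer_iff]
  refine fun x => ⟨h x, fun hx => ?_⟩
  haveI : Finite A := inferInstance
  let f : A → A := fun z => ⟨a * z * a⁻¹, h z z.2⟩
  have hf : Function.Injective f := fun u v e => Subtype.ext
    (mul_left_cancel (mul_right_cancel (congrArg Subtype.val e : a * (u : G) * a⁻¹ = a * v * a⁻¹)))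
  obtain ⟨y, hy⟩ := (Finite.injective_iff_surjective.1 hf) ⟨_, hx⟩
  have e := mul_left_cancel (mul_right_cancel (congrArg Subtype.val hy : a * (y : G) * a⁻¹ = a * x * a⁻¹))
  exact e ▸ y.2

/-- No element of order `p` commutes with one of order `q`. -/
def NoCommute (p q : ℕ) (G : Type u) [Group G] : Prop :=
  ∀ x y : G, orderOf x = p → orderOf y = q → ¬ Commute x y

theorem noCommute_symm {p q : ℕ} (h : NoCommute p q G) : NoCommute q p G :=
  fun x y hx hy hc => h y x hy hx hc.symm

/-- A character of full `r`-part over a character of a normal subgroup with `r'`-inertia. -/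
theorem exists_full_of_inertia {r : ℕ} [hr : Fact r.Prime] (N : Subgroup G) [N.Normal]
    (θ : IrrCharacter N) (hN : ¬ r ∣ Nat.card N)
    (hT : ∀ g : G, orderOf g = r → Char.conjChar N g (θ : N → ℂ) ≠ θ) :
    ∃ χ : IrrCharacter G,
      (charDegree (χ : G → ℂ)).factorization r = (Nat.card G).factorization r := by
  haveI := Fintype.ofFinite G
  haveI := Fintype.ofFinite N
  obtain ⟨χ, hχ⟩ := exists_over_normal N θ
  refine ⟨χ, ?_⟩
  obtain ⟨e, he⟩ := exists_classInner_nat
    (IsCharacter.restrict (IsIrrCharacter.isCharacter χ.2) N) θ.2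
  have hd := restrict_degree_eq N χ.2 θ.2 hχ
  rw [he, ← charDegree_cast (IsIrrCharacter.isCharacter χ.2),
    ← charDegree_cast (IsIrrCharacter.isCharacter θ.2), ← Nat.cast_mul, ← Nat.cast_mul, Nat.cast_inj] at hd
  set T := inertia N (θ : N → ℂ)
  have hTr : ¬ r ∣ Nat.card T := fun h => by
    obtain ⟨g, hg⟩ := exists_prime_orderOf_dvd_card' r h
    exact hT (g : G) (by rw [Subgroup.orderOf_coe, hg]) g.2
  have h0 : charDegree (χ : G → ℂ) ≠ 0 := (charDegree_pos χ.2).ne'
  have h1 : T.index ∣ charDegree (χ : G → ℂ) :=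
    ⟨e * charDegree (θ : N → ℂ), by rw [hd]; ring⟩
  refine le_antisymm ?_ ?_
  · exact (Nat.factorization_le_iff_dvd h0 Nat.card_pos.ne').2 (charDegree_dvd_card χ.2) r
  · calc (Nat.card G).factorization r = T.index.factorization r := by
          rw [← T.card_mul_index, Nat.factorization_mul Nat.card_pos.ne' Subgroup.index_ne_zero_of_finite,
            Finsupp.add_apply, Nat.factorization_eq_zero_of_not_dvd hTr, zero_add]
      _ ≤ _ := (Nat.factorization_le_iff_dvd Subgroup.index_ne_zero_of_finite h0).2 h1 r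

/-- An element fixing a nontrivial character of a normal subgroup of coprime order centralises
a nontrivial element. -/
theorem exists_commute_of_fixes (K : Subgroup G) [K.Normal] {g : G}
    (hcop : Nat.Coprime (orderOf g) (Nat.card K)) {θ : IrrCharacter K}
    (hθ : (θ : K → ℂ) ≠ 1) (h : Char.conjChar K g (θ : K → ℂ) = θ) :
    ∃ k ∈ K, k ≠ 1 ∧ g * k = k * g := by
  haveI := Fintype.ofFinite K
  let α : K ≃* K := MulAut.conjNormal g
  have h1 := card_fixed_irr_aut α
  let one : IrrCharacter K := ⟨1, isIrrCharacter_one⟩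
  have hge : 2 ≤ Nat.card {χ : IrrCharacter K // (χ : K → ℂ) ∘ α = χ} := by
    haveI : Nontrivial {χ : IrrCharacter K // (χ : K → ℂ) ∘ α = χ} := ⟨⟨one, funext fun n => rfl⟩,
      ⟨θ, (funext fun n => (Char.conjChar_apply K g (θ : K → ℂ) n).symm :
        (θ : K → ℂ) ∘ α = Char.conjChar K g θ).trans h⟩,
      fun e => hθ (congrArg (fun x : {χ : IrrCharacter K // (χ : K → ℂ) ∘ α = χ} => (x.1 : K → ℂ)) e).symm⟩
    exact Finite.one_lt_card
  rw [h1] at hge
  obtain ⟨⟨C, hC⟩, hne⟩ : ∃ C : {C : ConjClasses K // ConjClasses.map α.toMonoidHom C = C},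
      C.1 ≠ ConjClasses.mk 1 := by
    by_contra hn
    push Not at hn
    haveI : Subsingleton {C : ConjClasses K // ConjClasses.map α.toMonoidHom C = C} :=
      ⟨fun a b => Subtype.ext ((hn a).trans (hn b).symm)⟩
    have := Finite.card_le_one_iff_subsingleton.2 ‹Subsingleton {C : ConjClasses K // ConjClasses.map α.toMonoidHom C = C}›
    omega
  obtain ⟨m, rfl⟩ := C.exists_rep
  have hc : IsConj (α m) m := ConjClasses.mk_eq_mk_iff_isConj.1 hC
  obtain ⟨c, hc⟩ := isConj_iff.1 hc.symm
  have hfx : g * (m : G) * g⁻¹ = (c : G) * m * (c : G)⁻¹ := by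
    rw [← MulAut.conjNormal_apply g m]
    exact (congrArg Subtype.val hc).symm
  obtain ⟨y, hy, hgy⟩ := exists_fixed_conj K g
    (Subgroup.normalizer_eq_top K ▸ Subgroup.mem_top g) hcop c.2 hfx
  refine ⟨y * m * y⁻¹, K.mul_mem (K.mul_mem hy m.2) (K.inv_mem hy), fun e => hne ?_, hgy⟩
  rw [conj_eq_one_iff] at e
  obtain rfl : m = 1 := Subtype.ext e
  rfl

theorem orderOf_eq_of_commute {r : ℕ} [hr : Fact r.Prime] {k : G} (hk1 : k ≠ 1)
    {n : ℕ} (hk : k ^ r ^ n = 1) : ∃ i : ℕ, orderOf (k ^ i) = r := by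
  obtain ⟨j, -, hj⟩ := (Nat.dvd_prime_pow hr.out).1 (orderOf_dvd_of_pow_eq_one hk)
  rcases j with _ | j
  · exact absurd (orderOf_eq_one_iff.1 (by simpa using hj)) hk1
  · refine ⟨r ^ j, ?_⟩
    rw [orderOf_pow' k (pow_ne_zero j hr.out.ne_zero), hj,
      Nat.gcd_eq_right (pow_dvd_pow r (Nat.le_succ j)), pow_succ,
      Nat.mul_div_cancel_left _ (pow_pos hr.out.pos j)]

/-- A nontrivial `p`-core gives a character of `q`-defect zero. -/
theorem full_of_pCore {p q : ℕ} [hp : Fact p.Prime] [hq : Fact q.Prime] (hpq : p ≠ q)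
    (h : NoCommute p q G) (hR : pCore p G ≠ ⊥) :
    ∃ χ : IrrCharacter G, (charDegree (χ : G → ℂ)).factorization q = (Nat.card G).factorization q := by
  haveI := Solv.pCore_characteristic p G
  set R := pCore p G with hRdef
  have hRp : IsPGroup p R := Solv.isPGroup_pCore p G
  obtain ⟨n, hn⟩ := IsPGroup.iff_card.1 hRp
  have hqR : ¬ q ∣ Nat.card R := fun hd => by
    rw [hn] at hd
    exact hpq ((Nat.prime_dvd_prime_iff_eq hq.out hp.out).1 (hq.out.dvd_of_dvd_pow hd)).symm
  haveI := Fintype.ofFinite R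
  haveI : Nontrivial R := (Subgroup.nontrivial_iff_ne_bot R).2 hR
  obtain ⟨θ, hθ⟩ : ∃ θ : IrrCharacter R, (θ : R → ℂ) ≠ 1 := by
    by_contra hn'
    push Not at hn'
    obtain ⟨x, hx⟩ := exists_ne (1 : R)
    exact hx (isConj_one_left.mp ((isConj_iff_irr x 1).mpr fun χ => by simp [hn' χ]))
  refine exists_full_of_inertia R θ hqR fun g hg hfix => ?_
  obtain ⟨k, hk, hk1, hc⟩ := exists_commute_of_fixes R
    (hg ▸ (hq.out.coprime_iff_not_dvd.2 hqR)) hθ hfix
  obtain ⟨j, hj⟩ := hRp ⟨k, hk⟩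
  obtain ⟨i, hi⟩ := orderOf_eq_of_commute hk1 (n := j) (congrArg Subtype.val hj)
  exact h _ g hi hg ((Commute.pow_left (show Commute k g from hc.symm) i))

/-- The case of a nontrivial `p'`-core. -/
theorem full_of_pPrimeCore {p q : ℕ} [hp : Fact p.Prime] [hq : Fact q.Prime] (hpq : p ≠ q)
    (hpG : p ∣ Nat.card G) (hs : IsPSolvable p G) (h : NoCommute p q G) :
    (∃ χ : IrrCharacter G, (charDegree (χ : G → ℂ)).factorization p = (Nat.card G).factorization p) ∨
      ∃ χ : IrrCharacter G, (charDegree (χ : G → ℂ)).factorization q = (Nat.card G).factorization q := by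
  haveI := Solv.pPrimeCore_characteristic p G
  set K := pPrimeCore p G with hKdef
  set π := QuotientGroup.mk' K with hπ
  have hKc : (Nat.card K).Coprime p := Solv.card_pPrimeCore_coprime p G
  have hKp : ¬ p ∣ Nat.card K := hp.out.coprime_iff_not_dvd.1 hKc.symm
  haveI : Nontrivial (G ⧸ K) := by
    by_contra hn'
    rw [not_nontrivial_iff_subsingleton] at hn'
    have h1 := K.card_eq_card_quotient_mul_card_subgroup
    rw [Nat.card_of_subsingleton (1 : G ⧸ K), one_mul] at h1
    exact hKp (h1 ▸ hpG)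
  have hR' : pCore p (G ⧸ K) ≠ ⊥ :=
    (Solv.core_ne_bot_of_isPSolvable (Solv.isPSolvable_quotient hs K)).resolve_right
      (not_not.2 (Solv.pPrimeCore_quotient_pPrimeCore p))
  by_cases hqK : q ∣ Nat.card K
  · left
    obtain ⟨P⟩ := Sylow.nonempty (p := p) (G := G)
    have hP := P.isPGroup'
    have hPK : Nat.Coprime (Nat.card (P : Subgroup G)) (Nat.card K) :=
      Solv.coprime_card_of_isPGroup hP hKc
    have hPn : (P : Subgroup G) ≤ Subgroup.normalizer (K : Set G) := by
      rw [Subgroup.normalizer_eq_top]; exact le_top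
    haveI : Group.IsNilpotent (P : Subgroup G) := hP.isNilpotent
    obtain ⟨Q, hQ⟩ := Solv.exists_invariant_sylow (P : Subgroup G) K hPn hPK (Or.inl inferInstance) q
    set A : Subgroup G := ((Subgroup.center (Q : Subgroup K)).map (Q : Subgroup K).subtype).map K.subtype with hA
    haveI : IsMulCommutative A := by rw [hA]; infer_instance
    have hAq : IsPGroup q A := ((Q.isPGroup'.to_subgroup _).map _).map _
    have hA1 : A ≠ ⊥ := by
      haveI : Nontrivial (Q : Subgroup K) := by
        rw [Subgroup.nontrivial_iff_ne_bot]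
        exact Q.ne_bot_of_dvd_card hqK
      haveI : Nontrivial (Subgroup.center (Q : Subgroup K)) := Q.isPGroup'.center_nontrivial
      rw [hA, ne_eq, Subgroup.map_eq_bot_iff_of_injective _ K.subtype_injective,
        Subgroup.map_eq_bot_iff_of_injective _ (Q : Subgroup K).subtype_injective]
      exact (Subgroup.nontrivial_iff_ne_bot _).1 inferInstance
    have hAn : (P : Subgroup G) ≤ Subgroup.normalizer (A : Set G) := by
      set Q' : Subgroup G := (Q : Subgroup K).map K.subtype with hQ'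
      have hmem : ∀ x : G, x ∈ A ↔ x ∈ Q' ∧ ∀ w ∈ Q', w * x = x * w := by
        intro x
        constructor
        · rintro ⟨_, ⟨z, hz, rfl⟩, rfl⟩
          refine ⟨⟨z, z.2, rfl⟩, ?_⟩
          rintro _ ⟨w, hw, rfl⟩
          exact congrArg (fun v : (Q : Subgroup K) => ((v : K) : G)) (Subgroup.mem_center_iff.1 hz ⟨w, hw⟩)
        · rintro ⟨⟨z, hz, rfl⟩, hc⟩
          refine ⟨z, ⟨⟨z, hz⟩, Subgroup.mem_center_iff.2 fun w => ?_, rfl⟩, rfl⟩
          exact Subtype.ext (Subtype.ext (hc _ ⟨w, w.2, rfl⟩))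
      intro a ha
      refine mem_normalizer_of_forall fun x hx => ?_
      rw [hmem] at hx ⊢
      have hn := Subgroup.mem_normalizer_iff.1 (hQ ha)
      refine ⟨(hn x).1 hx.1, fun w hw => ?_⟩
      have h1 : a⁻¹ * w * a ∈ Q' := (hn _).2 (by simpa [mul_assoc] using hw)
      have h2 := congrArg (fun v => a * v * a⁻¹) (hx.2 _ h1)
      simpa [mul_assoc] using h2
    have hfpf : ∀ a ∈ (P : Subgroup G), a ≠ 1 → A ⊓ Subgroup.centralizer {a} = ⊥ := by
      intro a ha ha1
      rw [Subgroup.eq_bot_iff_forall]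
      intro y hy
      by_contra hy1
      obtain ⟨j, hj⟩ := hP ⟨a, ha⟩
      obtain ⟨l, hl⟩ := hAq ⟨y, hy.1⟩
      obtain ⟨i, hi⟩ := orderOf_eq_of_commute ha1 (n := j) (congrArg Subtype.val hj)
      obtain ⟨i', hi'⟩ := orderOf_eq_of_commute hy1 (n := l) (congrArg Subtype.val hl)
      exact h _ _ hi hi' (Commute.pow_pow (Subgroup.mem_centralizer_singleton_iff.1 hy.2).symm i i')
    have hPπ : ∀ a ∈ (P : Subgroup G), π a = 1 → a = 1 := fun a ha h1 => by
      have : a ∈ (P : Subgroup G) ⊓ K := ⟨ha, (QuotientGroup.eq_one_iff a).1 h1⟩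
      rwa [Solv.inf_eq_bot_of_isPGroup hP hKc, Subgroup.mem_bot] at this
    have hPne : (P : Subgroup G) ≠ ⊥ := P.ne_bot_of_dvd_card hpG
    haveI : Nontrivial (P : Subgroup G) := (Subgroup.nontrivial_iff_ne_bot _).2 hPne
    haveI : Nontrivial (Subgroup.center (P : Subgroup G)) := hP.center_nontrivial
    obtain ⟨z, hz⟩ := exists_ne (1 : Subgroup.center (P : Subgroup G))
    obtain ⟨j, hj⟩ := hP (z : (P : Subgroup G))
    obtain ⟨i, hi⟩ := orderOf_eq_of_commute (k := ((z : (P : Subgroup G)) : G)) (n := j)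
      (fun e => hz (Subtype.ext (Subtype.ext e))) (congrArg Subtype.val hj)
    set x₀ : G := ((z : (P : Subgroup G)) : G) ^ i with hx₀
    have hx₀P : x₀ ∈ (P : Subgroup G) := (P : Subgroup G).pow_mem (z : (P : Subgroup G)).2 i
    have huniq : ∀ b ∈ (P : Subgroup G), b ^ p = 1 → b ∈ Subgroup.zpowers x₀ := by
      intro b hb hbp
      have hcm : Commute x₀ b := Commute.pow_left
        (congrArg Subtype.val (Subgroup.mem_center_iff.1 z.2 ⟨b, hb⟩) : b * ((z : (P : Subgroup G)) : G) = _).symm i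
      have := Struct.Frobenius.unique_order_prime (A := (P : Subgroup G)) (p := p) hA1 hAn hfpf (a := ⟨x₀, hx₀P⟩) (b := ⟨b, hb⟩)
        (by rw [Subgroup.orderOf_mk, hi]) (Subtype.ext hbp) (Subtype.ext hcm)
      obtain ⟨k, hk⟩ := Subgroup.mem_zpowers_iff.1 this
      exact Subgroup.mem_zpowers_iff.2 ⟨k, congrArg Subtype.val hk⟩
    set Pb : Sylow p (G ⧸ K) := P.mapSurjective (QuotientGroup.mk'_surjective K) with hPb
    have huniq' : ∀ b ∈ (Pb : Subgroup (G ⧸ K)), b ^ p = 1 → b ∈ Subgroup.zpowers (π x₀) := by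
      intro b hb hbp
      rw [hPb, Sylow.coe_mapSurjective] at hb
      obtain ⟨a, ha, rfl⟩ := hb
      obtain ⟨k, hk⟩ := Subgroup.mem_zpowers_iff.1 (huniq a ha
        (hPπ _ ((P : Subgroup G).pow_mem ha p) (by rw [map_pow, hbp])))
      exact Subgroup.mem_zpowers_iff.2 ⟨k, by rw [← map_zpow, hk]⟩
    haveI := Solv.pCore_characteristic p (G ⧸ K)
    have hx0p : x₀ ^ p = 1 := orderOf_dvd_iff_pow_eq_one.1 hi.dvd
    have hx₀O : π x₀ ∈ pCore p (G ⧸ K) := by
      obtain ⟨k, hk⟩ := IsPGroup.iff_card.1 (Solv.isPGroup_pCore p (G ⧸ K))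
      have hk0 : k ≠ 0 := fun e => by
        rw [e, pow_zero] at hk
        exact hR' (Subgroup.eq_bot_of_card_eq _ hk)
      obtain ⟨y, hy⟩ := exists_prime_orderOf_dvd_card' (G := pCore p (G ⧸ K)) p (hk ▸ dvd_pow_self p hk0)
      have hyo : orderOf (y : G ⧸ K) = p := by rw [Subgroup.orderOf_coe, hy]
      have hmem := huniq' _ (Solv.pCore_le_sylow Pb y.2) (orderOf_dvd_iff_pow_eq_one.1 hyo.dvd)
      have hxo : orderOf (π x₀) = p := orderOf_eq_prime (by rw [← map_pow, hx0p, map_one])
        (fun e => by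
          have e' := hPπ x₀ hx₀P e
          rw [e', orderOf_one] at hi
          exact hp.out.one_lt.ne hi)
      have heq : Subgroup.zpowers (y : G ⧸ K) = Subgroup.zpowers (π x₀) :=
        Subgroup.eq_of_le_of_card_ge (Subgroup.zpowers_le.2 hmem)
          (by rw [Nat.card_zpowers, Nat.card_zpowers, hxo, hyo])
      exact (Subgroup.zpowers_le.2 y.2) (heq ▸ Subgroup.mem_zpowers _)
    haveI := Fintype.ofFinite K
    obtain ⟨θ, hθ⟩ : ∃ θ : IrrCharacter K, Char.conjChar K x₀ (θ : K → ℂ) ≠ θ := by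
      by_contra hn
      push Not at hn
      obtain ⟨w, hw⟩ := exists_prime_orderOf_dvd_card' (G := K) q hqK
      refine h x₀ (w : G) hi (by rw [Subgroup.orderOf_coe, hw]) (commute_of_fixes_irr K ?_ hn w.2)
      rw [hi]; exact hKc.symm
    refine exists_full_of_inertia K θ hKp fun g hg hfix => hθ ?_
    -- the image of `g` is a power of the image of `x₀`
    have hgo : π g ^ p = 1 := by rw [← map_pow, orderOf_dvd_iff_pow_eq_one.1 hg.dvd, map_one]
    have hgp : IsPGroup p (Subgroup.zpowers (π g)) := by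
      obtain ⟨k, -, hk⟩ := (Nat.dvd_prime_pow hp.out).1
        ((pow_one p).symm ▸ orderOf_dvd_of_pow_eq_one hgo : orderOf (π g) ∣ p ^ 1)
      exact IsPGroup.of_card (n := k) (by rw [Nat.card_zpowers, hk])
    obtain ⟨S, hS⟩ := hgp.exists_le_sylow
    obtain ⟨c, hc⟩ := MulAction.exists_smul_eq (G ⧸ K) Pb S
    have hgS : π g ∈ (S : Subgroup (G ⧸ K)) := hS (Subgroup.mem_zpowers _)
    rw [← hc, Sylow.coe_subgroup_smul, Solv.mem_conj_smul] at hgS
    have hgO : π g ∈ pCore p (G ⧸ K) := by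
      have h1 : c⁻¹ * π g * c ∈ pCore p (G ⧸ K) :=
        (Subgroup.zpowers_le.2 hx₀O) (huniq' _ hgS (by
          have := conj_pow (i := p) (a := c⁻¹) (b := π g)
          rw [inv_inv] at this
          rw [this, hgo]; simp))
      have := (inferInstance : (pCore p (G ⧸ K)).Normal).conj_mem _ h1 c
      simpa [mul_assoc] using this
    have hmem := huniq' _ (Solv.pCore_le_sylow Pb hgO) hgo
    obtain ⟨i, hi'⟩ := Subgroup.mem_zpowers_iff.1 hmem
    have hgT : g ∈ inertia K (θ : K → ℂ) := hfix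
    have hKT : K ≤ inertia K (θ : K → ℂ) := le_inertia K (IsCharacter.isClassFunction (IsIrrCharacter.isCharacter θ.2))
    have hxi : x₀ ^ i ∈ inertia K (θ : K → ℂ) := by
      have h1 : g⁻¹ * x₀ ^ i ∈ K := QuotientGroup.eq.1 (show π g = π (x₀ ^ i) by rw [map_zpow, hi'])
      simpa using (inertia K (θ : K → ℂ)).mul_mem hgT (hKT h1)
    have hgK : π g ≠ 1 := fun e => hKp (by
      have := K.orderOf_dvd_natCard ((QuotientGroup.eq_one_iff g).1 e)
      rwa [hg] at this)
    have hni : ¬ (p : ℤ) ∣ i := fun hd => hgK (by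
      obtain ⟨t, rfl⟩ := hd
      rw [← hi', zpow_mul, zpow_natCast, ← map_pow, hx0p, map_one, one_zpow])
    obtain ⟨a, b, hab⟩ : IsCoprime i (p : ℤ) :=
      ((Nat.prime_iff_prime_int.1 hp.out).coprime_iff_not_dvd.2 hni).symm
    have : x₀ ∈ inertia K (θ : K → ℂ) := by
      have e : x₀ = (x₀ ^ i) ^ a * (x₀ ^ (p : ℤ)) ^ b := by
        rw [← zpow_mul, ← zpow_mul, ← zpow_add, mul_comm i a, mul_comm (p : ℤ) b, hab, zpow_one]
      rw [e, zpow_natCast, hx0p, one_zpow, mul_one]
      exact (inertia K (θ : K → ℂ)).zpow_mem hxi a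
    exact this
  · right
    have hn : NoCommute p q (G ⧸ K) := by
      intro x y hx hy hc
      set X := Subgroup.zpowers x
      obtain ⟨x', rfl⟩ := QuotientGroup.mk'_surjective K x
      -- lift to a `p`-subgroup
      obtain ⟨P⟩ := Sylow.nonempty (p := p) (G := G)
      have hXp : IsPGroup p X := IsPGroup.of_card (n := 1) (by rw [Nat.card_zpowers, hx, pow_one])
      obtain ⟨S, hS⟩ := hXp.exists_le_sylow
      obtain ⟨c, hc'⟩ := MulAction.exists_smul_eq (G ⧸ K) (P.mapSurjective (QuotientGroup.mk'_surjective K)) S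
      obtain ⟨c, rfl⟩ := QuotientGroup.mk'_surjective K c
      set P' : Subgroup G := MulAut.conj c • (P : Subgroup G) with hP'
      have hP'p : IsPGroup p P' := P.isPGroup'.map (MulAut.conj c).toMonoidHom
      have hxS : π x' ∈ P'.map π := by
        have h1 := hS (Subgroup.mem_zpowers (π x'))
        rw [← hc', Sylow.coe_subgroup_smul, Sylow.coe_mapSurjective] at h1
        rw [hP', Solv.map_conj_smul]
        exact h1
      obtain ⟨a, ha, hax⟩ := hxS
      have hU : IsPGroup p (Subgroup.zpowers a) := hP'p.to_le (Subgroup.zpowers_le.2 ha)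
      have hmap := Local.map_centralizer_eq hU K hKc
      have hyc : y ∈ Subgroup.centralizer ((Subgroup.zpowers a).map π : Set (G ⧸ K)) := by
        rw [MonoidHom.map_zpowers, hax]
        refine Subgroup.mem_centralizer_iff.2 fun w hw => ?_
        obtain ⟨k, rfl⟩ := Subgroup.mem_zpowers_iff.1 hw
        exact hc.zpow_left k
      rw [← hmap] at hyc
      obtain ⟨y', hy', rfl⟩ := hyc
      have hqy : q ∣ orderOf y' := hy ▸ orderOf_map_dvd π y'
      have hay : Commute a y' := Subgroup.mem_centralizer_iff.1 hy' a (Subgroup.mem_zpowers a)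
      obtain ⟨j, hj⟩ := hP'p ⟨a, ha⟩
      obtain ⟨i, hi⟩ := orderOf_eq_of_commute (k := a) (n := j) (fun e => by
        rw [e, map_one] at hax
        rw [← hax, orderOf_one] at hx
        exact hp.out.one_lt.ne hx) (congrArg Subtype.val hj)
      have hy2 : orderOf (y' ^ (orderOf y' / q)) = q := by
        rw [orderOf_pow' y' (Nat.div_pos (Nat.le_of_dvd (orderOf_pos y') hqy) hq.out.pos).ne',
          Nat.gcd_eq_right (Nat.div_dvd_of_dvd hqy), Nat.div_div_self hqy (orderOf_pos y').ne']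
      exact h _ _ hi hy2 (hay.pow_pow i _)
    obtain ⟨χ, hχ⟩ := full_of_pCore hpq hn hR'
    refine ⟨⟨fun g => (χ : G ⧸ K → ℂ) (π g),
      isIrrCharacter_comp_surjective π (QuotientGroup.mk'_surjective K) χ.2⟩, ?_⟩
    have e : charDegree (fun g : G => (χ : G ⧸ K → ℂ) (π g)) = charDegree (χ : G ⧸ K → ℂ) := by
      apply Nat.cast_injective (R := ℂ)
      rw [charDegree_cast (IsIrrCharacter.isCharacter χ.2), charDegree_cast (IsIrrCharacter.isCharacter
        (isIrrCharacter_comp_surjective π (QuotientGroup.mk'_surjective K) χ.2)), map_one]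
    rw [e, hχ, K.card_eq_card_quotient_mul_card_subgroup,
      Nat.factorization_mul Nat.card_pos.ne' Nat.card_pos.ne', Finsupp.add_apply,
      Nat.factorization_eq_zero_of_not_dvd hqK, add_zero]

theorem exists_full {p q : ℕ} [hp : Fact p.Prime] [hq : Fact q.Prime] (hpq : p ≠ q)
    (hpG : p ∣ Nat.card G) (hs : IsPSolvable p G) (h : NoCommute p q G) :
    (∃ χ : IrrCharacter G, (charDegree (χ : G → ℂ)).factorization p = (Nat.card G).factorization p) ∨
      ∃ χ : IrrCharacter G, (charDegree (χ : G → ℂ)).factorization q = (Nat.card G).factorization q := by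
  by_cases hR : pCore p G = ⊥
  · exact full_of_pPrimeCore hpq hpG hs h
  · exact Or.inr (full_of_pCore hpq h hR)

end Cfsg.Agent.Block.NoPQ
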