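import Cfsg.Agent.Lib.Char.Clifford

/-!
# The normaliser permutes the irreducible characters
-/

set_option autoImplicit false
set_option linter.style.haveILetI false

namespace Cfsg.Agent.Block

open Cfsg Cfsg.Agent.Char
open scoped ComplexConjugate

universe u

variable {Γ : Type u} [Group Γ] [Finite Γ] (N : Subgroup Γ)

/-- Conjugation by an element of the normaliser. -/
def normalizerConj (x : Subgroup.normalizer (N : Set Γ)) : N ≃* N where
  toFun n := ⟨(x : Γ)⁻¹ * n * x, (Subgroup.mem_normalizer_iff''.1 x.2 n).1 n.2⟩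
  invFun n := ⟨(x : Γ) * n * (x : Γ)⁻¹, (Subgroup.mem_normalizer_iff.1 x.2 n).1 n.2⟩
  left_inv n := Subtype.ext (show (x : Γ) * ((x : Γ)⁻¹ * n * x) * (x : Γ)⁻¹ = n by group)
  right_inv n := Subtype.ext (show (x : Γ)⁻¹ * ((x : Γ) * n * (x : Γ)⁻¹) * x = n by group)
  map_mul' a b := Subtype.ext (show (x : Γ)⁻¹ * ((a : Γ) * b) * x = ((x : Γ)⁻¹ * a * x) * ((x : Γ)⁻¹ * b * x) by group)

/-- The action on characters. -/
noncomputable def permOfNormalizer : Subgroup.normalizer (N : Set Γ) →* Equiv.Perm (IrrCharacter N) where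
  toFun x :=
    { toFun := fun φ => ⟨fun n => (φ : N → ℂ) (normalizerConj N x n), isIrrCharacter_comp_mulEquiv _ φ.2⟩
      invFun := fun φ => ⟨fun n => (φ : N → ℂ) ((normalizerConj N x).symm n), isIrrCharacter_comp_mulEquiv _ φ.2⟩
      left_inv := fun φ => Subtype.ext (funext fun n => by simp)
      right_inv := fun φ => Subtype.ext (funext fun n => by simp) }
  map_one' := Equiv.ext fun φ => Subtype.ext (funext fun n => congrArg (φ : N → ℂ) (Subtype.ext (by simp [normalizerConj])))
  map_mul' x y := Equiv.ext fun φ => Subtype.ext (funext fun n => congrArg (φ : N → ℂ) (Subtype.ext (by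
    simp [normalizerConj, mul_assoc])))

theorem permOfNormalizer_of_mem (x : Subgroup.normalizer (N : Set Γ)) (hx : x ∈ N.subgroupOf _) :
    x ∈ (permOfNormalizer N).ker := by
  refine MonoidHom.mem_ker.2 (Equiv.ext fun φ => Subtype.ext (funext fun n => ?_))
  have h := IsCharacter.isClassFunction (IsIrrCharacter.isCharacter φ.2) n ⟨(x : Γ)⁻¹, N.inv_mem hx⟩
  exact (congrArg (φ : N → ℂ) (Subtype.ext (by simp [normalizerConj]))).trans h

theorem classInner_permOfNormalizer [Fintype N] {f : N → ℂ} (x : Subgroup.normalizer (N : Set Γ)) (φ : IrrCharacter N)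
    (hf : ∀ n n' : N, (n' : Γ) = (x : Γ) * n * (x : Γ)⁻¹ → f n' = f n) :
    classInner f ((permOfNormalizer N x φ : IrrCharacter N) : N → ℂ) = classInner f (φ : N → ℂ) := by
  rw [classInner, classInner]
  congr 1
  refine Fintype.sum_equiv (normalizerConj N x).toEquiv _ _ fun n => ?_
  show f n * conj ((φ : N → ℂ) (normalizerConj N x n)) = f (normalizerConj N x n) * conj ((φ : N → ℂ) (normalizerConj N x n))
  rw [hf (normalizerConj N x n) n (by simp [normalizerConj, mul_assoc])]

end Cfsg.Agent.Block
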