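import Cfsg.Agent.Lib.Block.OddIndexFixed
import Cfsg.Agent.Lib.Char.Extension2
import Cfsg.Agent.Lib.Char.DegreeIndex
import Cfsg.Agent.Lib.Block.CompBlock
import Mathlib.GroupTheory.IndexNormal

/-!
# The fixed character above an invariant fixed character of odd index is an extension
-/

set_option autoImplicit false
set_option linter.style.haveILetI false

open Cfsg Cfsg.Agent.Char
open scoped ComplexConjugate

namespace Cfsg.Agent.Block

universe u

variable {G : Type u} [Group G] [Fintype G] {k : ℕ}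

theorem pow_inv_hyp (hk₂ : ∀ g : G, Odd (orderOf g) → g ^ k = g⁻¹) (N : Subgroup G) [N.Normal]
    (hodd : Odd N.index) (g : G) : (QuotientGroup.mk (g ^ k) : G ⧸ N) = (QuotientGroup.mk g)⁻¹ := by
  set q : G ⧸ N := QuotientGroup.mk g
  have hm : Odd (orderOf q) := by
    rw [Subgroup.index_eq_card] at hodd
    exact Odd.of_dvd_nat hodd (orderOf_dvd_natCard q)
  set v := (orderOf g).factorization 2
  obtain ⟨j, hj⟩ := exists_pow_eq_self_of_coprime (x := q) (n := 2 ^ v)
    (Nat.Coprime.pow_left v (Nat.coprime_two_left.2 hm))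
  have hodd' : Odd (orderOf ((g ^ 2 ^ v) ^ j)) := by
    refine Odd.of_dvd_nat ?_ (orderOf_pow_dvd j)
    have hd : 2 ^ v ∣ orderOf g := Nat.ordProj_dvd (orderOf g) 2
    rw [orderOf_pow' _ (pow_ne_zero _ two_ne_zero), Nat.gcd_eq_right hd]
    exact Nat.not_even_iff_odd.1 fun he =>
      Nat.not_dvd_ordCompl Nat.prime_two (orderOf_pos g).ne' (even_iff_two_dvd.1 he)
  have h := congrArg (fun x : G => (QuotientGroup.mk x : G ⧸ N)) (hk₂ _ hodd')
  simp only [QuotientGroup.mk_pow, QuotientGroup.mk_inv] at h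
  rw [hj] at h
  rw [QuotientGroup.mk_pow]
  exact h

/-- Powers: exactly one fixed character over a fixed one. -/
theorem existsUnique_fixed_pow (hk : k.Coprime (Nat.card G))
    (hk₂ : ∀ g : G, Odd (orderOf g) → g ^ k = g⁻¹) (N : Subgroup G) [N.Normal] [Fintype N]
    (hodd : Odd N.index) (θ : IrrCharacter N) (hθ : ∀ n : N, (θ : N → ℂ) (n ^ k) = (θ : N → ℂ) n) :
    ∃! χ : IrrCharacter G, classInner (fun n : N => (χ : G → ℂ) n) (θ : N → ℂ) ≠ 0 ∧
      ∀ g, (χ : G → ℂ) (g ^ k) = (χ : G → ℂ) g :=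
  existsUnique_fixed hodd (fun g => g ^ k) (fun x g => conj_pow) (pow_inv_hyp hk₂ N hodd)
    (fun χ => isIrrCharacter_comp_pow χ.2 hk) θ (fun n n' h => by
      rw [show n' = n ^ k from Subtype.ext (by simpa using h)]; exact hθ n)

variable {N : Subgroup G} [N.Normal] [Fintype N]

theorem exists_fixed_extension_pSubgroup (hk : k.Coprime (Nat.card G))
    (hk₂ : ∀ g : G, Odd (orderOf g) → g ^ k = g⁻¹) (hodd : Odd N.index) (θ : IrrCharacter N)
    (hθ : ∀ n : N, (θ : N → ℂ) (n ^ k) = (θ : N → ℂ) n)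
    (hinv : ∀ g : G, Char.conjChar N g (θ : N → ℂ) = (θ : N → ℂ)) {p : ℕ} [Fact p.Prime] :
    ∀ (m : ℕ) (R : Subgroup G), Nat.card R = p ^ m →
      ∃ η : IrrCharacter (N ⊔ R : Subgroup G),
        (∀ n : N, (η : (N ⊔ R : Subgroup G) → ℂ) ⟨n, Subgroup.mem_sup_left n.2⟩ = (θ : N → ℂ) n) ∧
        ∀ h : (N ⊔ R : Subgroup G), (η : (N ⊔ R : Subgroup G) → ℂ) (h ^ k) = (η : (N ⊔ R : Subgroup G) → ℂ) h := by
  classical
  have hp : p.Prime := Fact.out
  have hksub : ∀ H : Subgroup G, k.Coprime (Nat.card H) ∧ ∀ h : H, Odd (orderOf h) → h ^ k = h⁻¹ :=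
    fun H => ⟨hk.coprime_dvd_right H.card_subgroup_dvd_card, fun h ho => Subtype.ext (by
      simpa using hk₂ (h : G) (by rwa [Subgroup.orderOf_coe]))⟩
  -- uniqueness of fixed extensions inside a subgroup
  have uniq : ∀ (H : Subgroup G) (hNH : N ≤ H) (a b : IrrCharacter H),
      (∀ n : N, (a : H → ℂ) ⟨n, hNH n.2⟩ = (θ : N → ℂ) n) → (∀ h, (a : H → ℂ) (h ^ k) = (a : H → ℂ) h) →
      (∀ n : N, (b : H → ℂ) ⟨n, hNH n.2⟩ = (θ : N → ℂ) n) → (∀ h, (b : H → ℂ) (h ^ k) = (b : H → ℂ) h) →
      a = b := by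
    intro H hNH a b ha1 ha2 hb1 hb2
    haveI : (N.subgroupOf H).Normal := ‹N.Normal›.subgroupOf H
    haveI := Fintype.ofFinite (N.subgroupOf H)
    have hoddH : Odd (N.subgroupOf H).index :=
      Odd.of_dvd_nat hodd (by
        show N.relIndex H ∣ N.index
        exact Subgroup.relIndex_dvd_index_of_normal N H)
    set ε := Subgroup.subgroupOfEquivOfLe hNH
    let θ' : IrrCharacter (N.subgroupOf H) := compIrr ε θ
    obtain ⟨χ, -, hu⟩ := existsUnique_fixed_pow (hksub H).1 (hksub H).2 (N.subgroupOf H) hoddH θ'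
      (fun n => by simp only [θ', compIrr_apply, map_pow, hθ])
    have hov : ∀ c : IrrCharacter H, (∀ n : N, (c : H → ℂ) ⟨n, hNH n.2⟩ = (θ : N → ℂ) n) →
        classInner (fun n : N.subgroupOf H => (c : H → ℂ) n) (θ' : N.subgroupOf H → ℂ) ≠ 0 := by
      intro c hc
      rw [show (fun n : N.subgroupOf H => (c : H → ℂ) n) = (θ' : N.subgroupOf H → ℂ) from funext fun n => by
        simp only [θ', compIrr_apply]
        exact hc (ε n), IsIrrCharacter.classInner_self θ'.2]
      exact one_ne_zero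
    rw [hu a ⟨hov a ha1, ha2⟩, hu b ⟨hov b hb1, hb2⟩]
  intro m
  induction m with
  | zero =>
    intro R hR
    rw [pow_zero, Subgroup.card_eq_one] at hR
    subst hR
    have e : (N ⊔ ⊥ : Subgroup G) = N := sup_bot_eq N
    refine ⟨compIrr (MulEquiv.subgroupCongr e) θ, fun n => ?_, fun h => ?_⟩
    · rw [compIrr_apply]; exact congrArg (θ : N → ℂ) (Subtype.ext rfl)
    · simp only [compIrr_apply, map_pow, hθ]
  | succ m ih =>
    intro R hR
    obtain ⟨R', hR'⟩ := Sylow.exists_subgroup_card_pow_prime (G := R) p (n := m)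
      (hR ▸ pow_dvd_pow p (Nat.le_succ m))
    have hidxR : R'.index = p := by
      have h := R'.card_mul_index
      rw [hR', hR, pow_succ] at h
      exact Nat.eq_of_mul_eq_mul_left (pow_pos hp.pos m) h
    haveI : R'.Normal := Subgroup.normal_of_index_eq_minFac_card (by
      rw [hidxR, hR, Nat.pow_minFac m.succ_ne_zero, hp.minFac_eq])
    set R₀ := R'.map R.subtype with hR₀
    set K := (N ⊔ R₀ : Subgroup G) with hKdef
    set H := (N ⊔ R : Subgroup G) with hHdef
    obtain ⟨η, hηN, hηk⟩ := ih R₀ (by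
      rw [hR₀, Subgroup.card_map_of_injective R.subtype_injective, hR'])
    have hR₀R : R₀ ≤ R := Subgroup.map_subtype_le R'
    have hKH : K ≤ H := sup_le_sup_left hR₀R N
    have hNK : N ≤ K := le_sup_left
    have hnorm : H ≤ Subgroup.normalizer (K : Set G) := by
      refine sup_le (le_sup_left.trans Subgroup.le_normalizer) fun r hr => ?_
      have hrR₀ : ∀ y ∈ R₀, ∀ x : R, (x : G) * y * (x : G)⁻¹ ∈ R₀ := by
        rintro _ ⟨y, hy, rfl⟩ x
        exact ⟨x * y * x⁻¹, ‹R'.Normal›.conj_mem y hy x, by simp⟩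
      have hconj : ∀ x : R, K.map (MulAut.conj (x : G)).toMonoidHom ≤ K := by
        intro x
        rw [hKdef, Subgroup.map_sup]
        refine sup_le_sup ?_ ?_
        · rintro _ ⟨y, hy, rfl⟩; exact ‹N.Normal›.conj_mem y hy (x : G)
        · rintro _ ⟨y, hy, rfl⟩; exact hrR₀ y hy x
      rw [Subgroup.mem_normalizer_iff]
      refine fun y => ⟨fun hy => hconj ⟨r, hr⟩ ⟨y, hy, rfl⟩, fun hy => ?_⟩
      obtain h := hconj ⟨r⁻¹, inv_mem hr⟩ ⟨_, hy, rfl⟩
      simpa [mul_assoc] using h
    haveI : (K.subgroupOf H).Normal := (Subgroup.normal_subgroupOf_iff_le_normalizer hKH).2 hnorm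
    haveI := Fintype.ofFinite (K.subgroupOf H)
    haveI := Fintype.ofFinite H
    have hidx : (K.subgroupOf H).index ∣ p := by
      have h1 : H = K ⊔ R := by
        rw [hKdef, hHdef, sup_assoc, sup_of_le_right hR₀R]
      have h2 : K.relIndex H = K.relIndex R := by
        have hRH : R ≤ H := le_sup_right
        have ht : R.subgroupOf H ⊔ K.subgroupOf H = ⊤ := by
          rw [← Subgroup.subgroupOf_sup hRH hKH, sup_comm, ← h1, Subgroup.subgroupOf_self]
        show (K.subgroupOf H).index = _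
        rw [← Subgroup.relIndex_top_right, ← ht, Subgroup.relIndex_sup_right, Subgroup.relIndex_subgroupOf hRH]
      show K.relIndex H ∣ p
      rw [h2]
      refine (Subgroup.relIndex_dvd_of_le_left R (le_sup_right : R₀ ≤ K)).trans ?_
      rw [Subgroup.relIndex, Subgroup.subgroupOf, hR₀, Subgroup.comap_map_eq_self_of_injective R.subtype_injective,
        hidxR]
    have hpodd : Odd (K.subgroupOf H).index :=
      Odd.of_dvd_nat hodd ((Subgroup.relIndex_dvd_of_le_left H hNK).trans (Subgroup.relIndex_dvd_index_of_normal N H))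
    set ε := Subgroup.subgroupOfEquivOfLe hKH
    let η' : IrrCharacter (K.subgroupOf H) := compIrr ε η
    have hη'k : ∀ x : K.subgroupOf H, (η' : K.subgroupOf H → ℂ) (x ^ k) = (η' : K.subgroupOf H → ℂ) x := fun x => by
      simp only [η', compIrr_apply, map_pow]
      exact hηk (ε x)
    obtain ⟨χ, ⟨hχ, hχk⟩, -⟩ := existsUnique_fixed_pow (hksub H).1 (hksub H).2 (K.subgroupOf H) hpodd η' hη'k
    have hη'inv : ∀ h : H, Char.conjChar (K.subgroupOf H) h (η' : K.subgroupOf H → ℂ) = (η' : K.subgroupOf H → ℂ) := by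
      intro h
      have hirr := isIrrCharacter_conjChar (K.subgroupOf H) η'.2 h
      let ζ : IrrCharacter K := compIrr ε.symm ⟨_, hirr⟩
      have hζ : ζ = η := by
        refine uniq K hNK ζ η (fun n => ?_) (fun x => ?_) hηN hηk
        · simp only [ζ, compIrr_apply, Char.conjChar_apply, η']
          rw [← congrFun (hinv (h : G)) n, Char.conjChar_apply, ← hηN (MulAut.conjNormal (h : G) n)]
          refine congrArg (η : K → ℂ) (Subtype.ext ?_)
          simp only [ε, Subgroup.subgroupOfEquivOfLe_apply_coe, Subgroup.subgroupOfEquivOfLe_symm_apply_coe_coe,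
            MulAut.conjNormal_apply, Subgroup.coe_mul, Subgroup.coe_inv]
        · simp only [ζ, compIrr_apply, Char.conjChar_apply, map_pow]
          exact hη'k _
      funext x
      have := congrArg (fun c : IrrCharacter K => (c : K → ℂ) (ε x)) hζ
      simp only [ζ, compIrr_apply, MulEquiv.symm_apply_apply] at this
      rw [this]
      rfl
    obtain ⟨e, he⟩ := exists_classInner_nat (IsCharacter.restrict (IsIrrCharacter.isCharacter χ.2) (K.subgroupOf H)) η'.2
    have he0 : e ≠ 0 := fun h0 => hχ (by rw [he, h0, Nat.cast_zero])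
    have hed := multiplicity_dvd_index (N := K.subgroupOf H) η'.2 hη'inv χ.2 he he0
    have hres := restrict_eq_smul_of_inertia_top (K.subgroupOf H) χ.2 η'.2 hχ hη'inv
    rw [he] at hres
    have he1 : e = 1 := by
      have hsq : (e : ℝ) ^ 2 * Nat.card (K.subgroupOf H) ≤ Nat.card H := by
        have hall : ∑ x : H, Complex.normSq ((χ : H → ℂ) x) = Nat.card H := by
          have h := IsIrrCharacter.classInner_self χ.2
          simp only [classInner, Complex.mul_conj] at h
          rw [inv_mul_eq_div, div_eq_one_iff_eq (Nat.cast_ne_zero.mpr Nat.card_pos.ne'),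
            ← Complex.ofReal_sum] at h
          exact_mod_cast h
        have hK : ∑ x : K.subgroupOf H, Complex.normSq ((χ : H → ℂ) x) = (e : ℝ) ^ 2 * Nat.card (K.subgroupOf H) := by
          have h := IsIrrCharacter.classInner_self η'.2
          simp only [classInner, Complex.mul_conj] at h
          rw [inv_mul_eq_div, div_eq_one_iff_eq (Nat.cast_ne_zero.mpr Nat.card_pos.ne'),
            ← Complex.ofReal_sum] at h
          have h' : ∑ x : K.subgroupOf H, Complex.normSq ((η' : K.subgroupOf H → ℂ) x) = (Nat.card (K.subgroupOf H) : ℝ) := by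
            exact_mod_cast h
          rw [← h', Finset.mul_sum]
          refine Finset.sum_congr rfl fun x _ => ?_
          have := congrFun hres x
          simp only [Pi.smul_apply, smul_eq_mul] at this
          rw [this, map_mul, Complex.normSq_natCast, sq]
        rw [← hK, ← hall]
        rw [← Finset.sum_subtype (Finset.univ.filter fun x : H => x ∈ K.subgroupOf H) (fun x => by simp)
          (fun x : H => Complex.normSq ((χ : H → ℂ) x))]
        exact Finset.sum_le_sum_of_subset_of_nonneg (Finset.filter_subset _ _) fun _ _ _ => Complex.normSq_nonneg _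
      have hle : e ^ 2 ≤ (K.subgroupOf H).index := by
        have h2 := (K.subgroupOf H).card_mul_index
        have h3 : e ^ 2 * Nat.card (K.subgroupOf H) ≤ Nat.card H := by exact_mod_cast hsq
        rw [← h2, mul_comm (Nat.card (K.subgroupOf H))] at h3
        exact Nat.le_of_mul_le_mul_right h3 Nat.card_pos
      rcases (Nat.dvd_prime hp).1 hidx with hi | hi
      · rw [hi] at hed; exact Nat.dvd_one.1 hed
      · rcases (Nat.dvd_prime hp).1 (hi ▸ hed) with h | h
        · exact h
        · exfalso; rw [h, hi, pow_two] at hle; nlinarith [hp.one_lt]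
    refine ⟨χ, fun n => ?_, hχk⟩
    have := congrFun hres (ε.symm ⟨(n : G), hNK n.2⟩)
    simp only [he1, Nat.cast_one, one_smul, η', compIrr_apply, MulEquiv.apply_symm_apply, hηN] at this
    rw [← this]
    rfl

/-- An invariant fixed character has a fixed extension. -/
theorem exists_fixed_extension (hk : k.Coprime (Nat.card G))
    (hk₂ : ∀ g : G, Odd (orderOf g) → g ^ k = g⁻¹) (hodd : Odd N.index) (θ : IrrCharacter N)
    (hθ : ∀ n : N, (θ : N → ℂ) (n ^ k) = (θ : N → ℂ) n)
    (hinv : ∀ g : G, Char.conjChar N g (θ : N → ℂ) = (θ : N → ℂ)) :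
    ∃ χ : IrrCharacter G, (∀ n : N, (χ : G → ℂ) n = (θ : N → ℂ) n) ∧
      ∀ g, (χ : G → ℂ) (g ^ k) = (χ : G → ℂ) g := by
  obtain ⟨ψ, hψ, hψN⟩ := exists_extension_of_sylow θ.2 hinv fun p hp => by
    haveI := Fact.mk hp
    obtain ⟨S⟩ : Nonempty (Sylow p G) := inferInstance
    obtain ⟨m, hm⟩ := IsPGroup.iff_card.1 S.isPGroup'
    obtain ⟨η, hη, -⟩ := exists_fixed_extension_pSubgroup hk hk₂ hodd θ hθ hinv (p := p) m S hm
    exact ⟨N ⊔ S, le_sup_left, η, ((hp.coprime_iff_not_dvd).2 fun hd =>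
      S.not_dvd_index (hd.trans (Subgroup.index_dvd_of_le le_sup_right))).symm,
      IsIrrCharacter.isCharacter η.2, hη⟩
  obtain ⟨l, hl, hle⟩ := extension_eq_twist θ.2 hψ (isIrrCharacter_comp_pow hψ hk) hψN (fun n => by
    show ψ ((n : G) ^ k) = _
    rw [← Subgroup.coe_pow, hψN, hθ])
  obtain ⟨j, hj⟩ := hodd
  set μ := l ^ (j + 1) with hμ
  have hμN : ∀ n : N, μ n = 1 := fun n => by rw [hμ, MonoidHom.pow_apply, hl, one_pow]
  have hμ2 : ∀ g, μ g * μ g = l g := fun g => by
    rw [hμ, MonoidHom.pow_apply, ← pow_add, show j + 1 + (j + 1) = N.index + 1 by omega, pow_succ,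
      ← MonoidHom.pow_apply, pow_index_eq_one hl, MonoidHom.one_apply, one_mul]
  have hμk : ∀ g, μ (g ^ k) = (μ g)⁻¹ := fun g => by
    have h := pow_inv_hyp hk₂ N ⟨j, hj⟩ g
    rw [← QuotientGroup.mk_inv] at h
    have hn := hμN ⟨(g ^ k)⁻¹ * g⁻¹, QuotientGroup.eq.1 h⟩
    simp only [map_mul, map_inv] at hn
    rw [mul_eq_one_iff_eq_inv, inv_inv] at hn
    rw [← hn, inv_inv]
  obtain ⟨d, -, hd⟩ := IsIrrCharacter.degree_pos hψ
  refine ⟨⟨_, (exists_twist_character μ hψ hd).1⟩, fun n => ?_, fun g => ?_⟩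
  · show (μ n : ℂ) * ψ n = _
    rw [hμN, Units.val_one, one_mul, hψN]
  · show (μ (g ^ k) : ℂ) * ψ (g ^ k) = (μ g : ℂ) * ψ g
    have h := congrFun hle g
    rw [show ψ (g ^ k) = (l g : ℂ) * ψ g from h, hμk, ← hμ2 g, ← mul_assoc, ← Units.val_mul, inv_mul_cancel_left]

end Cfsg.Agent.Block
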