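import Cfsg.Agent.Lib.Char.Gallagher
import Cfsg.Agent.Lib.Char.Clifford
import Cfsg.Agent.Lib.Char.Galois

/-!
# The fixed character above an odd index normal subgroup

If a map `s` inverts `G / N` (of odd order), commutes with conjugation and fixes `θ`, then exactly one
irreducible character above `θ` is fixed by composition with `s`.
-/

set_option autoImplicit false
set_option linter.style.haveILetI false

open Cfsg Cfsg.Agent.Char
open scoped ComplexConjugate

namespace Cfsg.Agent.Block

universe u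

variable {G : Type u} [Group G] [Fintype G] {N : Subgroup G} [N.Normal] [Fintype N]

/-- Characters over different orbits are orthogonal on every coset. -/
theorem cosetAverage_eq_zero_of_over {θ : IrrCharacter N} {χ ψ : IrrCharacter G}
    (hχ : classInner (fun n : N => (χ : G → ℂ) n) (θ : N → ℂ) ≠ 0)
    (hψ : classInner (fun n : N => (ψ : G → ℂ) n) (θ : N → ℂ) = 0) :
    cosetAverage N (ψ : G → ℂ) (χ : G → ℂ) = 0 := by
  refine eq_zero_of_classInner_eq_zero (isClassFunction_cosetAverage N
    (IsCharacter.isClassFunction (IsIrrCharacter.isCharacter ψ.2))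
    (IsCharacter.isClassFunction (IsIrrCharacter.isCharacter χ.2))) fun β hβ => ?_
  by_cases ht : ∀ n : N, β n = β 1
  · rw [classInner_cosetAverage_trivial N (apply_mul_eq_of_over_one N hβ (mem_over_one_of_trivial N hβ ht))]
    by_contra hne
    have hprod := isCharacter_mul (IsIrrCharacter.isCharacter hβ) (IsIrrCharacter.isCharacter ψ.2)
    have hne' : classInner (β * (ψ : G → ℂ)) (χ : G → ℂ) ≠ 0 := fun h => hne (by
      rw [← classInner_conj_symm, h, map_zero])
    obtain ⟨r, hr, he⟩ := exists_add_of_classInner_ne_zero hprod χ.2 hne'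
    have h1 := classInner_ne_zero_of_le (IsCharacter.restrict (IsIrrCharacter.isCharacter χ.2) N)
      (IsCharacter.restrict hr N) θ.2 hχ
    refine h1 ?_
    have e : (fun n : N => (χ : G → ℂ) n) + (fun n : N => r n) =
        β 1 • fun n : N => (ψ : G → ℂ) n := by
      funext n
      have := congrFun he (n : G)
      simp only [Pi.mul_apply, Pi.add_apply, Pi.smul_apply, smul_eq_mul] at this ⊢
      rw [← this, ht n]
    rw [e, classInner_smul_left, hψ, mul_zero]
  · push Not at ht
    exact classInner_cosetAverage_nontrivial N hβ ht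

/-- The kernel of the characters over `θ` links only conjugate cosets. -/
theorem sum_over_eq_zero (θ : IrrCharacter N) [Fintype (IrrCharacter G)] {a b : G}
    (h : ¬ IsConj (QuotientGroup.mk a : G ⧸ N) (QuotientGroup.mk b)) :
    ∑ χ ∈ Finset.univ.filter (fun χ : IrrCharacter G =>
        classInner (fun n : N => (χ : G → ℂ) n) (θ : N → ℂ) ≠ 0),
      (χ : G → ℂ) a * conj ((χ : G → ℂ) b) = 0 := by
  classical
  set S := Finset.univ.filter (fun χ : IrrCharacter G =>
    classInner (fun n : N => (χ : G → ℂ) n) (θ : N → ℂ) ≠ 0) with hS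
  let f : N → ℂ := fun n => ∑ χ ∈ S, (χ : G → ℂ) a * conj ((χ : G → ℂ) ((n : G) * b))
  suffices h0 : ∀ n : N, f n = 0 by
    have := h0 1
    simpa [f] using this
  have hneg : ∀ n : N, f n = -∑ ψ ∈ Sᶜ, (ψ : G → ℂ) a * conj ((ψ : G → ℂ) ((n : G) * b)) := by
    intro n
    have hsum := second_orthogonality a ((n : G) * b)
    rw [if_neg (fun hc => h ?_), ← Finset.sum_add_sum_compl S] at hsum
    · exact eq_neg_of_add_eq_zero_left hsum
    · have := MonoidHom.map_isConj (QuotientGroup.mk' N) hc
      simpa [(QuotientGroup.eq_one_iff (n : G)).2 n.2] using this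
  have hsq : ∑ n : N, Complex.normSq (f n) = 0 := by
    have h2 : ∑ n : N, f n * conj (f n) = 0 := by
      calc ∑ n : N, f n * conj (f n)
          = -∑ n : N, f n * conj (∑ ψ ∈ Sᶜ, (ψ : G → ℂ) a * conj ((ψ : G → ℂ) ((n : G) * b))) := by
            rw [← Finset.sum_neg_distrib]
            refine Finset.sum_congr rfl fun n _ => ?_
            conv_lhs => arg 2; rw [hneg n]
            rw [map_neg, mul_neg]
        _ = -∑ χ ∈ S, ∑ ψ ∈ Sᶜ, (χ : G → ℂ) a * conj ((ψ : G → ℂ) a) *
              conj (∑ n : N, (χ : G → ℂ) ((n : G) * b) * conj ((ψ : G → ℂ) ((n : G) * b))) := by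
            congr 1
            simp only [f, map_sum, map_mul, Complex.conj_conj, Finset.sum_mul, Finset.mul_sum]
            rw [Finset.sum_congr rfl fun n _ => Finset.sum_comm, Finset.sum_comm]
            refine Finset.sum_congr rfl fun χ _ => ?_
            rw [Finset.sum_comm]
            refine Finset.sum_congr rfl fun ψ _ => Finset.sum_congr rfl fun n _ => ?_
            ring_nf
        _ = 0 := by
            rw [Finset.sum_eq_zero, neg_zero]
            intro χ hχ
            refine Finset.sum_eq_zero fun ψ hψ => ?_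
            rw [hS, Finset.mem_compl, Finset.mem_filter, not_and, not_not] at hψ
            have h3 := congrFun (cosetAverage_eq_zero_of_over (Finset.mem_filter.1 hχ).2
              (hψ (Finset.mem_univ _))) b
            simp only [cosetAverage, Pi.zero_apply, mul_eq_zero, inv_eq_zero, Nat.cast_eq_zero] at h3
            rw [h3.resolve_left Nat.card_pos.ne', map_zero, mul_zero]
    apply Complex.ofReal_injective
    push_cast
    simpa [Complex.mul_conj] using h2
  intro n
  exact Complex.normSq_eq_zero.1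
    ((Finset.sum_eq_zero_iff_of_nonneg fun n _ => Complex.normSq_nonneg _).1 hsq n (Finset.mem_univ n))

omit [Fintype G] [Fintype N] in
theorem eq_one_of_isConj_inv [Finite G] (hodd : Odd N.index) {q : G ⧸ N} (h : IsConj q⁻¹ q) : q = 1 := by
  haveI := Fintype.ofFinite (G ⧸ N)
  obtain ⟨t, ht⟩ := isConj_iff.1 h
  have hodd' : Odd (orderOf t) := by
    rw [Subgroup.index_eq_card] at hodd
    exact Odd.of_dvd_nat hodd (orderOf_dvd_natCard t)
  have h2 : t ^ 2 * q = q * t ^ 2 := by
    have e1 : t * q⁻¹ = q * t := eq_mul_of_mul_inv_eq ht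
    have e2 : t * q = q⁻¹ * t := by
      calc t * q = q⁻¹ * (q * t) * q := by rw [inv_mul_cancel_left]
        _ = q⁻¹ * (t * q⁻¹) * q := by rw [e1]
        _ = q⁻¹ * t := by rw [mul_assoc, inv_mul_cancel_right]
    calc t ^ 2 * q = t * (t * q) := by rw [pow_two, mul_assoc]
      _ = (t * q⁻¹) * t := by rw [e2, ← mul_assoc]
      _ = q * t ^ 2 := by rw [e1, mul_assoc, pow_two]
  obtain ⟨m, hm⟩ := hodd'
  have hcomm : Commute t q := by
    have hc : Commute ((t ^ 2) ^ (m + 1)) q := Commute.pow_left h2 _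
    rwa [← pow_mul, show 2 * (m + 1) = orderOf t + 1 by omega, pow_succ, pow_orderOf_eq_one, one_mul] at hc
  have e : q = q⁻¹ := by
    have := hcomm.inv_right.eq
    calc q = t * q⁻¹ * t⁻¹ := ht.symm
      _ = q⁻¹ := by rw [this, mul_inv_cancel_right]
  have hq2 : q ^ 2 = 1 := by rw [pow_two]; nth_rw 2 [e]; exact mul_inv_cancel q
  obtain ⟨l, hl⟩ : Odd (orderOf q) := by
    rw [Subgroup.index_eq_card] at hodd
    exact Odd.of_dvd_nat hodd (orderOf_dvd_natCard q)
  have := pow_orderOf_eq_one q
  rwa [hl, pow_succ, pow_mul, hq2, one_pow, one_mul] at this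

/-- Exactly one character above `θ` is fixed. -/
theorem existsUnique_fixed (hodd : Odd N.index) (s : G → G)
    (hsc : ∀ x g : G, s (x * g * x⁻¹) = x * s g * x⁻¹)
    (hsq : ∀ g : G, (QuotientGroup.mk (s g) : G ⧸ N) = (QuotientGroup.mk g)⁻¹)
    (hsirr : ∀ χ : IrrCharacter G, IsIrrCharacter G fun g => (χ : G → ℂ) (s g))
    (θ : IrrCharacter N)
    (hθ : ∀ n n' : N, (n' : G) = s n → (θ : N → ℂ) n' = (θ : N → ℂ) n) :
    ∃! χ : IrrCharacter G, classInner (fun n : N => (χ : G → ℂ) n) (θ : N → ℂ) ≠ 0 ∧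
      ∀ g, (χ : G → ℂ) (s g) = (χ : G → ℂ) g := by
  classical
  haveI := Fintype.ofFinite (IrrCharacter G)
  set S := Finset.univ.filter (fun χ : IrrCharacter G =>
    classInner (fun n : N => (χ : G → ℂ) n) (θ : N → ℂ) ≠ 0) with hS
  have hsN : ∀ n : N, s n ∈ N := fun n => (QuotientGroup.eq_one_iff _).1 (by
    rw [hsq, (QuotientGroup.eq_one_iff (n : G)).2 n.2, inv_one])
  -- both sums are the number of fixed characters
  have hfix : (∑ χ ∈ S, classInner (fun g => (χ : G → ℂ) (s g)) (χ : G → ℂ)) =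
      ((S.filter fun χ : IrrCharacter G => ∀ g, (χ : G → ℂ) (s g) = (χ : G → ℂ) g).card : ℂ) := by
    rw [Finset.card_filter, Nat.cast_sum]
    refine Finset.sum_congr rfl fun χ _ => ?_
    by_cases h : ∀ g, (χ : G → ℂ) (s g) = (χ : G → ℂ) g
    · rw [if_pos h, show (fun g => (χ : G → ℂ) (s g)) = (χ : G → ℂ) from funext h,
        IsIrrCharacter.classInner_self χ.2, Nat.cast_one]
    · rw [if_neg h, IsIrrCharacter.classInner_eq_zero (hsirr χ) χ.2 (fun e => h (congrFun e)), Nat.cast_zero]
  -- restriction to `N` is fixed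
  have hres : ∀ χ ∈ S, ∀ n : N, (χ : G → ℂ) (s n) = (χ : G → ℂ) n := by
    intro χ hχ n
    have hr := restrict_eq_smul_sum_conjOrbit N χ.2 θ.2 (Finset.mem_filter.1 hχ).2
    have e1 := congrFun hr ⟨s n, hsN n⟩
    have e2 := congrFun hr n
    simp only [Pi.smul_apply, Finset.sum_apply, smul_eq_mul] at e1 e2
    rw [e1, e2]
    congr 1
    refine Finset.sum_congr rfl fun φ hφ => ?_
    obtain ⟨g, rfl⟩ := (mem_conjOrbit N).1 hφ
    rw [conjChar_apply, conjChar_apply]
    exact hθ _ _ (hsc g (n : G)).symm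
  -- only `N` contributes
  have hN : ∀ g : G, g ∉ N → ∑ χ ∈ S, (χ : G → ℂ) (s g) * conj ((χ : G → ℂ) g) = 0 := by
    intro g hg
    refine sum_over_eq_zero θ fun hc => hg ?_
    rw [hsq] at hc
    exact (QuotientGroup.eq_one_iff g).1 (eq_one_of_isConj_inv hodd hc)
  have hmain : (∑ χ ∈ S, classInner (fun g => (χ : G → ℂ) (s g)) (χ : G → ℂ)) = 1 := by
    have h1 : (∑ χ ∈ S, classInner (fun g => (χ : G → ℂ) (s g)) (χ : G → ℂ)) =
        (Nat.card G : ℂ)⁻¹ * ∑ χ ∈ S, ∑ n : N, (χ : G → ℂ) n * conj ((χ : G → ℂ) n) := by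
      simp only [classInner, ← Finset.mul_sum]
      congr 1
      rw [Finset.sum_comm, Finset.sum_comm (s := S)]
      rw [← Finset.sum_filter_of_ne (s := (Finset.univ : Finset G)) (p := fun g => g ∈ N)
        fun g _ hne => by by_contra h; exact hne (hN g h)]
      rw [Finset.sum_subtype (Finset.univ.filter fun g => g ∈ N) (p := fun g => g ∈ N) (fun g => by simp)]
      exact Finset.sum_congr rfl fun n _ => Finset.sum_congr rfl fun χ hχ => by rw [hres χ hχ n]
    set c : IrrCharacter G → ℂ := fun χ => classInner (fun n : N => (χ : G → ℂ) n) (θ : N → ℂ)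
    have hcc : ∀ χ, conj (c χ) = c χ := fun χ => by
      obtain ⟨m, hm⟩ := exists_classInner_nat (IsCharacter.restrict (IsIrrCharacter.isCharacter χ.2) N) θ.2
      simp only [c, hm, map_natCast]
    have horb : ∀ χ ∈ S, ∑ n : N, (χ : G → ℂ) n * conj ((χ : G → ℂ) n) =
        (Nat.card N : ℂ) * ((inertia N (θ : N → ℂ)).index : ℂ) * (c χ * c χ) := by
      intro χ hχ
      have hr := restrict_eq_smul_sum_conjOrbit N χ.2 θ.2 (Finset.mem_filter.1 hχ).2
      have e : classInner (fun n : N => (χ : G → ℂ) n) (fun n : N => (χ : G → ℂ) n) =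
          ((inertia N (θ : N → ℂ)).index : ℂ) * (c χ * c χ) := by
        conv_lhs => arg 2; rw [hr]
        rw [classInner_smul_right, classInner_sum_right, Finset.sum_congr rfl (g := fun _ => c χ) fun φ hφ => by
          obtain ⟨g, rfl⟩ := (mem_conjOrbit N).1 hφ
          exact classInner_restrict_conjChar N (IsCharacter.isClassFunction (IsIrrCharacter.isCharacter χ.2)) g _,
          Finset.sum_const, nsmul_eq_mul, card_conjOrbit]
        show conj (c χ) * _ = _
        rw [hcc]
        ring
      rw [mul_assoc, ← e, classInner, mul_inv_cancel_left₀ (Nat.cast_ne_zero.2 Nat.card_pos.ne')]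
    rw [h1, Finset.sum_congr rfl horb, ← Finset.mul_sum]
    have hsum : ∑ χ ∈ S, c χ * c χ =
        (Nat.card (inertia N (θ : N → ℂ)) : ℂ) / (Nat.card N : ℂ) := by
      have h := classInner_indFun_indFun N θ.2 θ.2
      rw [classInner_eq_sum_mul (isClassFunction_indFun N _) (isClassFunction_indFun N _)] at h
      have hcard : (Finset.univ.filter fun g : G => conjChar N g (θ : N → ℂ) = (θ : N → ℂ)).card =
          Nat.card (inertia N (θ : N → ℂ)) := by
        rw [← Nat.card_eq_finsetCard]
        exact Nat.card_congr (Equiv.subtypeEquivRight fun g => by simp [mem_inertia])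
      rw [hcard] at h
      rw [← h, hS, Finset.sum_filter]
      refine Finset.sum_congr rfl fun χ _ => ?_
      rw [classInner_indFun N _ (IsCharacter.isClassFunction (IsIrrCharacter.isCharacter χ.2))]
      have e : classInner (θ : N → ℂ) (fun n : N => (χ : G → ℂ) n) = c χ := by
        rw [← classInner_conj_symm]; exact hcc χ
      show (if c χ ≠ 0 then c χ * c χ else 0) = _
      rw [e, hcc]
      split
      · rfl
      next h0 => rw [not_not.1 h0, mul_zero]
    rw [hsum]
    have h3 := Subgroup.card_mul_index (inertia N (θ : N → ℂ))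
    have hN0 : (Nat.card N : ℂ) ≠ 0 := Nat.cast_ne_zero.2 Nat.card_pos.ne'
    have hG0 : (Nat.card G : ℂ) ≠ 0 := Nat.cast_ne_zero.2 Nat.card_pos.ne'
    field_simp
    exact_mod_cast (by rw [mul_comm]; exact h3 :
      (inertia N (θ : N → ℂ)).index * Nat.card (inertia N (θ : N → ℂ)) = Nat.card G)
  rw [hfix] at hmain
  obtain ⟨χ, hχ⟩ := Finset.card_eq_one.1 (by exact_mod_cast hmain :
    (S.filter fun χ : IrrCharacter G => ∀ g, (χ : G → ℂ) (s g) = (χ : G → ℂ) g).card = 1)
  have hm := Finset.mem_filter.1 (show χ ∈ S.filter _ by rw [hχ]; exact Finset.mem_singleton_self χ)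
  refine ⟨χ, ⟨(Finset.mem_filter.1 hm.1).2, hm.2⟩, fun ψ hψ => ?_⟩
  exact Finset.mem_singleton.1 (hχ ▸ Finset.mem_filter.2 ⟨Finset.mem_filter.2 ⟨Finset.mem_univ _, hψ.1⟩, hψ.2⟩)

end Cfsg.Agent.Block
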