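import Cfsg.Agent.Lib.Block.OddIndexFixed
import Cfsg.Agent.Lib.Char.Schur

/-!
# Indicators above an odd index normal subgroup
-/

set_option autoImplicit false
set_option linter.style.haveILetI false

open Cfsg Cfsg.Agent.Char
open scoped ComplexConjugate

namespace Cfsg.Agent.Block

universe u

variable {G : Type u} [Group G] [Fintype G] {N : Subgroup G} [N.Normal] [Fintype N]

/-- The second orthogonality relation as a count of conjugating elements. -/
theorem sum_irr_eq_card_conj [Fintype (IrrCharacter G)] [DecidableEq G] (a b : G) :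
    ∑ χ : IrrCharacter G, (χ : G → ℂ) a * conj ((χ : G → ℂ) b) =
      ∑ g : G, if g * a * g⁻¹ = b then (1 : ℂ) else 0 := by
  classical
  rw [second_orthogonality a b, ← Finset.sum_filter, Finset.sum_const, nsmul_one]
  split
  next h =>
    obtain ⟨t, ht⟩ := isConj_iff.1 h
    rw [← Nat.card_eq_finsetCard]
    congr 1
    refine Nat.card_congr (Equiv.subtypeEquiv (Equiv.mulLeft t) fun c => ?_)
    rw [Subgroup.mem_centralizer_singleton_iff, Finset.mem_filter]
    simp only [Finset.mem_univ, true_and, Equiv.coe_mulLeft]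
    rw [← ht]
    constructor
    · intro hc
      rw [mul_assoc t c a, hc]; group
    · intro hc
      have := congrArg (fun x => t⁻¹ * x * (t * c)) hc
      simpa [mul_assoc] using this
  next h =>
    rw [Finset.filter_false_of_mem fun g _ hg => h (isConj_iff.2 ⟨g, hg⟩)]
    simp

/-- The signed number of characters above `φ` is its indicator. -/
theorem sum_indicator_mul_inner (hodd : Odd N.index) (φ : IrrCharacter N) [Fintype (IrrCharacter G)] :
    ∑ χ : IrrCharacter G, indicatorFS (χ : G → ℂ) * classInner (fun n : N => (χ : G → ℂ) n) (φ : N → ℂ) =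
      indicatorFS (φ : N → ℂ) := by
  classical
  have hG0 : (Nat.card G : ℂ) ≠ 0 := Nat.cast_ne_zero.2 Nat.card_pos.ne'
  have hsqN : ∀ s : G, s * s ∈ N → s ∈ N := by
    intro s hs
    have h2 : (QuotientGroup.mk s : G ⧸ N) ^ 2 = 1 := by
      rw [pow_two, ← QuotientGroup.mk_mul, QuotientGroup.eq_one_iff]
      exact hs
    rw [← QuotientGroup.eq_one_iff]
    refine orderOf_eq_one_iff.1 (Nat.eq_one_of_dvd_coprimes (a := 2) (b := N.index) ?_
      (orderOf_dvd_of_pow_eq_one h2) (by rw [Subgroup.index_eq_card]; exact orderOf_dvd_natCard _))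
    exact Nat.coprime_two_left.2 hodd
  have hc : ∀ χ : IrrCharacter G, classInner (fun n : N => (χ : G → ℂ) n) (φ : N → ℂ) =
      (Nat.card N : ℂ)⁻¹ * ∑ n : N, (φ : N → ℂ) n * conj ((χ : G → ℂ) n) := by
    intro χ
    obtain ⟨m, hm⟩ := exists_classInner_nat (IsCharacter.restrict (IsIrrCharacter.isCharacter χ.2) N) φ.2
    have h := congrArg conj hm
    rw [map_natCast, ← hm, classInner_conj_symm] at h
    rw [← h]
    rfl
  simp only [hc, indicatorFS]
  calc ∑ χ : IrrCharacter G, ((Nat.card G : ℂ)⁻¹ * ∑ s : G, (χ : G → ℂ) (s * s)) *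
        ((Nat.card N : ℂ)⁻¹ * ∑ n : N, (φ : N → ℂ) n * conj ((χ : G → ℂ) n))
      = (Nat.card G : ℂ)⁻¹ * (Nat.card N : ℂ)⁻¹ * ∑ s : G, ∑ n : N, (φ : N → ℂ) n *
          ∑ χ : IrrCharacter G, (χ : G → ℂ) (s * s) * conj ((χ : G → ℂ) n) := by
        simp only [Finset.mul_sum, Finset.sum_mul]
        rw [Finset.sum_congr rfl fun χ _ => Finset.sum_comm, Finset.sum_comm]
        refine Finset.sum_congr rfl fun s _ => ?_
        rw [Finset.sum_comm]
        refine Finset.sum_congr rfl fun n _ => Finset.sum_congr rfl fun χ _ => ?_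
        ring
    _ = (Nat.card G : ℂ)⁻¹ * (Nat.card N : ℂ)⁻¹ * ∑ s : N, ∑ g : G,
          (φ : N → ℂ) (MulAut.conjNormal g (s * s)) := by
        congr 1
        simp only [sum_irr_eq_card_conj, Finset.mul_sum]
        rw [← Finset.sum_filter_of_ne (s := (Finset.univ : Finset G)) (p := fun s => s ∈ N) fun s _ hne => ?_]
        · rw [Finset.sum_subtype (Finset.univ.filter fun s => s ∈ N) (p := fun s => s ∈ N) (fun s => by simp)]
          refine Finset.sum_congr rfl fun s _ => ?_
          rw [Finset.sum_comm]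
          refine Finset.sum_congr rfl fun g _ => ?_
          rw [Finset.sum_eq_single (MulAut.conjNormal g (s * s) : N)]
          · rw [if_pos (by simp [MulAut.conjNormal_apply]), mul_one]
          · intro n _ hn
            rw [if_neg fun h => hn (Subtype.ext (by rw [MulAut.conjNormal_apply]; simpa using h.symm)), mul_zero]
          · exact fun h => absurd (Finset.mem_univ _) h
        · by_contra hs
          refine hne (Finset.sum_eq_zero fun n _ => Finset.sum_eq_zero fun g _ => ?_)
          rw [if_neg fun h => hs (hsqN s ?_), mul_zero]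
          have h' := ‹N.Normal›.conj_mem _ n.2 g⁻¹
          rw [← h] at h'
          simpa [mul_assoc] using h'
    _ = (Nat.card N : ℂ)⁻¹ * ∑ s : N, (φ : N → ℂ) (s * s) := by
        rw [Finset.sum_comm, Finset.sum_congr rfl (g := fun _ : G => ∑ s : N, (φ : N → ℂ) (s * s)) fun g _ =>
          Fintype.sum_equiv (MulAut.conjNormal g).toEquiv _ (fun s => (φ : N → ℂ) (s * s))
            (fun s => by simp [map_mul]), Finset.sum_const, nsmul_eq_mul, Finset.card_univ,
          ← Nat.card_eq_fintype_card]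
        field_simp

/-- Exactly one character of indicator one lies over one of indicator one. -/
theorem existsUnique_indicator_one (hodd : Odd N.index) (φ : IrrCharacter N)
    (hφ : indicatorFS (φ : N → ℂ) = 1) :
    ∃! χ : IrrCharacter G, indicatorFS (χ : G → ℂ) = 1 ∧
      classInner (fun n : N => (χ : G → ℂ) n) (φ : N → ℂ) ≠ 0 := by
  classical
  haveI := Fintype.ofFinite (IrrCharacter G)
  have hreal : ∀ {X : Type u} [Group X] [Fintype X] (χ : IrrCharacter X), indicatorFS (χ : X → ℂ) ≠ 0 →
      ∀ x : X, (χ : X → ℂ) x⁻¹ = (χ : X → ℂ) x := by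
    intro X _ _ χ h x
    rcases indicatorFS_trichotomy χ.2 with ⟨hr, -⟩ | ⟨-, h0⟩
    · rw [IsCharacter.map_inv (IsIrrCharacter.isCharacter χ.2), Complex.conj_eq_iff_im.2 (hr x)]
    · exact absurd h0 h
  obtain ⟨χ₀, ⟨hover, hfix⟩, huniq⟩ := existsUnique_fixed hodd (fun g : G => g⁻¹)
    (fun x g => by group) (fun g => rfl) (fun χ => by
      have e : (fun g => (χ : G → ℂ) g⁻¹) = fun g => conj ((χ : G → ℂ) g) :=
        funext fun g => IsCharacter.map_inv (IsIrrCharacter.isCharacter χ.2) g
      rw [e]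
      exact IsIrrCharacter.conj χ.2) φ (fun n n' h => by
      rw [show n' = n⁻¹ from Subtype.ext h]
      exact hreal φ (by rw [hφ]; exact one_ne_zero) n)
  have hone : indicatorFS (χ₀ : G → ℂ) = 1 := by
    have h := sum_indicator_mul_inner hodd φ (G := G)
    rw [hφ, Finset.sum_eq_single χ₀ (fun χ _ hne => ?_) (fun h => absurd (Finset.mem_univ _) h)] at h
    · obtain ⟨m, hm⟩ := exists_classInner_nat (IsCharacter.restrict (IsIrrCharacter.isCharacter χ₀.2) N) φ.2
      rw [hm] at h
      rcases indicatorFS_trichotomy χ₀.2 with ⟨-, h1 | ⟨h1, -⟩⟩ | ⟨-, h1⟩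
      · exact h1
      · exfalso
        rw [h1] at h
        have : ((m + 1 : ℕ) : ℂ) = 0 := by push_cast; linear_combination -h
        exact Nat.succ_ne_zero m (by exact_mod_cast this)
      · rw [h1, zero_mul] at h; exact absurd h zero_ne_one
    · by_contra h0
      obtain ⟨h1, h2⟩ := mul_ne_zero_iff.1 h0
      exact hne (huniq χ ⟨h2, hreal χ h1⟩)
  exact ⟨χ₀, ⟨hone, hover⟩, fun χ hχ => huniq χ ⟨hχ.2, hreal χ (by rw [hχ.1]; exact one_ne_zero)⟩⟩

end Cfsg.Agent.Block
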