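import Cfsg.Agent.Lib.Block.LocalRing
import Cfsg.Agent.Lib.Char.Orthogonality
import Mathlib.RepresentationTheory.Basic
import Mathlib.Algebra.MonoidAlgebra.Basic
import Mathlib.LinearAlgebra.Eigenspace.Minpoly
import Mathlib.LinearAlgebra.Eigenspace.Charpoly
import Mathlib.LinearAlgebra.Eigenspace.Basic
import Mathlib.LinearAlgebra.Matrix.Charpoly.Eigs
import Mathlib.LinearAlgebra.Charpoly.ToMatrix
import Mathlib.RingTheory.IntegralClosure.IsIntegralClosure.Basic
import Mathlib.RingTheory.Finiteness.Finsupp

/-!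
# Central characters as homomorphisms on the centre of the complex group algebra
-/

set_option autoImplicit false

open scoped ComplexConjugate
open Cfsg.Agent.Char

namespace Cfsg.Agent.Block

universe u

variable {G : Type u} [Group G]

/-- The element of the group algebra with given coefficients. -/
noncomputable def mkA [Finite G] (f : G → ℂ) : MonoidAlgebra ℂ G :=
  .ofCoeff (Finsupp.equivFunOnFinite.symm f)

@[simp] theorem coeff_mkA [Finite G] (f : G → ℂ) (g : G) : (mkA f).coeff g = f g := by
  simp [mkA]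

/-- The coefficients are a class function. -/
def IsCentralElt (a : MonoidAlgebra ℂ G) : Prop := IsClassFunction G (fun g => a.coeff g)

theorem isCentralElt_iff_commute (a : MonoidAlgebra ℂ G) :
    IsCentralElt a ↔ ∀ g : G, MonoidAlgebra.single g (1 : ℂ) * a = a * MonoidAlgebra.single g 1 := by
  constructor
  · intro h g
    refine MonoidAlgebra.ext (Finsupp.ext fun x => ?_)
    rw [MonoidAlgebra.coeff_single_mul_apply, MonoidAlgebra.coeff_mul_single_apply, one_mul, mul_one]
    have := h (g⁻¹ * x) g
    simp only [mul_assoc, mul_inv_cancel_left] at this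
    exact this.symm
  · intro h x g
    have := congrArg (fun b => b.coeff (g * x)) (h g)
    simp only [MonoidAlgebra.coeff_single_mul_apply, MonoidAlgebra.coeff_mul_single_apply, one_mul,
      mul_one, inv_mul_cancel_left] at this
    exact this.symm

theorem IsCentralElt.one : IsCentralElt (1 : MonoidAlgebra ℂ G) := by
  rw [isCentralElt_iff_commute]; simp

theorem IsCentralElt.zero : IsCentralElt (0 : MonoidAlgebra ℂ G) := by
  rw [isCentralElt_iff_commute]; simp

theorem IsCentralElt.add {a b : MonoidAlgebra ℂ G} (ha : IsCentralElt a) (hb : IsCentralElt b) :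
    IsCentralElt (a + b) := by
  rw [isCentralElt_iff_commute] at *
  intro g; rw [mul_add, add_mul, ha, hb]

theorem IsCentralElt.sub {a b : MonoidAlgebra ℂ G} (ha : IsCentralElt a) (hb : IsCentralElt b) :
    IsCentralElt (a - b) := by
  rw [isCentralElt_iff_commute] at *
  intro g; rw [mul_sub, sub_mul, ha, hb]

theorem IsCentralElt.smul {a : MonoidAlgebra ℂ G} (ha : IsCentralElt a) (c : ℂ) :
    IsCentralElt (c • a) := by
  rw [isCentralElt_iff_commute] at *
  intro g; rw [mul_smul_comm, smul_mul_assoc, ha]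

theorem IsCentralElt.mul {a b : MonoidAlgebra ℂ G} (ha : IsCentralElt a) (hb : IsCentralElt b) :
    IsCentralElt (a * b) := by
  rw [isCentralElt_iff_commute] at *
  intro g; rw [← mul_assoc, ha, mul_assoc, hb, mul_assoc]

theorem IsCentralElt.sum {ι : Type*} (s : Finset ι) (f : ι → MonoidAlgebra ℂ G)
    (h : ∀ i ∈ s, IsCentralElt (f i)) : IsCentralElt (∑ i ∈ s, f i) :=
  Finset.sum_induction f IsCentralElt (fun _ _ => IsCentralElt.add) IsCentralElt.zero h

theorem IsCentralElt.prod_list (l : List (MonoidAlgebra ℂ G)) (h : ∀ a ∈ l, IsCentralElt a) :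
    IsCentralElt l.prod := by
  induction l with
  | nil => simpa using IsCentralElt.one
  | cons a l ih =>
    simp only [List.mem_cons, forall_eq_or_imp] at h
    simpa using h.1.mul (ih h.2)

theorem IsCentralElt.pow {a : MonoidAlgebra ℂ G} (ha : IsCentralElt a) (n : ℕ) :
    IsCentralElt (a ^ n) := by
  induction n with
  | zero => simpa using IsCentralElt.one
  | succ n ih => simpa [pow_succ] using ih.mul ha

theorem IsCentralElt.commute {a : MonoidAlgebra ℂ G} (ha : IsCentralElt a) (b : MonoidAlgebra ℂ G) :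
    Commute a b := by
  rw [isCentralElt_iff_commute] at ha
  induction b using MonoidAlgebra.induction_linear with
  | zero => simp
  | add x y hx hy => exact hx.add_right hy
  | single g c =>
    rw [show (MonoidAlgebra.single g c : MonoidAlgebra ℂ G) = c • MonoidAlgebra.single g (1 : ℂ) by simp]
    exact Commute.smul_right (ha g).symm c

/-- The indicator of a conjugacy class. -/
noncomputable def classSum [Finite G] (g : G) : MonoidAlgebra ℂ G :=
  mkA fun x => by classical exact if IsConj g x then 1 else 0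

theorem isCentralElt_classSum [Finite G] (g : G) : IsCentralElt (classSum g) := by
  intro x h
  classical
  simp only [classSum, coeff_mkA]
  have h1 : IsConj (h * x * h⁻¹) x := (isConj_iff.2 ⟨h, rfl⟩).symm
  by_cases hc : IsConj g x
  · rw [if_pos hc, if_pos (hc.trans h1.symm)]
  · rw [if_neg hc, if_neg fun h' => hc (h'.trans h1)]

/-- The central character extended linearly to the group algebra. -/
noncomputable def omega (χ : G → ℂ) (a : MonoidAlgebra ℂ G) : ℂ :=
  (a.coeff.sum fun g c => c * χ g) / χ 1

theorem omega_eq_sum [Fintype G] (χ : G → ℂ) (a : MonoidAlgebra ℂ G) :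
    omega χ a = (∑ g, a.coeff g * χ g) / χ 1 := by
  rw [omega, Finsupp.sum_fintype]; simp

theorem omega_add [Finite G] (χ : G → ℂ) (a b : MonoidAlgebra ℂ G) :
    omega χ (a + b) = omega χ a + omega χ b := by
  haveI := Fintype.ofFinite G
  simp [omega_eq_sum, add_mul, Finset.sum_add_distrib, add_div]

theorem omega_smul [Finite G] (χ : G → ℂ) (c : ℂ) (a : MonoidAlgebra ℂ G) :
    omega χ (c • a) = c * omega χ a := by
  haveI := Fintype.ofFinite G
  simp [omega_eq_sum, mul_assoc, ← Finset.mul_sum, mul_div_assoc]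

theorem omega_zero (χ : G → ℂ) : omega χ (0 : MonoidAlgebra ℂ G) = 0 := by simp [omega]

theorem omega_sub [Finite G] (χ : G → ℂ) (a b : MonoidAlgebra ℂ G) :
    omega χ (a - b) = omega χ a - omega χ b := by
  haveI := Fintype.ofFinite G
  simp [omega_eq_sum, sub_mul, Finset.sum_sub_distrib, sub_div]

theorem omega_sum [Finite G] {ι : Type*} (χ : G → ℂ) (s : Finset ι) (f : ι → MonoidAlgebra ℂ G) :
    omega χ (∑ i ∈ s, f i) = ∑ i ∈ s, omega χ (f i) := by
  classical
  induction s using Finset.induction_on with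
  | empty => simp [omega_zero]
  | insert i s hi ih => rw [Finset.sum_insert hi, Finset.sum_insert hi, omega_add, ih]

theorem omega_one {χ : G → ℂ} (h : χ 1 ≠ 0) : omega χ (1 : MonoidAlgebra ℂ G) = 1 := by
  simp [omega, MonoidAlgebra.one_def, h]

theorem omega_classSum [Finite G] (χ : IrrCharacter G) (g : G) :
    omega (χ : G → ℂ) (classSum g) = centralChar (χ : G → ℂ) g := by
  classical
  haveI := Fintype.ofFinite G
  have : ∀ x : G, (classSum g).coeff x * (χ : G → ℂ) x = if IsConj g x then (χ : G → ℂ) g else 0 := by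
    intro x
    simp only [classSum, coeff_mkA]
    split
    next h => rw [one_mul, IsIrrCharacter.apply_isConj χ.2 h]
    next h => simp
  rw [omega_eq_sum, centralChar, Finset.sum_congr rfl fun x _ => this x, ← Finset.sum_filter,
    Finset.sum_const, nsmul_eq_mul, ← card_isConj_eq_index, Nat.card_eq_fintype_card,
    Fintype.card_subtype]

/-- A central element acts by its central character on an irreducible representation. -/
theorem asAlgebraHom_central [Finite G] {n : ℕ} (ρ : Representation ℂ G (Fin n → ℂ))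
    (hρ : ρ.IsIrreducible) {a : MonoidAlgebra ℂ G} (ha : IsCentralElt a) :
    ρ.asAlgebraHom a = omega ρ.character a • (1 : Module.End ℂ (Fin n → ℂ)) := by
  haveI := hρ
  haveI := Fintype.ofFinite G
  let T : Representation.IntertwiningMap ρ ρ := ⟨ρ.asAlgebraHom a, fun x => by
    have := congrArg ρ.asAlgebraHom ((isCentralElt_iff_commute a).1 ha x).symm
    simpa [Representation.asAlgebraHom_single, Module.End.mul_eq_comp] using this⟩
  obtain ⟨c, hc⟩ :=
    (Representation.IsIrreducible.algebraMap_intertwiningMap_bijective_of_isAlgClosed (ρ := ρ)).2 T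
  have hT : ρ.asAlgebraHom a = c • (1 : Module.End ℂ (Fin n → ℂ)) := by
    have := congrArg Representation.IntertwiningMap.toLinearMap hc
    simp only [T] at this
    rw [← this, Algebra.algebraMap_eq_smul_one]
    rfl
  have h1 : ρ.character 1 ≠ 0 :=
    IsIrrCharacter.apply_one_ne_zero (χ := ρ.character) ⟨n, ρ, hρ, rfl⟩
  have htr : LinearMap.trace ℂ _ (ρ.asAlgebraHom a) = ∑ g, a.coeff g * ρ.character g := by
    rw [Representation.asAlgebraHom_def, MonoidAlgebra.lift_apply, Finsupp.sum_fintype _ _ (by simp),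
      map_sum]
    exact Finset.sum_congr rfl fun g _ => by rw [map_smul]; rfl
  rw [hT]
  congr 1
  rw [omega_eq_sum, eq_div_iff h1, ← htr, hT, map_smul, smul_eq_mul, Representation.character, map_one]

theorem omega_mul [Finite G] (χ : IrrCharacter G) {a b : MonoidAlgebra ℂ G}
    (ha : IsCentralElt a) (hb : IsCentralElt b) :
    omega (χ : G → ℂ) (a * b) = omega (χ : G → ℂ) a * omega (χ : G → ℂ) b := by
  obtain ⟨n, ρ, hρ, hχ⟩ := χ.2
  rw [← hχ]
  haveI := nontrivial_of_irreducible ρ
  have h := asAlgebraHom_central ρ hρ (ha.mul hb)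
  rw [map_mul, asAlgebraHom_central ρ hρ ha, asAlgebraHom_central ρ hρ hb, smul_mul_smul_comm,
    one_mul] at h
  exact (smul_left_injective ℂ (one_ne_zero (α := Module.End ℂ (Fin n → ℂ))) h).symm

theorem omega_pow [Finite G] (χ : IrrCharacter G) {a : MonoidAlgebra ℂ G}
    (ha : IsCentralElt a) (n : ℕ) : omega (χ : G → ℂ) (a ^ n) = omega (χ : G → ℂ) a ^ n := by
  induction n with
  | zero => simpa using omega_one (IsIrrCharacter.apply_one_ne_zero χ.2)
  | succ n ih => rw [pow_succ, pow_succ, omega_mul χ (ha.pow n) ha, ih]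

theorem omega_prod_list [Finite G] (χ : IrrCharacter G) (l : List (MonoidAlgebra ℂ G))
    (h : ∀ a ∈ l, IsCentralElt a) :
    omega (χ : G → ℂ) l.prod = (l.map (omega (χ : G → ℂ))).prod := by
  induction l with
  | nil => simpa using omega_one (IsIrrCharacter.apply_one_ne_zero χ.2)
  | cons a l ih =>
    simp only [List.mem_cons, forall_eq_or_imp] at h
    rw [List.prod_cons, omega_mul χ h.1 (IsCentralElt.prod_list l h.2), List.map_cons, List.prod_cons,
      ih h.2]

/-- A central element is determined by its central characters. -/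
theorem eq_of_omega_eq [Finite G] {a b : MonoidAlgebra ℂ G} (ha : IsCentralElt a)
    (hb : IsCentralElt b) (h : ∀ χ : IrrCharacter G, omega (χ : G → ℂ) a = omega (χ : G → ℂ) b) :
    a = b := by
  haveI := Fintype.ofFinite G
  rw [← sub_eq_zero]
  have hc := ha.sub hb
  have : (fun g => (a - b).coeff g) = 0 := by
    refine eq_zero_of_classInner_eq_zero hc fun χ hχ => ?_
    have h' := h ⟨_, IsIrrCharacter.conj hχ⟩
    rw [← sub_eq_zero, ← omega_sub, omega_eq_sum, div_eq_zero_iff] at h'
    have h1 : conj (χ 1) ≠ 0 := by simpa using IsIrrCharacter.apply_one_ne_zero hχ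
    rw [classInner, h'.resolve_right h1, mul_zero]
  exact MonoidAlgebra.ext (Finsupp.ext fun g => congrFun this g)

/-- The sum of the central idempotents of the characters in `B`. -/
noncomputable def blockIdem [Finite G] (B : Set (IrrCharacter G)) : MonoidAlgebra ℂ G :=
  mkA (blockCoeff B)

theorem blockCoeff_eq_sum [Finite G] (B : Set (IrrCharacter G)) [Fintype (IrrCharacter G)]
    [DecidablePred (· ∈ B)] (g : G) :
    blockCoeff B g = (Nat.card G : ℂ)⁻¹ *
      ∑ χ : IrrCharacter G, if χ ∈ B then (χ : G → ℂ) 1 * conj ((χ : G → ℂ) g) else 0 := by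
  rw [blockCoeff, finsum_mem_eq_finite_toFinset_sum _ B.toFinite, ← Finset.sum_filter]
  congr 1
  exact Finset.sum_congr (by ext; simp) fun _ _ => rfl

theorem isCentralElt_blockIdem [Finite G] (B : Set (IrrCharacter G)) : IsCentralElt (blockIdem B) := by
  intro g h
  simp only [blockIdem, coeff_mkA, blockCoeff]
  congr 1
  refine finsum_congr fun χ => finsum_congr fun _ => ?_
  rw [IsCharacter.isClassFunction (IsIrrCharacter.isCharacter χ.2) g h]

theorem omega_blockIdem [Finite G] (B : Set (IrrCharacter G)) [DecidablePred (· ∈ B)]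
    (χ : IrrCharacter G) :
    omega (χ : G → ℂ) (blockIdem B) = if χ ∈ B then 1 else 0 := by
  classical
  haveI := Fintype.ofFinite G
  haveI := Fintype.ofFinite (IrrCharacter G)
  have h1 : ∑ g, (blockIdem B).coeff g * (χ : G → ℂ) g =
      ∑ ψ : IrrCharacter G, if ψ ∈ B then (ψ : G → ℂ) 1 * classInner (χ : G → ℂ) (ψ : G → ℂ) else 0 := by
    simp only [blockIdem, coeff_mkA, blockCoeff_eq_sum, Finset.mul_sum, Finset.sum_mul]
    rw [Finset.sum_comm]
    refine Finset.sum_congr rfl fun ψ _ => ?_
    split
    · rw [classInner, Finset.mul_sum, Finset.mul_sum]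
      exact Finset.sum_congr rfl fun g _ => by ring
    · simp
  rw [omega_eq_sum, h1, Finset.sum_eq_single χ]
  · split
    · rw [IsIrrCharacter.classInner_self χ.2, mul_one, div_self (IsIrrCharacter.apply_one_ne_zero χ.2)]
    · simp
  · intro ψ _ hψ
    rw [IsIrrCharacter.classInner_eq_zero χ.2 ψ.2 fun e => hψ (Subtype.ext e.symm)]
    simp
  · simp

theorem blockIdem_mul_self [Finite G] (B : Set (IrrCharacter G)) :
    blockIdem B * blockIdem B = blockIdem B := by
  classical
  refine eq_of_omega_eq ((isCentralElt_blockIdem B).mul (isCentralElt_blockIdem B))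
    (isCentralElt_blockIdem B) fun χ => ?_
  rw [omega_mul χ (isCentralElt_blockIdem B) (isCentralElt_blockIdem B), omega_blockIdem]
  split <;> simp

theorem blockIdem_univ [Finite G] : blockIdem (Set.univ : Set (IrrCharacter G)) = 1 := by
  classical
  refine eq_of_omega_eq (isCentralElt_blockIdem _) IsCentralElt.one fun χ => ?_
  rw [omega_blockIdem, omega_one (IsIrrCharacter.apply_one_ne_zero χ.2), if_pos (Set.mem_univ χ)]

/-! ## Integrality -/

theorem isIntegral_character [Finite G] {χ : G → ℂ} (hχ : IsCharacter G χ) (g : G) :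
    IsIntegral ℤ (χ g) := by
  obtain ⟨n, ρ, rfl⟩ := hχ
  classical
  rw [Representation.character, LinearMap.trace_eq_matrix_trace ℂ (Pi.basisFun ℂ (Fin n)),
    Matrix.trace_eq_sum_roots_charpoly, LinearMap.charpoly_toMatrix]
  refine IsIntegral.multiset_sum fun μ hμ => ?_
  have hev : Module.End.HasEigenvalue (ρ g) μ := by
    rw [Module.End.hasEigenvalue_iff_isRoot_charpoly]
    exact (Polynomial.mem_roots (LinearMap.charpoly_monic _).ne_zero).1 hμ
  obtain ⟨v, hv⟩ := hev.exists_hasEigenvector
  have h1 := hv.pow_apply (orderOf g)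
  rw [← map_pow, pow_orderOf_eq_one, map_one, Module.End.one_apply] at h1
  have h2 : μ ^ orderOf g = 1 := by
    refine smul_left_injective ℂ hv.2 ?_
    simpa using h1.symm
  exact IsIntegral.of_pow (orderOf_pos g) (by rw [h2]; exact isIntegral_one)

theorem isIntegral_omega [Finite G] (χ : IrrCharacter G) {a : MonoidAlgebra ℂ G}
    (ha : IsCentralElt a) (hint : ∀ g, ∃ m : ℤ, a.coeff g = (m : ℂ)) :
    IsIntegral ℤ (omega (χ : G → ℂ) a) := by
  obtain ⟨n, ρ, hρ, hχ⟩ := χ.2
  rw [← hχ]
  haveI := nontrivial_of_irreducible ρ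
  haveI := Fintype.ofFinite G
  choose m hm using hint
  let φ : MonoidAlgebra ℤ G →ₐ[ℤ] Module.End ℂ (Fin n → ℂ) := MonoidAlgebra.lift ℤ _ G ρ
  let a' : MonoidAlgebra ℤ G := .ofCoeff (Finsupp.equivFunOnFinite.symm m)
  haveI : Module.Finite ℤ (MonoidAlgebra ℤ G) :=
    Module.Finite.equiv (MonoidAlgebra.coeffLinearEquiv ℤ).symm
  have h1 : φ a' = ρ.asAlgebraHom a := by
    rw [Representation.asAlgebraHom_def, MonoidAlgebra.lift_apply]
    show MonoidAlgebra.lift ℤ _ G ρ a' = _
    rw [MonoidAlgebra.lift_apply, MonoidAlgebra.lift_apply, Finsupp.sum_fintype _ _ (by simp), Finsupp.sum_fintype _ _ (by simp)]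
    refine Finset.sum_congr rfl fun g _ => ?_
    simp [a', hm, Int.cast_smul_eq_zsmul]
  have h2 : IsIntegral ℤ (φ a') := (IsIntegral.of_finite ℤ a').map φ
  rw [h1, asAlgebraHom_central ρ hρ ha, ← Algebra.algebraMap_eq_smul_one] at h2
  exact (isIntegral_algebraMap_iff (FaithfulSMul.algebraMap_injective ℂ _)).1 h2

theorem isIntegral_centralChar [Finite G] (χ : IrrCharacter G) (g : G) :
    IsIntegral ℤ (centralChar (χ : G → ℂ) g) := by
  rw [← omega_classSum]
  refine isIntegral_omega χ (isCentralElt_classSum g) fun x => ?_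
  classical
  simp only [classSum, coeff_mkA]
  split
  · exact ⟨1, by simp⟩
  · exact ⟨0, by simp⟩

end Cfsg.Agent.Block
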