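import Cfsg.Agent.Lib.Block.ResHom
import Cfsg.Agent.Lib.Block.Nilpotent
import Cfsg.Agent.Lib.Char.HeckeMat

/-!
Vectors on the cosets of a `p`-subgroup on which the class sums act by a central character modulo `p`.
-/

set_option autoImplicit false
set_option linter.style.haveILetI false

namespace Cfsg.Agent.Block

open Cfsg.Agent.Char
open scoped ComplexConjugate

universe u

variable {G : Type u} [Group G] [Finite G] {M : Ideal AlgInt} [hMp : M.IsPrime] {p : ℕ}

/-- A function in the block killed by the class sums minus their values. -/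
theorem exists_omega_fun [Fintype G] [DecidableRel (IsConj : G → G → Prop)] (hM : IsPModular p M)
    (χ : IrrCharacter G) :
    ∃ f : G → ResK M, (∃ x, f x ≠ 0) ∧ ∀ g x : G,
      ∑ h ∈ Finset.univ.filter (IsConj g), f (h⁻¹ * x) = resC M (centralChar (χ : G → ℂ) g) * f x := by
  classical
  have hbot : IsPGroup p (⊥ : Subgroup G) := IsPGroup.of_bot
  set B := blockOf M (χ : G → ℂ) with hBdef
  have hB : IsPBlock M B := isPBlock_blockOf χ
  set e := blockIdem B with he
  have hecl : CL M e := CL.blockIdem hB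
  set c : G → MonoidAlgebra ℂ G := fun g => classSum g - centralChar (χ : G → ℂ) g • 1 with hc
  have hccl : ∀ g, CL M (c g) := fun g =>
    (CL.classSum g).sub (CL.one.smul (centralChar_mem_locRing χ g))
  set red : MonoidAlgebra ℂ G → MonoidAlgebra (ResK M) G := brFun M (⊥ : Subgroup G) with hred
  have hmul : ∀ a b, CL M a → CL M b → red (a * b) = red a * red b := fun a b ha hb =>
    brFun_mul hM hbot (ha.ps _) (hb.ps _)
  have hnil : ∀ g, ∃ N, red (c g ^ N * e) = 0 := by
    intro g
    obtain ⟨N, hN⟩ := exists_pow_memLocalIdeal hM ((hccl g).mul hecl) fun φ => by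
      rw [ro_mul φ (hccl g) hecl]
      by_cases hφ : φ ∈ B
      · rw [hc, ro_sub φ (CL.classSum g) (CL.one.smul (centralChar_mem_locRing χ g)),
          ro_smul φ (centralChar_mem_locRing χ g) CL.one, ro_one, mul_one,
          ro_congr hB hφ (self_mem_blockOf χ) (CL.classSum g), ro_classSum, sub_self, zero_mul]
      · rw [ro_blockIdem_notMem hφ, mul_zero]
    refine ⟨N + 1, ?_⟩
    have h0 : red ((c g * e) ^ (N + 1)) = 0 := by
      rw [pow_succ, hmul _ _ (((hccl g).mul hecl).pow N) ((hccl g).mul hecl),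
        show red ((c g * e) ^ N) = 0 from (brFun_bot_eq_zero_iff (((hccl g).mul hecl).pow N).2).2 hN, zero_mul]
    rwa [(hecl.1.commute (c g)).symm.mul_pow,
      show e ^ (N + 1) = e from IsIdempotentElem.pow_succ_eq N (blockIdem_mul_self B)] at h0
  have key : ∀ t : Finset G, ∃ b, CL M b ∧ b * e = b ∧ red b ≠ 0 ∧ ∀ g ∈ t, red (c g * b) = 0 := by
    intro t
    induction t using Finset.induction_on with
    | empty =>
      refine ⟨e, hecl, blockIdem_mul_self B, fun h => ?_, by simp⟩
      obtain ⟨y, hy⟩ := exists_isDefectClass hB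
      refine hy.2.1 ?_
      have := (brFun_bot_eq_zero_iff hecl.2).1 h y
      simpa [he, blockIdem] using this
    | insert g t _ ih =>
      obtain ⟨b, hb, hbe, hb0, hbt⟩ := ih
      have hex : ∃ n, red (c g ^ n * b) = 0 := by
        obtain ⟨N, hN⟩ := hnil g
        refine ⟨N, ?_⟩
        rw [← hbe, ← mul_assoc, ← (hb.1.commute (c g ^ N)).eq, mul_assoc,
          hmul b _ hb (((hccl g).pow N).mul hecl), hN, mul_zero]
      obtain ⟨n, hn⟩ : ∃ n, Nat.find hex = n + 1 := by
        refine Nat.exists_eq_add_one_of_ne_zero fun h0 => hb0 ?_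
        have := Nat.find_spec hex
        rwa [h0, pow_zero, one_mul] at this
      refine ⟨c g ^ n * b, ((hccl g).pow n).mul hb, by rw [mul_assoc, hbe],
        fun h => ?_, fun g' hg' => ?_⟩
      · have := Nat.find_min hex (m := n) (by omega) h
        exact this
      · rcases Finset.mem_insert.1 hg' with rfl | hg'
        · rw [← mul_assoc, ← pow_succ']
          have := Nat.find_spec hex
          rwa [hn] at this
        · rw [← mul_assoc, ← ((hccl g).pow n).1.commute (c g'), mul_assoc, hmul _ _ ((hccl g).pow n)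
            ((hccl g').mul hb), hbt g' hg', mul_zero]
  obtain ⟨b, hb, -, hb0, hbc⟩ := key Finset.univ
  refine ⟨fun x => resC M (b.coeff x), ?_, fun g x => ?_⟩
  · by_contra h
    push Not at h
    exact hb0 ((brFun_bot_eq_zero_iff hb.2).2 fun x => (resC_eq_zero_iff (hb.2 x)).1 (h x))
  · have hz := (brFun_bot_eq_zero_iff ((hccl g).mul hb).2).1 (hbc g (Finset.mem_univ g)) x
    have e1 : (c g * b).coeff x = (∑ h ∈ Finset.univ.filter (IsConj g), b.coeff (h⁻¹ * x)) -
        centralChar (χ : G → ℂ) g * b.coeff x := by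
      rw [hc, sub_mul, smul_mul_assoc, one_mul, MonoidAlgebra.coeff_sub, Finsupp.sub_apply,
        MonoidAlgebra.coeff_smul, Finsupp.smul_apply, smul_eq_mul, MonoidAlgebra.coeff_mul_apply_left,
        Finsupp.sum_fintype _ _ (by simp), Finset.sum_filter]
      congr 1
      refine Finset.sum_congr rfl fun h _ => ?_
      simp only [classSum, coeff_mkA]
      split_ifs <;> simp
    rw [e1] at hz
    have hl : ∀ y, b.coeff y ∈ locRing M := fun y => hb.2 y
    have hs : (∑ h ∈ Finset.univ.filter (IsConj g), b.coeff (h⁻¹ * x)) ∈ locRing M :=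
      sum_mem fun h _ => hl _
    have := (resC_eq_iff hs (mul_mem (centralChar_mem_locRing χ g) (hl x))).2 hz
    rwa [resC_sum _ _ (fun h _ => hl _), resC_mul (centralChar_mem_locRing χ g) (hl x)] at this

variable {U : Subgroup G}

/-- The class sums act by the central character on a non-zero function on the cosets of a `p`-subgroup. -/
theorem exists_omega_vec [Fintype G] [DecidableRel (IsConj : G → G → Prop)] (hM : IsPModular p M)
    (hU : IsPGroup p ↥U) (χ : IrrCharacter G) :
    ∃ v : G ⧸ U → ResK M, v ≠ 0 ∧ ∀ (g : G) (z : G ⧸ U),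
      ∑ h ∈ Finset.univ.filter (IsConj g), v (h • z) = resC M (centralChar (χ : G → ℂ) g) * v z := by
  classical
  haveI := Fact.mk hM.1
  haveI := locRing_charP hM.1 hM.2.2
  obtain ⟨f, ⟨x₀, hx₀⟩, hf⟩ := exists_omega_fun hM χ
  let V : Submodule (ResK M) (G → ResK M) :=
    { carrier := {φ | ∀ g x : G, ∑ h ∈ Finset.univ.filter (IsConj g), φ (h⁻¹ * x) =
        resC M (centralChar (χ : G → ℂ) g) * φ x}
      zero_mem' := fun g x => by simp
      add_mem' := fun {a b} ha hb g x => by
        simp only [Pi.add_apply, Finset.sum_add_distrib, ha g x, hb g x, mul_add]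
      smul_mem' := fun c a ha g x => by
        simp only [Pi.smul_apply, smul_eq_mul, ← Finset.mul_sum, ha g x]
        ring }
  have hmem : ∀ (u : G) (φ : V), (fun x => (φ : G → ResK M) (u⁻¹ * x)) ∈ V := by
    intro u φ g x
    rw [← φ.2 g (u⁻¹ * x)]
    refine Finset.sum_nbij' (fun h => u⁻¹ * h * u) (fun h => u * h * u⁻¹) ?_ ?_ ?_ ?_ ?_
    · intro h hh
      simp only [Finset.mem_coe, Finset.mem_filter, Finset.mem_univ, true_and] at hh ⊢
      exact hh.trans (isConj_iff.2 ⟨u⁻¹, by simp⟩)
    · intro h hh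
      simp only [Finset.mem_coe, Finset.mem_filter, Finset.mem_univ, true_and] at hh ⊢
      exact hh.trans (isConj_iff.2 ⟨u, rfl⟩)
    · intro h _; simp [mul_assoc]
    · intro h _; simp [mul_assoc]
    · intro h _; simp [mul_assoc]
  let ρ : ↥U →* Module.End (ResK M) V :=
    { toFun := fun u =>
        { toFun := fun φ => ⟨_, hmem u φ⟩
          map_add' := fun a b => rfl
          map_smul' := fun c a => rfl }
      map_one' := LinearMap.ext fun φ => Subtype.ext (funext fun x => by simp)
      map_mul' := fun a b => LinearMap.ext fun φ => Subtype.ext (funext fun x => by simp [mul_assoc]) }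
  obtain ⟨φ, hφ, hfix⟩ := exists_fixed_vector hU ρ (w := (⟨f, hf⟩ : V))
    (fun h => hx₀ (congrFun (congrArg Subtype.val h) x₀))
  obtain ⟨x₁, hx₁⟩ : ∃ x, (φ : G → ResK M) x ≠ 0 := by
    by_contra h
    push Not at h
    exact hφ (Subtype.ext (funext h))
  have hinv : ∀ (u : G), u ∈ U → ∀ x, (φ : G → ResK M) (u⁻¹ * x) = (φ : G → ResK M) x := fun u hu x =>
    congrFun (congrArg Subtype.val (hfix ⟨u, hu⟩)) x
  set v : G ⧸ U → ResK M := fun z => (φ : G → ResK M) (z.out⁻¹ * x₁) with hv
  have hvm : ∀ a : G, v (a : G ⧸ U) = (φ : G → ResK M) (a⁻¹ * x₁) := by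
    intro a
    obtain ⟨c, hc⟩ := QuotientGroup.mk_out_eq_mul U a
    rw [hv]
    simp only
    rw [hc, mul_inv_rev, mul_assoc, hinv _ c.2]
  refine ⟨v, fun h => hx₁ ?_, fun g z => ?_⟩
  · have := congrFun h ((1 : G) : G ⧸ U)
    rwa [hvm, inv_one, one_mul] at this
  · induction z using QuotientGroup.induction_on with
    | _ a =>
      rw [hvm, ← φ.2 g (a⁻¹ * x₁)]
      refine Finset.sum_nbij' (fun h => a⁻¹ * h * a) (fun h => a * h * a⁻¹) ?_ ?_ ?_ ?_ ?_
      · intro h hh
        simp only [Finset.mem_coe, Finset.mem_filter, Finset.mem_univ, true_and] at hh ⊢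
        exact hh.trans (isConj_iff.2 ⟨a⁻¹, by simp⟩)
      · intro h hh
        simp only [Finset.mem_coe, Finset.mem_filter, Finset.mem_univ, true_and] at hh ⊢
        exact hh.trans (isConj_iff.2 ⟨a, rfl⟩)
      · intro h _; simp [mul_assoc]
      · intro h _; simp [mul_assoc]
      · intro h _
        rw [MulAction.Quotient.smul_mk, smul_eq_mul, hvm]
        simp [mul_assoc]

end Cfsg.Agent.Block
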