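import Cfsg.Agent.Lib.Char.Extraspecial
import Cfsg.Agent.Lib.Char.Degrees
import Cfsg.Agent.Lib.Char.Linear
import Cfsg.Agent.Lib.Block.Regular
import Cfsg.Agent.Lib.Block.CentralQuotientBlock
import Cfsg.Agent.Lib.Struct.ClassTwoBasic
import Cfsg.Agent.Lib.Solv.StructMisc
import Cfsg.Agent.Lib.Solv.Misc

/-!
# Nilpotent groups with exactly one character of degree divisible by a prime
-/

set_option autoImplicit false
set_option linter.style.haveILetI false

open Cfsg Cfsg.Agent.Char
open scoped ComplexConjugate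

namespace Cfsg.Agent.Block

universe u

variable {G : Type u} [Group G]

/-- A degree is divisible by `p` exactly when it is not one, in a `p`-group. -/
theorem dvd_charDegree_iff_ne_one [Finite G] {p : ℕ} [Fact p.Prime] (hG : IsPGroup p G) (χ : IrrCharacter G) :
    p ∣ charDegree (χ : G → ℂ) ↔ (χ : G → ℂ) 1 ≠ 1 := by
  obtain ⟨n, hn⟩ := IsPGroup.iff_card.1 hG
  obtain ⟨k, -, hk⟩ := (Nat.dvd_prime_pow Fact.out).1 (hn ▸ charDegree_dvd_card χ.2)
  rw [← charDegree_cast (IsIrrCharacter.isCharacter χ.2), hk]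
  have hp := (Fact.out : p.Prime)
  rcases k with _ | k
  · simp [hp.ne_one]
  · simp only [ne_eq, Nat.cast_eq_one, dvd_pow_self p (Nat.succ_ne_zero k), true_iff]
    intro h
    exact hp.ne_one (Nat.eq_one_of_dvd_one (h ▸ dvd_pow_self p (Nat.succ_ne_zero k)))

/-- An extraspecial two-group has exactly one nonlinear character. -/
theorem card_nonlinear_of_extraspecial [Finite G] (hG : IsExtraspecial 2 G) :
    Nat.card {χ : IrrCharacter G // (χ : G → ℂ) 1 ≠ 1} = 1 := by
  classical
  haveI := Fintype.ofFinite (IrrCharacter G)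
  obtain ⟨⟨-, -, hc⟩, hZ⟩ := hG
  have hsum := sum_sq_degree (G := G)
  rw [← Finset.sum_filter_add_sum_filter_not Finset.univ (fun χ : IrrCharacter G => (χ : G → ℂ) 1 = 1)] at hsum
  have h1 : ∑ χ ∈ Finset.univ.filter (fun χ : IrrCharacter G => (χ : G → ℂ) 1 = 1), (χ : G → ℂ) 1 ^ 2 =
      ((commutator G).index : ℂ) := by
    rw [Finset.sum_congr rfl (g := fun _ => (1 : ℂ)) fun χ hχ => by rw [(Finset.mem_filter.1 hχ).2, one_pow],
      Finset.sum_const, nsmul_one, ← card_linear, Nat.card_eq_fintype_card, Fintype.card_subtype]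
  have h2 : ∑ χ ∈ Finset.univ.filter (fun χ : IrrCharacter G => ¬ (χ : G → ℂ) 1 = 1), (χ : G → ℂ) 1 ^ 2 =
      (Nat.card {χ : IrrCharacter G // (χ : G → ℂ) 1 ≠ 1} : ℂ) * ((Nat.card G : ℂ) / 2) := by
    rw [Finset.sum_congr rfl (g := fun _ => (Nat.card G : ℂ) / 2) fun χ hχ => by
      rw [← sq_degree_of_prime_derived Nat.prime_two hZ hc χ.2 (Finset.mem_filter.1 hχ).2]
      push_cast; ring,
      Finset.sum_const, nsmul_eq_mul, Nat.card_eq_fintype_card (α := {χ : IrrCharacter G // _}), Fintype.card_subtype]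
  have hidx := Subgroup.index_mul_card (commutator G)
  rw [hc, hZ] at hidx
  rw [h1, h2, hc, ← hidx] at hsum
  push_cast at hsum
  have hi : ((Subgroup.center G).index : ℂ) ≠ 0 := Nat.cast_ne_zero.2 Subgroup.index_ne_zero_of_finite
  have : (Nat.card {χ : IrrCharacter G // (χ : G → ℂ) 1 ≠ 1} : ℂ) = 1 := by
    apply mul_right_cancel₀ hi
    linear_combination hsum
  exact_mod_cast this

/-- A `p`-group with exactly one nonlinear character is an extraspecial two-group. -/
theorem extraspecial_of_card_nonlinear [Finite G] {p : ℕ} [Fact p.Prime] (hG : IsPGroup p G)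
    (h : Nat.card {χ : IrrCharacter G // (χ : G → ℂ) 1 ≠ 1} = 1) : p = 2 ∧ IsExtraspecial 2 G := by
  classical
  haveI := Fintype.ofFinite G
  haveI := Fintype.ofFinite (IrrCharacter G)
  have hp := (Fact.out : p.Prime)
  obtain ⟨hsub, ⟨χ₀, hχ₀⟩⟩ := (Nat.card_eq_one_iff_unique.1 h)
  have huniq : ∀ χ : IrrCharacter G, (χ : G → ℂ) 1 ≠ 1 → χ = χ₀ := fun χ hχ =>
    congrArg Subtype.val (hsub.elim ⟨χ, hχ⟩ ⟨χ₀, hχ₀⟩)
  have hlin : ∀ (χ : IrrCharacter G), (χ : G → ℂ) 1 = 1 → ∀ c ∈ commutator G, (χ : G → ℂ) c = 1 := by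
    intro χ hχ c hc
    obtain ⟨l, hl⟩ := IsCharacter.exists_monoidHom (IsIrrCharacter.isCharacter χ.2) hχ
    rw [show (χ : G → ℂ) c = (l c : ℂ) by rw [hl], MonoidHom.mem_ker.1 (Abelianization.commutator_subset_ker l hc),
      Units.val_one]
  have hne : commutator G ≠ ⊥ := by
    intro hb
    obtain ⟨l, hl⟩ := IsCharacter.exists_monoidHom (IsIrrCharacter.isCharacter χ₀.2)
      (IsIrrCharacter.degree_one_of_comm χ₀.2 fun a b => commutatorElement_eq_one_iff_mul_comm.1 (by
        rw [← Subgroup.mem_bot, ← hb]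
        exact Subgroup.commutator_mem_commutator (Subgroup.mem_top a) (Subgroup.mem_top b)))
    exact hχ₀ (by rw [hl]; simp)
  obtain ⟨z, hzd, hzZ, hz⟩ : ∃ z, z ∈ commutator G ∧ z ∈ Subgroup.center G ∧ orderOf z = p := by
    haveI : Group.IsNilpotent G := hG.isNilpotent
    have hint : commutator G ⊓ Subgroup.center G ≠ ⊥ := fun hbot => hne (by
      by_contra hne'
      exact Cfsg.Agent.Solv.inf_center_ne_bot (commutator G) hne hbot)
    have hdvd : p ∣ Nat.card (commutator G ⊓ Subgroup.center G : Subgroup G) := by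
      obtain ⟨k, hk⟩ := IsPGroup.iff_card.1 (hG.to_subgroup (commutator G ⊓ Subgroup.center G))
      rw [hk]
      refine dvd_pow_self p fun h0 => hint ?_
      rw [← Subgroup.card_eq_one, hk, h0, pow_zero]
    obtain ⟨z, hz⟩ := exists_prime_orderOf_dvd_card' p hdvd
    exact ⟨z, (Subgroup.mem_inf.1 z.2).1, (Subgroup.mem_inf.1 z.2).2, by rwa [Subgroup.orderOf_coe]⟩
  have hz1 : z ≠ 1 := fun e => hp.ne_one (by rw [← hz, e, orderOf_one])
  have hNn : (Subgroup.zpowers z).Normal := ⟨fun x hx g => by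
    rw [Subgroup.mem_center_iff.1 (Subgroup.zpowers_le.2 hzZ hx) g, mul_inv_cancel_right]
    exact hx⟩
  haveI := hNn
  have hcomm : commutator G = Subgroup.zpowers z := by
    refine le_antisymm ?_ (Subgroup.zpowers_le.2 hzd)
    rw [commutator_def, Subgroup.commutator_le]
    intro a _ b _
    rw [← QuotientGroup.eq_one_iff]
    have hQ : ∀ ψ : IrrCharacter (G ⧸ Subgroup.zpowers z), (ψ : G ⧸ Subgroup.zpowers z → ℂ) 1 = 1 := by
      intro ψ
      by_contra hψ
      have hi := isIrrCharacter_comp_surjective (QuotientGroup.mk' (Subgroup.zpowers z))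
        (QuotientGroup.mk'_surjective _) ψ.2
      have e := huniq ⟨_, hi⟩ (by simpa using hψ)
      have hz0 : (χ₀ : G → ℂ) z = (χ₀ : G → ℂ) 1 := by
        rw [← e]
        show (ψ : G ⧸ Subgroup.zpowers z → ℂ) (QuotientGroup.mk' _ z) = (ψ : G ⧸ Subgroup.zpowers z → ℂ) (QuotientGroup.mk' _ 1)
        rw [show QuotientGroup.mk' (Subgroup.zpowers z) z = 1 from
          (QuotientGroup.eq_one_iff z).2 (Subgroup.mem_zpowers z), map_one]
      refine hz1 (isConj_one_left.1 ((isConj_iff_irr _ _).2 fun χ => ?_))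
      by_cases hχ : (χ : G → ℂ) 1 = 1
      · rw [hlin χ hχ z hzd, hχ]
      · rw [huniq χ hχ, hz0]
    simp only [commutatorElement_def, QuotientGroup.mk_mul, QuotientGroup.mk_inv]
    rw [comm_of_degree_one hQ (a : G ⧸ Subgroup.zpowers z) b]
    group
  have hcard : Nat.card (commutator G) = p := by rw [hcomm, Nat.card_zpowers, hz]
  -- vanishing of the nonlinear character outside the derived subgroup
  have hvan : ∀ x, x ∉ commutator G → (χ₀ : G → ℂ) x = 0 := by
    intro x hx
    obtain ⟨φ, hφ⟩ := CommGroup.exists_apply_ne_one_of_hasEnoughRootsOfUnity (Abelianization G) ℂ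
      (a := Abelianization.of x) (fun e => hx ((QuotientGroup.eq_one_iff x).1 e))
    let l₀ : G →* ℂˣ := φ.comp Abelianization.of
    have hz0 : ∑ χ ∈ Finset.univ.filter (fun χ : IrrCharacter G => (χ : G → ℂ) 1 = 1), (χ : G → ℂ) x = 0 := by
      set S := ∑ χ ∈ Finset.univ.filter (fun χ : IrrCharacter G => (χ : G → ℂ) 1 = 1), (χ : G → ℂ) x with hS
      have tw : ∀ (m : G →* ℂˣ) (χ : IrrCharacter G), (χ : G → ℂ) 1 = 1 →
          IsIrrCharacter G fun g => (m g : ℂ) * (χ : G → ℂ) g := fun m χ hχ => by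
        obtain ⟨l, hl⟩ := IsCharacter.exists_monoidHom (IsIrrCharacter.isCharacter χ.2) hχ
        rw [hl]
        exact isIrrCharacter_monoidHom (m * l)
      have : (l₀ x : ℂ) * S = S := by
        rw [hS, Finset.mul_sum]
        refine Finset.sum_bij' (fun χ hχ => ⟨_, tw l₀ χ (Finset.mem_filter.1 hχ).2⟩)
          (fun χ hχ => ⟨_, tw l₀⁻¹ χ (Finset.mem_filter.1 hχ).2⟩) ?_ ?_ ?_ ?_ ?_
        · intro χ hχ; simp [(Finset.mem_filter.1 hχ).2]
        · intro χ hχ; simp [(Finset.mem_filter.1 hχ).2]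
        · intro χ hχ; exact Subtype.ext (funext fun g => by simp [← mul_assoc])
        · intro χ hχ; exact Subtype.ext (funext fun g => by simp [← mul_assoc])
        · intro χ hχ; rfl
      exact (mul_left_eq_self₀.1 this).resolve_left fun e => hφ (Units.ext e)
    have hreg := regular_eq (G := G) x
    rw [if_neg (show x ≠ 1 from fun e => hx (by rw [e]; exact one_mem _)),
      ← Finset.sum_filter_add_sum_filter_not Finset.univ (fun χ : IrrCharacter G => (χ : G → ℂ) 1 = 1),
      Finset.sum_congr rfl (g := fun χ : IrrCharacter G => (χ : G → ℂ) x) fun χ hχ => by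
        rw [(Finset.mem_filter.1 hχ).2, one_mul],
      hz0, zero_add, show Finset.univ.filter (fun χ : IrrCharacter G => ¬(χ : G → ℂ) 1 = 1) = {χ₀} by
        ext χ
        simp only [Finset.mem_filter, Finset.mem_univ, true_and, Finset.mem_singleton]
        exact ⟨huniq χ, fun e => e ▸ hχ₀⟩, Finset.sum_singleton] at hreg
    exact (mul_eq_zero.1 hreg).resolve_left (IsIrrCharacter.apply_one_ne_zero χ₀.2)
  have hZc : commutator G = Subgroup.center G := by
    refine le_antisymm (hcomm ▸ Subgroup.zpowers_le.2 hzZ) fun x hx => ?_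
    by_contra hxd
    obtain ⟨ω, hω, hωx⟩ := IsIrrCharacter.central_apply χ₀.2 hx
    have h0 := hvan x hxd
    rw [← mul_one x, hωx, mul_eq_zero] at h0
    rcases h0 with h0 | h0
    · rw [h0, norm_zero] at hω; exact zero_ne_one hω
    · exact IsIrrCharacter.apply_one_ne_zero χ₀.2 h0
  have hZ : Nat.card (Subgroup.center G) = p := hZc ▸ hcard
  -- the prime is two
  have hsum := sum_sq_degree (G := G)
  rw [← Finset.sum_filter_add_sum_filter_not Finset.univ (fun χ : IrrCharacter G => (χ : G → ℂ) 1 = 1),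
    show Finset.univ.filter (fun χ : IrrCharacter G => ¬(χ : G → ℂ) 1 = 1) = {χ₀} by
      ext χ
      simp only [Finset.mem_filter, Finset.mem_univ, true_and, Finset.mem_singleton]
      exact ⟨huniq χ, fun e => e ▸ hχ₀⟩, Finset.sum_singleton,
    Finset.sum_congr rfl (g := fun _ => (1 : ℂ)) fun χ hχ => by rw [(Finset.mem_filter.1 hχ).2, one_pow],
    Finset.sum_const, nsmul_one,
    show (Finset.univ.filter fun χ : IrrCharacter G => (χ : G → ℂ) 1 = 1).card = (commutator G).index by
      rw [← card_linear, Nat.card_eq_fintype_card, Fintype.card_subtype]] at hsum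
  have hsq := sq_degree_of_prime_derived hp hZ hZc χ₀.2 hχ₀
  have hidx := Subgroup.index_mul_card (commutator G)
  rw [hcard] at hidx
  have hidx' : ((commutator G).index : ℂ) * p = (Nat.card G : ℂ) := by exact_mod_cast hidx
  have h2 : (p : ℂ) * (Nat.card G : ℂ) = 2 * (Nat.card G : ℂ) := by
    linear_combination -(p : ℂ) * hsum + hsq + hidx'
  have hp2 : p = 2 := by
    exact_mod_cast mul_right_cancel₀ (Nat.cast_ne_zero.2 (Nat.card_pos (α := G)).ne') h2
  subst hp2
  refine ⟨rfl, ⟨hG, le_antisymm ?_ ?_, hZc⟩, hZ⟩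
  · refine Cfsg.Agent.Struct.ClassTwo.frattini_le Nat.prime_two hZc.le fun x => Subgroup.mem_center_iff.2 fun y => ?_
    have hcm : x * y * x⁻¹ * y⁻¹ ∈ commutator G :=
      Subgroup.commutator_mem_commutator (Subgroup.mem_top x) (Subgroup.mem_top y)
    set c := x * y * x⁻¹ * y⁻¹ with hc
    have hc2 : c ^ 2 = 1 := by
      refine orderOf_dvd_iff_pow_eq_one.1 ?_
      rw [← hcard]
      exact Subgroup.orderOf_dvd_natCard _ hcm
    have hcZ : ∀ g, g * c = c * g := Subgroup.mem_center_iff.1 (hZc ▸ hcm)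
    calc y * x ^ 2 = c * c * (y * x ^ 2) := by rw [← pow_two, hc2, one_mul]
      _ = c * (x * y * x⁻¹ * y⁻¹) * y * (x * x) := by rw [pow_two x, hc]; group
      _ = c * (x * y) * x := by group
      _ = x * c * y * x := by rw [hcZ x]; group
      _ = x * (x * y * x⁻¹ * y⁻¹) * y * x := by rw [hc]
      _ = x ^ 2 * y := by rw [pow_two]; group
  · haveI : Group.IsNilpotent G := hG.isNilpotent
    exact hZc ▸ Cfsg.Agent.Solv.commutator_le_frattini

end Cfsg.Agent.Block
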