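import Cfsg.Agent.Lib.Block.StabPair
import Cfsg.Agent.Lib.Block.OrbitBlock
import Cfsg.Agent.Lib.Block.DefectCore

/-!
# A block over a normal `p`-subgroup as an orbit sum of blocks of the centraliser
-/

set_option autoImplicit false
set_option linter.style.haveILetI false

open Cfsg Cfsg.Agent.Char
open scoped ComplexConjugate

namespace Cfsg.Agent.Block

universe u

variable {G : Type u} [Group G] [Finite G] {M : Ideal AlgInt} [hMp : M.IsPrime] {p : ℕ}

/-- Conjugation does not move the local character at a central element. -/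
theorem lam_conjIrr {L : Subgroup G} {x : G} (hx : x ∈ Subgroup.normalizer (L : Set G))
    (ξ : IrrCharacter L) {z : MonoidAlgebra ℂ G} (hz : IsCentralElt z) :
    lam M L (conjIrr hx ξ) z = lam M L ξ z := by
  haveI := Fintype.ofFinite L
  rw [lam, lam, ro, ro]
  congr 1
  rw [omega_eq_sum, omega_eq_sum, conjIrr_apply, map_one]
  congr 1
  refine Fintype.sum_equiv (normConj hx).toEquiv _ _ fun k => ?_
  show _ = (resH L z).coeff (normConj hx k) * _
  rw [conjIrr_apply, coeff_resH, coeff_resH, coe_normConj]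
  have h := hz (k : G) x⁻¹
  rw [inv_inv] at h
  exact congrArg (· * _) h.symm

private theorem lam_zero' {L : Subgroup G} (ξ : IrrCharacter L) : lam M L ξ (0 : MonoidAlgebra ℂ G) = 0 := by
  rw [lam, show resH L (0 : MonoidAlgebra ℂ G) = 0 from MonoidAlgebra.ext (Finsupp.ext fun h => by simp [coeff_resH]), ro_zero]

variable [Fact p.Prime]

/-- The idempotent of a block over a normal `p`-subgroup. -/
theorem blockIdem_eq_orbitSum (hM : IsPModular p M) (P : Subgroup G) [P.Normal]
    {B : Set (IrrCharacter G)} {e : Set (IrrCharacter (Subgroup.centralizer (P : Set G)))}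
    (hBe : IsBrauerPairOf p M B P e)
    (hN : (⊤ : Subgroup G) ≤ Subgroup.normalizer ((Subgroup.centralizer (P : Set G) : Subgroup G) : Set G)) :
    blockIdem B = orbitSum M (⊤ : Subgroup G) hN e := by
  classical
  obtain ⟨⟨hP, he⟩, hB, -⟩ := id hBe
  obtain ⟨ξ, hξ⟩ := isPBlock_nonempty he
  set a := orbitSum M (⊤ : Subgroup G) hN e with ha
  have haps : PS M (⊤ : Subgroup G) a := ps_orbitSum hN e
  have hac : CL M a := ⟨fun x h => haps.2 h (Subgroup.mem_top h) x, haps.1⟩
  set O := orbitBlocks M (⊤ : Subgroup G) hN e with hO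
  set r : MonoidAlgebra ℂ (Subgroup.centralizer (P : Set G)) := ∑ d ∈ O, blockIdem d with hr
  have hsum : ∀ g, a.coeff g = ∑ d ∈ O, (embH (Subgroup.centralizer (P : Set G)) (blockIdem d)).coeff g := fun g => by
    simp [ha, orbitSum, hO, Finsupp.finsetSum_apply]
  have hra : resH (Subgroup.centralizer (P : Set G)) a = r := MonoidAlgebra.ext (Finsupp.ext fun h => by
    rw [coeff_resH, hsum, hr, MonoidAlgebra.coeff_sum, Finsupp.finsetSum_apply]
    exact Finset.sum_congr rfl fun d _ => coeff_embH _ _ _)
  have hea : embH (Subgroup.centralizer (P : Set G)) r = a := by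
    rw [← hra]
    exact embH_resH_of_support fun g hg => by
      rw [hsum]; exact Finset.sum_eq_zero fun d _ => coeff_embH_of_notMem _ _ hg
  have hrc : CL M r := CL.sum _ _ fun d hd => CL.blockIdem (mem_orbitBlocks.1 hd).1
  have hrr : r * r = r := by
    refine eq_of_omega_eq (hrc.1.mul hrc.1) hrc.1 fun θ => ?_
    rw [omega_mul θ hrc.1 hrc.1]
    have h01 : omega (θ : (Subgroup.centralizer (P : Set G)) → ℂ) r = 0 ∨ omega (θ : (Subgroup.centralizer (P : Set G)) → ℂ) r = 1 := by
      rw [hr, omega_sum]
      by_cases hm : blockOf M (θ : (Subgroup.centralizer (P : Set G)) → ℂ) ∈ O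
      · right
        rw [Finset.sum_eq_single (blockOf M (θ : (Subgroup.centralizer (P : Set G)) → ℂ)), omega_blockIdem, if_pos (self_mem_blockOf θ)]
        · intro b hb hne
          rw [omega_blockIdem, if_neg fun h => hne (isPBlock_eq_blockOf (mem_orbitBlocks.1 hb).1 h)]
        · exact fun h => absurd hm h
      · left
        refine Finset.sum_eq_zero fun b hb => ?_
        rw [omega_blockIdem, if_neg fun h => hm ?_]
        rw [← isPBlock_eq_blockOf (mem_orbitBlocks.1 hb).1 h]
        exact hb
    rcases h01 with h | h <;> simp [h]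
  have haa : a * a = a := by rw [← hea, ← embH_mul, hrr]
  have hmul : ∀ (θ : IrrCharacter (Subgroup.centralizer (P : Set G))) {y : MonoidAlgebra ℂ G}, CL M y →
      lam M (Subgroup.centralizer (P : Set G)) θ (a * y) = lam M (Subgroup.centralizer (P : Set G)) θ a * lam M (Subgroup.centralizer (P : Set G)) θ y := fun θ y hy =>
    lam_mul hM hP le_rfl (Or.inr le_rfl) (Factors.of_le_centralizer (M := M) le_rfl θ)
      (haps.mono le_top) (haps.mono le_top) (hy.ps _) (hy.ps _)
  have hBcl : CL M (blockIdem B) := CL.blockIdem hB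
  have hlB : lam M (Subgroup.centralizer (P : Set G)) ξ (blockIdem B) = 1 := ((isBrauerPairOf_iff hξ).1 hBe).2.2
  have hla : lam M (Subgroup.centralizer (P : Set G)) ξ a = 1 := lam_orbitSum_self hN he hξ
  have h01 : ∀ χ : IrrCharacter G, omega (χ : G → ℂ) a = 0 ∨ omega (χ : G → ℂ) a = 1 := fun χ => by
    have := omega_mul χ hac.1 hac.1
    rw [haa] at this
    exact mul_right_eq_self₀.1 this.symm |>.symm
  refine eq_of_omega_eq (isCentralElt_blockIdem B) hac.1 fun χ => ?_
  rw [omega_blockIdem]
  split
  next hχ =>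
    rcases h01 χ with h | h
    · exfalso
      have h0 : a * blockIdem B = 0 := by
        refine eq_of_omega_eq (hac.1.mul (isCentralElt_blockIdem B)) (fun _ _ => by simp) fun ψ => ?_
        rw [omega_mul ψ hac.1 (isCentralElt_blockIdem B), omega_blockIdem, omega_zero]
        split
        next hψ =>
          rcases h01 ψ with h' | h'
          · rw [h', zero_mul]
          · have := ro_congr hB hψ hχ hac
            rw [ro, ro, h', h, resC_zero, resC_one] at this
            exact absurd this one_ne_zero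
        · rw [mul_zero]
      have h1 := hmul ξ hBcl
      rw [h0, hla, hlB, mul_one] at h1
      rw [lam_zero'] at h1
      exact zero_ne_one h1
    · exact h.symm
  next hχ =>
    rcases h01 χ with h | h
    · exact h.symm
    exfalso
    have hF := isPBlock_blockOf (M := M) χ
    set b := blockIdem (blockOf M (χ : G → ℂ)) with hb
    have hbcl : CL M b := CL.blockIdem hF
    have hab : a * b = b := by
      refine eq_of_omega_eq (hac.1.mul hbcl.1) hbcl.1 fun ψ => ?_
      rw [omega_mul ψ hac.1 hbcl.1, hb, omega_blockIdem]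
      split
      next hψ =>
        rcases h01 ψ with h' | h'
        · have := ro_congr hF hψ (self_mem_blockOf χ) hac
          rw [ro, ro, h', h, resC_zero, resC_one] at this
          exact absurd this zero_ne_one
        · rw [h', mul_one]
      · rw [mul_zero]
    obtain ⟨y, hy, hyu⟩ := exists_coeff_unit_centralizer hM hF P hP
    obtain ⟨ξ', hξ'⟩ := exists_ro_ne_zero hM hP (cl_resH (hbcl.ps (Subgroup.centralizer (P : Set G))))
      (ps_embH_centralizer (cl_resH (hbcl.ps (Subgroup.centralizer (P : Set G)))).2 le_rfl) (by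
        rw [brFun_embH_resH le_rfl]
        show _ * _ = _
        rw [← brFun_mul hM hP (hbcl.ps P) (hbcl.ps P), hb, blockIdem_mul_self])
      (by
        rw [brFun_embH_resH le_rfl]
        intro h0
        refine hyu ?_
        have := (brFun_eq_zero_iff hbcl.2).1 h0 _ hy
        rwa [hb, ← coeff_blockIdem] at this)
    change lam M (Subgroup.centralizer (P : Set G)) ξ' b ≠ 0 at hξ'
    have h2 := hmul ξ' hbcl
    rw [hab] at h2
    have hmem : blockOf M (ξ' : (Subgroup.centralizer (P : Set G)) → ℂ) ∈ O := by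
      by_contra hn
      rw [(lam_orbitSum hN e (isPBlock_blockOf ξ') (self_mem_blockOf ξ')).2 hn, zero_mul] at h2
      exact hξ' h2
    obtain ⟨-, n, hn⟩ := mem_orbitBlocks.1 hmem
    have hm2 : conjIrr (hN n.2) ξ ∈ blockOf M (ξ' : (Subgroup.centralizer (P : Set G)) → ℂ) := by
      rw [hn]; exact (mem_conjBlk_iff _ _ _).2 hξ
    have h3 : lam M (Subgroup.centralizer (P : Set G)) ξ' b = lam M (Subgroup.centralizer (P : Set G)) ξ b := by
      rw [← lam_conjIrr (hN n.2) ξ hbcl.1]
      exact ro_congr (isPBlock_blockOf ξ') (self_mem_blockOf ξ') hm2 (cl_resH (hbcl.ps (Subgroup.centralizer (P : Set G))))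
    have hne : blockIdem B * b = 0 := by
      refine eq_of_omega_eq ((isCentralElt_blockIdem B).mul hbcl.1) (fun _ _ => by simp) fun ψ => ?_
      rw [omega_mul ψ (isCentralElt_blockIdem B) hbcl.1, hb, omega_blockIdem, omega_blockIdem, omega_zero]
      by_cases hψ : ψ ∈ B
      · rw [if_neg (fun h' => hχ ((isPBlock_eq_of_mem hF hB h' hψ) ▸ self_mem_blockOf χ)), mul_zero]
      · rw [if_neg hψ, zero_mul]
    have h4 := lam_mul hM hP (le_refl (Subgroup.centralizer (P : Set G))) (Or.inr le_rfl) (Factors.of_le_centralizer (M := M) le_rfl ξ)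
      (hBcl.ps P) (hBcl.ps (Subgroup.centralizer (P : Set G))) (hbcl.ps P) (hbcl.ps (Subgroup.centralizer (P : Set G)))
    rw [hne, hlB, one_mul] at h4
    refine hξ' ?_
    rw [h3, ← h4, lam_zero']

/-- The coefficients as an average over conjugates. -/
theorem coeff_orbitSum_eq_average [Fintype G] {L : Subgroup G} (hN : (⊤ : Subgroup G) ≤
      Subgroup.normalizer ((L : Subgroup G) : Set G)) {e : Set (IrrCharacter L)} (he : IsPBlock M e)
    {T : Subgroup G} (hT : ∀ x, x ∈ T ↔ conjBlk (hN (Subgroup.mem_top x)) e = e) (g : G) :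
    (orbitSum M (⊤ : Subgroup G) hN e).coeff g =
      (Nat.card T : ℂ)⁻¹ * ∑ x : G, (embH L (blockIdem e)).coeff (x⁻¹ * g * x) := by
  classical
  set f : G → Set (IrrCharacter L) := fun x => conjBlk (hN (Subgroup.mem_top x)) e with hf
  have hmap : ∀ x ∈ (Finset.univ : Finset G), f x ∈ orbitBlocks M (⊤ : Subgroup G) hN e := fun x _ =>
    mem_orbitBlocks.2 ⟨isPBlock_conjBlk _ he, ⟨x, Subgroup.mem_top x⟩, rfl⟩
  have hx : ∀ x : G, (embH L (blockIdem e)).coeff (x⁻¹ * g * x) = (embH L (blockIdem (f x))).coeff g :=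
    fun x => (coeff_embH_blockIdem_conj _ e g).symm
  simp only [hx]
  rw [← Finset.sum_fiberwise_of_maps_to hmap, Finset.mul_sum, orbitSum, MonoidAlgebra.coeff_sum,
    Finsupp.finsetSum_apply]
  refine Finset.sum_congr rfl fun d hd => ?_
  obtain ⟨-, n, rfl⟩ := mem_orbitBlocks.1 hd
  rw [Finset.sum_congr rfl fun x hx => by rw [(Finset.mem_filter.1 hx).2], Finset.sum_const, nsmul_eq_mul,
    ← mul_assoc]
  have hcard : (Finset.univ.filter fun x : G => f x = conjBlk (hN n.2) e).card = Nat.card T := by
    rw [← Nat.card_eq_finsetCard]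
    refine (Nat.card_congr (Equiv.subtypeEquiv (Equiv.mulLeft (n : G)) fun t => ?_)).symm
    rw [Finset.mem_filter, hT]
    simp only [Finset.mem_univ, true_and, Equiv.coe_mulLeft, hf]
    rw [conjBlk_mul (hN n.2) (hN (Subgroup.mem_top t))]
    exact ⟨fun h => by rw [h], fun h => by
      have h2 := congrArg (conjBlk (inv_mem (hN n.2))) h
      simp only [← conjBlk_mul] at h2
      have e1 : ∀ {y z : G} (hy : y ∈ Subgroup.normalizer (L : Set G)) (hz : z ∈ Subgroup.normalizer (L : Set G)),
          y = z → conjBlk hy e = conjBlk hz e := fun hy hz hyz => by subst hyz; rfl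
      rw [e1 _ (hN (Subgroup.mem_top t)) (inv_mul_cancel_left (n : G) t), e1 _ (one_mem _) (inv_mul_cancel (n : G)),
        conjBlk_one] at h2
      exact h2⟩
  rw [hcard, inv_mul_cancel₀ (Nat.cast_ne_zero.2 Nat.card_pos.ne'), one_mul]

end Cfsg.Agent.Block
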