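import Cfsg.Agent.Lib.Block.CoverPPower
import Cfsg.Agent.Lib.Block.BlockSaturation

/-!
# Brauer pairs and nilpotency under extensions of p-power index
-/

set_option autoImplicit false
set_option linter.style.haveILetI false
set_option linter.unusedSectionVars false

open Cfsg.Agent.Char
open scoped ComplexConjugate Pointwise

namespace Cfsg.Agent.Block

universe u

variable {G : Type u} [Group G] [Fintype G] {M : Ideal AlgInt} [hMp : M.IsPrime] {p : ℕ}
  [Fact p.Prime] {N : Subgroup G} [hNn : N.Normal]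

/-- A stabilised pair is fixed under conjugation. -/
theorem conjBlock_idx_eq {Q : Subgroup G} {f : Set (IrrCharacter (Subgroup.centralizer (Q : Set G)))} {g : G}
    (hg : g ∈ Subgroup.normalizer (Q : Set G)) (hf : IsPBlock M f)
    (hst : StabilizesBlock (Subgroup.centralizer (Q : Set G)) f g) :
    (⟨Q.map (MulAut.conj g).toMonoidHom, conjBlock Q g f⟩ : BrauerPairIdx G) = ⟨Q, f⟩ := by
  obtain ⟨hn, hfix⟩ := (stabilizesBlock_iff hf).1 hst
  have hQ : Q.map (MulAut.conj g).toMonoidHom = Q := by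
    refine Subgroup.eq_of_le_of_card_ge ?_ (card_map_conj Q g).ge
    rintro _ ⟨q, hq, rfl⟩
    exact (Subgroup.mem_normalizer_iff.1 hg q).1 hq
  conv_rhs => rw [← hfix]
  refine pairIdx_ext hQ fun ξ ξ' hξ => ?_
  rw [mem_conjBlock_iff]
  have : ξ' = conjIrr hn (compIrr (centConj Q g).symm ξ) := Subtype.ext (funext fun c => by
    rw [conjIrr_apply, compIrr_apply]
    exact ((irr_congr ξ (show g * (g⁻¹ * (c : G) * g) * g⁻¹ = (c : G) by group)).trans
      (hξ (c : G) (by rw [hQ]; exact c.2) c.2)).symm)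
  rw [this, mem_conjBlk_iff]

/-- Commuting data for `Q' ≤ N`. -/
local notation "Q₀(" Q' ")" => Subgroup.map N.subtype Q'

variable (Q' : Subgroup N)

/-- The normal subgroup `C_N(Q')` of `C_G(Q')`. -/
abbrev centN : Subgroup (Subgroup.centralizer (SetLike.coe (Q'.map N.subtype))) :=
  N.subgroupOf (Subgroup.centralizer (SetLike.coe (Q'.map N.subtype)))

/-- The identification with the centraliser inside `N`. -/
noncomputable def centNIso : centN Q' ≃* Subgroup.centralizer (Q' : Set N) where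
  toFun x := ⟨⟨((x : Subgroup.centralizer (SetLike.coe (Q'.map N.subtype))) : G), x.2⟩, by
    rw [Subgroup.mem_centralizer_iff]
    intro q hq
    exact Subtype.ext (Subgroup.mem_centralizer_iff.1
      (x : Subgroup.centralizer (SetLike.coe (Q'.map N.subtype))).2 _ ⟨q, hq, rfl⟩)⟩
  invFun y := ⟨⟨((y : N) : G), by
    rw [Subgroup.mem_centralizer_iff]
    rintro _ ⟨q, hq, rfl⟩
    exact congrArg (fun z : N => (z : G)) (Subgroup.mem_centralizer_iff.1 y.2 q hq)⟩, (y : N).2⟩
  left_inv _ := rfl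
  right_inv _ := rfl
  map_mul' _ _ := rfl

@[simp] theorem coe_centNIso_symm (y : Subgroup.centralizer (Q' : Set N)) :
    (((centNIso Q').symm y : Subgroup.centralizer (SetLike.coe (Q'.map N.subtype))) : G) = ((y : N) : G) := rfl

/-- Conjugation on `C_N(Q')` by a normalising element of `G`. -/
noncomputable def nconj {g : G} (hg : g ∈ Subgroup.normalizer (SetLike.coe (Q'.map N.subtype))) :
    centN Q' ≃* centN Q' where
  toFun x := ⟨normConj (le_normalizer_centralizer le_rfl hg) x, by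
    have h := hNn.conj_mem _ x.2 g⁻¹
    rw [inv_inv] at h
    exact h⟩
  invFun x := ⟨(normConj (le_normalizer_centralizer le_rfl hg)).symm x, hNn.conj_mem _ x.2 g⟩
  left_inv x := Subtype.ext (MulEquiv.symm_apply_apply _ _)
  right_inv x := Subtype.ext (MulEquiv.apply_symm_apply _ _)
  map_mul' x y := Subtype.ext (map_mul _ _ _)

theorem coe_nconj {g : G} (hg : g ∈ Subgroup.normalizer (SetLike.coe (Q'.map N.subtype))) (x : centN Q') :
    (((nconj Q' hg x : centN Q') : Subgroup.centralizer (SetLike.coe (Q'.map N.subtype))) : G) =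
      g⁻¹ * ((x : Subgroup.centralizer (SetLike.coe (Q'.map N.subtype))) : G) * g := rfl

/-- The action on sets of characters. -/
noncomputable def nact {g : G} (hg : g ∈ Subgroup.normalizer (SetLike.coe (Q'.map N.subtype)))
    (d : Set (IrrCharacter (centN Q'))) : Set (IrrCharacter (centN Q')) := compIrr (nconj Q' hg) '' d

theorem nact_mul {g h : G} (hg : g ∈ Subgroup.normalizer (SetLike.coe (Q'.map N.subtype)))
    (hh : h ∈ Subgroup.normalizer (SetLike.coe (Q'.map N.subtype))) (d : Set (IrrCharacter (centN Q'))) :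
    nact Q' (mul_mem hg hh) d = nact Q' hg (nact Q' hh d) := by
  rw [nact, nact, nact, Set.image_image]
  refine Set.image_congr fun θ _ => Subtype.ext (funext fun x => ?_)
  simp only [compIrr_apply]
  refine congrArg (θ : centN Q' → ℂ) (Subtype.ext (Subtype.ext ?_))
  show (g * h)⁻¹ * ((x : Subgroup.centralizer (SetLike.coe (Q'.map N.subtype))) : G) * (g * h) =
    h⁻¹ * (g⁻¹ * ((x : Subgroup.centralizer (SetLike.coe (Q'.map N.subtype))) : G) * g) * h
  group

theorem nact_ext {g h : G} {hg : g ∈ Subgroup.normalizer (SetLike.coe (Q'.map N.subtype))}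
    {hh : h ∈ Subgroup.normalizer (SetLike.coe (Q'.map N.subtype))} (e : g = h)
    (d : Set (IrrCharacter (centN Q'))) : nact Q' hg d = nact Q' hh d := by subst e; rfl

theorem nact_of_mem {g : G} (hgC : g ∈ Subgroup.centralizer (SetLike.coe (Q'.map N.subtype))) (hgN : g ∈ N)
    (hg : g ∈ Subgroup.normalizer (SetLike.coe (Q'.map N.subtype))) (d : Set (IrrCharacter (centN Q'))) :
    nact Q' hg d = d := by
  conv_rhs => rw [← Set.image_id d]
  refine Set.image_congr fun θ _ => Subtype.ext (funext fun x => ?_)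
  rw [compIrr_apply, id]
  let n : centN Q' := ⟨⟨g, hgC⟩, hgN⟩
  have h := IsCharacter.isClassFunction (IsIrrCharacter.isCharacter θ.2) x n⁻¹
  rw [inv_inv] at h
  refine Eq.trans (congrArg (θ : centN Q' → ℂ) ?_) h
  refine Subtype.ext (Subtype.ext ?_)
  rfl

theorem index_centN (hidx : ∃ k : ℕ, N.index = p ^ k) : ∃ k : ℕ, (centN Q').index = p ^ k := by
  obtain ⟨k, hk⟩ := hidx
  have hd : (centN Q').index ∣ p ^ k := by
    rw [← hk, centN, Subgroup.subgroupOf, Subgroup.index_comap, Subgroup.range_subtype]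
    exact N.relIndex_dvd_index_of_normal _
  obtain ⟨j, -, hj⟩ := (Nat.dvd_prime_pow (Fact.out : p.Prime)).1 hd
  exact ⟨j, hj⟩

variable [Fintype N] {c : Set (IrrCharacter N)} {B : Set (IrrCharacter G)}

/-- Pairs of `B` over pairs of `c`. -/
theorem lam_eq_of_constituent (hc : IsPBlock M c) (hB : IsPBlock M B)
    (hBc : blockIdem B = embH N (blockIdem c))
    [Fintype (Subgroup.centralizer (SetLike.coe (Q'.map N.subtype)))] [Fintype (centN Q')]
    {ξ : IrrCharacter (Subgroup.centralizer (SetLike.coe (Q'.map N.subtype)))} {φ : IrrCharacter (centN Q')}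
    (h : classInner (fun k : centN Q' =>
      (ξ : Subgroup.centralizer (SetLike.coe (Q'.map N.subtype)) → ℂ) k) (φ : centN Q' → ℂ) ≠ 0) :
    lam M (Subgroup.centralizer (SetLike.coe (Q'.map N.subtype))) ξ (blockIdem B) =
      lam M (Subgroup.centralizer (Q' : Set N)) (compIrr (centNIso Q').symm φ) (blockIdem c) := by
  classical
  haveI := Fintype.ofFinite (Subgroup.centralizer (Q' : Set N))
  have hs : InCoset (centN Q') 1 (resH (Subgroup.centralizer (SetLike.coe (Q'.map N.subtype))) (blockIdem B)) :=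
    fun g hg => by
      rw [coeff_resH, hBc]
      exact coeff_embH_of_notMem _ _ fun h => hg ((QuotientGroup.eq_one_iff g).2 h)
  rw [lam, lam, ro, ro, omega_eq_of_constituent ξ φ h (isCentralElt_resH _ (isCentralElt_blockIdem B)) hs,
    omega_eq_sum, omega_eq_sum, compIrr_apply, map_one]
  congr 2
  refine Fintype.sum_equiv (centNIso Q').toEquiv _ _ fun k => ?_
  rw [compIrr_apply, show (centNIso Q').symm ((centNIso Q').toEquiv k) = k from (centNIso Q').symm_apply_apply k,
    coeff_resH, coeff_resH, coeff_resH, hBc]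
  congr 1
  exact coeff_embH N _ ((centNIso Q' k : Subgroup.centralizer (Q' : Set N)) : N)

/-- Blocks covered by one block are conjugate. -/
theorem exists_nact_eq [Fintype (Subgroup.centralizer (SetLike.coe (Q'.map N.subtype)))] [Fintype (centN Q')]
    {f : Set (IrrCharacter (Subgroup.centralizer (SetLike.coe (Q'.map N.subtype))))} (hf : IsPBlock M f)
    {ξ ξ' : IrrCharacter (Subgroup.centralizer (SetLike.coe (Q'.map N.subtype)))} (hξ : ξ ∈ f) (hξ' : ξ' ∈ f)
    {φ φ' : IrrCharacter (centN Q')}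
    (h : classInner (fun k : centN Q' =>
      (ξ : Subgroup.centralizer (SetLike.coe (Q'.map N.subtype)) → ℂ) k) (φ : centN Q' → ℂ) ≠ 0)
    (h' : classInner (fun k : centN Q' =>
      (ξ' : Subgroup.centralizer (SetLike.coe (Q'.map N.subtype)) → ℂ) k) (φ' : centN Q' → ℂ) ≠ 0) :
    ∃ g : Subgroup.centralizer (SetLike.coe (Q'.map N.subtype)),
      blockOf M (φ' : centN Q' → ℂ) =
        nact Q' (centralizer_le_normalizer' _ g.2) (blockOf M (φ : centN Q' → ℂ)) := by
  classical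
  set d := blockOf M (φ : centN Q' → ℂ) with hd
  have hd0 : IsPBlock M d := isPBlock_blockOf φ
  have h0 := (exists_constituent_iff (M := M) hd0 ξ).1 ⟨φ, self_mem_blockOf φ, h⟩
  rw [ro_congr hf hξ hξ' (cl_blockOrbit d), ro, omega_eq_of_constituent ξ' φ' h' (cl_blockOrbit (M := M) d).1
    (inCoset_blockOrbit d)] at h0
  have horb : blockOf M (φ' : centN Q' → ℂ) ∈ orbitBlocks M ⊤
      (fun y _ => mem_normalizer_of_normal (N := centN Q') y) d := by
    by_contra hn
    exact one_ne_zero (h0.symm.trans ((lam_orbitSum (M := M)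
      (fun y (_ : y ∈ (⊤ : Subgroup _)) => mem_normalizer_of_normal (N := centN Q') y) d (isPBlock_blockOf φ')
      (self_mem_blockOf φ')).2 hn))
  obtain ⟨-, ⟨g, hgT⟩, hg⟩ := mem_orbitBlocks.1 horb
  refine ⟨g, hg.trans ?_⟩
  rw [nact, conjBlk]
  refine Set.image_congr fun θ _ => Subtype.ext (funext fun x => ?_)
  rw [conjIrr_apply, compIrr_apply]
  exact congrArg (θ : centN Q' → ℂ) (Subtype.ext (Subtype.ext rfl))

/-- Conjugating constituents. -/
theorem constituent_conj [Fintype (Subgroup.centralizer (SetLike.coe (Q'.map N.subtype)))] [Fintype (centN Q')]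
    {g : G} (hg : g ∈ Subgroup.normalizer (SetLike.coe (Q'.map N.subtype)))
    {ξ : IrrCharacter (Subgroup.centralizer (SetLike.coe (Q'.map N.subtype)))} {φ : IrrCharacter (centN Q')}
    (h : classInner (fun k : centN Q' =>
      (ξ : Subgroup.centralizer (SetLike.coe (Q'.map N.subtype)) → ℂ) k) (φ : centN Q' → ℂ) ≠ 0) :
    classInner (fun k : centN Q' =>
      (conjIrr (le_normalizer_centralizer le_rfl hg) ξ : Subgroup.centralizer (SetLike.coe (Q'.map N.subtype)) → ℂ) k)
      (compIrr (nconj Q' hg) φ : centN Q' → ℂ) ≠ 0 := by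
  intro h0
  refine h ?_
  rw [← h0, classInner, classInner]
  congr 1
  refine (Fintype.sum_equiv (nconj Q' hg).toEquiv _ _ fun k => ?_).symm
  rw [conjIrr_apply, compIrr_apply]
  rfl

theorem mem_of_regular (hidx : ∃ k : ℕ, N.index = p ^ k) {x : G} (hreg : ¬ p ∣ orderOf x) : x ∈ N := by
  obtain ⟨k, hk⟩ := hidx
  have h1 : orderOf (x : G ⧸ N) ∣ p ^ k := by rw [← hk, Subgroup.index_eq_card]; exact orderOf_dvd_natCard _
  have h2 : orderOf (x : G ⧸ N) ∣ orderOf x := orderOf_map_dvd (QuotientGroup.mk' N) x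
  exact (QuotientGroup.eq_one_iff x).1 (orderOf_eq_one_iff.1
    (Nat.eq_one_of_dvd_coprimes (((Nat.Prime.coprime_iff_not_dvd Fact.out).2 hreg).pow_left k) h1 h2))

theorem nilpotent_of_pExt (hM : IsPModular p M) (hidx : ∃ k : ℕ, N.index = p ^ k) (hc : IsPBlock M c)
    (hB : IsPBlock M B) (hBc : blockIdem B = embH N (blockIdem c)) (hnil : IsNilpotentBlock p M B) :
    IsNilpotentBlock p M c := by
  classical
  refine ⟨hc, fun Q' f' hf' x hxN hxst hreg => ?_⟩
  haveI := Fintype.ofFinite (Subgroup.centralizer (SetLike.coe (Q'.map N.subtype)))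
  haveI := Fintype.ofFinite (centN Q')
  haveI := Fintype.ofFinite (Subgroup.centralizer (Q' : Set N))
  obtain ⟨ψ, hψ⟩ := isPBlock_nonempty hf'.1.2
  set φ := compIrr (centNIso Q') ψ with hφ
  obtain ⟨ξ, hξ⟩ := exists_above_char (G := Subgroup.centralizer (SetLike.coe (Q'.map N.subtype))) φ
  have hback : compIrr (centNIso Q').symm φ = ψ := Subtype.ext (funext fun k => by
    rw [hφ, compIrr_apply, compIrr_apply, MulEquiv.apply_symm_apply])
  have hlam : lam M (Subgroup.centralizer (SetLike.coe (Q'.map N.subtype))) ξ (blockIdem B) = 1 := by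
    rw [lam_eq_of_constituent Q' hc hB hBc hξ, hback]
    exact ((isBrauerPairOf_iff hψ).1 hf').2.2
  have hQp : IsPGroup p (Q'.map N.subtype) := hf'.1.1.map _
  have hpair : IsBrauerPairOf p M B (Q'.map N.subtype) (blockOf M (ξ : _ → ℂ)) :=
    (isBrauerPairOf_iff (self_mem_blockOf ξ)).2 ⟨⟨hQp, isPBlock_blockOf ξ⟩, hB, hlam⟩
  have hxQ : (x : G) ∈ Subgroup.normalizer (SetLike.coe (Q'.map N.subtype)) := by
    rw [Subgroup.mem_normalizer_iff] at hxN ⊢
    intro y
    constructor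
    · rintro ⟨q, hq, rfl⟩
      exact ⟨x * q * x⁻¹, (hxN q).1 hq, rfl⟩
    · rintro ⟨q, hq, hq'⟩
      have e : y = (x : G)⁻¹ * ((q : N) : G) * (x : G) := by
        rw [show ((q : N) : G) = N.subtype q from rfl, hq']; group
      exact ⟨x⁻¹ * q * x, (hxN _).2 (by simpa [mul_assoc] using hq), by rw [e]; rfl⟩
  have hxreg : ¬ p ∣ orderOf (x : G) := by rw [Subgroup.orderOf_coe]; exact hreg
  obtain ⟨hn, hfix⟩ := (stabilizesBlock_iff hf'.1.2).1 hxst
  have hd : compIrr (nconj Q' hxQ) φ ∈ compIrr (centNIso Q') '' f' := by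
    refine ⟨conjIrr hn ψ, ?_, Subtype.ext (funext fun k => ?_)⟩
    · rw [← hfix]; exact (mem_conjBlk_iff hn f' ψ).2 hψ
    · rw [compIrr_apply, conjIrr_apply, compIrr_apply, hφ, compIrr_apply]
      rfl
  have hblk : IsPBlock M (compIrr (centNIso Q') '' f') := isPBlock_comp _ hf'.1.2
  have hst : StabilizesBlock (Subgroup.centralizer (SetLike.coe (Q'.map N.subtype))) (blockOf M (ξ : _ → ℂ)) (x : G) := by
    refine (stabilizesBlock_iff (isPBlock_blockOf ξ)).2 ⟨le_normalizer_centralizer le_rfl hxQ, ?_⟩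
    refine covers_unique hM (index_centN Q' hidx) (isPBlock_conjBlk _ (isPBlock_blockOf ξ)) (isPBlock_blockOf ξ)
      hblk ⟨_, (mem_conjBlk_iff _ _ ξ).2 (self_mem_blockOf ξ), _, hd, constituent_conj Q' hxQ hξ⟩
      ⟨ξ, self_mem_blockOf ξ, φ, ⟨ψ, hψ, rfl⟩, hξ⟩
  have := hnil.2 _ _ hpair (x : G) hxQ hst hxreg
  rw [Subgroup.mem_centralizer_iff] at this ⊢
  exact fun q hq => Subtype.ext (this _ ⟨q, hq, rfl⟩)

theorem nilpotent_pExt (hM : IsPModular p M) (hidx : ∃ k : ℕ, N.index = p ^ k) (hc : IsPBlock M c)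
    (hB : IsPBlock M B) (hBc : blockIdem B = embH N (blockIdem c)) (hnil : IsNilpotentBlock p M c) :
    IsNilpotentBlock p M B := by
  classical
  refine ⟨hB, fun Q e he x hxQ hxst hreg => ?_⟩
  have hxN : x ∈ N := mem_of_regular hidx hreg
  have hQ0 : (Q.subgroupOf N).map N.subtype = Q ⊓ N := Subgroup.subgroupOf_map_subtype Q N
  let Q' : Subgroup N := Q.subgroupOf N
  haveI := Fintype.ofFinite (Subgroup.centralizer (SetLike.coe (Q'.map N.subtype)))
  haveI := Fintype.ofFinite (centN Q')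
  haveI := Fintype.ofFinite (Subgroup.centralizer (Q' : Set N))
  have hle0 : Q'.map N.subtype ≤ Q := hQ0.le.trans inf_le_left
  obtain ⟨f, hle, hfu⟩ := existsUnique_subpair hM Q e he.1 _ hle0
  have hf : IsBrauerPairOf p M B (Q'.map N.subtype) f := (SubpairLE.pairOf_iff hM hle B).1 he
  have hxQ0 : x ∈ Subgroup.normalizer (SetLike.coe (Q'.map N.subtype)) := by
    rw [Subgroup.mem_normalizer_iff] at hxQ ⊢
    intro y
    rw [hQ0, Subgroup.mem_inf, Subgroup.mem_inf, hxQ y,
      (Subgroup.mem_normalizer_iff.1 (mem_normalizer_of_normal (N := N) x) y)]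
  -- `x` fixes `f`
  have hmap : (Q'.map N.subtype).map (MulAut.conj x).toMonoidHom = Q'.map N.subtype := by
    refine Subgroup.eq_of_le_of_card_ge ?_ (card_map_conj _ x).ge
    rintro _ ⟨q, hq, rfl⟩
    exact (Subgroup.mem_normalizer_iff.1 hxQ0 q).1 hq
  have hidxeq : (⟨(Q'.map N.subtype).map (MulAut.conj x).toMonoidHom, conjBlock _ x f⟩ : BrauerPairIdx G) =
      ⟨Q'.map N.subtype, f⟩ := by
    obtain ⟨k, hk⟩ := exists_idx_eq (conjBlock (Q'.map N.subtype) x f) hmap.symm
    have h := SubpairLE.conj hle x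
    dsimp only at h
    rw [conjBlock_idx_eq hxQ he.1.2 hxst, ← hk] at h
    rw [← hk, hfu k h]
  obtain ⟨hn, hfix⟩ := fixed_of_conjBlock_eq hxQ0 hidxeq
  -- a covered block fixed by `x`
  obtain ⟨ξ, hξ⟩ := isPBlock_nonempty hf.1.2
  obtain ⟨φ, hφ⟩ := exists_constituent' (N := centN Q') ξ
  set d := blockOf M (φ : centN Q' → ℂ) with hd
  have hξ' : conjIrr (le_normalizer_centralizer le_rfl hxQ0) ξ ∈ f := by
    exact (Set.ext_iff.1 hfix _).1 ((mem_conjBlk_iff _ f ξ).2 hξ)
  obtain ⟨h0, hh0⟩ := exists_nact_eq (M := M) Q' hf.1.2 hξ hξ' hφ (constituent_conj Q' hxQ0 hφ)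
  have hxd : nact Q' hxQ0 d = nact Q' (centralizer_le_normalizer' _ h0.2) d := by
    rw [hd, ← hh0]
    exact isPBlock_eq_of_mem (isPBlock_comp _ (isPBlock_blockOf φ)) (isPBlock_blockOf _)
      (⟨φ, self_mem_blockOf φ, rfl⟩) (self_mem_blockOf _)
  let M0 : Subgroup G := Subgroup.normalizer (SetLike.coe (Q'.map N.subtype))
  let S : Subgroup G :=
    { carrier := {g | ∃ hg : g ∈ M0, nact Q' hg d = d}
      mul_mem' := fun ⟨ha, ha'⟩ ⟨hb, hb'⟩ => ⟨mul_mem ha hb, by rw [nact_mul Q' ha hb, hb', ha']⟩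
      one_mem' := ⟨one_mem _, nact_of_mem Q' (one_mem _) (one_mem _) _ d⟩
      inv_mem' := fun {a} ⟨ha, ha'⟩ => ⟨inv_mem ha, by
        conv_lhs => rw [← ha', ← nact_mul Q' (inv_mem ha) ha]
        rw [nact_ext Q' (hh := one_mem _) (inv_mul_cancel a), nact_of_mem Q' (one_mem _) (one_mem _) _ d]⟩ }
  have hh0M : (h0 : G) ∈ M0 := centralizer_le_normalizer' _ h0.2
  have hiter : ∀ i : ℕ, nact Q' (pow_mem hxQ0 i) d = nact Q' (pow_mem hh0M i) d := by
    intro i
    induction i with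
    | zero => exact nact_ext Q' (by rw [pow_zero, pow_zero]) d
    | succ i ih =>
      have e1 : nact Q' (pow_mem hxQ0 (i + 1)) d = nact Q' (pow_mem hxQ0 i) (nact Q' hxQ0 d) := by
        rw [← nact_mul Q' (pow_mem hxQ0 i) hxQ0]; exact nact_ext Q' (pow_succ x i) d
      have hkC : x ^ i * (h0 : G) * (x ^ i)⁻¹ * (h0 : G)⁻¹ ∈ Subgroup.centralizer (SetLike.coe (Q'.map N.subtype)) :=
        mul_mem ((Subgroup.mem_normalizer_iff.1
          ((le_normalizer_centralizer le_rfl) (pow_mem hxQ0 i)) _).1 h0.2) (inv_mem h0.2)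
      have hkN : x ^ i * (h0 : G) * (x ^ i)⁻¹ * (h0 : G)⁻¹ ∈ N := by
        have : x ^ i * ((h0 : G) * (x ^ i)⁻¹ * (h0 : G)⁻¹) ∈ N :=
          mul_mem (pow_mem hxN i) (hNn.conj_mem _ (inv_mem (pow_mem hxN i)) _)
        simpa [mul_assoc] using this
      have hkM := centralizer_le_normalizer' _ hkC
      calc nact Q' (pow_mem hxQ0 (i + 1)) d = nact Q' (mul_mem (pow_mem hxQ0 i) hh0M) d := by
            rw [e1, hxd, ← nact_mul Q' (pow_mem hxQ0 i) hh0M]
        _ = nact Q' hkM (nact Q' (mul_mem hh0M (pow_mem hxQ0 i)) d) := by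
            rw [← nact_mul Q' hkM (mul_mem hh0M (pow_mem hxQ0 i))]
            exact nact_ext Q' (by group) d
        _ = nact Q' (mul_mem hh0M (pow_mem hxQ0 i)) d := nact_of_mem Q' hkC hkN _ _
        _ = nact Q' hh0M (nact Q' (pow_mem hh0M i) d) := by rw [nact_mul Q' hh0M (pow_mem hxQ0 i), ih]
        _ = nact Q' (pow_mem hh0M (i + 1)) d := by
            rw [← nact_mul Q' hh0M (pow_mem hh0M i)]; exact nact_ext Q' (pow_succ' _ i).symm d
  have hS1 : (h0 : G) ^ orderOf x ∈ S := ⟨pow_mem hh0M _, by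
    rw [← hiter, nact_ext Q' (hh := one_mem _) (pow_orderOf_eq_one x)]
    exact nact_of_mem Q' (one_mem _) (one_mem _) _ d⟩
  obtain ⟨k, hk⟩ := hidx
  have hS2 : (h0 : G) ^ p ^ k ∈ S := ⟨pow_mem hh0M _, nact_of_mem Q' (pow_mem h0.2 _)
    (by rw [← hk]; exact N.pow_index_mem (h0 : G)) _ d⟩
  have hcop : Nat.Coprime (orderOf x) (p ^ k) :=
    (((Nat.Prime.coprime_iff_not_dvd Fact.out).2 hreg).pow_left k).symm
  have hh0S : (h0 : G) ∈ S := by
    have hb := Nat.gcd_eq_gcd_ab (orderOf x) (p ^ k)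
    rw [hcop.gcd_eq_one, Nat.cast_one] at hb
    rw [← zpow_one (h0 : G), hb, zpow_add, zpow_mul, zpow_mul, zpow_natCast, zpow_natCast]
    exact mul_mem (zpow_mem hS1 _) (zpow_mem hS2 _)
  obtain ⟨_, hh0d⟩ := hh0S
  -- so `x` centralises `Q ⊓ N`
  set ψ := compIrr (centNIso Q').symm φ with hψ
  have hlam : lam M (Subgroup.centralizer (Q' : Set N)) ψ (blockIdem c) = 1 := by
    rw [hψ, ← lam_eq_of_constituent Q' hc hB hBc hφ]
    exact ((isBrauerPairOf_iff hξ).1 hf).2.2
  have hQ'p : IsPGroup p Q' := he.1.1.comap_subtype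
  have hpair : IsBrauerPairOf p M c Q' (blockOf M (ψ : _ → ℂ)) :=
    (isBrauerPairOf_iff (self_mem_blockOf ψ)).2 ⟨⟨hQ'p, isPBlock_blockOf ψ⟩, hc, hlam⟩
  let x' : N := ⟨x, hxN⟩
  have hx'Q : x' ∈ Subgroup.normalizer (Q' : Set N) := by
    rw [Subgroup.mem_normalizer_iff]
    exact fun q => (Subgroup.mem_normalizer_iff.1 hxQ (q : G))
  have hn' := le_normalizer_centralizer le_rfl hx'Q
  have hst' : StabilizesBlock (Subgroup.centralizer (Q' : Set N)) (blockOf M (ψ : _ → ℂ)) x' := by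
    refine (stabilizesBlock_iff (isPBlock_blockOf ψ)).2 ⟨hn', ?_⟩
    refine isPBlock_eq_of_mem (isPBlock_conjBlk _ (isPBlock_blockOf ψ)) (isPBlock_blockOf ψ)
      ((mem_conjBlk_iff _ _ ψ).2 (self_mem_blockOf ψ)) ?_
    have hmem : compIrr (nconj Q' hxQ0) φ ∈ d := by
      rw [← hxd.trans hh0d]
      exact ⟨φ, self_mem_blockOf φ, rfl⟩
    have he' : conjIrr hn' ψ = compIrr (centNIso Q').symm (compIrr (nconj Q' hxQ0) φ) :=
      Subtype.ext (funext fun k => by
        rw [conjIrr_apply, hψ, compIrr_apply, compIrr_apply, compIrr_apply]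
        rfl)
    have hmem2 : compIrr (centNIso Q').symm (compIrr (nconj Q' hxQ0) φ) ∈ compIrr (centNIso Q').symm '' d :=
      ⟨_, hmem, rfl⟩
    rw [he']
    rwa [isPBlock_eq_of_mem (isPBlock_comp _ (isPBlock_blockOf φ)) (isPBlock_blockOf ψ)
      (⟨φ, self_mem_blockOf φ, rfl⟩) (self_mem_blockOf ψ)] at hmem2
  have hx'C := hnil.2 Q' _ hpair x' hx'Q hst' (by
    show ¬ p ∣ orderOf x'
    rw [← Subgroup.orderOf_coe x']; exact hreg)
  -- hence `Q`
  rw [Subgroup.mem_centralizer_iff]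
  intro q hq
  set a := x * q * x⁻¹ * q⁻¹ with ha
  have haQ : a ∈ Q := mul_mem ((Subgroup.mem_normalizer_iff.1 hxQ q).1 hq) (inv_mem hq)
  have haN : a ∈ N := by
    have : x * (q * x⁻¹ * q⁻¹) ∈ N := mul_mem hxN (hNn.conj_mem _ (inv_mem hxN) q)
    simpa [ha, mul_assoc] using this
  have hax : Commute a x := congrArg (fun z : N => (z : G)) (Subgroup.mem_centralizer_iff.1 hx'C ⟨a, haN⟩ haQ)
  have hpow : ∀ i : ℕ, x ^ i * q * (x ^ i)⁻¹ = a ^ i * q := by
    intro i
    induction i with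
    | zero => simp
    | succ i ih =>
      calc x ^ (i + 1) * q * (x ^ (i + 1))⁻¹ = x * (x ^ i * q * (x ^ i)⁻¹) * x⁻¹ := by rw [pow_succ']; group
        _ = x * a ^ i * q * x⁻¹ := by rw [ih]; group
        _ = a ^ i * (x * q * x⁻¹) := by rw [← (hax.pow_left i).eq]; group
        _ = a ^ (i + 1) * q := by rw [pow_succ, ha]; group
  have h1 := hpow (orderOf x)
  rw [pow_orderOf_eq_one, one_mul, inv_one, mul_one] at h1
  obtain ⟨j, hj⟩ := IsPGroup.iff_orderOf.1 he.1.1 ⟨a, haQ⟩
  rw [Subgroup.orderOf_mk] at hj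
  have h2 : orderOf a ∣ orderOf x := orderOf_dvd_of_pow_eq_one (mul_eq_right.1 h1.symm)
  have ha1 : a = 1 := orderOf_eq_one_iff.1 (Nat.eq_one_of_dvd_coprimes
    (((Nat.Prime.coprime_iff_not_dvd Fact.out).2 hreg).pow_left j) (hj ▸ dvd_rfl) h2)
  rw [ha, mul_inv_eq_one] at ha1
  conv_lhs => rw [← ha1]
  group

end Cfsg.Agent.Block
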