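import Cfsg.Agent.Lib.Block.Regular
import Cfsg.Agent.Lib.Block.CentralQuotientBlock
import Cfsg.Agent.Lib.Char.Signed
import Cfsg.Agent.Lib.Char.CoprimeFix
import Cfsg.Agent.Lib.Char.DegreeIndex
import Cfsg.Agent.Lib.Char.Degrees
import Cfsg.Agent.Lib.Solv.PSolvable

/-!
# `p`-soluble groups whose degrees are prime to `p`
-/

set_option autoImplicit false

open Cfsg.Agent.Char

namespace Cfsg.Agent.Block

universe u

variable {G : Type u} [Group G] [Finite G] {p : ℕ}

/-- All irreducible degrees are prime to `p`. -/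
def PPrimeDegrees (p : ℕ) (G : Type u) [Group G] : Prop :=
  ∀ χ : IrrCharacter G, ¬ p ∣ charDegree (χ : G → ℂ)

theorem eq_top_of_forall_exists_conj_mem (H : Subgroup G)
    (h : ∀ g : G, ∃ x : G, x⁻¹ * g * x ∈ H) : H = ⊤ := by
  classical
  haveI := Fintype.ofFinite G
  haveI : Fintype (G ⧸ H) := Fintype.ofFinite _
  haveI : ∀ a : G, Fintype (MulAction.fixedBy (G ⧸ H) a) := fun a => Fintype.ofFinite _
  haveI : Fintype (Quotient (MulAction.orbitRel G (G ⧸ H))) := Fintype.ofFinite _
  have h1 := MulAction.sum_card_fixedBy_eq_card_orbits_mul_card_group G (G ⧸ H)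
  haveI : Subsingleton (Quotient (MulAction.orbitRel G (G ⧸ H))) :=
    (MulAction.pretransitive_iff_subsingleton_quotient G (G ⧸ H)).1 inferInstance
  rw [show Fintype.card (Quotient (MulAction.orbitRel G (G ⧸ H))) = 1 from
    Fintype.card_eq_one_iff.2 ⟨⟦((1 : G) : G ⧸ H)⟧, fun _ => Subsingleton.elim _ _⟩, one_mul] at h1
  by_contra hne
  have h2 : ∑ _g : G, 1 < ∑ g : G, Fintype.card (MulAction.fixedBy (G ⧸ H) g) := by
    refine Finset.sum_lt_sum (fun g _ => ?_) ⟨1, Finset.mem_univ _, ?_⟩
    · obtain ⟨x, hx⟩ := h g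
      refine Fintype.card_pos_iff.2 ⟨⟨(x : G ⧸ H), ?_⟩⟩
      rw [MulAction.mem_fixedBy, MulAction.Quotient.smul_coe, QuotientGroup.eq]
      have := H.inv_mem hx
      simpa [mul_assoc] using this
    · have h3 : Fintype.card (MulAction.fixedBy (G ⧸ H) (1 : G)) = H.index := by
        rw [Subgroup.index_eq_card, Nat.card_eq_fintype_card]
        exact Fintype.card_congr (Equiv.subtypeUnivEquiv fun z => one_smul G z)
      rw [h3]
      exact Subgroup.one_lt_index_of_ne_top hne
  rw [h1, Finset.sum_const, Finset.card_univ, smul_eq_mul, mul_one] at h2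
  exact lt_irrefl _ h2

/-- An automorphism of coprime order fixing each irreducible character centralises. -/
theorem commute_of_fixes_irr (K : Subgroup G) [K.Normal] {g : G}
    (hcop : Nat.Coprime (orderOf g) (Nat.card K))
    (h : ∀ θ : IrrCharacter K, Char.conjChar K g (θ : K → ℂ) = θ) {k : G} (hk : k ∈ K) :
    g * k = k * g := by
  classical
  haveI := Fintype.ofFinite K
  let α : K ≃* K := MulAut.conjNormal g
  have h1 := card_fixed_irr_aut α
  have h2 : Nat.card {χ : IrrCharacter K // (χ : K → ℂ) ∘ α = χ} = Nat.card (IrrCharacter K) :=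
    Nat.card_congr (Equiv.subtypeUnivEquiv fun θ => (funext fun n => (Char.conjChar_apply K g (θ : K → ℂ) n).symm : (θ : K → ℂ) ∘ α = Char.conjChar K g θ).trans (h θ))
  rw [h2, card_irrCharacter] at h1
  have hfix : ∀ C : ConjClasses K, ConjClasses.map α.toMonoidHom C = C := by
    intro C
    by_contra hC
    have hb := Finite.card_subtype_lt (p := fun C : ConjClasses K => ConjClasses.map α.toMonoidHom C = C) hC
    omega
  have htop : (Subgroup.centralizer ({g} : Set G)).subgroupOf K = ⊤ := by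
    refine eq_top_of_forall_exists_conj_mem _ fun m => ?_
    have hc : IsConj (α m) m := ConjClasses.mk_eq_mk_iff_isConj.1 (hfix (ConjClasses.mk m))
    obtain ⟨c, hc⟩ := isConj_iff.1 hc.symm
    have hfx : g * (m : G) * g⁻¹ = (c : G) * m * (c : G)⁻¹ := by
      rw [← MulAut.conjNormal_apply g m]
      exact (congrArg Subtype.val hc).symm
    obtain ⟨y, hy, hgy⟩ := exists_fixed_conj K g
      (Subgroup.normalizer_eq_top K ▸ Subgroup.mem_top g) hcop c.2 hfx
    refine ⟨⟨y, hy⟩⁻¹, ?_⟩
    rw [inv_inv, Subgroup.mem_subgroupOf, Subgroup.mem_centralizer_singleton_iff]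
    simp only [Subgroup.coe_mul, InvMemClass.coe_inv]
    exact hgy.symm
  have := Subgroup.mem_subgroupOf.1 (htop ▸ Subgroup.mem_top (⟨k, hk⟩ : K))
  exact (Subgroup.mem_centralizer_singleton_iff.1 this).symm

theorem exists_over_normal [Fintype G] (N : Subgroup G) [N.Normal] [Fintype N] (θ : IrrCharacter N) :
    ∃ χ : IrrCharacter G, classInner (fun n : N => (χ : G → ℂ) n) (θ : N → ℂ) ≠ 0 := by
  have hθc := IsIrrCharacter.isCharacter θ.2
  obtain ⟨χ, hχ, hχc⟩ := IsCharacter.exists_irr_constituent (isCharacter_indFun N hθc) (fun e => by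
    have := congrFun e 1
    rw [indFun_one_apply, Pi.zero_apply, mul_eq_zero] at this
    exact this.elim (Nat.cast_ne_zero.mpr Subgroup.index_ne_zero_of_finite)
      (IsIrrCharacter.apply_one_ne_zero θ.2))
  rw [classInner_indFun N _ (IsCharacter.isClassFunction (IsIrrCharacter.isCharacter hχ))] at hχc
  exact ⟨⟨χ, hχ⟩, fun h0 => hχc (by rw [← classInner_conj_symm, h0, map_zero])⟩

namespace PPrimeDegrees

/-- The inertia index and the degree below are prime to `p`. -/
theorem below [Fintype G] (h : PPrimeDegrees p G) (N : Subgroup G) [N.Normal] [Fintype N]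
    (θ : IrrCharacter N) :
    ¬ p ∣ charDegree (θ : N → ℂ) ∧ ¬ p ∣ (inertia N (θ : N → ℂ)).index := by
  obtain ⟨χ, hχ⟩ := exists_over_normal N θ
  obtain ⟨e, he⟩ := classInner_natCast_of_isCharacter
    (IsCharacter.restrict (IsIrrCharacter.isCharacter χ.2) N) (IsIrrCharacter.isCharacter θ.2)
  have hdeg := restrict_degree_eq N χ.2 θ.2 hχ
  rw [he, ← charDegree_cast (IsIrrCharacter.isCharacter χ.2),
    ← charDegree_cast (IsIrrCharacter.isCharacter θ.2)] at hdeg
  have h5 : charDegree (χ : G → ℂ) = e * ((inertia N (θ : N → ℂ)).index * charDegree (θ : N → ℂ)) := by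
    exact_mod_cast hdeg
  exact ⟨fun hd => h χ (h5 ▸ (hd.mul_left _).mul_left _),
    fun hd => h χ (h5 ▸ (hd.mul_right _).mul_left _)⟩

theorem normal (h : PPrimeDegrees p G) (N : Subgroup G) [N.Normal] : PPrimeDegrees p N :=
  fun θ => by
    haveI := Fintype.ofFinite G
    haveI := Fintype.ofFinite N
    exact (h.below N θ).1

theorem quotient (h : PPrimeDegrees p G) (N : Subgroup G) [N.Normal] : PPrimeDegrees p (G ⧸ N) := by
  intro φ hd
  refine h ⟨fun g => (φ : G ⧸ N → ℂ) (QuotientGroup.mk g),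
    isIrrCharacter_comp_surjective (QuotientGroup.mk' N) (QuotientGroup.mk'_surjective N) φ.2⟩ ?_
  have e : charDegree (fun g : G => (φ : G ⧸ N → ℂ) (QuotientGroup.mk g)) = charDegree (φ : G ⧸ N → ℂ) := by
    apply Nat.cast_injective (R := ℂ)
    have hc : IsCharacter G (fun g : G => (φ : G ⧸ N → ℂ) (QuotientGroup.mk g)) := IsIrrCharacter.isCharacter
      (isIrrCharacter_comp_surjective (QuotientGroup.mk' N) (QuotientGroup.mk'_surjective N) φ.2)
    rw [charDegree_cast (IsIrrCharacter.isCharacter φ.2), charDegree_cast hc]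
    rfl
  exact e ▸ hd

variable [Fact p.Prime]

/-- The theorem of Ito and Michler for `p`-soluble groups. -/
theorem exists_normal_abelian_sylow (h : PPrimeDegrees p G) (hs : IsPSolvable p G) :
    ∃ P : Sylow p G, (P : Subgroup G).Normal ∧ IsMulCommutative P := by
  classical
  have hp : p.Prime := Fact.out
  suffices key : ∀ n : ℕ, ∀ (H : Type u) [Group H] [Finite H], Nat.card H ≤ n → PPrimeDegrees p H →
      IsPSolvable p H → ∃ P : Sylow p H, (P : Subgroup H).Normal ∧ IsMulCommutative P from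
    key _ G le_rfl h hs
  intro n
  induction n with
  | zero => intro H _ _ hc _ _; exact absurd hc (not_le.2 Nat.card_pos)
  | succ n ih =>
  intro H _ _ hcard hdeg hsolv
  haveI := Fintype.ofFinite H
  rcases subsingleton_or_nontrivial H with hH | hH
  · obtain ⟨P⟩ := Sylow.nonempty (p := p) (G := H)
    exact ⟨P, ⟨fun x hx g => by rwa [Subsingleton.elim (g * x * g⁻¹) x]⟩,
      ⟨⟨fun a b => Subsingleton.elim _ _⟩⟩⟩
  have hsmall : ∀ N : Subgroup H, ∀ [N.Normal], N ≠ ⊥ →
      ∃ P : Sylow p (H ⧸ N), (P : Subgroup (H ⧸ N)).Normal ∧ IsMulCommutative P := by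
    intro N _ hN
    refine ih _ ?_ (hdeg.quotient N) (Solv.isPSolvable_quotient hsolv N)
    have h1 := N.card_eq_card_quotient_mul_card_subgroup
    have h2 : 2 ≤ Nat.card N := (Subgroup.one_lt_card_iff_ne_bot N).2 hN
    nlinarith [Nat.card_pos (α := H ⧸ N)]
  by_cases hK : pPrimeCore p H = ⊥
  · haveI := Solv.pCore_characteristic p H
    set R := pCore p H with hR
    have hRne : R ≠ ⊥ := (Solv.core_ne_bot_of_isPSolvable hsolv).resolve_right (not_not.2 hK)
    haveI := Fintype.ofFinite R
    have hRp : IsPGroup p R := Solv.isPGroup_pCore p H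
    have hab : ∀ a b : R, a * b = b * a := comm_of_degree_one fun θ => by
      obtain ⟨k, hk⟩ := IsPGroup.iff_card.1 hRp
      obtain ⟨i, -, hi⟩ := (Nat.dvd_prime_pow hp).1 (hk ▸ charDegree_dvd_card θ.2)
      rcases Nat.eq_zero_or_pos i with rfl | hpos
      · rw [← charDegree_cast (IsIrrCharacter.isCharacter θ.2), hi, pow_zero, Nat.cast_one]
      · exact absurd (hi ▸ dvd_pow_self p hpos.ne') (hdeg.below R θ).1
    obtain ⟨Q, hQn, -⟩ := hsmall R hRne
    have hQbot : (Q : Subgroup (H ⧸ R)) = ⊥ :=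
      le_bot_iff.1 ((Solv.le_pCore (hN := hQn) Q.isPGroup').trans (Solv.pCore_quotient_pCore p H).le)
    have hidx : ¬ p ∣ R.index := by
      have := Q.not_dvd_index
      rwa [hQbot, Subgroup.index_bot, ← Subgroup.index_eq_card] at this
    refine ⟨hRp.toSylow hidx, ?_, ?_⟩
    · rw [IsPGroup.toSylow_coe]; infer_instance
    · exact ⟨⟨fun a b => Subtype.ext (congrArg Subtype.val (hab ⟨a, a.2⟩ ⟨b, b.2⟩))⟩⟩
  · haveI := Solv.pPrimeCore_characteristic p H
    set K := pPrimeCore p H with hKdef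
    obtain ⟨Q, hQn, hQc⟩ := hsmall K hK
    haveI := hQn
    set π := QuotientGroup.mk' K
    set N : Subgroup H := (Q : Subgroup (H ⧸ K)).comap π with hN
    haveI : N.Normal := Subgroup.Normal.comap hQn π
    haveI := Fintype.ofFinite N
    haveI := Fintype.ofFinite K
    obtain ⟨P⟩ := Sylow.nonempty (p := p) (G := H)
    have hKcop : (Nat.card K).Coprime p := Solv.card_pPrimeCore_coprime p H
    have hKN : K ≤ N := fun x hx => by
      rw [hN, Subgroup.mem_comap, show π x = 1 from (QuotientGroup.eq_one_iff x).2 hx]; exact one_mem _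
    haveI := Sylow.unique_of_normal Q hQn
    have hmap : (P : Subgroup H).map π = Q := by
      have hS := congrArg (fun S : Sylow p (H ⧸ K) => (S : Subgroup (H ⧸ K)))
        (Subsingleton.elim (P.mapSurjective (QuotientGroup.mk'_surjective K)) Q)
      simpa only [Sylow.coe_mapSurjective] using hS
    have hPN : (P : Subgroup H) ≤ N := Subgroup.map_le_iff_le_comap.1 hmap.le
    -- elements of `P` fix the characters of `K`
    have hcomm : ∀ x ∈ (P : Subgroup H), ∀ k ∈ K, x * k = k * x := by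
      intro x hx k hk
      refine commute_of_fixes_irr K ?_ (fun θ => ?_) hk
      · obtain ⟨i, hi⟩ := IsPGroup.iff_orderOf.1 P.isPGroup' ⟨x, hx⟩
        rw [Subgroup.orderOf_mk] at hi
        rw [hi]
        exact hKcop.symm.pow_left i
      · haveI := Fintype.ofFinite (K.subgroupOf N)
        let e := Subgroup.subgroupOfEquivOfLe hKN
        let θ' : IrrCharacter (K.subgroupOf N) :=
          ⟨fun y => (θ : K → ℂ) (e y), isIrrCharacter_comp_mulEquiv e θ.2⟩
        have hi := ((hdeg.normal N).below (K.subgroupOf N) θ').2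
        have hle : K.subgroupOf N ≤ inertia (K.subgroupOf N) (θ' : _ → ℂ) :=
          le_inertia _ (IsCharacter.isClassFunction (IsIrrCharacter.isCharacter θ'.2))
        have hdvd := Subgroup.index_dvd_of_le hle
        have hKi : ∃ j, (K.subgroupOf N).index = p ^ j := by
          obtain ⟨j, hj⟩ := IsPGroup.iff_card.1 Q.isPGroup'
          refine ⟨j, ?_⟩
          rw [← Subgroup.relIndex, ← hj, hN, Solv.relIndex_comap_mk']
        obtain ⟨j, hj⟩ := hKi
        rw [hj] at hdvd
        obtain ⟨i, -, hi'⟩ := (Nat.dvd_prime_pow hp).1 hdvd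
        rcases Nat.eq_zero_or_pos i with rfl | hpos
        · rw [pow_zero, Subgroup.index_eq_one] at hi'
          funext m
          have := congrFun ((mem_inertia (K.subgroupOf N)).1 (hi' ▸ Subgroup.mem_top (⟨x, hPN hx⟩ : N)))
            (e.symm m)
          simp only [θ', Char.conjChar] at this
          convert this using 2 <;> simp [Char.conjChar, e, Subgroup.subgroupOfEquivOfLe]
        · exact absurd (hi' ▸ dvd_pow_self p hpos.ne') hi
    -- so `P` is normal
    have hsplit : N = (P : Subgroup H) ⊔ K := by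
      refine le_antisymm (fun y hy => ?_) (sup_le hPN hKN)
      have : π y ∈ (P : Subgroup H).map π := hmap.symm ▸ hy
      rw [← Subgroup.mem_comap, Subgroup.comap_map_eq, QuotientGroup.ker_mk'] at this
      exact this
    have hPc : IsMulCommutative P := by
      refine ⟨⟨fun a b => Subtype.ext ?_⟩⟩
      have h1 : π ((a : H) * b * (a : H)⁻¹ * (b : H)⁻¹) = 1 := by
        have := congrArg Subtype.val (hQc.is_comm.comm
          (⟨π a, hPN a.2⟩ : (Q : Subgroup (H ⧸ K))) ⟨π b, hPN b.2⟩)
        simp only [Subgroup.coe_mul] at this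
        rw [map_mul, map_mul, map_mul, this, map_inv, map_inv]
        group
      have h2 : (a : H) * b * (a : H)⁻¹ * (b : H)⁻¹ ∈ (P : Subgroup H) ⊓ K :=
        ⟨mul_mem (mul_mem (mul_mem a.2 b.2) ((P : Subgroup H).inv_mem a.2)) ((P : Subgroup H).inv_mem b.2), (QuotientGroup.eq_one_iff _).1 h1⟩
      rw [Solv.inf_eq_bot_of_isPGroup P.isPGroup' hKcop, Subgroup.mem_bot, mul_inv_eq_one,
        mul_inv_eq_iff_eq_mul] at h2
      exact h2
    refine ⟨P, ⟨fun x hx g => ?_⟩, hPc⟩
    have hxN : g * x * g⁻¹ ∈ N := (inferInstance : N.Normal).conj_mem _ (hPN hx) g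
    rw [hsplit, ← SetLike.mem_coe, Subgroup.mul_normal, Set.mem_mul] at hxN
    obtain ⟨a, ha, b, hb, hab⟩ := hxN
    have hc : Commute a b := hcomm a ha b hb
    obtain ⟨i, hi⟩ := IsPGroup.iff_orderOf.1 P.isPGroup' ⟨x, hx⟩
    obtain ⟨j, hj⟩ := IsPGroup.iff_orderOf.1 P.isPGroup' ⟨a, ha⟩
    rw [Subgroup.orderOf_mk] at hi hj
    have h3 : (a * b) ^ p ^ (i + j) = 1 := by
      rw [hab, conj_pow, orderOf_dvd_iff_pow_eq_one.1 (hi ▸ Nat.pow_dvd_pow p (Nat.le_add_right i j)),
        mul_one, mul_inv_cancel]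
    rw [hc.mul_pow, orderOf_dvd_iff_pow_eq_one.1 (hj ▸ Nat.pow_dvd_pow p (Nat.le_add_left j i)),
      one_mul] at h3
    have hb1 : b = 1 := orderOf_eq_one_iff.1 (Nat.eq_one_of_dvd_coprimes
      (hKcop.pow_right (i + j)) (K.orderOf_dvd_natCard hb) (orderOf_dvd_of_pow_eq_one h3))
    rw [← hab, hb1, mul_one]
    exact ha

end PPrimeDegrees

/-- Conversely, a normal abelian Sylow subgroup gives degrees prime to `p`. -/
theorem pPrimeDegrees_of_normal_abelian_sylow [Fact p.Prime] (P : Sylow p G)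
    [(P : Subgroup G).Normal] (hc : IsMulCommutative P) : PPrimeDegrees p G := by
  intro χ hd
  obtain ⟨d, hd1, hdvd⟩ := exists_ito_degree (P : Subgroup G)
    (fun a ha b hb => congrArg Subtype.val (hc.is_comm.comm (⟨a, ha⟩ : (P : Subgroup G)) ⟨b, hb⟩)) χ.2
  have : charDegree (χ : G → ℂ) = d := by
    apply Nat.cast_injective (R := ℂ)
    rw [charDegree_cast (IsIrrCharacter.isCharacter χ.2), hd1]
  exact P.not_dvd_index ((this ▸ hd).trans hdvd)

end Cfsg.Agent.Block
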