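import Cfsg.Agent.Lib.Block.FongReynolds2
import Cfsg.Agent.Lib.Block.CoverDefect
import Cfsg.Agent.Lib.Block.CoverPPower
import Cfsg.Agent.Lib.Block.Induced
import Cfsg.Agent.Lib.Block.ConjBlock
import Cfsg.Agent.Lib.Char.DegreeIndex
import Cfsg.Agent.Lib.Char.CliffordAbelian
import Cfsg.Agent.Lib.Char.Extension2
import Cfsg.Agent.Lib.Solv.PSolvable

/-!
# Heights in blocks of `p`-solvable groups

The `p`-part of a character degree, times the order of the centre of a defect group of its block,
divides the `p`-part of the group order.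
-/

set_option autoImplicit false
set_option linter.style.haveILetI false

open Cfsg Cfsg.Agent.Char Cfsg.Agent.Solv
open scoped ComplexConjugate

namespace Cfsg.Agent.Block

universe u

section Over

variable {G : Type u} [Group G] [Fintype G]

/-- A constituent of an intermediate restriction above a given constituent. -/
theorem exists_mid_constituent {N K : Subgroup G} [N.Normal] [Fintype N] (hNK : N ≤ K) [Fintype K]
    [Fintype (N.subgroupOf K)] (χ : IrrCharacter G) (θ : IrrCharacter N)
    (h : classInner (fun n : N => (χ : G → ℂ) n) (θ : N → ℂ) ≠ 0) :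
    ∃ η : IrrCharacter K, classInner (fun k : K => (χ : G → ℂ) k) (η : K → ℂ) ≠ 0 ∧
      classInner (fun n : N.subgroupOf K => (η : K → ℂ) n)
        (fun n => (θ : N → ℂ) (Subgroup.subgroupOfEquivOfLe hNK n)) ≠ 0 := by
  classical
  let φ := Subgroup.subgroupOfEquivOfLe hNK
  let θ' : N.subgroupOf K → ℂ := fun n => (θ : N → ℂ) (φ n)
  have hΦ : IsCharacter K (fun k : K => (χ : G → ℂ) k) :=
    IsCharacter.restrict (IsIrrCharacter.isCharacter χ.2) K
  have e : classInner θ' (fun n : N.subgroupOf K => (χ : G → ℂ) ((n : K) : G)) =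
      classInner (θ : N → ℂ) (fun n : N => (χ : G → ℂ) n) := by
    rw [← classInner_comp_mulEquiv φ]
    rfl
  have hf : classInner (fun k : K => (χ : G → ℂ) k) (indFun (N.subgroupOf K) θ') ≠ 0 := by
    rw [← classInner_conj_symm, classInner_indFun _ _ (IsCharacter.isClassFunction hΦ), e,
      classInner_conj_symm]
    exact h
  obtain ⟨η, hη, h1, h2⟩ := exists_constituent hΦ hf
  refine ⟨⟨η, hη⟩, h1, ?_⟩
  intro h0
  refine h2 ?_
  rw [← classInner_conj_symm, classInner_indFun _ _
    (IsCharacter.isClassFunction (IsIrrCharacter.isCharacter hη)), classInner_conj_symm]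
  exact h0

/-- Over an invariant character of a normal Hall subgroup with abelian `p`-quotient all degrees
are the same. -/
theorem degree_eq_of_abelian_pQuotient {p k : ℕ} (hp : p.Prime) (N : Subgroup G) [N.Normal] [Fintype N]
    (hidx : N.index = p ^ k) (hN : (Nat.card N).Coprime p)
    (hab : ∀ x y : G, x * y * x⁻¹ * y⁻¹ ∈ N) {θ : N → ℂ} (hθ : IsIrrCharacter N θ)
    (hinv : ∀ g, Char.conjChar N g θ = θ) {ψ : G → ℂ} (hψ : IsIrrCharacter G ψ)
    (hover : classInner (fun n : N => ψ n) θ ≠ 0) : ψ 1 = θ 1 := by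
  classical
  obtain ⟨d, hd⟩ := IsCharacter.exists_degree (IsIrrCharacter.isCharacter hθ)
  have hcharDeg : charDegree θ = d := by
    have := charDegree_cast (IsIrrCharacter.isCharacter hθ)
    rw [hd] at this
    exact_mod_cast this
  have hdet : detOrder θ ∣ Nat.card N := by
    obtain ⟨l, hl⟩ := exists_detHom hθ
    rw [detOrder, hl, orderOf_linearChar]
    refine orderOf_dvd_of_pow_eq_one (MonoidHom.ext fun n => ?_)
    rw [MonoidHom.pow_apply, ← map_pow, pow_card_eq_one', map_one]
    rfl
  have hcop : Nat.Coprime N.index (detOrder θ * d) := by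
    rw [hidx]
    refine Nat.Coprime.pow_left _ (Nat.Coprime.mul_right (Nat.Coprime.coprime_dvd_right hdet hN.symm) ?_)
    exact Nat.Coprime.coprime_dvd_right (hcharDeg ▸ charDegree_dvd_card hθ) hN.symm
  obtain ⟨η, ⟨hη, hηN, -⟩, -⟩ := exists_unique_extension_coprime hθ hinv hd hcop
  obtain ⟨C, hC, hCres, -, hind⟩ := abelian_quotient_decomp N hθ hinv hab hη one_ne_zero
    (funext fun n => by rw [hηN, Nat.cast_one, one_smul])
  have hne : classInner (indFun N θ) ψ ≠ 0 := by
    rw [classInner_indFun N θ (IsCharacter.isClassFunction (IsIrrCharacter.isCharacter hψ)),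
      ← classInner_conj_symm]
    exact fun h => hover (star_eq_zero.1 h)
  rw [hind, Nat.cast_one, one_smul, classInner_sum_left] at hne
  obtain ⟨c, hc, hcψ⟩ := Finset.exists_ne_zero_of_sum_ne_zero hne
  have : c = ψ := by
    by_contra h
    exact hcψ (IsIrrCharacter.classInner_eq_zero (hC c hc) hψ h)
  rw [← this]
  simpa using congrFun (hCres c hc) 1

end Over

theorem pPow_factorization {p n : ℕ} (hp : p.Prime) {m : ℕ} (h : n = p ^ m) :
    n.factorization p = m := by
  rw [h, Nat.factorization_pow, Finsupp.smul_apply, hp.factorization_self, smul_eq_mul, mul_one]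

/-- The degree bound. -/
theorem degree_add_center_le (p : ℕ) [Fact p.Prime] (M : Ideal AlgInt) (hM : IsPModular p M) :
    ∀ (m : ℕ) (G : Type u) [Group G] [Finite G], Nat.card G ≤ m → IsPSolvable p G →
      ∀ (B : Set (IrrCharacter G)), IsPBlock M B → ∀ P : Subgroup G, IsDefectGroup p M B P →
        ∀ χ ∈ B, (charDegree (χ : G → ℂ)).factorization p +
          (Nat.card (Subgroup.center P)).factorization p ≤ (Nat.card G).factorization p := by
  haveI := prime_of_isPModular hM
  have hp := (Fact.out : p.Prime)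
  intro m
  induction m with
  | zero => intro G _ _ h; exact absurd Nat.card_pos (Nat.not_lt.2 h)
  | succ m ih =>
    intro G _ _ hcard hsolv B hB P hP χ hχ
    classical
    haveI := Fintype.ofFinite G
    set N := pPrimeCore p G with hNdef
    haveI := Fintype.ofFinite N
    have hNcop : (Nat.card N).Coprime p := card_pPrimeCore_coprime p G
    have hNp : ¬ p ∣ Nat.card N := fun h => hp.one_lt.ne'
      (Nat.eq_one_of_dvd_coprimes hNcop h dvd_rfl)
    obtain ⟨θ, hθ⟩ := exists_constituent' (N := N) χ
    have hsing : blockOf M (θ : N → ℂ) = {θ} :=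
      blockOf_eq_singleton hM θ fun hd => hNp (hd.trans (Nat.div_dvd_of_dvd (charDegree_dvd_card θ.2)))
    have hb : IsPBlock M ({θ} : Set (IrrCharacter N)) := hsing ▸ isPBlock_blockOf θ
    have hPp := isPGroup_of_isDefectGroup hP
    by_cases hinv : ∀ g, Char.conjChar N g (θ : N → ℂ) = (θ : N → ℂ)
    swap
    · -- pass to the inertia group
      set T := inertia N (θ : N → ℂ) with hTdef
      haveI := Fintype.ofFinite T
      have hNT : N ≤ T := le_inertia N (IsCharacter.isClassFunction (IsIrrCharacter.isCharacter θ.2))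
      have hTlt : Nat.card T < Nat.card G := by
        rw [← T.card_mul_index]
        refine lt_mul_of_one_lt_right Nat.card_pos (Subgroup.one_lt_index_of_ne_top fun h => hinv fun g => ?_)
        have : g ∈ T := by rw [h]; exact Subgroup.mem_top g
        exact (mem_inertia N).1 this
      have hT : IsBlockStab T ({θ} : Set (IrrCharacter N)) := by
        refine isBlockStab_of_forall hb fun g => ⟨fun hg θ₀ hθ₀ θ' h' => ?_, fun h => ?_⟩
        · rw [Set.mem_singleton_iff] at hθ₀ ⊢
          subst hθ₀
          exact Subtype.ext (funext fun n => (h' n).trans (congrFun ((mem_inertia N).1 hg) n))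
        · refine (mem_inertia N).2 (funext fun n => ?_)
          have h1 := h θ rfl ⟨_, isIrrCharacter_comp_mulEquiv
            (MulAut.conjNormal g : N ≃* N) θ.2⟩ (fun n => congrArg (θ : N → ℂ) (Subtype.ext (by simp)))
          rw [Set.mem_singleton_iff] at h1
          have h2 := congrFun (congrArg Subtype.val h1) n
          rw [← h2]
          exact congrArg (θ : N → ℂ) (Subtype.ext (by simp))
      obtain ⟨ψ, hψ, hχψ⟩ := exists_over_indFun hNT hb hT ⟨θ, rfl, hθ⟩
      obtain ⟨B₁, hind, -, -, hmem, -⟩ :=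
        fongReynolds_block hNT hb hT (isPBlock_blockOf ψ) ⟨ψ, self_mem_blockOf ψ, hψ⟩
      have hBB : B₁ = B := isPBlock_eq_of_mem hind.2.1 hB ((hmem χ).2 ⟨ψ, self_mem_blockOf ψ, hχψ⟩) hχ
      subst hBB
      set B' := blockOf M (ψ : T → ℂ) with hB'def
      obtain ⟨D, hD⟩ := exists_isDefectGroup (p := p) (isPBlock_blockOf ψ : IsPBlock M B')
      have hihT := ih T (Nat.le_of_lt_succ (lt_of_lt_of_le hTlt hcard)) (isPSolvable_subgroup hsolv T)
        B' (isPBlock_blockOf ψ) D hD ψ (self_mem_blockOf ψ)
      have hi0 : T.index ≠ 0 := Subgroup.index_ne_zero_of_finite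
      have hdeg : ∀ (χ' : IrrCharacter G) (ψ' : IrrCharacter T), (χ' : G → ℂ) = indFun T (ψ' : T → ℂ) →
          (charDegree (χ' : G → ℂ)).factorization p =
            T.index.factorization p + (charDegree (ψ' : T → ℂ)).factorization p := by
        intro χ' ψ' e
        rw [e, charDegree_indFun, Nat.factorization_mul hi0 (charDegree_pos ψ'.2).ne',
          Finsupp.add_apply]
      have hGT : (Nat.card G).factorization p =
          (Nat.card T).factorization p + T.index.factorization p := by
        rw [← T.card_mul_index, Nat.factorization_mul Nat.card_pos.ne' hi0, Finsupp.add_apply]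
      have hmin : minVal p B₁ = T.index.factorization p + minVal p B' := by
        obtain ⟨χ₁, hχ₁, e₁⟩ := exists_minVal p (isPBlock_nonempty hind.2.1)
        obtain ⟨ψ₁, hψ₁, e₁'⟩ := (hmem χ₁).1 hχ₁
        obtain ⟨ψ₂, hψ₂, e₂⟩ := exists_minVal p (isPBlock_nonempty hind.1)
        have h1 := hdeg χ₁ ψ₁ e₁'
        have h2 := minVal_le (p := p) hψ₁
        obtain ⟨hirr, -⟩ := isIrr_indFun hNT hb hT (over_of_mem_block hNT hb (fun t ht => (hT t).1 ht)
          hind.1 (self_mem_blockOf ψ) hψ hψ₂)
        have h3 := minVal_le (p := p) ((hmem ⟨_, hirr⟩).2 ⟨ψ₂, hψ₂, rfl⟩)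
        have h4 := hdeg ⟨_, hirr⟩ ψ₂ rfl
        omega
      have hcardD : Nat.card D = Nat.card P := by
        rw [card_defectGroup hM hind.1 hD, card_defectGroup hM hind.2.1 hP, blockDefect_eq,
          blockDefect_eq]
        congr 1
        omega
      obtain ⟨x, hx⟩ := defectGroup_le_of_induced hM hind hD hP
      have he : (D.map T.subtype).map (MulAut.conj x).toMonoidHom = P :=
        Subgroup.eq_of_le_of_card_ge hx (by
          rw [card_map_conj, Subgroup.card_map_of_injective T.subtype_injective, hcardD])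
      have hcen : Nat.card (Subgroup.center D) = Nat.card (Subgroup.center P) :=
        Nat.card_congr (Subgroup.centerCongr ((D.equivMapOfInjective _ T.subtype_injective).trans
          (((D.map T.subtype).equivMapOfInjective _ (MulAut.conj x).injective).trans
            (MulEquiv.subgroupCongr he)))).toEquiv
      have := hdeg χ ψ hχψ
      rw [hcen] at hihT
      omega
    -- the invariant case
    set f := QuotientGroup.mk' N with hf
    set Q := pCore p (G ⧸ N) with hQdef
    set K := Q.comap f with hKdef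
    haveI : K.Normal := Subgroup.Normal.comap inferInstance f
    have hNK : N ≤ K := le_comap_mk' N Q
    haveI := Fintype.ofFinite K
    haveI := Fintype.ofFinite (N.subgroupOf K)
    haveI : (N.subgroupOf K).Normal := Subgroup.normal_subgroupOf
    let φ := Subgroup.subgroupOfEquivOfLe hNK
    let θ' : IrrCharacter (N.subgroupOf K) := ⟨_, isIrrCharacter_comp_mulEquiv φ θ.2⟩
    have hN'p : ¬ p ∣ Nat.card (N.subgroupOf K) := by rw [Nat.card_congr φ.toEquiv]; exact hNp
    have hsing' : blockOf M (θ' : N.subgroupOf K → ℂ) = {θ'} :=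
      blockOf_eq_singleton hM θ' fun hd =>
        hN'p (hd.trans (Nat.div_dvd_of_dvd (charDegree_dvd_card θ'.2)))
    have hb' : IsPBlock M ({θ'} : Set (IrrCharacter (N.subgroupOf K))) := hsing' ▸ isPBlock_blockOf θ'
    have hQp : IsPGroup p Q := isPGroup_pCore p _
    obtain ⟨k, hk⟩ := IsPGroup.iff_card.1 hQp
    have hidx : (N.subgroupOf K).index = p ^ k := by
      rw [← hk, ← relIndex_comap_mk' N Q]; rfl
    obtain ⟨η, hχη, hηθ⟩ := exists_mid_constituent hNK χ θ hθ
    set b := blockOf M (η : K → ℂ) with hbdef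
    have hcov : Covers B b := ⟨χ, hχ, η, self_mem_blockOf η, hχη⟩
    have hcov' : Covers b ({θ'} : Set (IrrCharacter (N.subgroupOf K))) :=
      ⟨η, self_mem_blockOf η, θ', rfl, hηθ⟩
    have hfix : ∀ g : K, conjBlk (mem_normalizer_of_normal (N := N.subgroupOf K) g)
        ({θ'} : Set (IrrCharacter (N.subgroupOf K))) = {θ'} := by
      intro g
      rw [conjBlk, Set.image_singleton]
      refine congrArg ({·}) (Subtype.ext (funext fun n => ?_))
      rw [conjIrr_apply]
      show (θ : N → ℂ) (φ _) = (θ : N → ℂ) (φ n)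
      have := congrFun (hinv ((g : G))⁻¹) (φ n)
      rw [← this]
      refine congrArg (θ : N → ℂ) (Subtype.ext ?_)
      show ((g⁻¹ * (n : K) * g : K) : G) = (g : G)⁻¹ * ((n : K) : G) * ((g : G)⁻¹)⁻¹
      simp
    obtain ⟨R₀, hR₀⟩ := exists_isDefectGroup (p := p) (isPBlock_blockOf η : IsPBlock M b)
    obtain ⟨-, -, hdefb⟩ := fong_max hM hb' hfix (isPBlock_blockOf η) hcov'
      (fun B' hB' hc' => (covers_unique hM ⟨k, hidx⟩ hB' (isPBlock_blockOf η) hb' hc' hcov' ▸ le_refl _))
      hR₀
    have hdθ : blockDefect p ({θ'} : Set (IrrCharacter (N.subgroupOf K))) = 0 := by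
      rw [blockDefect_eq, Nat.factorization_eq_zero_of_not_dvd hN'p, Nat.zero_sub]
    rw [hdθ, zero_add, pPow_factorization hp hidx] at hdefb
    obtain ⟨g, -, hDK⟩ := exists_covered_defectGroup hM hB (isPBlock_blockOf η) hcov hP
    have hback := isDefectGroup_comp (normConj (mem_normalizer_of_normal (N := K) g⁻¹)) hDK
    have himg : compIrr (normConj (mem_normalizer_of_normal (N := K) g⁻¹)) ''
        conjBlk (mem_normalizer_of_normal g) b = b := by
      show conjBlk (mem_normalizer_of_normal g⁻¹) (conjBlk (mem_normalizer_of_normal g) b) = b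
      rw [← conjBlk_mul]
      convert conjBlk_one (one_mem _) b
      exact inv_mul_cancel g
    rw [himg] at hback
    have hRcard : Nat.card (P ⊓ K : Subgroup G) = Nat.card Q := by
      rw [hk, ← hdefb, ← card_defectGroup hM (isPBlock_blockOf η) hback,
        Subgroup.card_map_of_injective (MulEquiv.injective _),
        Nat.card_congr (Subgroup.subgroupOfEquivOfLe inf_le_right).toEquiv]
    have hdisj : ∀ x ∈ P, x ∈ N → x = 1 := fun x hxP hxN => by
      obtain ⟨j, hj⟩ := IsPGroup.iff_orderOf.1 hPp ⟨x, hxP⟩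
      rw [Subgroup.orderOf_mk] at hj
      have h1 : orderOf x ∣ Nat.card N := by
        rw [← Subgroup.orderOf_mk (H := N) x hxN]; exact orderOf_dvd_natCard _
      rw [← orderOf_eq_one_iff]
      exact Nat.eq_one_of_dvd_coprimes (hNcop.pow_right j) h1 (hj ▸ dvd_rfl)
    have hmapK : (P ⊓ K).map f = Q := by
      refine Subgroup.eq_of_le_of_card_ge ?_ ?_
      · rintro _ ⟨x, hx, rfl⟩; exact hx.2
      · rw [← hRcard]
        refine Nat.card_le_card_of_injective
          (fun x : (P ⊓ K : Subgroup G) => (⟨f x, ⟨_, x.2, rfl⟩⟩ : (P ⊓ K).map f)) fun a b e => ?_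
        have h1 : f a = f b := congrArg Subtype.val e
        have h2 : (a : G)⁻¹ * b ∈ N := QuotientGroup.eq.1 h1
        exact Subtype.ext (inv_mul_eq_one.1 (hdisj _ (mul_mem (inv_mem a.2.1) b.2.1) h2))
    set Z : Subgroup (G ⧸ N) := (Subgroup.center Q).map Q.subtype with hZdef
    have hCQ : Subgroup.centralizer (Q : Set (G ⧸ N)) ≤ Q :=
      centralizer_pCore_le_of_isPSolvable (isPSolvable_quotient hsolv N) (pPrimeCore_quotient_pPrimeCore p)
    have hzmem : ∀ z : Subgroup.center P, f ((z : P) : G) ∈ Z := by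
      intro z
      have hz : f ((z : P) : G) ∈ Subgroup.centralizer (Q : Set (G ⧸ N)) := by
        refine Subgroup.mem_centralizer_iff.2 fun q hq => ?_
        rw [SetLike.mem_coe, ← hmapK] at hq
        obtain ⟨w, hw, rfl⟩ := hq
        rw [← map_mul, ← map_mul]
        exact congrArg f (congrArg Subtype.val (Subgroup.mem_center_iff.1 z.2 ⟨w, hw.1⟩))
      refine ⟨⟨_, hCQ hz⟩, Subgroup.mem_center_iff.2 fun q => Subtype.ext ?_, rfl⟩
      exact Subgroup.mem_centralizer_iff.1 hz q q.2
    have hcle : Nat.card (Subgroup.center P) ≤ Nat.card Z := by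
      refine Nat.card_le_card_of_injective (fun z => (⟨_, hzmem z⟩ : Z)) fun a b e => ?_
      have h1 : f ((a : P) : G) = f ((b : P) : G) := congrArg Subtype.val e
      have h2 : ((a : P) : G)⁻¹ * ((b : P) : G) ∈ N := QuotientGroup.eq.1 h1
      exact Subtype.ext (Subtype.ext (inv_mul_eq_one.1
        (hdisj _ (mul_mem (inv_mem (a : P).2) (b : P).2) h2)))
    have hZQ : Z ≤ Q := Subgroup.map_subtype_le _
    obtain ⟨i, hi⟩ := IsPGroup.iff_card.1 (hPp.to_subgroup (Subgroup.center P))
    obtain ⟨j, hj⟩ := IsPGroup.iff_card.1 (hQp.to_le hZQ)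
    have hij : i ≤ j := by
      rw [hi, hj] at hcle
      exact (Nat.pow_le_pow_iff_right hp.one_lt).1 hcle
    haveI : Z.Normal := inferInstanceAs ((Subgroup.center Q).map Q.subtype).Normal
    set H := Z.comap f with hHdef
    haveI : H.Normal := Subgroup.Normal.comap inferInstance f
    have hNH : N ≤ H := le_comap_mk' N Z
    haveI := Fintype.ofFinite H
    haveI := Fintype.ofFinite (N.subgroupOf H)
    haveI : (N.subgroupOf H).Normal := Subgroup.normal_subgroupOf
    obtain ⟨ξ, hχξ, hξθ⟩ := exists_mid_constituent hNH χ θ hθ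
    let φH := Subgroup.subgroupOfEquivOfLe hNH
    have hidxH : (N.subgroupOf H).index = p ^ j := by
      rw [← hj, ← relIndex_comap_mk' N Z]; rfl
    have hξdeg : (ξ : H → ℂ) 1 = (θ : N → ℂ) 1 := by
      refine (degree_eq_of_abelian_pQuotient hp (N.subgroupOf H) hidxH ?_ ?_
        (isIrrCharacter_comp_mulEquiv φH θ.2) (fun g => funext fun n => ?_) ξ.2 hξθ).trans ?_
      · rw [Nat.card_congr φH.toEquiv]; exact hNcop
      · intro a b
        rw [Subgroup.mem_subgroupOf]
        refine (QuotientGroup.eq_one_iff _).1 ?_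
        show f ((a : G) * b * (a : G)⁻¹ * (b : G)⁻¹) = 1
        simp only [map_mul, map_inv]
        obtain ⟨u, hu, hua⟩ := (show f (a : G) ∈ Z from a.2)
        obtain ⟨v, hv, hvb⟩ := (show f (b : G) ∈ Z from b.2)
        rw [← hua, ← hvb]
        have := congrArg Subtype.val (Subgroup.mem_center_iff.1 hv u)
        simp only [Subgroup.coe_mul] at this
        rw [show Q.subtype u = (u : G ⧸ N) from rfl, show Q.subtype v = (v : G ⧸ N) from rfl, this]
        group
      · show (θ : N → ℂ) (φH _) = (θ : N → ℂ) (φH n)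
        rw [← congrFun (hinv (g : G)) (φH n)]
        exact congrArg (θ : N → ℂ) (Subtype.ext rfl)
      · show (θ : N → ℂ) (φH 1) = (θ : N → ℂ) 1
        rw [map_one]
    have hχc : (χ : G → ℂ) 1 = (charDegree (χ : G → ℂ) : ℂ) :=
      (charDegree_cast (IsIrrCharacter.isCharacter χ.2)).symm
    have hξc : (ξ : H → ℂ) 1 = (charDegree (θ : N → ℂ) : ℂ) :=
      hξdeg.trans (charDegree_cast (IsIrrCharacter.isCharacter θ.2)).symm
    obtain ⟨hdvd, hidxdvd⟩ := degree_ratio_dvd_index χ.2 ξ.2 hχξ hχc hξc
    obtain ⟨e, he⟩ := hdvd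
    have hd0 : 0 < charDegree (θ : N → ℂ) := charDegree_pos θ.2
    rw [he, Nat.mul_div_cancel_left _ hd0] at hidxdvd
    have he0 : e ≠ 0 := fun h => (charDegree_pos χ.2).ne' (by rw [he, h, mul_zero])
    have hi0 : H.index ≠ 0 := Subgroup.index_ne_zero_of_finite
    have h1 : (charDegree (χ : G → ℂ)).factorization p ≤ H.index.factorization p := by
      rw [he, Nat.factorization_mul hd0.ne' he0, Finsupp.add_apply,
        Nat.factorization_eq_zero_of_not_dvd fun h => hNp (h.trans (charDegree_dvd_card θ.2)), zero_add]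
      exact (Nat.factorization_le_iff_dvd he0 hi0).2 hidxdvd p
    have h2 : (Nat.card G).factorization p = j + H.index.factorization p := by
      rw [← N.card_mul_index, ← Subgroup.relIndex_mul_index hNH, relIndex_comap_mk' N Z, hj,
        Nat.factorization_mul Nat.card_pos.ne' (mul_ne_zero (pow_ne_zero _ hp.ne_zero) hi0),
        Nat.factorization_mul (pow_ne_zero _ hp.ne_zero) hi0, Finsupp.add_apply, Finsupp.add_apply,
        pPow_factorization hp rfl, Nat.factorization_eq_zero_of_not_dvd hNp, zero_add]
    rw [pPow_factorization hp hi]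
    omega

/-- The height bound for `p`-solvable groups. -/
theorem height_le_center_index {G : Type u} [Group G] [Finite G] {p : ℕ} [Fact p.Prime]
    {M : Ideal AlgInt} (hM : IsPModular p M) (hsolv : IsPSolvable p G) {B : Set (IrrCharacter G)}
    (hB : IsPBlock M B) {P : Subgroup G} (hP : IsDefectGroup p M B P) {χ : IrrCharacter G} (hχ : χ ∈ B) :
    blockHeight p B (χ : G → ℂ) ≤ ((Subgroup.center P).index).factorization p := by
  haveI := prime_of_isPModular hM
  have hp := (Fact.out : p.Prime)
  have h1 := degree_add_center_le p M hM (Nat.card G) G le_rfl hsolv B hB P hP χ hχ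
  have h2 := minVal_add_height (p := p) hχ
  have h3 : blockDefect p B =
      (Nat.card (Subgroup.center P)).factorization p + (Subgroup.center P).index.factorization p := by
    rw [← Finsupp.add_apply,
      ← Nat.factorization_mul Nat.card_pos.ne' Subgroup.index_ne_zero_of_finite,
      (Subgroup.center P).card_mul_index, pPow_factorization hp (card_defectGroup hM hB hP)]
  obtain ⟨χ₀, hχ₀, e₀⟩ := exists_minVal p (isPBlock_nonempty hB)
  have h4 := degree_factorization_le p χ₀
  rw [blockDefect_eq] at h3
  omega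

end Cfsg.Agent.Block
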