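import Cfsg.Agent.Lib.Block.CentralPPower
import Cfsg.Agent.Lib.Block.WeakOrth
import Cfsg.Agent.Lib.Block.RegInner
import Cfsg.Agent.Lib.Char.Orthogonality

/-!
# Self-centralizing Sylow subgroups of prime order in simple groups with three prime divisors
-/

set_option autoImplicit false
set_option linter.style.haveILetI false

open Cfsg Cfsg.Agent.Char
open scoped ComplexConjugate

namespace Cfsg.Agent.Block

universe u

variable {G : Type u} [Group G] [Finite G]

/-- In a simple group no element of order `p * r` exists when the order is `p^a q^b r`. -/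
theorem false_of_commuting [IsSimpleGroup G] {p q r a b : ℕ} (hp : p.Prime) (hq : q.Prime) (hr : r.Prime)
    (hpq : p ≠ q) (hpr : p ≠ r) (hqr : q ≠ r) (hcard : Nat.card G = p ^ a * q ^ b * r)
    {z y : G} (hz : orderOf z = p) (hy : orderOf y = r) (hzy : Commute z y) : False := by
  classical
  haveI := Fact.mk hp
  haveI := Fintype.ofFinite (IrrCharacter G)
  obtain ⟨M, hM⟩ := exists_isPModular hp
  obtain ⟨Mr, hMr⟩ := exists_isPModular hr
  haveI := prime_of_isPModular hM
  have hna : ¬ ∀ a b : G, a * b = b * a := by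
    intro hab
    letI : CommGroup G := { (inferInstance : Group G) with mul_comm := hab }
    have hP : (Nat.card G).Prime := IsSimpleGroup.prime_card (α := G)
    have h1 : orderOf z ∣ Nat.card G := orderOf_dvd_natCard z
    have h2 : orderOf y ∣ Nat.card G := orderOf_dvd_natCard y
    rw [hz] at h1
    rw [hy] at h2
    exact hpr (((Nat.prime_dvd_prime_iff_eq hp hP).1 h1).trans ((Nat.prime_dvd_prime_iff_eq hr hP).1 h2).symm)
  have hZ : Subgroup.center G = ⊥ :=
    (Subgroup.Normal.eq_bot_or_eq_top inferInstance).resolve_right fun e => hna fun a b =>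
      Subgroup.mem_center_iff.1 (e ▸ Subgroup.mem_top b) a
  have hord : orderOf (z * y) = p * r := by
    rw [hzy.orderOf_mul_eq_mul_orderOf_of_coprime (by rw [hz, hy]; exact (Nat.coprime_primes hp hr).2 hpr), hz, hy]
  let one : IrrCharacter G := ⟨fun _ => 1, isIrrCharacter_one⟩
  set B := principalBlock M G with hBdef
  have hB : IsPBlock M B := ⟨one, rfl⟩
  have hone : one ∈ B := self_mem_blockOf one
  have h0 : ∑ᶠ χ ∈ B, (χ : G → ℂ) 1 * conj ((χ : G → ℂ) (z * y)) = 0 :=
    weak_orthogonality hM hB (by rw [orderOf_one]; exact hp.not_dvd_one) (by rw [hord]; exact dvd_mul_right p r)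
  -- every other term is divisible by `q`
  have key : ∀ χ ∈ B, χ ≠ one → ∃ w : ℂ, IsIntegral ℤ w ∧ (χ : G → ℂ) 1 * conj ((χ : G → ℂ) (z * y)) = (q : ℂ) * w := by
    intro χ hχ hne
    have hcast := charDegree_cast (IsIrrCharacter.isCharacter χ.2)
    have hint : IsIntegral ℤ (conj ((χ : G → ℂ) (z * y))) := by
      rw [← IsCharacter.map_inv (IsIrrCharacter.isCharacter χ.2)]
      exact IsCharacter.isIntegral (IsIrrCharacter.isCharacter χ.2) _
    by_cases hqd : q ∣ charDegree (χ : G → ℂ)
    · obtain ⟨k, hk⟩ := hqd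
      refine ⟨(k : ℂ) * conj ((χ : G → ℂ) (z * y)), ?_, ?_⟩
      · exact IsIntegral.mul (by simpa using isIntegral_algebraMap (R := ℤ) (A := ℂ) (x := (k : ℤ))) hint
      · rw [← hcast, hk]; push_cast; ring
    by_cases hrd : r ∣ charDegree (χ : G → ℂ)
    · refine ⟨0, isIntegral_zero, ?_⟩
      haveI := Fact.mk hr
      have hnd : ¬ r ∣ Nat.card G / charDegree (χ : G → ℂ) := by
        intro hd
        obtain ⟨k, hk⟩ := charDegree_dvd_card χ.2
        rw [hk, Nat.mul_div_cancel_left _ (charDegree_pos χ.2)] at hd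
        have : r * r ∣ p ^ a * q ^ b * r := hcard ▸ hk ▸ mul_dvd_mul hrd hd
        have h3 : r ∣ p ^ a * q ^ b := Nat.dvd_of_mul_dvd_mul_right hr.pos this
        rcases hr.dvd_mul.1 h3 with h | h
        · exact hpr ((Nat.prime_dvd_prime_iff_eq hr hp).1 (hr.dvd_of_dvd_pow h)).symm
        · exact hqr ((Nat.prime_dvd_prime_iff_eq hr hq).1 (hr.dvd_of_dvd_pow h)).symm
      rw [apply_eq_zero_of_singleton hMr (blockOf_eq_singleton hMr χ hnd) (g := z * y)
        (by rw [hord]; exact dvd_mul_left r p), map_zero, mul_zero, mul_zero]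
    exfalso
    obtain ⟨P⟩ := Sylow.nonempty (p := p) (G := G)
    have hdvd : charDegree (χ : G → ℂ) ∣ p ^ a := by
      have h := charDegree_dvd_card χ.2
      rw [hcard] at h
      exact (Nat.Coprime.dvd_of_dvd_mul_right (Nat.Coprime.pow_right b (hq.coprime_iff_not_dvd.2 hqd).symm)
        (Nat.Coprime.dvd_of_dvd_mul_right (hr.coprime_iff_not_dvd.2 hrd).symm h))
    obtain ⟨i, -, hi⟩ := (Nat.dvd_prime_pow hp).1 hdvd
    have hfaith : ∀ g : G, (χ : G → ℂ) g = (χ : G → ℂ) 1 → g = 1 := by
      have hχc := IsIrrCharacter.isCharacter χ.2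
      let K : Subgroup G :=
        { carrier := {g | (χ : G → ℂ) g = (χ : G → ℂ) 1}
          one_mem' := rfl
          mul_mem' := fun {u v} hu hv => by
            show (χ : G → ℂ) (u * v) = (χ : G → ℂ) 1
            rw [(IsCharacter.apply_mul_of_eq_one hχc hu v).1, hv]
          inv_mem' := fun {u} hu => by
            have h := (IsCharacter.apply_mul_of_eq_one hχc hu u⁻¹).1
            rw [mul_inv_cancel] at h
            exact h.symm }
      have hKn : K.Normal := ⟨fun g hg x => by
        show (χ : G → ℂ) (x * g * x⁻¹) = _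
        rw [IsCharacter.isClassFunction hχc g x]
        exact hg⟩
      rcases hKn.eq_bot_or_eq_top with h | h
      · exact fun g hg => Subgroup.mem_bot.1 (h ▸ (hg : g ∈ K))
      · exfalso
        have hconst : ∀ g, (χ : G → ℂ) g = (χ : G → ℂ) 1 := fun g =>
          show g ∈ K from h ▸ Subgroup.mem_top g
        haveI := Fintype.ofFinite G
        have h1 := IsIrrCharacter.classInner_eq_zero χ.2 one.2 (fun e => hne (Subtype.ext e))
        rw [classInner, Finset.sum_congr rfl (g := fun _ => (χ : G → ℂ) 1) fun g _ => by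
          rw [hconst g]; simp [one], Finset.sum_const, nsmul_eq_mul, Finset.card_univ, ← Nat.card_eq_fintype_card,
          ← mul_assoc, inv_mul_cancel₀ (Nat.cast_ne_zero.2 Nat.card_pos.ne'), one_mul] at h1
        exact IsIrrCharacter.apply_one_ne_zero χ.2 h1
    obtain ⟨b', hb'⟩ := IsPGroup.iff_card.1 (P.2.to_subgroup (Subgroup.center ↥(P : Subgroup G)))
    have hle := factorization_center_le (χ := χ) (ψ := one) hM P hb'
      (fun x hx hc hx1 => apply_eq_zero_of_ppower P hZ χ hfaith hi hx hc hx1)
      (sameBlock_symm (show SameBlock M (one : G → ℂ) (χ : G → ℂ) from hχ))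
    have hd1 : charDegree (one : G → ℂ) = 1 := by
      have := charDegree_cast (IsIrrCharacter.isCharacter one.2)
      rw [show (one : G → ℂ) 1 = 1 from rfl, Nat.cast_eq_one] at this
      exact this
    rw [hd1, Nat.factorization_one, Finsupp.zero_apply, Nat.le_zero] at hle
    haveI : Nontrivial (P : Subgroup G) := by
      refine (Subgroup.nontrivial_iff_ne_bot _).2 fun e => ?_
      have := P.dvd_card_of_dvd_card (hz ▸ orderOf_dvd_natCard z)
      rw [e, Subgroup.card_bot] at this
      exact hp.not_dvd_one this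
    haveI : Nontrivial (Subgroup.center ↥(P : Subgroup G)) := P.2.center_nontrivial
    have := Finite.one_lt_card (α := Subgroup.center ↥(P : Subgroup G))
    rw [hb', hle, pow_zero] at this
    exact lt_irrefl 1 this
  choose! w hw hweq using key
  rw [finsum_mem_eq_finite_toFinset_sum _ B.toFinite,
    ← Finset.add_sum_erase _ _ (B.toFinite.mem_toFinset.2 hone),
    Finset.sum_congr rfl fun χ hχ => hweq χ (B.toFinite.mem_toFinset.1 (Finset.mem_of_mem_erase hχ))
      (Finset.ne_of_mem_erase hχ), ← Finset.mul_sum] at h0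
  simp only [one, map_one, mul_one] at h0
  have h1 : IsIntegral ℤ ((1 : ℕ) / (q : ℂ)) := by
    have hint : IsIntegral ℤ (∑ χ ∈ B.toFinite.toFinset.erase one, w χ) := IsIntegral.sum _ fun χ hχ =>
      hw χ (B.toFinite.mem_toFinset.1 (Finset.mem_of_mem_erase hχ)) (Finset.ne_of_mem_erase hχ)
    have e : ((1 : ℕ) : ℂ) / (q : ℂ) = -(∑ χ ∈ B.toFinite.toFinset.erase one, w χ) := by
      have hq0 : (q : ℂ) ≠ 0 := Nat.cast_ne_zero.mpr hq.ne_zero
      field_simp
      push_cast
      linear_combination h0
    rw [e]; exact hint.neg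
  exact hq.one_lt.ne' (Nat.dvd_one.mp (nat_dvd_of_isIntegral_div hq.ne_zero h1))

end Cfsg.Agent.Block
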