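import Cfsg.Agent.Lib.Block.PairMax

/-!
# Defect groups of the blocks in Brauer pairs
-/

set_option autoImplicit false

open Cfsg.Agent.Char
open scoped ComplexConjugate Pointwise

namespace Cfsg.Agent.Block

universe u

local notation "CG(" P ")" => Subgroup.centralizer (SetLike.coe P)

variable {G : Type u} [Group G] [Finite G] {M : Ideal AlgInt} [hMp : M.IsPrime] {p : ℕ}

/-- Elements of `Q C(Q)` fix every block of `C(Q)`. -/
theorem conjBlk_of_mem_sup {Q : Subgroup G} {f : Set (IrrCharacter (Subgroup.centralizer (Q : Set G)))}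
    {r : G} (hr : r ∈ Q ⊔ Subgroup.centralizer (Q : Set G)) :
    ∃ hq : r ∈ Subgroup.normalizer (Subgroup.centralizer (Q : Set G) : Set G), conjBlk hq f = f := by
  have hrN : r ∈ Subgroup.normalizer (Q : Set G) :=
    (sup_le Subgroup.le_normalizer (centralizer_le_normalizer' Q)) hr
  refine ⟨le_normalizer_centralizer (le_refl (Subgroup.normalizer (Q : Set G))) hrN, ?_⟩
  rw [← SetLike.mem_coe, Subgroup.coe_mul_of_right_le_normalizer_left Q _ (centralizer_le_normalizer' Q)]
    at hr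
  obtain ⟨q, hq, c, hc, rfl⟩ := hr
  rw [conjBlk, Set.image_congr (g := id) fun θ _ => ?_, Set.image_id]
  refine Subtype.ext (funext fun k => ?_)
  rw [conjIrr_apply]
  refine (IsIrrCharacter.apply_isConj θ.2 (isConj_iff.2 ⟨(⟨c, hc⟩ : CG(Q))⁻¹, ?_⟩ :
    IsConj k (normConj _ k))).symm
  refine Subtype.ext ?_
  show c⁻¹ * (k : G) * c⁻¹⁻¹ = (q * c)⁻¹ * (k : G) * (q * c)
  have h1 : q * (k : G) = (k : G) * q := Subgroup.mem_centralizer_iff.1 k.2 q hq
  calc c⁻¹ * (k : G) * c⁻¹⁻¹ = c⁻¹ * (q⁻¹ * (q * (k : G))) * c := by group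
    _ = (q * c)⁻¹ * (k : G) * (q * c) := by rw [h1]; group

omit [Finite G] hMp in
theorem isBrauerPair_of_le {a b : BrauerPairIdx G}
    (h : Relation.ReflTransGen (NormalSubpairRel p M) a b) (hb : IsBrauerPair p M b.1 b.2) :
    IsBrauerPair p M a.1 a.2 := by
  rcases Relation.ReflTransGen.cases_head h with rfl | ⟨c, hc, -⟩
  · exact hb
  · exact hc.1

variable [Fact p.Prime]

/-- A pair below `(P, e)` has `C_P(Q)` inside a defect group. -/
theorem exists_defectGroup_centralizer (hM : IsPModular p M) {P Q : Subgroup G}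
    {e : Set (IrrCharacter (Subgroup.centralizer (P : Set G)))}
    {f : Set (IrrCharacter (Subgroup.centralizer (Q : Set G)))}
    (hPe : IsBrauerPair p M P e) (hf : IsPBlock M f) (hle : SubpairLE p M Q f P e) :
    ∃ D : Subgroup (Subgroup.centralizer (Q : Set G)), IsDefectGroup p M f D ∧
      (P ⊓ Subgroup.centralizer (Q : Set G)).subgroupOf (Subgroup.centralizer (Q : Set G)) ≤ D := by
  have hQP : Q ≤ P := SubpairLE.le hle
  have hRP : Q ⊔ (P ⊓ CG(Q)) ≤ P := sup_le hQP inf_le_left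
  have hQN : Q ⊔ (P ⊓ CG(Q)) ≤ Subgroup.normalizer (Q : Set G) :=
    sup_le Subgroup.le_normalizer (inf_le_right.trans (centralizer_le_normalizer' Q))
  obtain ⟨g, hg, -⟩ := existsUnique_subpair hM P e hPe _ hRP
  have hgp : IsBrauerPair p M (Q ⊔ (P ⊓ CG(Q))) g := isBrauerPair_of_le hg hPe
  obtain ⟨f', hf', -⟩ := existsUnique_normalSubpair hM hgp le_sup_left hQN
  obtain rfl : f' = f := (existsUnique_subpair hM P e hPe Q hQP).unique
    (Relation.ReflTransGen.head (show NormalSubpairRel p M ⟨Q, f'⟩ ⟨_, g⟩ from hf') hg) hle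
  obtain ⟨η, hη⟩ := isPBlock_nonempty hgp.2
  have hne : brFun M (Q ⊔ (P ⊓ CG(Q))) (embH CG(Q) (blockIdem f')) ≠ 0 := fun h0 => by
    have h1 := IsNormalSubpair.lam_eq_one hf' hη
    rw [lam, Factors.of_le_centralizer le_rfl η _
      (cl_resH (ps_embH (CL.blockIdem hf) (centralizer_le_of_le le_sup_left)))
      (by rw [brFun_embH_resH le_rfl, h0])] at h1
    exact zero_ne_one h1
  obtain ⟨y, hy, hyu⟩ :=
    exists_unit_coeff_of_brFun_ne_zero (isLocElt_embH _ (isLocElt_blockIdem hf)) hne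
  have hyC : y ∈ CG(Q) := centralizer_le_of_le le_sup_left hy
  rw [show y = ((⟨y, hyC⟩ : CG(Q)) : G) from rfl, coeff_embH] at hyu
  obtain ⟨D, hD⟩ := exists_isDefectGroup (p := p) hf
  obtain ⟨z, hz⟩ := defectLE_of_coeff_unit hM hf hD (by simpa [blockIdem] using hyu)
    ((P ⊓ CG(Q)).subgroupOf CG(Q)) ((hPe.1.to_le inf_le_left).comap_subtype) (fun q hq => by
      rw [mem_centralizer_singleton]
      refine Subtype.ext ?_
      exact (Subgroup.mem_centralizer_iff.1 hy (q : G) (Subgroup.mem_sup_right hq)).symm)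
  exact ⟨_, isDefectGroup_map_conj hD z⁻¹, (map_conj_le_iff _ _ z).1 hz⟩

theorem exists_conj_defectGroup (hM : IsPModular p M) {B : Set (IrrCharacter G)} {P Q : Subgroup G}
    {e : Set (IrrCharacter (Subgroup.centralizer (P : Set G)))}
    {f : Set (IrrCharacter (Subgroup.centralizer (Q : Set G)))}
    (hmax : IsMaximalBrauerPair p M B P e) (hf : IsPBlock M f) (hle : SubpairLE p M Q f P e) :
    ∃ x : G, SubpairLE p M (Q.map (MulAut.conj x).toMonoidHom) (conjBlock Q x f) P e ∧
      IsDefectGroup p M (conjBlock Q x f)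
        ((P ⊓ Subgroup.centralizer ((Q.map (MulAut.conj x).toMonoidHom) : Set G)).subgroupOf
          (Subgroup.centralizer ((Q.map (MulAut.conj x).toMonoidHom) : Set G))) := by
  have hP := hmax.1.1.1
  have hQp : IsPGroup p Q := hP.to_le (SubpairLE.le hle)
  have hpairQ := (SubpairLE.pairOf_iff hM hle B).1 hmax.1
  obtain ⟨D, hD⟩ := exists_isDefectGroup (p := p) hf
  obtain ⟨g, hg, S, hS⟩ := id hD
  have hDG : D.map CG(Q).subtype ≤ CG(Q) := Subgroup.map_subtype_le D
  have hRp : IsPGroup p (Q ⊔ D.map CG(Q).subtype : Subgroup G) :=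
    hQp.to_sup_of_normal_left' ((isPGroup_of_isDefectGroup hD).map _)
      (hDG.trans (centralizer_le_normalizer' Q))
  have hRN : Q ⊔ D.map CG(Q).subtype ≤ Subgroup.normalizer (Q : Set G) :=
    sup_le Subgroup.le_normalizer (hDG.trans (centralizer_le_normalizer' Q))
  have hne : brFun M (Q ⊔ D.map CG(Q).subtype) (embH CG(Q) (blockIdem f)) ≠ 0 := fun h0 => by
    have hy : (g : G) ∈ Subgroup.centralizer ((Q ⊔ D.map CG(Q).subtype : Subgroup G) : Set G) := by
      refine mem_centralizer_subgroup.2 (sup_le (mem_centralizer_subgroup.1 g.2) ?_)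
      rintro _ ⟨d, hd, rfl⟩
      rw [mem_centralizer_singleton]
      have hd' : d ∈ Subgroup.centralizer ({g} : Set CG(Q)) := sylowImage_le S (hS.le hd)
      exact (mem_centralizer_singleton.1 hd').map CG(Q).subtype
    have h1 := (brFun_eq_zero_iff (isLocElt_embH _ (isLocElt_blockIdem hf))).1 h0 _ hy
    rw [coeff_embH] at h1
    exact hg.2.1 (by simpa [blockIdem] using h1)
  obtain ⟨e', he'⟩ := exists_extension hM hpairQ.1 hRp le_sup_left hRN
    (fun q hq => conjBlk_of_mem_sup (sup_le_sup_left hDG Q hq)) hne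
  obtain ⟨x, hx⟩ := exists_conj_le_maximal hM hmax ((IsNormalSubpair.pairOf_iff hM he' B).2 hpairQ)
  have hle' : SubpairLE p M (Q.map (MulAut.conj x).toMonoidHom) (conjBlock Q x f) P e :=
    Relation.ReflTransGen.trans (SubpairLE.conj (Relation.ReflTransGen.single (show NormalSubpairRel p M ⟨Q, f⟩ ⟨_, e'⟩ from he')) x) hx
  refine ⟨x, hle', ?_⟩
  have hfx := isPBlock_conjBlock x hf
  obtain ⟨D', hD', hle2⟩ := exists_defectGroup_centralizer hM hmax.1.1 hfx hle'
  have hD'' : IsDefectGroup p M (conjBlock Q x f) (D.map (centConj Q x).symm.toMonoidHom) := by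
    rw [conjBlock_eq]; exact isDefectGroup_comp _ hD
  have hin : D.map (centConj Q x).symm.toMonoidHom ≤
      (P ⊓ Subgroup.centralizer ((Q.map (MulAut.conj x).toMonoidHom) : Set G)).subgroupOf
        (Subgroup.centralizer ((Q.map (MulAut.conj x).toMonoidHom) : Set G)) := by
    rintro _ ⟨d, hd, rfl⟩
    refine ⟨SubpairLE.le hx ⟨(d : G), Subgroup.mem_sup_right ⟨d, hd, rfl⟩, rfl⟩, ?_⟩
    exact ((centConj Q x).symm d).2
  obtain ⟨z, hz⟩ := isDefectGroup_conj hM hfx hD'' hD'
  have hcard : Nat.card D' ≤ Nat.card (D.map (centConj Q x).symm.toMonoidHom) := by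
    rw [hz, card_map_conj]
  rwa [← le_antisymm hin (hle2.trans
    (Subgroup.eq_of_le_of_card_ge (hin.trans hle2) hcard).ge)]

end Cfsg.Agent.Block
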