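import Cfsg.Agent.Lib.Block.BrauerPair
import Cfsg.Agent.Lib.Block.OrbitBlock
import Cfsg.Agent.Lib.Block.CompBlock
import Cfsg.Agent.Lib.Block.DefectCore

/-!
# Maximal Brauer pairs
-/

set_option autoImplicit false

open Cfsg.Agent.Char
open scoped ComplexConjugate

namespace Cfsg.Agent.Block

universe u

local notation "CG(" P ")" => Subgroup.centralizer (SetLike.coe P)

variable {G : Type u} [Group G] [Finite G] {M : Ideal AlgInt} {p : ℕ}

/-- Conjugation by `x` as an isomorphism of centralisers. -/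
noncomputable def centConj (Q : Subgroup G) (x : G) :
    Subgroup.centralizer ((Q.map (MulAut.conj x).toMonoidHom : Subgroup G) : Set G) ≃*
      Subgroup.centralizer (Q : Set G) where
  toFun c := ⟨x⁻¹ * (c : G) * x, Subgroup.mem_centralizer_iff.2 fun q hq => by
    have h := congrArg (fun z => x⁻¹ * z * x)
      (Subgroup.mem_centralizer_iff.1 c.2 (x * q * x⁻¹) ⟨q, hq, rfl⟩)
    simpa [mul_assoc] using h⟩
  invFun c := ⟨x * (c : G) * x⁻¹, Subgroup.mem_centralizer_iff.2 fun y hy => by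
    obtain ⟨q, hq, rfl⟩ := hy
    have h := congrArg (fun z => x * z * x⁻¹) (Subgroup.mem_centralizer_iff.1 c.2 q hq)
    simpa [mul_assoc] using h⟩
  left_inv c := Subtype.ext (by simp [mul_assoc])
  right_inv c := Subtype.ext (by simp [mul_assoc])
  map_mul' a b := Subtype.ext
    (show x⁻¹ * ((a : G) * (b : G)) * x = x⁻¹ * (a : G) * x * (x⁻¹ * (b : G) * x) by group)

omit [Finite G] in
@[simp] theorem coe_centConj (Q : Subgroup G) (x : G)
    (c : Subgroup.centralizer ((Q.map (MulAut.conj x).toMonoidHom : Subgroup G) : Set G)) :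
    ((centConj Q x c : Subgroup.centralizer (Q : Set G)) : G) = x⁻¹ * (c : G) * x := rfl

theorem conjBlock_eq (Q : Subgroup G) (x : G)
    (f : Set (IrrCharacter (Subgroup.centralizer (Q : Set G)))) :
    conjBlock Q x f = compIrr (centConj Q x) '' f := by
  refine Set.ext fun η => ⟨?_, ?_⟩
  · rintro ⟨ξ, hξ, h⟩
    refine ⟨ξ, hξ, Subtype.ext (funext fun c => ?_)⟩
    rw [compIrr_apply]
    exact (h (centConj Q x c) c
      (show (c : G) = x * (x⁻¹ * (c : G) * x) * x⁻¹ by group)).symm
  · rintro ⟨ξ, hξ, rfl⟩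
    refine ⟨ξ, hξ, fun c c' hc => ?_⟩
    show (compIrr (centConj Q x) ξ : _ → ℂ) c' = _
    rw [compIrr_apply]
    exact congrArg _ (Subtype.ext (show x⁻¹ * (c' : G) * x = (c : G) by rw [hc]; group))

omit [Finite G] in
theorem irr_congr {K : Subgroup G} (θ : IrrCharacter K) {a b : K} (h : (a : G) = (b : G)) :
    (θ : K → ℂ) a = (θ : K → ℂ) b := by rw [Subtype.ext h]

/-- Equality of indexed pairs. -/
theorem pairIdx_ext {Q Q' : Subgroup G} (h : Q = Q')
    {f : Set (IrrCharacter (Subgroup.centralizer (Q : Set G)))}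
    {f' : Set (IrrCharacter (Subgroup.centralizer (Q' : Set G)))}
    (hmem : ∀ (ξ : IrrCharacter (Subgroup.centralizer (Q : Set G)))
      (ξ' : IrrCharacter (Subgroup.centralizer (Q' : Set G))),
      (∀ (g : G) (hg : g ∈ Subgroup.centralizer (Q : Set G))
        (hg' : g ∈ Subgroup.centralizer (Q' : Set G)),
        (ξ : Subgroup.centralizer (Q : Set G) → ℂ) ⟨g, hg⟩ =
          (ξ' : Subgroup.centralizer (Q' : Set G) → ℂ) ⟨g, hg'⟩) → (ξ ∈ f ↔ ξ' ∈ f')) :
    (⟨Q, f⟩ : BrauerPairIdx G) = ⟨Q', f'⟩ := by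
  subst h
  have : f = f' := Set.ext fun ξ => hmem ξ ξ fun _ _ _ => rfl
  rw [this]

theorem mem_conjBlock_iff (Q : Subgroup G) (x : G)
    (f : Set (IrrCharacter (Subgroup.centralizer (Q : Set G))))
    (η : IrrCharacter (Subgroup.centralizer ((Q.map (MulAut.conj x).toMonoidHom : Subgroup G) : Set G))) :
    η ∈ conjBlock Q x f ↔ compIrr (centConj Q x).symm η ∈ f := by
  rw [conjBlock_eq]
  constructor
  · rintro ⟨ξ, hξ, rfl⟩
    convert hξ
    refine Subtype.ext (funext fun c => ?_)
    rw [compIrr_apply, compIrr_apply, MulEquiv.apply_symm_apply]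
  · exact fun h => ⟨_, h, compIrr_symm _ η⟩

theorem conjBlock_conjBlock (Q : Subgroup G) (x y : G)
    (f : Set (IrrCharacter (Subgroup.centralizer (Q : Set G)))) :
    (⟨(Q.map (MulAut.conj x).toMonoidHom).map (MulAut.conj y).toMonoidHom,
      conjBlock _ y (conjBlock Q x f)⟩ : BrauerPairIdx G) =
      ⟨Q.map (MulAut.conj (y * x)).toMonoidHom, conjBlock Q (y * x) f⟩ := by
  refine pairIdx_ext (map_conj_mul Q y x).symm fun ξ ξ' h => ?_
  rw [mem_conjBlock_iff, mem_conjBlock_iff, mem_conjBlock_iff]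
  have : compIrr (centConj Q x).symm (compIrr (centConj (Q.map (MulAut.conj x).toMonoidHom) y).symm ξ) =
      compIrr (centConj Q (y * x)).symm ξ' := by
    refine Subtype.ext (funext fun c => ?_)
    simp only [compIrr_apply]
    refine Eq.trans (irr_congr ξ (?_ : _ = y * x * (c : G) * (y * x)⁻¹))
      ((h (y * x * (c : G) * (y * x)⁻¹) ?_ ?_).trans (irr_congr ξ' rfl))
    · show y * (x * (c : G) * x⁻¹) * y⁻¹ = _
      group
    · have := ((centConj (Q.map (MulAut.conj x).toMonoidHom) y).symm ((centConj Q x).symm c)).2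
      have e : y * (x * (c : G) * x⁻¹) * y⁻¹ = y * x * (c : G) * (y * x)⁻¹ := by group
      exact e ▸ this
    · exact ((centConj Q (y * x)).symm c).2
  rw [this]

theorem coeff_embH_conjBlock (Q : Subgroup G) (x g : G)
    (f : Set (IrrCharacter (Subgroup.centralizer (Q : Set G)))) :
    (embH (Subgroup.centralizer ((Q.map (MulAut.conj x).toMonoidHom : Subgroup G) : Set G))
      (blockIdem (conjBlock Q x f))).coeff g =
      (embH (Subgroup.centralizer (Q : Set G)) (blockIdem f)).coeff (x⁻¹ * g * x) := by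
  by_cases hg : g ∈ Subgroup.centralizer ((Q.map (MulAut.conj x).toMonoidHom : Subgroup G) : Set G)
  · rw [show g = ((⟨g, hg⟩ : Subgroup.centralizer
      ((Q.map (MulAut.conj x).toMonoidHom : Subgroup G) : Set G)) : G) from rfl, coeff_embH,
      ← coe_centConj Q x, coeff_embH, conjBlock_eq]
    simp only [blockIdem, coeff_mkA, blockCoeff_comp]
  · have : x⁻¹ * g * x ∉ Subgroup.centralizer (Q : Set G) := fun h => hg (by
      have h2 : x * (x⁻¹ * g * x) * x⁻¹ ∈
          Subgroup.centralizer ((Q.map (MulAut.conj x).toMonoidHom : Subgroup G) : Set G) :=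
        ((centConj Q x).symm ⟨_, h⟩).2
      rwa [show x * (x⁻¹ * g * x) * x⁻¹ = g by group] at h2)
    rw [coeff_embH_of_notMem _ _ hg, coeff_embH_of_notMem _ _ this]

theorem isPBlock_conjBlock {Q : Subgroup G} (x : G)
    {f : Set (IrrCharacter (Subgroup.centralizer (Q : Set G)))} (hf : IsPBlock M f) :
    IsPBlock M (conjBlock Q x f) := by
  rw [conjBlock_eq]; exact isPBlock_comp _ hf

variable [hMp : M.IsPrime]

theorem lam_conj {R : Subgroup G} (x : G) (ξ : IrrCharacter (Subgroup.centralizer (R : Set G)))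
    {z z' : MonoidAlgebra ℂ G} (h : ∀ g, z'.coeff g = z.coeff (x⁻¹ * g * x)) :
    lam M (Subgroup.centralizer ((R.map (MulAut.conj x).toMonoidHom : Subgroup G) : Set G))
      (compIrr (centConj R x) ξ) z' = lam M (Subgroup.centralizer (R : Set G)) ξ z := by
  rw [lam, lam, ro, ro]
  congr 1
  rw [show resH (Subgroup.centralizer ((R.map (MulAut.conj x).toMonoidHom : Subgroup G) : Set G)) z' =
    mkA (fun c => (fun d : Subgroup.centralizer (R : Set G) => z.coeff (d : G)) (centConj R x c)) from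
      MonoidAlgebra.ext (Finsupp.ext fun c => by rw [coeff_resH, coeff_mkA, h]; rfl)]
  exact omega_mkA_comp (centConj R x) (ξ : _ → ℂ) (fun d => z.coeff (d : G))

omit [Finite G] hMp in
theorem map_conj_normalizer {P Q : Subgroup G} (h : P ≤ Subgroup.normalizer (Q : Set G)) (x : G) :
    P.map (MulAut.conj x).toMonoidHom ≤
      Subgroup.normalizer ((Q.map (MulAut.conj x).toMonoidHom : Subgroup G) : Set G) := by
  rintro _ ⟨q, hq, rfl⟩
  rw [Subgroup.mem_normalizer_iff]
  intro y
  have hn := Subgroup.mem_normalizer_iff.1 (h hq)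
  constructor
  · rintro ⟨a, ha, rfl⟩
    exact ⟨q * a * q⁻¹, (hn a).1 ha, by simp [mul_assoc]⟩
  · rintro ⟨a, ha, hy⟩
    refine ⟨q⁻¹ * a * q, (hn _).2 (by simpa [mul_assoc] using ha), ?_⟩
    have hy' : x * a * x⁻¹ = x * q * x⁻¹ * y * (x * q * x⁻¹)⁻¹ := hy
    show x * (q⁻¹ * a * q) * x⁻¹ = y
    calc x * (q⁻¹ * a * q) * x⁻¹ = (x * q * x⁻¹)⁻¹ * (x * a * x⁻¹) * (x * q * x⁻¹) := by group
      _ = y := by rw [hy']; group

theorem IsBrauerPair.conj {Q : Subgroup G}
    {f : Set (IrrCharacter (Subgroup.centralizer (Q : Set G)))} (h : IsBrauerPair p M Q f) (x : G) :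
    IsBrauerPair p M (Q.map (MulAut.conj x).toMonoidHom) (conjBlock Q x f) :=
  ⟨h.1.map _, isPBlock_conjBlock x h.2⟩

theorem IsBrauerPairOf.conj {B : Set (IrrCharacter G)} {Q : Subgroup G}
    {f : Set (IrrCharacter (Subgroup.centralizer (Q : Set G)))} (h : IsBrauerPairOf p M B Q f) (x : G) :
    IsBrauerPairOf p M B (Q.map (MulAut.conj x).toMonoidHom) (conjBlock Q x f) := by
  obtain ⟨ξ, hξ⟩ := isPBlock_nonempty h.1.2
  have hmem : compIrr (centConj Q x) ξ ∈ conjBlock Q x f := by
    rw [conjBlock_eq]; exact ⟨ξ, hξ, rfl⟩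
  rw [isBrauerPairOf_iff hmem]
  refine ⟨IsBrauerPair.conj h.1 x, h.2.1, ?_⟩
  rw [lam_conj x ξ (z := blockIdem B) fun g => ?_]
  · exact ((isBrauerPairOf_iff hξ).1 h).2.2
  · have h1 := (isCentralElt_blockIdem B) g x⁻¹
    rw [inv_inv] at h1
    exact h1.symm

theorem IsNormalSubpair.conj {Q R : Subgroup G}
    {f : Set (IrrCharacter (Subgroup.centralizer (Q : Set G)))}
    {g : Set (IrrCharacter (Subgroup.centralizer (R : Set G)))}
    (h : IsNormalSubpair p M Q f R g) (x : G) :
    IsNormalSubpair p M (Q.map (MulAut.conj x).toMonoidHom) (conjBlock Q x f)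
      (R.map (MulAut.conj x).toMonoidHom) (conjBlock R x g) := by
  obtain ⟨ξ, hξ⟩ := isPBlock_nonempty h.2.1.2
  have hmem : compIrr (centConj R x) ξ ∈ conjBlock R x g := by
    rw [conjBlock_eq]; exact ⟨ξ, hξ, rfl⟩
  refine isNormalSubpair_of_lam (IsBrauerPair.conj h.1 x) (IsBrauerPair.conj h.2.1 x)
    (Subgroup.map_mono h.2.2.1) (map_conj_normalizer h.2.2.2.1 x) ?_ hmem ?_
  · intro y hy
    have hy' := le_normalizer_centralizer (map_conj_normalizer h.2.2.2.1 x) hy
    obtain ⟨q, hq, rfl⟩ := hy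
    obtain ⟨hqN, he⟩ := IsNormalSubpair.fixed h q hq
    refine ⟨hy', ?_⟩
    conv_rhs => rw [← he]
    rw [conjBlock_eq, conjBlock_eq, conjBlk, conjBlk, Set.image_image, Set.image_image]
    refine Set.image_congr fun θ _ => Subtype.ext (funext fun c => ?_)
    simp only [compIrr_apply, conjIrr_apply]
    refine congrArg (θ : Subgroup.centralizer (Q : Set G) → ℂ) (Subtype.ext ?_)
    show x⁻¹ * ((x * q * x⁻¹)⁻¹ * (c : G) * (x * q * x⁻¹)) * x = q⁻¹ * (x⁻¹ * (c : G) * x) * q
    group
  · rw [lam_conj x ξ fun a => coeff_embH_conjBlock Q x a f]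
    exact IsNormalSubpair.lam_eq_one h hξ

theorem SubpairLE.conj {a b : BrauerPairIdx G}
    (h : Relation.ReflTransGen (NormalSubpairRel p M) a b) (x : G) :
    Relation.ReflTransGen (NormalSubpairRel p M)
      ⟨a.1.map (MulAut.conj x).toMonoidHom, conjBlock a.1 x a.2⟩
      ⟨b.1.map (MulAut.conj x).toMonoidHom, conjBlock b.1 x b.2⟩ :=
  h.lift (fun c : BrauerPairIdx G => (⟨c.1.map (MulAut.conj x).toMonoidHom, conjBlock c.1 x c.2⟩ :
    BrauerPairIdx G)) fun _ _ hn => IsNormalSubpair.conj hn x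

/-- The Brauer image of the block at a pair is non-zero. -/
theorem brFun_ne_zero_of_pairOf {B : Set (IrrCharacter G)} {Q : Subgroup G}
    {f : Set (IrrCharacter (Subgroup.centralizer (Q : Set G)))} (h : IsBrauerPairOf p M B Q f) :
    brFun M Q (blockIdem B) ≠ 0 := by
  obtain ⟨ξ, hξ⟩ := isPBlock_nonempty h.1.2
  intro h0
  have h1 := ((isBrauerPairOf_iff hξ).1 h).2.2
  rw [lam, Factors.of_le_centralizer le_rfl ξ _ (cl_resH ((CL.blockIdem h.2.1).ps _))
    (by rw [brFun_embH_resH le_rfl, h0])] at h1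
  exact zero_ne_one h1

/-- A pair extends to a group on which its block is visible. -/
theorem exists_extension (hM : IsPModular p M) {Q R : Subgroup G}
    {f : Set (IrrCharacter (Subgroup.centralizer (Q : Set G)))} (hf : IsBrauerPair p M Q f)
    (hR : IsPGroup p R) (hQR : Q ≤ R) (hRN : R ≤ Subgroup.normalizer (Q : Set G))
    (hfix : ∀ q ∈ R, ∃ hq : q ∈ Subgroup.normalizer (Subgroup.centralizer (Q : Set G) : Set G),
      conjBlk hq f = f)
    (hne : brFun M R (embH (Subgroup.centralizer (Q : Set G)) (blockIdem f)) ≠ 0) :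
    ∃ e, IsNormalSubpair p M Q f R e := by
  have hps : PS M (Subgroup.centralizer (R : Set G))
      (embH (Subgroup.centralizer (Q : Set G)) (blockIdem f)) :=
    ps_embH (CL.blockIdem hf.2) (centralizer_le_of_le hQR)
  have hpsR := ps_embH_blockIdem (S := R) hf.2 hfix
  have hcl := cl_resH hps
  have hidem : IsIdempotentElem (brFun M R (embH (Subgroup.centralizer (R : Set G))
      (resH (Subgroup.centralizer (R : Set G))
        (embH (Subgroup.centralizer (Q : Set G)) (blockIdem f))))) := by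
    rw [brFun_embH_resH le_rfl]
    show _ * _ = _
    rw [← brFun_mul hM hR hpsR hpsR, ← embH_mul, blockIdem_mul_self]
  obtain ⟨ξ, hξ⟩ := exists_ro_ne_zero hM hR hcl (ps_embH_centralizer hcl.2 le_rfl) hidem
    (by rw [brFun_embH_resH le_rfl]; exact hne)
  refine ⟨blockOf M (ξ : _ → ℂ), isNormalSubpair_of_lam hf ⟨hR, isPBlock_blockOf ξ⟩ hQR hRN hfix
    (self_mem_blockOf ξ) ?_⟩
  have h := lam_mul hM hR (le_refl CG(R)) (Or.inr le_rfl) (Factors.of_le_centralizer (le_refl CG(R)) ξ)
    hpsR hps hpsR hps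
  rw [← embH_mul, blockIdem_mul_self] at h
  exact (mul_eq_left₀ hξ).1 h.symm

theorem exists_maximal_above {B : Set (IrrCharacter G)} {Q : Subgroup G}
    {f : Set (IrrCharacter (Subgroup.centralizer (Q : Set G)))} (h : IsBrauerPairOf p M B Q f) :
    ∃ (R : Subgroup G) (g : Set (IrrCharacter (Subgroup.centralizer (R : Set G)))),
      IsMaximalBrauerPair p M B R g ∧ SubpairLE p M Q f R g := by
  induction Q using WellFoundedGT.induction with
  | _ Q ih =>
    by_cases hmax : IsMaximalBrauerPair p M B Q f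
    · exact ⟨Q, f, hmax, Relation.ReflTransGen.refl⟩
    · rw [IsMaximalBrauerPair, not_and] at hmax
      specialize hmax h
      push Not at hmax
      obtain ⟨R, g, hg, hle, hne⟩ := hmax
      obtain ⟨R', g', h1, h2⟩ := ih R (lt_of_le_of_ne (SubpairLE.le hle) hne.symm) hg
      exact ⟨R', g', h1, Relation.ReflTransGen.trans hle h2⟩

variable [Fact p.Prime]

/-- Pairs with a group below a defect group only. -/
theorem card_le_of_pairOf (hM : IsPModular p M) {B : Set (IrrCharacter G)} {Q D : Subgroup G}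
    {f : Set (IrrCharacter (Subgroup.centralizer (Q : Set G)))} (h : IsBrauerPairOf p M B Q f)
    (hD : IsDefectGroup p M B D) : Nat.card Q ≤ Nat.card D := by
  obtain ⟨y, hy, hyu⟩ :=
    exists_unit_coeff_of_brFun_ne_zero (isLocElt_blockIdem h.2.1) (brFun_ne_zero_of_pairOf h)
  obtain ⟨z, hz⟩ := defectLE_of_coeff_unit hM h.2.1 hD (h := y) (by simpa [blockIdem] using hyu) Q
    h.1.1 (mem_centralizer_subgroup.1 hy)
  exact (card_map_conj Q z).ge.trans (Subgroup.card_le_of_le hz)

theorem isMaximal_of_defectGroup (hM : IsPModular p M) {B : Set (IrrCharacter G)} {P : Subgroup G}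
    {e : Set (IrrCharacter (Subgroup.centralizer (P : Set G)))} (h : IsBrauerPairOf p M B P e)
    (hD : IsDefectGroup p M B P) : IsMaximalBrauerPair p M B P e :=
  ⟨h, fun _ _ hg hle =>
    (Subgroup.eq_of_le_of_card_ge (SubpairLE.le hle) (card_le_of_pairOf hM hg hD)).symm⟩

theorem pairOf_unique {B B' : Set (IrrCharacter G)} {P : Subgroup G}
    {e : Set (IrrCharacter (Subgroup.centralizer (P : Set G)))} (hM : IsPModular p M)
    (h : IsBrauerPairOf p M B P e) (h' : IsBrauerPairOf p M B' P e) : B = B' := by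
  obtain ⟨ξ, hξ⟩ := isPBlock_nonempty h.1.2
  exact (isResHom_lam_centralizer hM h.1.1 ξ).eq_of_ne_zero h.2.1 h'.2.1
    (by rw [((isBrauerPairOf_iff hξ).1 h).2.2]; exact one_ne_zero)
    (by rw [((isBrauerPairOf_iff hξ).1 h').2.2]; exact one_ne_zero)

/-- The subgroup of a maximal pair is a defect group. -/
theorem isDefectGroup_of_maximal (hM : IsPModular p M) {B : Set (IrrCharacter G)} {P : Subgroup G}
    {e : Set (IrrCharacter (Subgroup.centralizer (P : Set G)))}
    (hmax : IsMaximalBrauerPair p M B P e) : IsDefectGroup p M B P := by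
  classical
  obtain ⟨h, hmax⟩ := hmax
  have hP := h.1.1
  obtain ⟨ξ, hξ⟩ := isPBlock_nonempty h.1.2
  have hPN : P ≤ Subgroup.normalizer (P : Set G) := Subgroup.le_normalizer
  have hCN := centralizer_le_normalizer' P
  have hN : Subgroup.normalizer (P : Set G) ≤
      Subgroup.normalizer (Subgroup.centralizer (P : Set G) : Set G) :=
    le_normalizer_centralizer le_rfl
  obtain ⟨c, hc⟩ := exists_above' (N := Subgroup.normalizer (P : Set G)) hM hP (Or.inr le_rfl) hPN
    le_rfl hCN (Factors.of_le_centralizer le_rfl ξ)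
  obtain ⟨η, hη⟩ := isPBlock_nonempty hc.isBlock
  have h1 := ((isBrauerPairOf_iff hξ).1 h).2.2
  rw [hc.lam_eq hCN hη ((CL.blockIdem h.2.1).ps _)] at h1
  haveI : (P.subgroupOf (Subgroup.normalizer (P : Set G))).Normal :=
    (Subgroup.normal_subgroupOf_iff_le_normalizer hPN).2 le_rfl
  obtain ⟨D, hD⟩ := exists_isDefectGroup (p := p) hc.isBlock
  have hle := pCore_le_defectGroup hM hc.isBlock hD (P.subgroupOf (Subgroup.normalizer (P : Set G)))
    hP.comap_subtype
  by_cases hDP : D = P.subgroupOf (Subgroup.normalizer (P : Set G))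
  · obtain ⟨B', hB', hB'D, hind⟩ := exists_induced_of_defectGroup hM hP le_rfl hc.isBlock (hDP ▸ hD)
    rwa [(isResHom_lam hM hP hCN (Or.inl hPN)
      (Factors.of_normal hM hP hPN le_rfl η)).eq_of_ne_zero h.2.1 hB'
      (by rw [h1]; exact one_ne_zero)
      (by rw [lam_blockIdem_of_isInducedBlock hind hη]; exact one_ne_zero)]
  exfalso
  have hps := ps_orbitSum (M := M) hN e
  have hw : ro M η (resH (Subgroup.normalizer (P : Set G))
      (orbitSum M (Subgroup.normalizer (P : Set G)) hN e)) = 1 := by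
    rw [← lam, ← hc.lam_eq hCN hη hps, lam_orbitSum_self hN h.1.2 hξ]
  -- the orbit sum is visible at the defect group
  have hne : brFun M D (resH (Subgroup.normalizer (P : Set G))
      (orbitSum M (Subgroup.normalizer (P : Set G)) hN e)) ≠ 0 := fun h0 => by
    rw [ro_eq_zero_of_brFun hM hc.isBlock hD hη (cl_resH hps) h0] at hw
    exact zero_ne_one hw
  obtain ⟨y, hy, hyu⟩ := exists_unit_coeff_of_brFun_ne_zero (cl_resH hps).2 hne
  have hDp := isPGroup_of_isDefectGroup hD
  let X := {b' // b' ∈ orbitBlocks M (Subgroup.normalizer (P : Set G)) hN e}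
  letI : MulAction D X :=
    { smul := fun q b' => ⟨conjBlk (hN (q : Subgroup.normalizer (P : Set G)).2) b'.1, by
        obtain ⟨hb', n, hn⟩ := mem_orbitBlocks.1 b'.2
        refine mem_orbitBlocks.2 ⟨isPBlock_conjBlk _ hb',
          (q : Subgroup.normalizer (P : Set G)) * n, ?_⟩
        rw [hn]; exact (conjBlk_mul _ _ _).symm⟩
      one_smul := fun b' => Subtype.ext
        (conjBlk_one (hN ((1 : D) : Subgroup.normalizer (P : Set G)).2) b'.1)
      mul_smul := fun q r b' => Subtype.ext (conjBlk_mul (hN (q : Subgroup.normalizer (P : Set G)).2)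
        (hN (r : Subgroup.normalizer (P : Set G)).2) b'.1) }
  have hinv : ∀ (q : D) (b' : X), (embH CG(P) (blockIdem (q • b').1)).coeff (y : G) =
      (embH CG(P) (blockIdem b'.1)).coeff (y : G) := fun q b' => by
    show (embH CG(P) (blockIdem
      (conjBlk (hN (q : Subgroup.normalizer (P : Set G)).2) b'.1))).coeff (y : G) = _
    rw [coeff_embH_blockIdem_conj]
    have h2 := congrArg Subtype.val (Subgroup.mem_centralizer_iff.1 hy q q.2)
    simp only [Subgroup.coe_mul] at h2
    rw [mul_assoc, ← h2, inv_mul_cancel_left]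
  obtain ⟨b', hfix, hbu⟩ : ∃ b' : X, (∀ q : D, q • b' = b') ∧
      ¬ MemLocalIdeal M ((embH CG(P) (blockIdem b'.1)).coeff (y : G)) := by
    by_contra! hcon
    refine hyu ?_
    rw [coeff_resH, orbitSum, MonoidAlgebra.coeff_sum, Finsupp.finsetSum_apply,
      ← Finset.sum_coe_sort]
    have h2 := sum_congr_fixed hM hDp (fun b' : X => (embH CG(P) (blockIdem b'.1)).coeff (y : G))
      hinv fun b' => isLocElt_embH _ (isLocElt_blockIdem (mem_orbitBlocks.1 b'.2).1) _
    have h3 : MemLocalIdeal M (∑ b' : X, if (∀ q : D, q • b' = b') then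
        (embH CG(P) (blockIdem b'.1)).coeff (y : G) else 0) :=
      memLocalIdeal_sum _ _ fun b' _ => by
        split
        next h => exact hcon b' h
        · exact memLocalIdeal_zero
    have h4 := memLocalIdeal_add h2 h3
    rw [sub_add_cancel] at h4
    convert h4 using 1
  obtain ⟨hb', n, hn⟩ := mem_orbitBlocks.1 b'.2
  -- move back to `e`
  let R : Subgroup G :=
    (D.map (Subgroup.normalizer (P : Set G)).subtype).map (MulAut.conj (n : G)⁻¹).toMonoidHom
  have hRp : IsPGroup p R := (hDp.map _).map _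
  have hPR : P ≤ R := by
    intro q hq
    have h2 : (n : G) * q * (n : G)⁻¹ ∈ P := (Subgroup.mem_normalizer_iff.1 n.2 q).1 hq
    exact ⟨(n : G) * q * (n : G)⁻¹, ⟨⟨_, hPN h2⟩, hle h2, rfl⟩, by simp [mul_assoc]⟩
  have hRN : R ≤ Subgroup.normalizer (P : Set G) := by
    rintro _ ⟨_, ⟨q, -, rfl⟩, rfl⟩
    exact mul_mem (mul_mem (inv_mem n.2) q.2) (by simp)
  have hfixR : ∀ q ∈ R, ∃ hq : q ∈ Subgroup.normalizer (Subgroup.centralizer (P : Set G) : Set G),
      conjBlk hq e = e := by
    intro r hr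
    refine ⟨hN (hRN hr), ?_⟩
    obtain ⟨_, ⟨q, hq, rfl⟩, rfl⟩ := hr
    have h2 := congrArg Subtype.val (hfix ⟨q, hq⟩)
    change conjBlk (hN q.2) b'.1 = b'.1 at h2
    rw [hn, ← conjBlk_mul] at h2
    have h3 := congrArg (conjBlk (hN (inv_mem n.2))) h2
    rw [← conjBlk_mul, ← conjBlk_mul] at h3
    convert h3 using 1
    · congr 1
      simp [mul_assoc]
    · convert (conjBlk_one (one_mem _) e).symm using 2
      simp
  have hcoe : ¬ MemLocalIdeal M ((embH CG(P) (blockIdem e)).coeff ((n : G)⁻¹ * (y : G) * (n : G))) := by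
    rwa [hn, coeff_embH_blockIdem_conj] at hbu
  have hyR : (n : G)⁻¹ * (y : G) * (n : G) ∈ Subgroup.centralizer (R : Set G) := by
    rw [Subgroup.mem_centralizer_iff]
    rintro _ ⟨_, ⟨q, hq, rfl⟩, rfl⟩
    have h2 := congrArg Subtype.val (Subgroup.mem_centralizer_iff.1 hy q hq)
    simp only [Subgroup.coe_mul] at h2
    have h3 := congrArg (fun z => (n : G)⁻¹ * z * (n : G)) h2
    simpa [mul_assoc] using h3
  obtain ⟨g, hg⟩ := exists_extension hM h.1 hRp hPR hRN hfixR
    fun h0 => hcoe ((brFun_eq_zero_iff (isLocElt_embH _ (isLocElt_blockIdem h.1.2))).1 h0 _ hyR)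
  have hRP := hmax R g ((IsNormalSubpair.pairOf_iff hM hg B).2 h) (Relation.ReflTransGen.single hg)
  refine hDP ((Subgroup.eq_of_le_of_card_ge hle (le_of_eq ?_)).symm)
  calc Nat.card D = Nat.card (D.map (Subgroup.normalizer (P : Set G)).subtype) :=
        Nat.card_congr (D.equivMapOfInjective _ Subtype.val_injective).toEquiv
    _ = Nat.card R := (card_map_conj _ _).symm
    _ = Nat.card P := by rw [hRP]
    _ = _ := Nat.card_congr (Subgroup.subgroupOfEquivOfLe hPN).symm.toEquiv

/-- Every pair of a block lies below a conjugate of a given maximal pair. -/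
theorem exists_conj_le_maximal (hM : IsPModular p M) {B : Set (IrrCharacter G)} {P Q : Subgroup G}
    {e : Set (IrrCharacter (Subgroup.centralizer (P : Set G)))}
    {f : Set (IrrCharacter (Subgroup.centralizer (Q : Set G)))}
    (hmax : IsMaximalBrauerPair p M B P e) (hQf : IsBrauerPairOf p M B Q f) :
    ∃ x : G, SubpairLE p M (Q.map (MulAut.conj x).toMonoidHom) (conjBlock Q x f) P e := by
  obtain ⟨R, g, hRg, hle⟩ := exists_maximal_above hQf
  have hP := hmax.1.1.1
  have hDP := isDefectGroup_of_maximal hM hmax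
  obtain ⟨x, hx⟩ := isDefectGroup_conj hM hQf.2.1 (isDefectGroup_of_maximal hM hRg) hDP
  subst hx
  -- two pairs of `B` on the same defect group
  have hg' := IsBrauerPairOf.conj hRg.1 x
  obtain ⟨ξ, hξ⟩ := isPBlock_nonempty hmax.1.1.2
  obtain ⟨ξ', hξ'⟩ := isPBlock_nonempty hg'.1.2
  have hPN : R.map (MulAut.conj x).toMonoidHom ≤
      Subgroup.normalizer ((R.map (MulAut.conj x).toMonoidHom : Subgroup G) : Set G) :=
    Subgroup.le_normalizer
  have hCN := centralizer_le_normalizer' (R.map (MulAut.conj x).toMonoidHom)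
  have hN := le_normalizer_centralizer (le_refl
    (Subgroup.normalizer ((R.map (MulAut.conj x).toMonoidHom : Subgroup G) : Set G)))
  obtain ⟨c, hc⟩ := exists_above' (N := Subgroup.normalizer ((R.map (MulAut.conj x).toMonoidHom :
    Subgroup G) : Set G)) hM hP (Or.inr le_rfl) hPN le_rfl hCN (Factors.of_le_centralizer le_rfl ξ)
  obtain ⟨c', hc'⟩ := exists_above' (N := Subgroup.normalizer ((R.map (MulAut.conj x).toMonoidHom :
    Subgroup G) : Set G)) hM hP (Or.inr le_rfl) hPN le_rfl hCN (Factors.of_le_centralizer le_rfl ξ')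
  obtain ⟨η, hη⟩ := isPBlock_nonempty hc.isBlock
  obtain ⟨η', hη'⟩ := isPBlock_nonempty hc'.isBlock
  have h1 := ((isBrauerPairOf_iff hξ).1 hmax.1).2.2
  have h1' := ((isBrauerPairOf_iff hξ').1 hg').2.2
  rw [hc.lam_eq hCN hη ((CL.blockIdem hQf.2.1).ps _)] at h1
  rw [hc'.lam_eq hCN hη' ((CL.blockIdem hQf.2.1).ps _)] at h1'
  have hD := isDefectGroup_of_lam hM hPN hCN hQf.2.1 hDP hc.isBlock hη
    (Factors.of_normal hM hP hPN le_rfl η) (by rw [h1]; exact one_ne_zero)
  have hD' := isDefectGroup_of_lam hM hPN hCN hQf.2.1 hDP hc'.isBlock hη'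
    (Factors.of_normal hM hP hPN le_rfl η') (by rw [h1']; exact one_ne_zero)
  obtain rfl := eq_of_lam_eq_one hM hP le_rfl hQf.2.1 hc.isBlock hD hc'.isBlock hD' hη hη' h1 h1'
  obtain ⟨n, hn⟩ := exists_conjBlk_of_above hCN hN hg'.1.2 hmax.1.1.2 hξ' hξ hc' hc
  refine ⟨(n : G) * x, ?_⟩
  have h2 := SubpairLE.conj (SubpairLE.conj hle x) (n : G)
  rw [conjBlock_conjBlock] at h2
  have hidx : (⟨(R.map (MulAut.conj x).toMonoidHom).map (MulAut.conj (n : G)).toMonoidHom,
      conjBlock (R.map (MulAut.conj x).toMonoidHom) (n : G) (conjBlock R x g)⟩ : BrauerPairIdx G) =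
      ⟨R.map (MulAut.conj x).toMonoidHom, e⟩ := by
    refine pairIdx_ext ?_ fun θ θ' hθ => ?_
    · refine Subgroup.eq_of_le_of_card_ge ?_ (card_map_conj _ _).ge
      rintro _ ⟨q, hq, rfl⟩
      exact (Subgroup.mem_normalizer_iff.1 n.2 q).1 hq
    · rw [mem_conjBlock_iff, hn, ← mem_conjBlk_iff (hN n.2)]
      have : conjIrr (hN n.2) (compIrr (centConj (R.map (MulAut.conj x).toMonoidHom) (n : G)).symm θ) =
          θ' := by
        refine Subtype.ext (funext fun c => ?_)
        rw [conjIrr_apply, compIrr_apply]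
        refine Eq.trans (irr_congr θ (?_ : _ = (c : G))) (hθ (c : G) ?_ c.2)
        · show (n : G) * ((n : G)⁻¹ * (c : G) * (n : G)) * (n : G)⁻¹ = (c : G)
          group
        · have h3 : (n : G) * ((n : G)⁻¹ * (c : G) * (n : G)) * (n : G)⁻¹ ∈ Subgroup.centralizer
              (((R.map (MulAut.conj x).toMonoidHom).map (MulAut.conj (n : G)).toMonoidHom : Subgroup G) : Set G) :=
            ((centConj (R.map (MulAut.conj x).toMonoidHom) (n : G)).symm (normConj (hN n.2) c)).2
          rwa [show (n : G) * ((n : G)⁻¹ * (c : G) * (n : G)) * (n : G)⁻¹ = (c : G) by group] at h3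
      rw [this]
  rw [hidx] at h2
  exact h2

end Cfsg.Agent.Block
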