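import Cfsg.Agent.Lib.Char.Congr

/-!
# Congruences for powers of character values modulo a rational prime
-/

set_option autoImplicit false

namespace Cfsg.Agent.Block

open Cfsg Cfsg.Agent.Char

universe u

variable {G : Type u} [Group G]

/-- A power with exponent a power of the prime, modulo an ideal with the same rational integers. -/
theorem exists_apply_pow_congr_ideal [Finite G] {p : ℕ} (hp : p.Prime) {I : Ideal AlgInt}
    (hI : ∀ z : ℕ, (z : AlgInt) ∈ I ↔ p ∣ z) {χ : G → ℂ} (hχ : IsCharacter G χ) (x : G) (k : ℕ) :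
    ∃ a b : AlgInt, (a : ℂ) = χ x ∧ (b : ℂ) = χ (x ^ p ^ k) ∧ a ^ p ^ k - b ∈ I := by
  classical
  haveI := Fintype.ofFinite G
  haveI := Fact.mk hp
  let C := Subgroup.zpowers x
  haveI := Fintype.ofFinite C
  haveI := Fintype.ofFinite (IrrCharacter C)
  obtain ⟨n, hn⟩ : ∃ n : IrrCharacter C → ℕ, ∀ ψ : IrrCharacter C,
      classInner (fun c : C => χ c) (ψ : C → ℂ) = n ψ := by
    choose n hn using fun ψ : IrrCharacter C => classInner_natCast_of_isCharacter
      (IsCharacter.restrict hχ C) (IsIrrCharacter.isCharacter ψ.2)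
    exact ⟨n, hn⟩
  have hl : ∀ ψ : IrrCharacter C, ∃ l : C →* ℂˣ, (ψ : C → ℂ) = fun c => (l c : ℂ) := fun ψ =>
    IsCharacter.exists_monoidHom (IsIrrCharacter.isCharacter ψ.2)
      (IsIrrCharacter.degree_one_of_comm ψ.2 fun a b => by
        obtain ⟨i, hi⟩ := Subgroup.mem_zpowers_iff.mp a.2
        obtain ⟨j, hj⟩ := Subgroup.mem_zpowers_iff.mp b.2
        refine Subtype.ext ?_
        show (a : G) * b = b * a
        rw [← hi, ← hj]
        exact Commute.zpow_zpow_self x i j)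
  choose l hl using hl
  let x' : C := ⟨x, Subgroup.mem_zpowers x⟩
  have hint : ∀ ψ : IrrCharacter C, (l ψ x' : ℂ) ∈ AlgInt := fun ψ => by
    rw [← congrFun (hl ψ) x']
    exact IsCharacter.isIntegral (IsIrrCharacter.isCharacter ψ.2) x'
  let r : IrrCharacter C → AlgInt := fun ψ => ⟨_, hint ψ⟩
  have hval : ∀ c : C, χ c = ∑ ψ, (n ψ : ℂ) * (l ψ c : ℂ) := fun c => by
    have := congrFun (IsClassFunction.eq_sum (IsCharacter.isClassFunction (IsCharacter.restrict hχ C))) c
    simp only [hn, Finset.sum_apply, Pi.smul_apply, smul_eq_mul] at this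
    rw [this]
    exact Finset.sum_congr rfl fun ψ _ => by rw [congrFun (hl ψ) c]
  refine ⟨∑ ψ, (n ψ : AlgInt) * r ψ, ∑ ψ, (n ψ : AlgInt) * r ψ ^ p ^ k, ?_, ?_, ?_⟩
  · rw [show χ x = χ (x' : G) from rfl, hval x']
    simp [r]
  · rw [show χ (x ^ p ^ k) = χ ((x' ^ p ^ k : C) : G) by rw [Subgroup.coe_pow], hval]
    simp [r, map_pow]
  · rw [← Ideal.Quotient.eq_zero_iff_mem]
    haveI : CharP (AlgInt ⧸ I) p := ⟨fun z => by
      rw [← map_natCast (Ideal.Quotient.mk I), Ideal.Quotient.eq_zero_iff_mem]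
      exact hI z⟩
    simp only [map_sub, map_pow, map_sum, map_mul, map_natCast, sum_pow_char_pow, mul_pow]
    refine sub_eq_zero.mpr (Finset.sum_congr rfl fun ψ _ => ?_)
    congr 1
    rw [← iterateFrobenius_def (R := AlgInt ⧸ I) p k (n ψ : AlgInt ⧸ I)]
    exact map_natCast _ _

/-- The rational integers in the ideal generated by a prime. -/
theorem natCast_mem_span_iff {p : ℕ} {M : Ideal AlgInt} (hM : IsPModular p M) (z : ℕ) :
    (z : AlgInt) ∈ Ideal.span ({(p : AlgInt)} : Set AlgInt) ↔ p ∣ z := by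
  haveI := hM.2.1
  refine ⟨fun h => (natCast_mem_iff hM.1 hM.2.2 z).1 ((Ideal.span_singleton_le_iff_mem M).2 hM.2.2 h), ?_⟩
  rintro ⟨c, rfl⟩
  rw [Nat.cast_mul]
  exact Ideal.mul_mem_right _ _ (Ideal.subset_span rfl)

end Cfsg.Agent.Block
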