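import Cfsg.Agent.Lib.Block.AbelianTIPrincipal
import Cfsg.Agent.Lib.Char.Extraspecial
import Cfsg.Agent.Lib.Char.Degrees
import Cfsg.Agent.Lib.Char.Taketa
import Cfsg.Agent.Lib.Char.Burnside
import Cfsg.Agent.Lib.Char.Clifford

/-!
# Groups whose nonlinear irreducible characters have prime degree are solvable

In a simple group the Sylow subgroup for the largest degree `p` has order `p`.  The relation
between the characters of the principal `p`-block then shows that some prime divides one.
-/

set_option autoImplicit false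
set_option linter.style.haveILetI false
set_option linter.unusedSectionVars false
set_option linter.unusedVariables false

namespace Cfsg.Agent.Block.PrimeDeg

open Cfsg Cfsg.Agent.Char Cfsg.Agent.Block Cfsg.Agent.Block.AbTI
open scoped Classical ComplexConjugate

universe u

variable {G : Type u} [Group G] [Finite G]

/-- The hypothesis: every nonlinear degree is a prime. -/
def PrimeDegrees (G : Type u) [Group G] : Prop :=
  ∀ χ : IrrCharacter G, charDegree (χ : G → ℂ) ≠ 1 → (charDegree (χ : G → ℂ)).Prime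

theorem deg_eq (χ : IrrCharacter G) : (χ : G → ℂ) 1 = (charDegree (χ : G → ℂ) : ℂ) :=
  (charDegree_cast (IsIrrCharacter.isCharacter χ.2)).symm

theorem primeDegrees_quotient (h : PrimeDegrees G) (N : Subgroup G) [N.Normal] :
    PrimeDegrees (G ⧸ N) := fun ψ hψ => by
  obtain ⟨m, ρ, hρ, hc⟩ := ψ.2
  haveI := hρ
  haveI : Representation.IsIrreducible (ρ.comp (QuotientGroup.mk' N) : Representation ℂ G (Fin m → ℂ)) :=
    Cfsg.Agent.Char.isIrreducible_comp_surjective ρ _ (QuotientGroup.mk'_surjective N)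
  let χ : IrrCharacter G := ⟨(ψ : G ⧸ N → ℂ) ∘ QuotientGroup.mk' N,
    m, ρ.comp (QuotientGroup.mk' N), inferInstance, by rw [← hc]; rfl⟩
  have e : charDegree (χ : G → ℂ) = charDegree (ψ : G ⧸ N → ℂ) := by
    apply Nat.cast_injective (R := ℂ)
    rw [← deg_eq χ, ← deg_eq ψ]
    exact congrArg (ψ : G ⧸ N → ℂ) (map_one (QuotientGroup.mk' N))
  rw [← e] at hψ ⊢
  exact h χ hψ

theorem primeDegrees_normal (h : PrimeDegrees G) (N : Subgroup G) [N.Normal] :
    PrimeDegrees N := fun θ hθ => by
  haveI := Fintype.ofFinite G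
  haveI := Fintype.ofFinite N
  haveI := Fintype.ofFinite (IrrCharacter G)
  obtain ⟨χ, hχ⟩ : ∃ χ : IrrCharacter G, classInner (fun n : N => (χ : G → ℂ) n) θ ≠ 0 := by
    by_contra hn
    push Not at hn
    have h1 := classInner_self_eq_zero (φ := (θ : N → ℂ))
    obtain ⟨Φ, hΦ, hΦne⟩ : ∃ Φ : G → ℂ, IsCharacter G Φ ∧ classInner (fun n : N => Φ n) θ ≠ 0 := by
      refine ⟨fun g => if g = 1 then (Nat.card G : ℂ) else 0, ?_, ?_⟩
      · have : (fun g : G => if g = 1 then (Nat.card G : ℂ) else 0) =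
            ∑ χ : IrrCharacter G, (charDegree (χ : G → ℂ)) • (χ : G → ℂ) := by
          funext g
          rw [← regular_eq g]
          simp only [Finset.sum_apply, nsmul_eq_mul, deg_eq, Pi.mul_apply, Pi.natCast_apply]
        rw [this]
        exact isCharacter_sum _ _ fun χ _ => isCharacter_nsmul (IsIrrCharacter.isCharacter χ.2) _
      · rw [classInner, Finset.sum_eq_single (1 : N)]
        · simp only [OneMemClass.coe_one, if_true, ne_eq, mul_eq_zero, inv_eq_zero, Nat.cast_eq_zero,
            map_eq_zero, Nat.card_pos.ne', false_or]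
          exact IsIrrCharacter.apply_one_ne_zero θ.2
        · intro n _ hn
          show (if (n : G) = 1 then (Nat.card G : ℂ) else 0) * _ = 0
          rw [if_neg (fun e : (n : G) = 1 => hn (Subtype.ext e)), zero_mul]
        · intro hn; exact absurd (Finset.mem_univ _) hn
    rw [congrArg (fun F : G → ℂ => fun n : N => F n) (IsClassFunction.eq_sum (IsCharacter.isClassFunction hΦ))] at hΦne
    refine hΦne ?_
    have e : (fun n : N => (∑ χ : IrrCharacter G, classInner Φ (χ : G → ℂ) • (χ : G → ℂ)) (n : G)) =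
        ∑ χ : IrrCharacter G, classInner Φ (χ : G → ℂ) • fun n : N => (χ : G → ℂ) n := by
      funext n; simp
    rw [e, classInner_sum_left]
    exact Finset.sum_eq_zero fun χ _ => by rw [classInner_smul_left, hn χ, mul_zero]
  obtain ⟨k, hk⟩ := exists_classInner_nat (IsCharacter.restrict (IsIrrCharacter.isCharacter χ.2) N) θ.2
  have e := restrict_degree_eq N χ.2 θ.2 hχ
  rw [hk, deg_eq χ, deg_eq θ, ← Nat.cast_mul, ← Nat.cast_mul, Nat.cast_inj] at e
  have hd : charDegree (θ : N → ℂ) ∣ charDegree (χ : G → ℂ) :=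
    ⟨k * (inertia N (θ : N → ℂ)).index, by rw [e]; ring⟩
  by_cases h1 : charDegree (χ : G → ℂ) = 1
  · exact absurd (Nat.dvd_one.1 (h1 ▸ hd)) hθ
  · rw [((Nat.dvd_prime (h χ h1)).1 hd).resolve_left hθ]
    exact h χ h1

/-- There is no such nonabelian simple group. -/
theorem no_simple [IsSimpleGroup G] (hna : ¬ ∀ a b : G, a * b = b * a) (h : PrimeDegrees G) : False := by
  haveI := Fintype.ofFinite G
  haveI := Fintype.ofFinite (IrrCharacter G)
  let one : IrrCharacter G := ⟨fun _ => 1, isIrrCharacter_one⟩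
  have hcenter : Subgroup.center G = ⊥ :=
    (Subgroup.Normal.eq_bot_or_eq_top inferInstance).resolve_right fun e => hna fun a b =>
      Subgroup.mem_center_iff.mp (e ▸ Subgroup.mem_top b) a
  have hker : ∀ χ : IrrCharacter G, χ ≠ one → ∀ g, (χ : G → ℂ) g = (χ : G → ℂ) 1 → g = 1 := by
    intro χ hχ g hg
    have hc := IsIrrCharacter.isCharacter χ.2
    let K : Subgroup G :=
      { carrier := {x | (χ : G → ℂ) x = (χ : G → ℂ) 1}
        one_mem' := rfl
        mul_mem' := fun {a b} ha hb => ((IsCharacter.apply_mul_of_eq_one hc ha b).1).trans hb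
        inv_mem' := fun {a} ha => by
          have := (IsCharacter.apply_mul_of_eq_one hc ha a⁻¹).1
          rw [mul_inv_cancel] at this
          exact this.symm }
    have hK : K.Normal := ⟨fun a ha x => by
      show (χ : G → ℂ) (x * a * x⁻¹) = _
      rw [IsCharacter.isClassFunction hc a x]
      exact ha⟩
    rcases hK.eq_bot_or_eq_top with e | e
    · exact Subgroup.mem_bot.1 (e ▸ (show g ∈ K from hg))
    · exfalso
      refine hχ (Subtype.ext ?_)
      have hall : ∀ x, (χ : G → ℂ) x = (χ : G → ℂ) 1 := fun x => (e ▸ Subgroup.mem_top x : x ∈ K)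
      by_contra hne
      have h0 := IsIrrCharacter.classInner_eq_zero χ.2 one.2 hne
      have e1 : classInner (χ : G → ℂ) (one : G → ℂ) = (χ : G → ℂ) 1 := by
        simp only [classInner, one, map_one, mul_one, hall, Finset.sum_const, Finset.card_univ,
          nsmul_eq_mul, ← Nat.card_eq_fintype_card]
        rw [← mul_assoc, inv_mul_cancel₀ (Nat.cast_ne_zero.mpr Nat.card_pos.ne'), one_mul]
      exact IsIrrCharacter.apply_one_ne_zero χ.2 (e1 ▸ h0)
  have hdeg : ∀ χ : IrrCharacter G, χ ≠ one → (charDegree (χ : G → ℂ)).Prime := by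
    intro χ hχ
    refine h χ fun h1 => hna fun a b => ?_
    obtain ⟨l, hl⟩ := IsCharacter.exists_monoidHom (IsIrrCharacter.isCharacter χ.2)
      (by rw [deg_eq, h1, Nat.cast_one])
    have hh := hker χ hχ (a * b * a⁻¹ * b⁻¹) (by simp [hl, mul_comm (l a) (l b)])
    rw [mul_inv_eq_one, mul_inv_eq_iff_eq_mul] at hh
    exact hh
  have hscal : ∀ χ : IrrCharacter G, χ ≠ one → ∀ g,
      ‖(χ : G → ℂ) g‖ = (charDegree (χ : G → ℂ) : ℝ) → g = 1 := by
    intro χ hχ g hg
    have hk := hker χ hχ
    obtain ⟨n, ρ, hρ, hc⟩ := χ.2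
    have hd : (charDegree (χ : G → ℂ) : ℂ) = (Module.finrank ℂ (Fin n → ℂ) : ℂ) := by
      rw [← deg_eq, ← hc, ρ.char_one]
    rw [Nat.cast_inj] at hd
    rw [hd, ← hc] at hg
    obtain ⟨ω, hω⟩ := (norm_character_eq_iff ρ g).1 hg
    have hinj : Function.Injective ρ := by
      refine (injective_iff_map_eq_one ρ).2 fun x hx => hk x ?_
      rw [← hc, ρ.char_one, character_eq_finrank_iff]
      exact hx
    have : g ∈ Subgroup.center G :=
      Subgroup.mem_center_iff.mpr fun x => (comm_of_rep_eq_smul ρ hω hinj x).symm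
    rwa [hcenter, Subgroup.mem_bot] at this
  have hne : ∃ χ : IrrCharacter G, χ ≠ one := by
    by_contra hn
    push Not at hn
    exact hna (comm_of_degree_one fun χ => by rw [hn χ])
  obtain ⟨χm, hχm, hmax⟩ := Finset.exists_max_image (Finset.univ.filter fun χ : IrrCharacter G => χ ≠ one)
    (fun χ => charDegree (χ : G → ℂ)) (by obtain ⟨χ, hχ⟩ := hne; exact ⟨χ, by simp [hχ]⟩)
  have hχm1 : χm ≠ one := (Finset.mem_filter.1 hχm).2
  set p := charDegree (χm : G → ℂ) with hpdef
  have hp : p.Prime := hdeg χm hχm1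
  haveI := Fact.mk hp
  have hle : ∀ χ : IrrCharacter G, χ ≠ one → charDegree (χ : G → ℂ) ≤ p := fun χ hχ =>
    hmax χ (by simp [hχ])
  let P : Sylow p G := default
  haveI := Fintype.ofFinite (P : Subgroup G)
  have hpG : p ∣ Nat.card G := charDegree_dvd_card χm.2
  have hPp : p ∣ Nat.card P := P.dvd_card_of_dvd_card hpG
  haveI : Nontrivial (P : Subgroup G) :=
    Finite.one_lt_card_iff_nontrivial.1 (lt_of_lt_of_le hp.one_lt (Nat.le_of_dvd Nat.card_pos hPp))
  have hvan : ∀ χ : IrrCharacter G, χ ≠ one → charDegree (χ : G → ℂ) = p → ∀ z : (P : Subgroup G),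
      z ∈ Subgroup.center (P : Subgroup G) → z ≠ 1 → (χ : G → ℂ) z = 0 := by
    intro χ hχ hd z hz hz1
    have hs := hscal χ hχ (z : G)
    obtain ⟨n, ρ, hρ, hc⟩ := χ.2
    haveI := hρ
    have hd' : (charDegree (χ : G → ℂ) : ℂ) = (Module.finrank ℂ (Fin n → ℂ) : ℂ) := by
      rw [← deg_eq, ← hc, ρ.char_one]
    rw [Nat.cast_inj, hd] at hd'
    have hle' : (P : Subgroup G) ≤ Subgroup.centralizer ({(z : G)} : Set G) := fun x hx => by
      rw [Subgroup.mem_centralizer_singleton_iff]
      exact congrArg Subtype.val (Subgroup.mem_center_iff.mp hz ⟨x, hx⟩)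
    have hcop : Nat.Coprime (Module.finrank ℂ (Fin n → ℂ)) (Subgroup.centralizer ({(z : G)} : Set G)).index := by
      rw [← hd']
      exact hp.coprime_iff_not_dvd.2 fun hh =>
        P.not_dvd_index (hh.trans (Subgroup.index_dvd_of_le hle'))
    rw [← hc]
    refine (eq_zero_or_norm_eq_of_coprime ρ (z : G) hcop).resolve_right fun hn => hz1 ?_
    rw [← hd', hc] at hn
    exact Subtype.ext (hs (hn.trans (by rw [hd])))
  have hZ : Nat.card (Subgroup.center (P : Subgroup G)) ∣ p := by
    haveI := Fintype.ofFinite (Subgroup.center (P : Subgroup G))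
    have hc : IsCharacter (Subgroup.center (P : Subgroup G)) fun z => (χm : G → ℂ) ((z : (P : Subgroup G)) : G) :=
      IsCharacter.restrict (IsCharacter.restrict (IsIrrCharacter.isCharacter χm.2) (P : Subgroup G)) _
    obtain ⟨k, hk⟩ := exists_classInner_nat hc isIrrCharacter_one
    rw [classInner, Finset.sum_eq_single (1 : Subgroup.center (P : Subgroup G)) (fun z _ hz => by
      rw [hvan χm hχm1 rfl _ z.2 fun e => hz (Subtype.ext e), zero_mul]) (fun e => absurd (Finset.mem_univ _) e),
      inv_mul_eq_iff_eq_mul₀ (Nat.cast_ne_zero.2 Nat.card_pos.ne')] at hk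
    simp only [OneMemClass.coe_one, Pi.one_apply, map_one, mul_one, deg_eq, ← hpdef, ← Nat.cast_mul, Nat.cast_inj] at hk
    exact ⟨k, hk⟩
  haveI : Nontrivial (Subgroup.center (P : Subgroup G)) := P.isPGroup'.center_nontrivial
  have hcomm : ∀ a b : (P : Subgroup G), a * b = b * a := by
    intro a b
    by_cases hbig : ∃ ψ : ↥(P : Subgroup G) → ℂ, IsIrrCharacter (P : Subgroup G) ψ ∧
        classInner (fun x : (P : Subgroup G) => (χm : G → ℂ) x) ψ ≠ 0 ∧ ψ 1 = p
    · exfalso
      obtain ⟨ψ, hψ, hin, hψ1⟩ := hbig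
      obtain ⟨r, hr, he⟩ := exists_add_of_classInner_ne_zero
        (IsCharacter.restrict (IsIrrCharacter.isCharacter χm.2) (P : Subgroup G)) hψ hin
      have hr0 : r = 0 := by
        refine classInner_self_eq_zero ?_
        have h1 := congrFun he 1
        simp only [OneMemClass.coe_one, Pi.add_apply, hψ1, deg_eq, ← hpdef] at h1
        have hr1 : r 1 = 0 := by linear_combination -h1
        obtain ⟨n, ρ, hρ⟩ := hr
        have hn : Module.finrank ℂ (Fin n → ℂ) = 0 := by
          rw [← hρ, ρ.char_one] at hr1; exact_mod_cast hr1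
        haveI := (Module.finrank_zero_iff (R := ℂ) (M := Fin n → ℂ)).mp hn
        have : r = 0 := by
          funext x
          rw [← hρ]
          simp [Representation.character, Subsingleton.elim (ρ x) 0]
        rw [this, classInner_zero_left]
      rw [hr0, add_zero] at he
      obtain ⟨z, hz⟩ := exists_ne (1 : Subgroup.center (P : Subgroup G))
      obtain ⟨ω, hω, hω'⟩ := IsIrrCharacter.central_apply hψ z.2
      have := hω' 1
      rw [mul_one, hψ1, ← congrFun he, hvan χm hχm1 rfl _ z.2 fun e => hz (Subtype.ext e)] at this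
      have := congrArg norm this
      rw [norm_zero, norm_mul, hω, one_mul, Complex.norm_natCast] at this
      exact hp.ne_zero (by exact_mod_cast this.symm)
    · push Not at hbig
      have hh : (χm : G → ℂ) ((a * b * a⁻¹ * b⁻¹ : (P : Subgroup G)) : G) = (χm : G → ℂ) 1 := by
        refine apply_eq_of_constituents (G := (P : Subgroup G))
          (Φ := fun x : (P : Subgroup G) => (χm : G → ℂ) x)
          (IsCharacter.restrict (IsIrrCharacter.isCharacter χm.2) (P : Subgroup G)) _ fun ψ hψ hin => ?_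
        obtain ⟨d, hd0, hd⟩ := IsIrrCharacter.degree_pos hψ
        have hdd : d ∣ Nat.card (P : Subgroup G) := by
          have e : charDegree ψ = d := Nat.cast_injective (R := ℂ)
            ((charDegree_cast (IsIrrCharacter.isCharacter hψ)).trans hd)
          exact e ▸ charDegree_dvd_card hψ
        obtain ⟨k, hk⟩ := IsPGroup.iff_card.1 P.2
        obtain ⟨j, -, hj⟩ := (Nat.dvd_prime_pow hp).1 (hk ▸ hdd)
        have hdp : d ≤ p := by
          obtain ⟨r, hr, he⟩ := exists_add_of_classInner_ne_zero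
            (IsCharacter.restrict (IsIrrCharacter.isCharacter χm.2) (P : Subgroup G)) hψ hin
          obtain ⟨e', he'⟩ := IsCharacter.exists_degree hr
          have h1 := congrFun he 1
          simp only [OneMemClass.coe_one, Pi.add_apply, hd, he', deg_eq, ← hpdef, ← Nat.cast_add,
            Nat.cast_inj] at h1
          omega
        have hd1 : d = 1 := by
          rcases j with _ | _ | j
          · simpa using hj
          · exact absurd (by rw [hd, hj, zero_add, pow_one]) (hbig ψ hψ hin)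
          · exfalso
            have : p ^ 2 ≤ d := hj ▸ Nat.pow_le_pow_right hp.pos (by omega)
            nlinarith [hp.one_lt]
        obtain ⟨l, hl⟩ := IsCharacter.exists_monoidHom (IsIrrCharacter.isCharacter hψ)
          (by rw [hd, hd1, Nat.cast_one])
        simp [hl, mul_comm (l a) (l b)]
      have h2 : a * b * a⁻¹ * b⁻¹ = 1 := Subtype.ext (hker χm hχm1 _ hh)
      rwa [mul_inv_eq_one, mul_inv_eq_iff_eq_mul] at h2
  have hctop : Subgroup.center (P : Subgroup G) = ⊤ :=
    eq_top_iff.2 fun x _ => Subgroup.mem_center_iff.2 fun y => hcomm y x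
  rw [hctop, Subgroup.card_top] at hZ
  have hPcard : Nat.card P = p := Nat.dvd_antisymm hZ hPp
  have hvan' : ∀ χ : IrrCharacter G, χ ≠ one → charDegree (χ : G → ℂ) = p →
      ∀ ψ : (P : Subgroup G) →* ℂˣ, coef χ ψ = 0 := by
    intro χ hχ hd ψ
    have hs := coef_spec χ ψ
    rw [Finset.sum_eq_single (1 : (P : Subgroup G)) (fun z _ hz => by
      rw [hvan χ hχ hd z (by rw [hctop]; exact Subgroup.mem_top z) hz, zero_mul]) (fun e => absurd (Finset.mem_univ _) e),
      af_one, mul_zero] at hs
    exact_mod_cast (mul_eq_zero.1 hs.symm).resolve_left (Nat.cast_ne_zero.2 Nat.card_pos.ne')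
  set m := (Subgroup.centralizer ((P : Subgroup G) : Set G)).relIndex
    (Subgroup.normalizer ((P : Subgroup G) : Set G)) with hm
  have hH : Hyp P m := ⟨hcomm, hm.symm, fun y hy hy1 => by
    have hz : Subgroup.zpowers y = (P : Subgroup G) := by
      refine Subgroup.eq_of_le_of_card_ge (Subgroup.zpowers_le.2 hy) ?_
      rw [Nat.card_zpowers, hPcard]
      exact Nat.le_of_dvd (orderOf_pos y) (dvd_orderOf_of_mem hy hy1)
    have e : Subgroup.centralizer ({y} : Set G) = Subgroup.centralizer ((P : Subgroup G) : Set G) := by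
      rw [← Subgroup.centralizer_closure {y}, ← Subgroup.zpowers_eq_closure, hz]
    rw [e, inf_eq_left]
    exact Subgroup.centralizer_le_normalizer _⟩
  obtain ⟨M, hM⟩ := exists_isPModular hp
  haveI := prime_of_isPModular hM
  haveI : Finite ((P : Subgroup G) →* ℂˣ) := by
    refine Nat.finite_of_card_ne_zero ?_
    rw [card_monoidHom_units]
    exact Subgroup.index_ne_zero_of_finite
  haveI := Fintype.ofFinite ((P : Subgroup G) →* ℂˣ)
  letI : CommGroup (P : Subgroup G) := { (inferInstance : Group (P : Subgroup G)) with mul_comm := hcomm }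
  have hcard : Nat.card ((P : Subgroup G) →* ℂˣ) = p :=
    (CommGroup.card_monoidHom_of_hasEnoughRootsOfUnity (P : Subgroup G) ℂ).trans hPcard
  obtain ⟨ψ₀, hψ₀⟩ : ∃ ψ : (P : Subgroup G) →* ℂˣ, ψ ≠ 1 := by
    haveI : Nontrivial ((P : Subgroup G) →* ℂˣ) := Finite.one_lt_card_iff_nontrivial.1 (by rw [hcard]; exact hp.one_lt)
    exact exists_ne 1
  -- characters constant off the identity of `P`
  have hconst : ∀ χ : IrrCharacter G, χ ≠ one → charDegree (χ : G → ℂ) ≠ p →
      (∀ ψ ψ' : (P : Subgroup G) →* ℂˣ, ψ ≠ 1 → ψ' ≠ 1 → coef χ ψ = coef χ ψ') →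
      charDegree (χ : G → ℂ) + 1 = p := by
    intro χ hχ hdp hco
    set q := charDegree (χ : G → ℂ) with hq
    set c := coef χ ψ₀ with hc
    have hval : ∀ y : (P : Subgroup G), y ≠ 1 → (χ : G → ℂ) y = -(c : ℂ) := by
      intro y hy
      rw [apply_eq_sum_coef hcomm χ hy, ← Finset.add_sum_erase _ _ (Finset.mem_univ (1 : (P : Subgroup G) →* ℂˣ)),
        coef_one_hom, Int.cast_zero, zero_mul, zero_add,
        Finset.sum_congr rfl fun ψ hψ => by rw [hco ψ ψ₀ (Finset.ne_of_mem_erase hψ) hψ₀, ← hc],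
        ← Finset.mul_sum]
      have h1 := sum_dual hcomm y
      rw [if_neg hy, ← Finset.add_sum_erase _ _ (Finset.mem_univ (1 : (P : Subgroup G) →* ℂˣ))] at h1
      simp only [MonoidHom.one_apply, Units.val_one] at h1
      linear_combination (c : ℂ) * h1
    have hres := IsCharacter.restrict (IsIrrCharacter.isCharacter χ.2) (P : Subgroup G)
    obtain ⟨n0, hn0⟩ := exists_classInner_nat hres isIrrCharacter_one
    obtain ⟨n1, hn1⟩ := exists_classInner_nat hres (isIrrCharacter_monoidHom ψ₀)
    have hsum : ∀ f : ↥(P : Subgroup G) → ℂ, ∑ x : (P : Subgroup G), (χ : G → ℂ) x * f x =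
        ((q : ℂ) + c) * f 1 - (c : ℂ) * ∑ x, f x := by
      intro f
      rw [← Finset.add_sum_erase _ _ (Finset.mem_univ (1 : (P : Subgroup G))),
        Finset.sum_congr rfl fun x hx => by rw [hval x (Finset.ne_of_mem_erase hx)],
        ← Finset.mul_sum, ← Finset.add_sum_erase _ f (Finset.mem_univ (1 : (P : Subgroup G))),
        OneMemClass.coe_one, deg_eq, ← hq]
      ring
    rw [classInner, hsum, inv_mul_eq_iff_eq_mul₀ (Nat.cast_ne_zero.2 Nat.card_pos.ne')] at hn0 hn1
    simp only [Pi.one_apply, map_one, mul_one, Finset.sum_const, Finset.card_univ, nsmul_eq_mul,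
      ← Nat.card_eq_fintype_card, hPcard] at hn0
    simp only [map_one, Units.val_one, mul_one, conj_hom, MonoidHom.inv_apply, hPcard] at hn1
    have hs1 : ∑ x : (P : Subgroup G), (((ψ₀ x)⁻¹ : ℂˣ) : ℂ) = 0 := by
      have := sum_hom_eq (P := P) ψ₀⁻¹
      rw [if_neg (fun e => hψ₀ (MonoidHom.ext fun x => by simpa using DFunLike.congr_fun e x))] at this
      simpa using this
    rw [hs1, mul_zero, sub_zero] at hn1
    have e0 : (q : ℤ) + c - c * p = p * n0 := by exact_mod_cast hn0
    have e1 : (q : ℤ) + c = p * n1 := by exact_mod_cast hn1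
    have e2 : (q : ℤ) = n0 + (p - 1) * n1 := by
      refine mul_left_cancel₀ (Int.natCast_ne_zero.2 hp.ne_zero) ?_
      linear_combination e0 + ((p : ℤ) - 1) * e1
    have hn1pos : 0 < n1 := by
      rcases Nat.eq_zero_or_pos n1 with h0 | h0
      · exfalso
        obtain ⟨y, hy⟩ := exists_ne (1 : (P : Subgroup G))
        have hcq : (c : ℤ) = -(q : ℤ) := by rw [h0] at e1; push_cast at e1; linarith
        exact hy (Subtype.ext (hker χ hχ y (by rw [hval y hy, deg_eq, ← hq, hcq]; push_cast; ring)))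
      · exact h0
    have hqp : q < p := lt_of_le_of_ne (hle χ hχ) hdp
    have hp1 : (1 : ℤ) ≤ p := by exact_mod_cast hp.pos
    have h1 : ((p : ℤ) - 1) ≤ (p - 1) * n1 :=
      le_mul_of_one_le_right (by linarith) (by exact_mod_cast hn1pos)
    have : (p : ℤ) ≤ q + 1 := by linarith [Int.natCast_nonneg n0]
    omega
  have hsum0 : ∀ ψ : (P : Subgroup G) →* ℂˣ,
      ∑ χ ∈ (principalBlock M G).toFinite.toFinset, (charDegree (χ : G → ℂ) : ℤ) * coef χ ψ = 0 := fun ψ => by
    have h0 := sum_apply_coef hM ψ (g := (1 : G)) (by rw [orderOf_one]; exact hp.not_dvd_one)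
    rw [finsum_mem_eq_finite_toFinset_sum _ (principalBlock M G).toFinite] at h0
    refine Int.cast_injective (α := ℂ) ?_
    push_cast
    exact (Finset.sum_congr rfl fun χ _ => by rw [deg_eq]).trans h0
  have h1mem : one ∈ (principalBlock M G).toFinite.toFinset :=
    (principalBlock M G).toFinite.mem_toFinset.2 (sameBlock_refl _)
  -- it suffices that a prime divides the degree of every other relevant character
  have finish : ∀ (D : ℕ) (ψ : (P : Subgroup G) →* ℂˣ), D.Prime → ψ ≠ 1 →
      (∀ χ ∈ principalBlock M G, χ ≠ one → coef χ ψ ≠ 0 → D ∣ charDegree (χ : G → ℂ)) → False := by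
    intro D ψ hD hψ hdiv
    have h0 := hsum0 ψ
    rw [← Finset.add_sum_erase _ _ h1mem, coef_trivial one rfl hψ] at h0
    have hd1 : charDegree (one : G → ℂ) = 1 := by
      apply Nat.cast_injective (R := ℂ); rw [← deg_eq]; simp [one]
    rw [hd1] at h0
    have hdvd : (D : ℤ) ∣ ∑ χ ∈ (principalBlock M G).toFinite.toFinset.erase one,
        (charDegree (χ : G → ℂ) : ℤ) * coef χ ψ := Finset.dvd_sum fun χ hχ => by
      obtain ⟨hχ1, hχB⟩ := Finset.mem_erase.1 hχ
      by_cases hc : coef χ ψ = 0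
      · rw [hc, mul_zero]; exact dvd_zero _
      · exact dvd_mul_of_dvd_left (Int.natCast_dvd_natCast.2 (hdiv χ
          ((principalBlock M G).toFinite.mem_toFinset.1 hχB) hχ1 hc)) _
    have : (D : ℤ) ∣ 1 := by
      have e : (∑ χ ∈ (principalBlock M G).toFinite.toFinset.erase one,
        (charDegree (χ : G → ℂ) : ℤ) * coef χ ψ) = 1 := by push_cast at h0; linarith
      rwa [e] at hdvd
    exact hD.one_lt.ne' (Nat.dvd_one.1 (by exact_mod_cast this))
  by_cases hm2 : m + 1 < Nat.card P
  · obtain ⟨ζ, δ, d, c, hD⟩ := hH.exists_data hM hm2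
    have hone := (hD.trivial_apply hH hm2 (one := one) rfl (sameBlock_refl _)).2
    -- all exceptional characters have the same degree
    have heq : ∀ ψ, ψ ≠ 1 → charDegree (ζ ψ : G → ℂ) = charDegree (ζ ψ₀ : G → ℂ) := by
      intro ψ hψ
      have a := hD.relation hM hψ (g := (1 : G)) (by rw [orderOf_one]; exact hp.not_dvd_one)
      have b := hD.relation hM hψ₀ (g := (1 : G)) (by rw [orderOf_one]; exact hp.not_dvd_one)
      have hδ : (δ : ℂ) ≠ 0 := by rcases hD.sign with rfl | rfl <;> norm_num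
      have : (ζ ψ : G → ℂ) 1 = (ζ ψ₀ : G → ℂ) 1 := mul_left_cancel₀ hδ (by linear_combination a - b)
      rw [deg_eq, deg_eq, Nat.cast_inj] at this
      exact this
    obtain ⟨ψ₁, hψ₁, hne₁⟩ := hD.exists_other hH hm2 hψ₀
    set D := charDegree (ζ ψ₀ : G → ℂ) with hDdef
    have hDprime : D.Prime := hdeg _ (hone ψ₀ hψ₀)
    have hDp : D ≠ p := fun e => by
      have a := hvan' _ (hone ψ₀ hψ₀) e ψ₀
      have b := hvan' _ (hone ψ₀ hψ₀) e ψ₁
      rw [hD.coef_eq _ (hD.mem ψ₀ hψ₀) ψ₀ hψ₀, if_pos rfl] at a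
      rw [hD.coef_eq _ (hD.mem ψ₀ hψ₀) ψ₁ hψ₁, if_neg fun e' => hne₁ e'.symm] at b
      rcases hD.sign with rfl | rfl <;> omega
    refine finish D ψ₀ hDprime hψ₀ fun χ hχ hχ1 hc => ?_
    by_cases hex : ∃ ψ, ψ ≠ 1 ∧ ζ ψ = χ
    · obtain ⟨ψ, hψ, rfl⟩ := hex
      rw [heq ψ hψ]
    · push Not at hex
      have hq : charDegree (χ : G → ℂ) ≠ p := fun e => hc (hvan' χ hχ1 e ψ₀)
      have e := hconst χ hχ1 hq fun ψ ψ' hψ hψ' => by
        rw [hD.coef_eq χ hχ ψ hψ, hD.coef_eq χ hχ ψ' hψ', if_neg (fun e => hex ψ hψ e.symm),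
          if_neg (fun e => hex ψ' hψ' e.symm)]
      have hqpr := hdeg χ hχ1
      have hDlt : D < p := lt_of_le_of_ne (hle _ (hone ψ₀ hψ₀)) hDp
      have hq2 : charDegree (χ : G → ℂ) = 2 := by
        rcases hqpr.eq_two_or_odd' with h2 | h2
        · exact h2
        · exfalso
          rcases hp.eq_two_or_odd' with h2' | h2'
          · rw [h2'] at e; have := hqpr.two_le; omega
          · rw [Nat.odd_iff] at h2 h2'; omega
      have hD2 : D = 2 := by have := hDprime.two_le; omega
      rw [hq2, hD2]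
  · have hall : ∀ ψ, ψ ≠ 1 → Twist P ψ₀ ψ := by
      intro ψ hψ
      have h1 : Finset.univ.filter (fun φ => Twist P ψ₀ φ) = Finset.univ.erase (1 : (P : Subgroup G) →* ℂˣ) := by
        refine Finset.eq_of_subset_of_card_le (fun φ hφ => Finset.mem_erase.2 ⟨fun e => hψ₀ ?_, Finset.mem_univ _⟩) ?_
        · obtain ⟨n, hn⟩ := (twist_iff P ψ₀ φ).1 (Finset.mem_filter.1 hφ).2
          rw [← hn, e, one_tw]
        · rw [Finset.card_erase_of_mem (Finset.mem_univ _), Finset.card_univ, ← Nat.card_eq_fintype_card,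
            hcard, ← Fintype.card_subtype, ← Nat.card_eq_fintype_card, hH.card_orbit hψ₀]
          omega
      have h2 := Finset.mem_erase.2 ⟨hψ, Finset.mem_univ ψ⟩
      rw [← h1] at h2
      exact (Finset.mem_filter.1 h2).2
    by_cases hex : ∃ χ ∈ principalBlock M G, χ ≠ one ∧ coef χ ψ₀ ≠ 0
    · obtain ⟨χ₀, hχ₀, hχ₀1, hc₀⟩ := hex
      refine finish (charDegree (χ₀ : G → ℂ)) ψ₀ (hdeg χ₀ hχ₀1) hψ₀ fun χ hχ hχ1 hc => ?_
      have key : ∀ χ : IrrCharacter G, χ ≠ one → coef χ ψ₀ ≠ 0 → charDegree (χ : G → ℂ) + 1 = p := fun χ h1 h2 =>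
        hconst χ h1 (fun e => h2 (hvan' χ h1 e ψ₀)) fun ψ ψ' hψ hψ' => by
          rw [← coef_twist hH χ (hall ψ hψ), coef_twist hH χ (hall ψ' hψ')]
      have a := key χ hχ1 hc
      have b := key χ₀ hχ₀1 hc₀
      rw [show charDegree (χ : G → ℂ) = charDegree (χ₀ : G → ℂ) by omega]
    · push Not at hex
      exact finish p ψ₀ hp hψ₀ fun χ hχ hχ1 hc => absurd (hex χ hχ hχ1) hc

theorem isSolvable_of_primeDegrees : ∀ (n : ℕ) (G : Type u) [Group G] [Finite G], Nat.card G = n →
    PrimeDegrees G → Group.IsSolvable G := by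
  intro n
  induction n using Nat.strong_induction_on with
  | _ n ih =>
    intro G _ _ hn h
    by_cases hab : ∀ a b : G, a * b = b * a
    · letI : CommGroup G := { (inferInstance : Group G) with mul_comm := hab }
      infer_instance
    by_cases hsimp : ∃ N : Subgroup G, N.Normal ∧ N ≠ ⊥ ∧ N ≠ ⊤
    · obtain ⟨N, hN, hb, ht⟩ := hsimp
      haveI := hN
      have hlt : Nat.card N < n := hn ▸ lt_of_le_of_ne (Subgroup.card_le_card_group N)
        (fun e => ht (Subgroup.eq_top_of_card_eq N e))
      have hlt2 : Nat.card (G ⧸ N) < n := by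
        rw [← hn, Subgroup.card_eq_card_quotient_mul_card_subgroup N]
        exact lt_mul_of_one_lt_right Nat.card_pos (N.one_lt_card_iff_ne_bot.mpr hb)
      haveI := ih _ hlt N rfl (primeDegrees_normal h N)
      haveI := ih _ hlt2 (G ⧸ N) rfl (primeDegrees_quotient h N)
      exact Group.isSolvable_of_ker_le_range N.subtype (QuotientGroup.mk' N)
        (by rw [QuotientGroup.ker_mk', Subgroup.range_subtype])
    · push Not at hsimp
      haveI : Nontrivial G := by
        by_contra hn'
        rw [not_nontrivial_iff_subsingleton] at hn'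
        exact hab fun a b => Subsingleton.elim _ _
      haveI : IsSimpleGroup G :=
        ⟨fun N hN => or_iff_not_imp_left.mpr fun hb => hsimp N hN hb⟩
      exact (no_simple hab h).elim

end Cfsg.Agent.Block.PrimeDeg
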