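import Cfsg.Agent.Lib.Char.Galois
import Cfsg.Agent.Lib.Char.Clifford
import Cfsg.Agent.Lib.Char.PermChar
import Cfsg.Agent.Lib.Char.Central
import Mathlib.LinearAlgebra.PID

/-!
# A faithful character whose product with a conjugate is irreducible
-/

set_option autoImplicit false
set_option linter.style.haveILetI false

open Cfsg Representation Module Cfsg.Agent.Char
open scoped ComplexConjugate

namespace Cfsg.Agent.Block

universe u

variable {G : Type u} [Group G]

/-- The traces on an invariant idempotent and on its complement are characters. -/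
theorem isCharacter_trace_mul_idem {V : Type*} [AddCommGroup V] [Module ℂ V] [FiniteDimensional ℂ V]
    (σ : Representation ℂ G V) (P : V →ₗ[ℂ] V) (hidem : ∀ x, P (P x) = P x)
    (hcomm : ∀ g x, σ g (P x) = P (σ g x)) :
    IsCharacter G fun g => LinearMap.trace ℂ V (σ g ∘ₗ P) := by
  let W : Subrepresentation σ :=
    { toSubmodule := LinearMap.range P
      apply_mem_toSubmodule := fun g v hv => by
        obtain ⟨x, rfl⟩ := hv
        exact ⟨σ g x, (hcomm g x).symm⟩ }
  have hf : ∀ g x, (σ g ∘ₗ P) x ∈ LinearMap.range P := fun g x => ⟨σ g x, (hcomm g x).symm⟩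
  have he : (fun g => LinearMap.trace ℂ V (σ g ∘ₗ P)) = W.toRepresentation.character := by
    funext g
    rw [← LinearMap.trace_restrict_eq_of_forall_mem (LinearMap.range P) _ (hf g)]
    show _ = LinearMap.trace ℂ _ (W.toRepresentation g)
    congr 1
    refine LinearMap.ext fun x => Subtype.ext ?_
    obtain ⟨y, hy⟩ := x.2
    show σ g (P (x : V)) = σ g (x : V)
    rw [← hy, hidem]
  rw [he]
  exact isCharacter_character _

variable [Fintype G]

/-- An irreducible character is not the sum of two characters of positive degree. -/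
theorem false_of_irr_eq_add {χ A B : G → ℂ} (hχ : IsIrrCharacter G χ) (hA : IsCharacter G A)
    (hB : IsCharacter G B) (he : χ = A + B) (hA0 : A 1 ≠ 0) (hB0 : B 1 ≠ 0) : False := by
  have key : ∀ Φ, IsCharacter G Φ → Φ 1 ≠ 0 → ∀ Ψ, IsCharacter G Ψ → χ = Φ + Ψ →
      ∃ R, IsCharacter G R ∧ Φ = χ + R := by
    intro Φ hΦ h0 Ψ hΨ e
    obtain ⟨τ, hτ, hne⟩ := IsCharacter.exists_irr_constituent hΦ (fun h => h0 (by rw [h]; rfl))
    have h1 : classInner χ τ ≠ 0 := by
      obtain ⟨a, ha⟩ := exists_classInner_nat hΦ hτ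
      obtain ⟨b, hb⟩ := exists_classInner_nat hΨ hτ
      rw [e, classInner_add_left, ha, hb]
      rw [ha] at hne
      norm_cast at hne ⊢
      omega
    have hτe : χ = τ := by
      by_contra h
      exact h1 (IsIrrCharacter.classInner_eq_zero hχ hτ h)
    rw [hτe]
    exact exists_add_of_classInner_ne_zero hΦ hτ hne
  obtain ⟨R, hR, eA⟩ := key A hA hA0 B hB he
  obtain ⟨r, hr⟩ := IsCharacter.exists_degree hR
  obtain ⟨b, hb⟩ := IsCharacter.exists_degree hB
  have e1 := congrFun he 1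
  rw [eA] at e1
  simp only [Pi.add_apply, hr, hb] at e1
  have : ((r + b : ℕ) : ℂ) = 0 := by push_cast; linear_combination -e1
  have hb' : b = 0 := by norm_cast at this; omega
  exact hB0 (by rw [hb, hb', Nat.cast_zero])

/-- With such a product every abelian normal subgroup is central. -/
theorem le_center_of_abelian {χ : G → ℂ} (hχ : IsIrrCharacter G χ)
    (hfaith : ∀ g : G, χ g = χ 1 → g = 1) {k : ℕ} (hk : k.Coprime (Nat.card G))
    (hirr : IsIrrCharacter G fun g => χ g * χ (g ^ k)) (A : Subgroup G) [A.Normal]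
    (hab : ∀ a ∈ A, ∀ b ∈ A, a * b = b * a) : A ≤ Subgroup.center G := by
  classical
  haveI := Fintype.ofFinite A
  obtain ⟨n, hn0, hn⟩ := IsIrrCharacter.degree_pos hχ
  obtain ⟨θ, hθ, hc⟩ := IsCharacter.exists_irr_constituent
    (IsCharacter.restrict (IsIrrCharacter.isCharacter hχ) A) (fun h => by
      have := congrFun h 1
      simp [hn] at this
      omega)
  by_cases htop : ∀ g, conjChar A g θ = θ
  · intro a ha
    rw [Subgroup.mem_center_iff]
    intro g
    have hres := restrict_eq_smul_of_inertia_top A hχ hθ hc htop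
    obtain ⟨l, hl⟩ := IsCharacter.exists_monoidHom (IsIrrCharacter.isCharacter hθ)
      (IsIrrCharacter.degree_one_of_commutator_ker hθ fun x y => by
        have : x * y * x⁻¹ * y⁻¹ = 1 := Subtype.ext (by
          simp [hab x x.2 y y.2])
        rw [this])
    have hga : g * a * g⁻¹ ∈ A := Subgroup.Normal.conj_mem inferInstance a ha g
    have h1 := congrFun hres (⟨g * a * g⁻¹, hga⟩ * ⟨a, ha⟩⁻¹)
    have h2 := congrFun hres 1
    have hinv := congrFun (htop g) ⟨a, ha⟩
    rw [conjChar_apply] at hinv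
    have hmul : θ (⟨g * a * g⁻¹, hga⟩ * ⟨a, ha⟩⁻¹) = θ 1 := by
      have e : (l ⟨g * a * g⁻¹, hga⟩ : ℂ) = (l ⟨a, ha⟩ : ℂ) := by
        have hl' : ∀ x : A, θ x = (l x : ℂ) := fun x => by rw [hl]
        rw [← hl', ← hl']
        exact (congrArg θ (Subtype.ext (MulAut.conjNormal_apply (H := A) g ⟨a, ha⟩).symm)).trans hinv
      have hl' : ∀ x : A, θ x = (l x : ℂ) := fun x => by rw [hl]
      rw [hl', hl', map_mul, map_inv, map_one, Units.ext e, mul_inv_cancel]
    simp only [Pi.smul_apply, smul_eq_mul] at h1 h2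
    rw [hmul, ← h2] at h1
    have h3 := hfaith (g * a * g⁻¹ * a⁻¹) (by simpa using h1)
    calc g * a = (g * a * g⁻¹ * a⁻¹) * (a * g) := by group
      _ = a * g := by rw [h3, one_mul]
  · exfalso
    push_neg at htop
    obtain ⟨g₀, hg₀⟩ := htop
    let T := inertia A θ
    haveI := Fintype.ofFinite T
    have hAT : A ≤ T := le_inertia A (IsCharacter.isClassFunction (IsIrrCharacter.isCharacter hθ))
    obtain ⟨η, hη, hηχ, hηθ⟩ := exists_irr_above_inertia A hθ hAT hχ hc
    have hind := (clifford_core A hθ (T := T) rfl hAT hχ hη hηχ hηθ).1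
    have hkT : k.Coprime (Nat.card T) := hk.coprime_dvd_right (Subgroup.card_subgroup_dvd_card T)
    have hψ : IsCharacter G fun g => χ (g ^ k) := isCharacter_comp_pow (IsIrrCharacter.isCharacter hχ) hk
    have hηk := isIrrCharacter_comp_pow hη hkT
    have hne : classInner (fun t : T => χ ((t : G) ^ k)) (fun t : T => η (t ^ k)) ≠ 0 := by
      have := classInner_comp_pow (G := T) hkT.symm (fun t : T => χ t) η
      simp only [SubgroupClass.coe_pow] at this
      rwa [this]
    obtain ⟨r, hr, hsplit⟩ := exists_add_of_classInner_ne_zero (IsCharacter.restrict hψ T) hηk hne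
    obtain ⟨d, hd0, hd⟩ := IsIrrCharacter.degree_pos hη
    obtain ⟨e, he⟩ := IsCharacter.exists_degree hr
    have hidx : 2 ≤ T.index := by
      refine Subgroup.one_lt_index_of_ne_top fun h => hg₀ ?_
      rw [← mem_inertia, show inertia A θ = ⊤ from h]
      trivial
    have hnd : (n : ℂ) = T.index * d := by
      rw [← hn, ← hind, indFun_one_apply, hd]
    have he0 : e ≠ 0 := by
      intro he0
      have := congrFun hsplit 1
      simp only [Pi.add_apply, OneMemClass.coe_one, one_pow, hn, hd, he, he0, Nat.cast_zero, add_zero] at this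
      rw [hnd] at this
      have : T.index * d = d := by exact_mod_cast this
      nlinarith
    have hmulind : (fun g => χ g * χ (g ^ k)) =
        indFun T (fun t : T => η (t ^ k) * η t) + indFun T (fun t : T => r t * η t) := by
      rw [← indFun_add]
      have h := indFun_mul T η (IsCharacter.isClassFunction hψ)
      rw [hind] at h
      rw [show (fun t : T => η (t ^ k) * η t) + (fun t : T => r t * η t) =
          fun t : T => (fun g : G => χ (g ^ k)) t * η t from funext fun t => by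
        have := congrFun hsplit t
        simp only [Pi.add_apply] at this ⊢
        rw [this, add_mul], h]
      funext g
      exact mul_comm _ _
    refine false_of_irr_eq_add hirr
      (isCharacter_indFun T (isCharacter_mul (IsIrrCharacter.isCharacter hηk) (IsIrrCharacter.isCharacter hη)))
      (isCharacter_indFun T (isCharacter_mul hr (IsIrrCharacter.isCharacter hη))) hmulind ?_ ?_
    · rw [indFun_one_apply]
      simp only [Pi.mul_apply, one_pow, hd]
      norm_cast
      positivity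
    · rw [indFun_one_apply]
      simp only [Pi.mul_apply, he, hd]
      norm_cast
      positivity

/-- With such a product every nilpotent normal subgroup is central. -/
theorem le_center_of_nilpotent {χ : G → ℂ} (hχ : IsIrrCharacter G χ)
    (hfaith : ∀ g : G, χ g = χ 1 → g = 1) {k : ℕ} (hk : k.Coprime (Nat.card G))
    (hirr : IsIrrCharacter G fun g => χ g * χ (g ^ k)) (F : Subgroup G) [F.Normal]
    (hF : Group.IsNilpotent F) : F ≤ Subgroup.center G := by
  classical
  by_contra hnle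
  have habel : ∀ (A : Subgroup G), A.Normal → (∀ a ∈ A, ∀ b ∈ A, a * b = b * a) →
      A ≤ Subgroup.center G := fun A hA hab =>
    @le_center_of_abelian G _ _ χ hχ hfaith k hk hirr A hA hab
  let Z := Subgroup.center G
  -- elements of `F` centralizing `F` modulo the center
  let M : Subgroup G :=
    { carrier := {x | x ∈ F ⊔ Z ∧ ∀ y ∈ F ⊔ Z, x * y * x⁻¹ * y⁻¹ ∈ Z}
      one_mem' := ⟨one_mem _, fun y _ => by simp⟩
      mul_mem' := fun {a b} ha hb => ⟨mul_mem ha.1 hb.1, fun y hy => by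
        have : a * b * y * (a * b)⁻¹ * y⁻¹ = a * (b * y * b⁻¹ * y⁻¹) * a⁻¹ * (a * y * a⁻¹ * y⁻¹) := by group
        rw [this]
        exact mul_mem (Subgroup.Normal.conj_mem inferInstance _ (hb.2 y hy) a) (ha.2 y hy)⟩
      inv_mem' := fun {a} ha => ⟨inv_mem ha.1, fun y hy => by
        have : a⁻¹ * y * a⁻¹⁻¹ * y⁻¹ = a⁻¹ * (a * y * a⁻¹ * y⁻¹)⁻¹ * a⁻¹⁻¹ := by group
        rw [this]
        exact Subgroup.Normal.conj_mem inferInstance _ (inv_mem (ha.2 y hy)) a⁻¹⟩ }
  have hMn : M.Normal := by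
    constructor
    intro x hx g
    refine ⟨Subgroup.Normal.conj_mem inferInstance x hx.1 g, fun y hy => ?_⟩
    have hy' : g⁻¹ * y * g ∈ F ⊔ Z := by
      simpa using (inferInstance : (F ⊔ Z).Normal).conj_mem y hy g⁻¹
    have : g * x * g⁻¹ * y * (g * x * g⁻¹)⁻¹ * y⁻¹ =
        g * (x * (g⁻¹ * y * g) * x⁻¹ * (g⁻¹ * y * g)⁻¹) * g⁻¹ := by group
    rw [this]
    exact Subgroup.Normal.conj_mem inferInstance _ (hx.2 _ hy') g
  haveI := hMn
  have hZM : Z ≤ M := fun z hz => ⟨le_sup_right (a := F) hz, fun y _ => by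
    rw [← Subgroup.mem_center_iff.1 hz y]; simp⟩
  -- `M` is not central
  obtain ⟨m₀, hm₀, hm₀Z⟩ : ∃ m, m ∈ M ∧ m ∉ Z := by
    let q := (QuotientGroup.mk' Z).comp F.subtype
    haveI : Group.IsNilpotent q.range :=
      Group.nilpotent_of_surjective q.rangeRestrict q.rangeRestrict_surjective
    haveI : Nontrivial q.range := by
      obtain ⟨f, hf, hfZ⟩ := SetLike.not_le_iff_exists.1 hnle
      refine ⟨⟨⟨_, ⟨⟨f, hf⟩, rfl⟩⟩, 1, fun h => hfZ ?_⟩⟩
      exact (QuotientGroup.eq_one_iff f).1 (congrArg Subtype.val h)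
    haveI : Finite q.range := Subtype.finite
    haveI : Nontrivial (Subgroup.center q.range) :=
      (Subgroup.nontrivial_iff_ne_bot _).2 (Group.IsNilpotent.center_ne_bot q.range)
    obtain ⟨⟨⟨c, f, hfc⟩, hcc⟩, hcne⟩ := exists_ne (1 : Subgroup.center q.range)
    refine ⟨f, ⟨le_sup_left (b := Z) f.2, fun y hy => ?_⟩, fun h => hcne ?_⟩
    · obtain ⟨y₁, hy₁, z, hz, rfl⟩ := Subgroup.mem_sup_of_normal_right.1 hy
      have h1 := congrArg Subtype.val (Subgroup.mem_center_iff.1 hcc ⟨_, ⟨⟨y₁, hy₁⟩, rfl⟩⟩)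
      rw [← QuotientGroup.eq_one_iff]
      have hz1 : (QuotientGroup.mk z : G ⧸ Z) = 1 := (QuotientGroup.eq_one_iff z).2 hz
      simp only [QuotientGroup.mk_mul, QuotientGroup.mk_inv, hz1, mul_one, inv_one, one_mul,
        mul_inv_rev]
      have hf' : (QuotientGroup.mk (f : G) : G ⧸ Z) = c := hfc
      rw [hf']
      have h2 : (QuotientGroup.mk y₁ : G ⧸ Z) * c = c * QuotientGroup.mk y₁ := h1
      rw [← h2]; group
    · refine Subtype.ext (Subtype.ext ?_)
      show c = 1
      rw [← hfc]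
      exact (QuotientGroup.eq_one_iff _).2 h
  obtain ⟨d, ρ, hρ, hρχ⟩ := hχ
  haveI := hρ
  haveI := nontrivial_of_irreducible ρ
  let V := Fin d → ℂ
  have hχ' : IsIrrCharacter G χ := ⟨d, ρ, hρ, hρχ⟩
  subst hρχ
  have hd : (finrank ℂ V : ℂ) ≠ 0 := Nat.cast_ne_zero.2 Module.finrank_pos.ne'
  set N := (finrank ℂ V : ℂ) with hN
  -- central elements act as scalars
  have hscal : ∀ z ∈ Z, ρ z = (ρ.character z / N) • (LinearMap.id : V →ₗ[ℂ] V) := by
    intro z hz
    have h := sum_smul_rep_eq_smul_id ρ (f := fun g => if g = z then 1 else 0) (fun a x => by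
      have : x * a * x⁻¹ = z ↔ a = z := by
        rw [mul_inv_eq_iff_eq_mul, ← Subgroup.mem_center_iff.1 hz x, mul_right_inj]
      simp only [this])
    simpa [hN, V] using h
  have hchi1 : ρ.character 1 = N := ρ.char_one
  have hmulZ : ∀ z ∈ Z, ∀ g, ρ.character (g * z) = ρ.character z / N * ρ.character g := by
    intro z hz g
    show LinearMap.trace ℂ V (ρ (g * z)) = _
    rw [map_mul, hscal z hz, mul_smul_comm, map_smul, smul_eq_mul]
    rfl
  have hzz : ∀ z ∈ Z, ρ.character z * ρ.character z⁻¹ = N * N := by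
    intro z hz
    have h := hmulZ z⁻¹ (inv_mem hz) z
    rw [mul_inv_cancel, hchi1] at h
    field_simp at h
    linear_combination -h
  -- the center of `M` is central
  have hZMc : ∀ a ∈ M, (∀ b ∈ M, a * b = b * a) → a ∈ Z := by
    let A : Subgroup G := M ⊓ Subgroup.centralizer (M : Set G)
    have hA : A.Normal := inferInstance
    have hAZ : A ≤ Z := habel A hA fun a ha b hb => (Subgroup.mem_centralizer_iff.1 ha.2 b hb.1).symm
    intro a ha hab
    exact hAZ ⟨ha, Subgroup.mem_centralizer_iff.2 fun b hb => (hab b hb).symm⟩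
  have hvan : ∀ m ∈ M, m ∉ Z → ρ.character m = 0 := by
    intro m hm hmZ
    by_contra h0
    refine hmZ (hZMc m hm fun b hb => ?_)
    have hz : m⁻¹ * b * m⁻¹⁻¹ * b⁻¹ ∈ Z := (inv_mem hm : m⁻¹ ∈ M).2 b hb.1
    have h1 : ρ.character (b * m * b⁻¹) = ρ.character m := ρ.char_conj m b
    rw [show b * m * b⁻¹ = m * (m⁻¹ * b * m⁻¹⁻¹ * b⁻¹) by group, hmulZ _ hz] at h1
    have h2 : ρ.character (m⁻¹ * b * m⁻¹⁻¹ * b⁻¹) / N = 1 := by
      rwa [mul_eq_right₀ h0] at h1
    rw [div_eq_one_iff_eq hd, ← hchi1] at h2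
    have h3 := hfaith _ h2
    calc m * b = m * (m⁻¹ * b * m⁻¹⁻¹ * b⁻¹) * b := by rw [h3, mul_one]
      _ = b * m := by group
  haveI := Fintype.ofFinite M
  haveI := Fintype.ofFinite Z
  -- the projection on the span of the images of `M`
  let σ : Representation ℂ G (V →ₗ[ℂ] V) := ρ.linHom ρ
  have hσ : ∀ g X, σ g X = ρ g ∘ₗ X ∘ₗ ρ g⁻¹ := fun g X => rfl
  let c : ℂ := (N * Nat.card Z)⁻¹
  let φ : G → (V →ₗ[ℂ] V) →ₗ[ℂ] ℂ := fun a =>
    (LinearMap.trace ℂ V).comp (LinearMap.mulLeft ℂ (ρ a⁻¹))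
  have hφ : ∀ a X, φ a X = LinearMap.trace ℂ V (ρ a⁻¹ * X) := fun a X => rfl
  let P : (V →ₗ[ℂ] V) →ₗ[ℂ] (V →ₗ[ℂ] V) := c • ∑ m : M, (φ (m : G)).smulRight (ρ (m : G))
  have hP : ∀ X, P X = c • ∑ m : M, φ (m : G) X • ρ (m : G) := fun X => by
    simp [P, LinearMap.smul_apply, LinearMap.sum_apply]
  have hcomm : ∀ g X, σ g (P X) = P (σ g X) := by
    intro g X
    rw [hP, hP, map_smul, map_sum]
    congr 1
    refine Fintype.sum_equiv (MulAut.conjNormal g).toEquiv _ _ fun m => ?_
    have e : ((MulAut.conjNormal g m : M) : G) = g * m * g⁻¹ := MulAut.conjNormal_apply ..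
    simp only [MulEquiv.toEquiv_eq_coe, EquivLike.coe_coe, map_smul]
    rw [e, hφ, hφ, hσ, hσ]
    simp only [← Module.End.mul_eq_comp]
    rw [show ρ g * (ρ (m : G) * ρ g⁻¹) = ρ (g * m * g⁻¹) by simp [map_mul, mul_assoc]]
    congr 1
    rw [show ρ (g * (m : G) * g⁻¹)⁻¹ * (ρ g * (X * ρ g⁻¹)) = ρ g * (ρ (m : G)⁻¹ * X) * ρ g⁻¹ by
      rw [show (g * (m : G) * g⁻¹)⁻¹ = g * (m : G)⁻¹ * g⁻¹ by group]
      simp only [map_mul, mul_assoc]
      rw [← mul_assoc (ρ g⁻¹) (ρ g), ← map_mul, inv_mul_cancel, map_one, one_mul]]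
    conv_rhs => rw [LinearMap.trace_mul_cycle]
    simp [← map_mul, ← mul_assoc]
  have hfix : ∀ m₁ : M, P (ρ (m₁ : G)) = ρ (m₁ : G) := by
    intro m₁
    have hterm : ∀ m : M, φ (m : G) (ρ (m₁ : G)) • ρ (m : G) =
        if (m : G)⁻¹ * m₁ ∈ Z then N • ρ (m₁ : G) else 0 := by
      intro m
      rw [hφ, ← map_mul]
      change ρ.character _ • _ = _
      split
      next h =>
        conv_rhs => rw [show (m₁ : G) = m * ((m : G)⁻¹ * m₁) by group, map_mul, hscal _ h,
          mul_smul_comm, smul_smul, mul_div_cancel₀ _ hd]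
        rfl
      next h => rw [hvan _ (mul_mem (inv_mem m.2) m₁.2) h, zero_smul]
    have hcard : (Finset.univ.filter fun m : M => (m : G)⁻¹ * m₁ ∈ Z).card = Nat.card Z := by
      rw [Nat.card_eq_fintype_card (α := Z), ← Finset.card_univ]
      refine Finset.card_bij' (fun m hm => ⟨(m : G)⁻¹ * m₁, (Finset.mem_filter.1 hm).2⟩)
        (fun z _ => ⟨(m₁ : G) * (z : G)⁻¹, mul_mem m₁.2 (inv_mem (hZM z.2))⟩)
        (fun m _ => Finset.mem_univ _) (fun z _ => by simp) (fun m _ => by simp) (fun z _ => by simp)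
    rw [hP, Finset.sum_congr rfl fun m _ => hterm m, ← Finset.sum_filter, Finset.sum_const, hcard,
      ← Nat.cast_smul_eq_nsmul ℂ, smul_smul, smul_smul]
    have : c * Nat.card Z * N = 1 := by
      have hz0 : (Nat.card Z : ℂ) ≠ 0 := Nat.cast_ne_zero.2 Nat.card_pos.ne'
      simp only [c]; field_simp
    rw [this, one_smul]
  have hidem : ∀ X, P (P X) = P X := by
    intro X
    conv_lhs => rw [hP X, map_smul, map_sum]
    simp only [map_smul, hfix]
    exact (hP X).symm
  have hΦ : IsCharacter G fun g => LinearMap.trace ℂ _ (σ g ∘ₗ P) :=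
    isCharacter_trace_mul_idem σ P hidem hcomm
  set Φ := fun g => LinearMap.trace ℂ _ (σ g ∘ₗ P) with hΦdef
  have hR : IsCharacter G fun g => LinearMap.trace ℂ _ (σ g ∘ₗ (LinearMap.id - P)) :=
    isCharacter_trace_mul_idem σ (LinearMap.id - P)
      (fun X => by simp [map_sub, hidem]) (fun g X => by simp [map_sub, hcomm])
  set R := fun g => LinearMap.trace ℂ _ (σ g ∘ₗ (LinearMap.id - P)) with hRdef
  let ξ : G → ℂ := fun g => ρ.character g⁻¹ * ρ.character g
  have hξ : ∀ g, ξ g = Φ g + R g := fun g => by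
    show _ = LinearMap.trace ℂ _ (σ g ∘ₗ P) + LinearMap.trace ℂ _ (σ g ∘ₗ (LinearMap.id - P))
    rw [← map_add, ← LinearMap.comp_add, show P + (LinearMap.id - P) = LinearMap.id by abel, LinearMap.comp_id]
    exact (Representation.char_linHom ρ ρ g).symm
  have hΦform : ∀ g, Φ g = c * ∑ m : M, ρ.character ((m : G)⁻¹ * (g * m * g⁻¹)) := by
    intro g
    have e : σ g ∘ₗ P = c • ∑ m : M, (φ (m : G)).smulRight (σ g (ρ (m : G))) := by
      refine LinearMap.ext fun X => ?_
      simp [hP, LinearMap.smul_apply, LinearMap.sum_apply, map_sum]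
    show LinearMap.trace ℂ _ (σ g ∘ₗ P) = _
    rw [e, map_smul, map_sum, smul_eq_mul]
    congr 1
    refine Finset.sum_congr rfl fun m _ => ?_
    rw [LinearMap.trace_smulRight, hφ, hσ]
    show LinearMap.trace ℂ V (ρ (m : G)⁻¹ * (ρ g * (ρ (m : G) * ρ g⁻¹))) = LinearMap.trace ℂ V _
    simp [map_mul, mul_assoc]
  -- invariance under the power map
  have hpowinv : ∀ x : G, ∃ j : ℕ, (x ^ k) ^ j = x := fun x =>
    exists_pow_eq_self_of_coprime (hk.coprime_dvd_right (orderOf_dvd_natCard x))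
  have hcl : ∀ a b : G, a * b * a⁻¹ * b⁻¹ ∈ Z → ∀ i : ℕ,
      a * b ^ i * a⁻¹ = (a * b * a⁻¹ * b⁻¹) ^ i * b ^ i ∧
      a ^ i * b * (a ^ i)⁻¹ = (a * b * a⁻¹ * b⁻¹) ^ i * b := by
    intro a b hz i
    set z := a * b * a⁻¹ * b⁻¹ with hzdef
    constructor
    · rw [← conj_pow, show a * b * a⁻¹ = z * b by rw [hzdef]; group,
        (show Commute z b from (Subgroup.mem_center_iff.1 hz b).symm).mul_pow]
    · induction i with
      | zero => simp
      | succ i ih =>
        rw [pow_succ', pow_succ', mul_inv_rev,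
          show a * a ^ i * b * ((a ^ i)⁻¹ * a⁻¹) = a * (a ^ i * b * (a ^ i)⁻¹) * a⁻¹ by group, ih,
          show a * (z ^ i * b) * a⁻¹ = a * z ^ i * a⁻¹ * (a * b * a⁻¹) by group,
          Subgroup.mem_center_iff.1 (pow_mem hz i) a, show a * b * a⁻¹ = z * b by rw [hzdef]; group]
        rw [mul_inv_cancel_right, ← mul_assoc, ← pow_succ, pow_succ']
  have hΦk : ∀ g, Φ (g ^ k) = Φ g := by
    intro g
    rw [hΦform, hΦform]
    congr 1
    refine Fintype.sum_equiv (powCoprime (G := M)
      (hk.coprime_dvd_right (Subgroup.card_subgroup_dvd_card M)).symm) _ _ fun m => ?_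
    simp only [powCoprime_apply, SubgroupClass.coe_pow]
    set m' : G := (m : G)
    have hdef : ∀ a b : G, b⁻¹ * (a * b * a⁻¹) = b⁻¹ * (a * b * a⁻¹ * b⁻¹) * b := fun a b => by group
    have hin : ∀ a b : G, a * b * a⁻¹ * b⁻¹ ∈ Z → b⁻¹ * (a * b * a⁻¹) = a * b * a⁻¹ * b⁻¹ := fun a b h => by
      rw [hdef, Subgroup.mem_center_iff.1 h b⁻¹, inv_mul_cancel_right]
    by_cases hz : g * m' * g⁻¹ * m'⁻¹ ∈ Z
    · obtain ⟨h1, -⟩ := hcl g m' hz k
      obtain ⟨-, h2⟩ := hcl g m' hz k
      have e1 : g * m' ^ k * g⁻¹ * (m' ^ k)⁻¹ = (g * m' * g⁻¹ * m'⁻¹) ^ k := by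
        rw [h1, mul_inv_cancel_right]
      have e2 : g ^ k * m' * (g ^ k)⁻¹ * m'⁻¹ = (g * m' * g⁻¹ * m'⁻¹) ^ k := by
        rw [h2, mul_inv_cancel_right]
      rw [hin g (m' ^ k) (by rw [e1]; exact pow_mem hz k),
        hin (g ^ k) m' (by rw [e2]; exact pow_mem hz k), e1, e2]
    · have hmem : ∀ (a : G) (b : G), b ∈ M → b⁻¹ * (a * b * a⁻¹) ∈ M := fun a b hb =>
        mul_mem (inv_mem hb) (hMn.conj_mem b hb a)
      have hnZ : ∀ a b : G, a * b * a⁻¹ * b⁻¹ ∉ Z → b⁻¹ * (a * b * a⁻¹) ∉ Z := fun a b h hb => h (by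
        have := Subgroup.Normal.conj_mem (H := Z) inferInstance _ hb b
        simpa [mul_assoc] using this)
      rw [hvan _ (hmem _ _ m.2) (hnZ _ _ fun h => hz ?_),
        hvan _ (hmem _ _ (pow_mem m.2 k)) (hnZ _ _ fun h => hz ?_)]
      · obtain ⟨j, hj⟩ := hpowinv m'
        obtain ⟨h1, -⟩ := hcl g (m' ^ k) h j
        rw [hj] at h1
        rw [h1, mul_inv_cancel_right]
        exact pow_mem h j
      · obtain ⟨j, hj⟩ := hpowinv g
        obtain ⟨-, h2⟩ := hcl (g ^ k) m' h j
        rw [hj] at h2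
        rw [h2, mul_inv_cancel_right]
        exact pow_mem h j
  -- the norm of the product is at least two
  have hRk : IsCharacter G fun g => R (g ^ k) := isCharacter_comp_pow hR hk
  have hone : classInner (fun g => ρ.character g * ρ.character (g ^ k))
      (fun g => ρ.character g * ρ.character (g ^ k)) = classInner (Φ + R) (Φ + fun g => R (g ^ k)) := by
    unfold classInner
    congr 1
    refine Finset.sum_congr rfl fun g _ => ?_
    have h1 := hξ g
    have h2 : conj (Φ g + R (g ^ k)) = ρ.character (g ^ k) * ρ.character (g ^ k)⁻¹ := by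
      rw [← hΦk g, ← hξ, map_mul, ← IsCharacter.map_inv (IsIrrCharacter.isCharacter hχ'),
        ← IsCharacter.map_inv (IsIrrCharacter.isCharacter hχ'), inv_inv]
    simp only [Pi.add_apply]
    rw [← h1, h2, map_mul, ← IsCharacter.map_inv (IsIrrCharacter.isCharacter hχ'),
      ← IsCharacter.map_inv (IsIrrCharacter.isCharacter hχ')]
    ring
  rw [IsIrrCharacter.classInner_self hirr, classInner_add_left, classInner_add_right,
    classInner_add_right] at hone
  obtain ⟨a, ha⟩ := classInner_natCast_of_isCharacter hΦ hΦ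
  obtain ⟨a', ha'⟩ := classInner_natCast_of_isCharacter hR hΦ
  obtain ⟨b, hb⟩ := classInner_natCast_of_isCharacter hΦ hRk
  obtain ⟨b', hb'⟩ := classInner_natCast_of_isCharacter hR hRk
  rw [ha, ha', hb, hb'] at hone
  have hsum : a + b + (a' + b') = 1 := by exact_mod_cast hone.symm
  -- the degree of `Φ`
  have hΦ1 : Φ 1 = (Nat.card M : ℂ) / Nat.card Z := by
    rw [hΦform, Finset.sum_congr rfl (g := fun _ : M => N) fun m _ => by simp [hchi1],
      Finset.sum_const, Finset.card_univ, ← Nat.card_eq_fintype_card, nsmul_eq_mul]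
    have hz0 : (Nat.card Z : ℂ) ≠ 0 := Nat.cast_ne_zero.2 Nat.card_pos.ne'
    simp only [c]; field_simp
  have hΦne : Φ 1 ≠ 0 ∧ Φ 1 ≠ 1 := by
    have hlt : Nat.card Z < Nat.card M := by
      refine lt_of_le_of_ne (Subgroup.card_le_of_le hZM) fun h => hm₀Z ?_
      rw [Subgroup.eq_of_le_of_card_ge hZM h.ge]
      exact hm₀
    have hz0 : (Nat.card Z : ℂ) ≠ 0 := Nat.cast_ne_zero.2 Nat.card_pos.ne'
    rw [hΦ1, Ne, Ne, div_eq_zero_iff, div_eq_one_iff_eq hz0, Nat.cast_inj]
    exact ⟨by simp [Nat.card_pos.ne'], hlt.ne'⟩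
  have ha1 : a ≠ 0 := fun h => hΦne.1 (by
    rw [h, Nat.cast_zero] at ha
    rw [classInner_self_eq_zero ha]; rfl)
  have hirrΦ : IsIrrCharacter G Φ := by
    rw [isIrrCharacter_iff]
    exact ⟨hΦ, by rw [ha, show a = 1 by omega, Nat.cast_one]⟩
  have hΦone : classInner Φ 1 = 0 :=
    IsIrrCharacter.classInner_eq_zero hirrΦ isIrrCharacter_one fun h => hΦne.2 (by rw [h]; rfl)
  have hξone : classInner ξ 1 = 1 := by
    rw [← IsIrrCharacter.classInner_self hχ']
    unfold classInner
    congr 1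
    refine Finset.sum_congr rfl fun g _ => ?_
    show ρ.character g⁻¹ * ρ.character g * conj 1 = _
    rw [IsCharacter.map_inv (IsIrrCharacter.isCharacter hχ') g, map_one, mul_one, mul_comm]
  have hR1 : classInner R 1 = 1 := by
    rw [show ξ = Φ + R from funext hξ, classInner_add_left, hΦone, zero_add] at hξone
    exact hξone
  have hRk1 : classInner (fun g => R (g ^ k)) 1 = 1 := by
    rw [← hR1]
    exact classInner_comp_pow hk.symm R 1
  obtain ⟨R₁, hR₁, e₁⟩ := exists_add_of_classInner_ne_zero hR isIrrCharacter_one (by simp [hR1])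
  obtain ⟨R₂, hR₂, e₂⟩ := exists_add_of_classInner_ne_zero hRk isIrrCharacter_one (by simp [hRk1])
  have : b' ≠ 0 := by
    intro h
    rw [h, Nat.cast_zero] at hb'
    rw [e₂, e₁, classInner_add_left, classInner_add_right, classInner_add_right,
      IsIrrCharacter.classInner_self isIrrCharacter_one] at hb'
    obtain ⟨u, hu⟩ := classInner_natCast_of_isCharacter isCharacter_one hR₂
    obtain ⟨v, hv⟩ := classInner_natCast_of_isCharacter hR₁ isCharacter_one
    obtain ⟨w, hw⟩ := classInner_natCast_of_isCharacter hR₁ hR₂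
    rw [hu, hv, hw] at hb'
    norm_cast at hb'
    omega
  omega

end Cfsg.Agent.Block
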