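import Cfsg.Agent.Lib.Block.Columns

/-!
# Columns of the principal block at p-elements
-/

namespace Cfsg.Agent.Block

open Cfsg Cfsg.Agent.Char
open scoped Classical ComplexConjugate

set_option linter.style.haveILetI false

universe u

variable {G : Type u} [Group G] [Finite G] {p : ℕ} {M : Ideal AlgInt}

theorem isPPart_self (hp : p.Prime) {x : G} (hx : ∃ k : ℕ, orderOf x = p ^ k) : IsPPart p x x :=
  ⟨1, mul_one x, by simp, hx, by rw [orderOf_one]; exact fun h => hp.one_lt.ne' (Nat.dvd_one.1 h)⟩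

/-- The square sum of the principal block degrees. -/
theorem blockKernel_principal_pElement (hM : IsPModular p M) {a b : G}
    (ha : ∃ k : ℕ, orderOf a = p ^ k) (hb : ∃ k : ℕ, orderOf b = p ^ k) :
    blockKernel (principalBlock M G) a b = if IsConj a b then
      ((∑ᶠ ψ ∈ principalBlock M (Subgroup.centralizer ({a} : Set G)),
        charDegree (ψ : Subgroup.centralizer ({a} : Set G) → ℂ) ^ 2 : ℕ) : ℂ) else 0 := by
  haveI := prime_of_isPModular hM
  have hB : IsPBlock M (principalBlock M G) := ⟨⟨fun _ => 1, isIrrCharacter_one⟩, rfl⟩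
  by_cases hab : IsConj a b
  · rw [if_pos hab]
    have h1 : blockKernel (principalBlock M G) a b = blockKernel (principalBlock M G) a a := by
      simp only [blockKernel]
      refine finsum_congr fun χ => finsum_congr fun _ => ?_
      rw [IsIrrCharacter.apply_isConj χ.2 hab.symm]
    have h2 := blockKernel_section hM ha hB (c := (1 : Subgroup.centralizer ({a} : Set G)))
      (c' := 1) (by rw [orderOf_one]; exact fun h => hM.1.one_lt.ne' (Nat.dvd_one.1 h))
      (by rw [orderOf_one]; exact fun h => hM.1.one_lt.ne' (Nat.dvd_one.1 h))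
    simp only [OneMemClass.coe_one, mul_one] at h2
    rw [h1, h2, localBlocks_principal hM ha, Finset.sum_singleton]
    simp only [blockKernel]
    rw [finsum_mem_eq_finite_toFinset_sum _ (Set.toFinite _),
      finsum_mem_eq_finite_toFinset_sum _ (Set.toFinite _), Nat.cast_sum]
    refine Finset.sum_congr rfl fun ψ _ => ?_
    rw [← charDegree_cast (IsIrrCharacter.isCharacter ψ.2), Complex.conj_natCast, sq, Nat.cast_mul]
  · rw [if_neg hab]
    exact blockKernel_eq_zero_of_sections hM (isPPart_self hM.1 ha) (isPPart_self hM.1 hb) hab hB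

/-- Collecting the conjugates of an element under a subgroup. -/
theorem sum_conj_eq (N : Subgroup G) [Fintype N] [Fintype G] (a : G) (f : G → ℂ) :
    ∑ n : N, f ((n : G) * a * (n : G)⁻¹) =
      ∑ b ∈ Finset.univ.image (fun n : N => (n : G) * a * (n : G)⁻¹),
        (Nat.card (N ⊓ Subgroup.centralizer ({a} : Set G) : Subgroup G) : ℂ) * f b := by
  rw [Finset.sum_comp f (fun n : N => (n : G) * a * (n : G)⁻¹)]
  refine Finset.sum_congr rfl fun b hb => ?_
  obtain ⟨m, -, rfl⟩ := Finset.mem_image.1 hb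
  rw [nsmul_eq_mul]
  congr 1
  norm_cast
  rw [← Fintype.card_subtype, ← Nat.card_eq_fintype_card]
  refine Nat.card_congr
    { toFun := fun n => ⟨(m : G)⁻¹ * (n.1 : G), Subgroup.mem_inf.2
        ⟨N.mul_mem (N.inv_mem m.2) n.1.2, mem_centralizer_singleton.2 ?_⟩⟩
      invFun := fun c => ⟨⟨(m : G) * (c : G), N.mul_mem m.2 (Subgroup.mem_inf.1 c.2).1⟩, ?_⟩
      left_inv := fun n => by ext; simp
      right_inv := fun c => by ext; simp }
  · show a * ((m : G)⁻¹ * (n.1 : G)) = (m : G)⁻¹ * (n.1 : G) * a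
    calc a * ((m : G)⁻¹ * (n.1 : G)) = (m : G)⁻¹ * ((m : G) * a * (m : G)⁻¹) * (n.1 : G) := by group
      _ = (m : G)⁻¹ * ((n.1 : G) * a * (n.1 : G)⁻¹) * (n.1 : G) := by
        have h := n.2; simp only [InvMemClass.coe_inv] at h ⊢; rw [h]
      _ = _ := by group
  · show (m : G) * (c : G) * a * ((m : G) * (c : G))⁻¹ = (m : G) * a * (m : G)⁻¹
    have := (mem_centralizer_singleton.1 (Subgroup.mem_inf.1 c.2).2).eq
    calc (m : G) * (c : G) * a * ((m : G) * (c : G))⁻¹
        = (m : G) * ((c : G) * a) * (c : G)⁻¹ * (m : G)⁻¹ := by group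
      _ = (m : G) * (a * (c : G)) * (c : G)⁻¹ * (m : G)⁻¹ := by rw [this]
      _ = _ := by group

end Cfsg.Agent.Block
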