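import Cfsg.Agent.Lib.Block.Cover
import Cfsg.Agent.Lib.Block.CompBlock

/-!
# The principal block and a normal subgroup
-/

set_option autoImplicit false
set_option linter.style.haveILetI false

open Cfsg Cfsg.Agent.Char

namespace Cfsg.Agent.Block

universe u

variable {G : Type u} [Group G] [Fintype G] {M : Ideal AlgInt} {p : ℕ}

theorem covers_principal (hM : IsPModular p M) (N : Subgroup G) [N.Normal] [Fintype N] :
    Covers (principalBlock M G) (principalBlock M N) := by
  haveI := prime_of_isPModular hM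
  refine ⟨⟨fun _ => 1, isIrrCharacter_one⟩, sameBlock_refl _, ⟨fun _ => 1, isIrrCharacter_one⟩,
    sameBlock_refl _, ?_⟩
  show classInner (fun _ : N => (1 : ℂ)) (fun _ : N => (1 : ℂ)) ≠ 0
  exact (IsIrrCharacter.classInner_self (isIrrCharacter_one (G := N))).trans_ne one_ne_zero

/-- Constituents of principal block characters lie in the principal block. -/
theorem mem_principal_of_constituent (hM : IsPModular p M) (N : Subgroup G) [N.Normal] [Fintype N]
    {χ : IrrCharacter G} (hχ : χ ∈ principalBlock M G) {θ : IrrCharacter N}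
    (h : classInner (fun n : N => (χ : G → ℂ) n) (θ : N → ℂ) ≠ 0) : θ ∈ principalBlock M N := by
  haveI := prime_of_isPModular hM
  have hB : IsPBlock M (principalBlock M G) := ⟨⟨fun _ => 1, isIrrCharacter_one⟩, rfl⟩
  have hb : IsPBlock M (principalBlock M N) := ⟨⟨fun _ => 1, isIrrCharacter_one⟩, rfl⟩
  have h1 := (exists_constituent_iff (N := N) hb χ).2 <| by
    obtain ⟨χ₀, hχ₀, θ₀, hθ₀, hc⟩ := covers_principal hM N
    rw [ro_congr hB hχ hχ₀ (cl_blockOrbit _)]
    exact (exists_constituent_iff hb χ₀).1 ⟨θ₀, hθ₀, hc⟩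
  obtain ⟨θ', hθ', hc⟩ := h1
  obtain ⟨g, hg⟩ := (mem_conjOrbit N).1 (mem_conjOrbit_of_constituent N χ.2 θ'.2 θ.2 hc h)
  have he : θ = compIrr (MulAut.conjNormal g : MulAut N) θ' := by
    refine Subtype.ext (funext fun n => ?_)
    rw [compIrr_apply, ← hg, Char.conjChar_apply]
  rw [he, ← trivial_mem_comp (MulAut.conjNormal g : MulAut N) rfl]
  exact ⟨θ', hθ', rfl⟩

/-- Every principal block character of a normal subgroup lies under one of the group. -/
theorem exists_over_principal (hM : IsPModular p M) (N : Subgroup G) [N.Normal] [Fintype N]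
    {θ : IrrCharacter N} (hθ : θ ∈ principalBlock M N) :
    ∃ χ ∈ principalBlock M G, classInner (fun n : N => (χ : G → ℂ) n) (θ : N → ℂ) ≠ 0 := by
  haveI := prime_of_isPModular hM
  exact exists_constituent_of_covers hM ⟨⟨fun _ => 1, isIrrCharacter_one⟩, rfl⟩
    ⟨⟨fun _ => 1, isIrrCharacter_one⟩, rfl⟩ (covers_principal hM N) hθ

/-- The degree square sums of the principal blocks of a group and of a normal subgroup. -/
theorem principal_sq_sum_bounds (hM : IsPModular p M) (N : Subgroup G) [N.Normal] :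
    (∑ᶠ θ ∈ principalBlock M N, charDegree (θ : N → ℂ) ^ 2) ≤
        (∑ᶠ χ ∈ principalBlock M G, charDegree (χ : G → ℂ) ^ 2) ∧
      (∑ᶠ χ ∈ principalBlock M G, charDegree (χ : G → ℂ) ^ 2) ≤
        N.index * ∑ᶠ θ ∈ principalBlock M N, charDegree (θ : N → ℂ) ^ 2 := by
  classical
  haveI := prime_of_isPModular hM
  haveI := Fintype.ofFinite N
  haveI := Fintype.ofFinite (IrrCharacter G)
  haveI := Fintype.ofFinite (IrrCharacter N)
  set B := principalBlock M G
  set b := principalBlock M N
  have hm : ∀ (χ : IrrCharacter G) (θ : IrrCharacter N), ∃ m : ℕ,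
      classInner (fun n : N => (χ : G → ℂ) n) (θ : N → ℂ) = m := fun χ θ =>
    exists_classInner_nat (IsCharacter.restrict (IsIrrCharacter.isCharacter χ.2) N) θ.2
  choose m hm using hm
  set d : IrrCharacter G → ℕ := fun χ => charDegree (χ : G → ℂ)
  set e : IrrCharacter N → ℕ := fun θ => charDegree (θ : N → ℂ)
  have hd : ∀ χ, (d χ : ℂ) = (χ : G → ℂ) 1 := fun χ => charDegree_cast (IsIrrCharacter.isCharacter χ.2)
  have he : ∀ θ, (e θ : ℂ) = (θ : N → ℂ) 1 := fun θ => charDegree_cast (IsIrrCharacter.isCharacter θ.2)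
  have hres : ∀ χ ∈ B, d χ = ∑ θ ∈ b.toFinite.toFinset, m χ θ * e θ := by
    intro χ hχ
    have hcl : IsClassFunction N (fun n : N => (χ : G → ℂ) n) :=
      IsCharacter.isClassFunction (IsCharacter.restrict (IsIrrCharacter.isCharacter χ.2) N)
    have h := congrFun (IsClassFunction.eq_sum hcl) 1
    simp only [OneMemClass.coe_one, Finset.sum_apply, Pi.smul_apply, smul_eq_mul] at h
    apply Nat.cast_injective (R := ℂ)
    rw [hd, h, Nat.cast_sum, ← Finset.sum_subset (Finset.subset_univ b.toFinite.toFinset) fun θ _ hθ => ?_]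
    · exact Finset.sum_congr rfl fun θ _ => by rw [Nat.cast_mul, he, hm]
    · have h0 : classInner (fun n : N => (χ : G → ℂ) n) (θ : N → ℂ) = 0 := by
        by_contra h0
        exact hθ (b.toFinite.mem_toFinset.2 (mem_principal_of_constituent hM N hχ h0))
      rw [h0, zero_mul]
  have hind : ∀ θ : IrrCharacter N, ∑ χ : IrrCharacter G, m χ θ * d χ = N.index * e θ := by
    intro θ
    have h := congrFun (IsClassFunction.eq_sum (isClassFunction_indFun (H := N) (θ : N → ℂ))) 1
    simp only [indFun_one_apply, Finset.sum_apply, Pi.smul_apply, smul_eq_mul] at h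
    apply Nat.cast_injective (R := ℂ)
    rw [Nat.cast_mul, he, h, Nat.cast_sum]
    refine Finset.sum_congr rfl fun χ _ => ?_
    rw [classInner_indFun N _ (IsCharacter.isClassFunction (IsIrrCharacter.isCharacter χ.2)),
      ← classInner_conj_symm, hm, Complex.conj_natCast, Nat.cast_mul, hd]
  rw [finsum_mem_eq_finite_toFinset_sum _ b.toFinite, finsum_mem_eq_finite_toFinset_sum _ B.toFinite]
  constructor
  · calc ∑ θ ∈ b.toFinite.toFinset, e θ ^ 2
        ≤ ∑ θ ∈ b.toFinite.toFinset, ∑ χ ∈ B.toFinite.toFinset, (m χ θ * e θ) ^ 2 := by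
          refine Finset.sum_le_sum fun θ hθ => ?_
          obtain ⟨χ, hχ, hc⟩ := exists_over_principal hM N (b.toFinite.mem_toFinset.1 hθ)
          refine le_trans ?_ (Finset.single_le_sum (fun _ _ => Nat.zero_le _) (B.toFinite.mem_toFinset.2 hχ))
          refine Nat.pow_le_pow_left (Nat.le_mul_of_pos_left _ (Nat.pos_of_ne_zero fun h0 => hc ?_)) 2
          rw [hm, h0, Nat.cast_zero]
      _ = ∑ χ ∈ B.toFinite.toFinset, ∑ θ ∈ b.toFinite.toFinset, (m χ θ * e θ) ^ 2 := Finset.sum_comm
      _ ≤ ∑ χ ∈ B.toFinite.toFinset, d χ ^ 2 := Finset.sum_le_sum fun χ hχ => by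
          rw [hres χ (B.toFinite.mem_toFinset.1 hχ)]
          exact Finset.sum_sq_le_sq_sum_of_nonneg fun _ _ => Nat.zero_le _
  · calc ∑ χ ∈ B.toFinite.toFinset, d χ ^ 2
        = ∑ χ ∈ B.toFinite.toFinset, ∑ θ ∈ b.toFinite.toFinset, e θ * (m χ θ * d χ) := by
          refine Finset.sum_congr rfl fun χ hχ => ?_
          rw [sq]
          nth_rw 1 [hres χ (B.toFinite.mem_toFinset.1 hχ)]
          rw [Finset.sum_mul]
          exact Finset.sum_congr rfl fun θ _ => by ring
      _ = ∑ θ ∈ b.toFinite.toFinset, e θ * ∑ χ ∈ B.toFinite.toFinset, m χ θ * d χ := by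
          rw [Finset.sum_comm]
          exact Finset.sum_congr rfl fun θ _ => (Finset.mul_sum _ _ _).symm
      _ ≤ ∑ θ ∈ b.toFinite.toFinset, e θ * (N.index * e θ) := Finset.sum_le_sum fun θ _ => by
          rw [← hind θ]
          exact Nat.mul_le_mul_left _ (Finset.sum_le_sum_of_subset (Finset.subset_univ _))
      _ = N.index * ∑ θ ∈ b.toFinite.toFinset, e θ ^ 2 := by
          rw [Finset.mul_sum]
          exact Finset.sum_congr rfl fun θ _ => by ring

end Cfsg.Agent.Block
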