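import Cfsg.Agent.Lib.Block.SmallTwoFusion
import Cfsg.Agent.Lib.Block.CentralByP
import Cfsg.Agent.Lib.Block.KleinBlock
import Cfsg.Agent.Lib.Inv.ZStar

/-!
# The principal block for a quaternion Sylow subgroup of order eight
-/

set_option autoImplicit false
set_option linter.style.haveILetI false

open Cfsg Cfsg.Agent.Char

namespace Cfsg.Agent.Block

universe u v

/-- The number of Brauer characters is invariant under isomorphism. -/
theorem blockRank_compIrr {G : Type u} {H : Type v} [Group G] [Group H] [Finite G] [Finite H] {p : ℕ} (e : H ≃* G)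
    (B : Set (IrrCharacter G)) : blockRank p (compIrr e '' B) = blockRank p B := by
  let L : (G → ℂ) ≃ₗ[ℂ] (H → ℂ) := LinearEquiv.funCongrLeft ℂ ℂ e.toEquiv
  have h : (fun χ : IrrCharacter H => pRegularPart p (χ : H → ℂ)) '' (compIrr e '' B) =
      L.toLinearMap '' ((fun χ : IrrCharacter G => pRegularPart p (χ : G → ℂ)) '' B) := by
    rw [Set.image_image, Set.image_image]
    refine Set.image_congr fun χ _ => funext fun h => ?_
    show pRegularPart p _ h = pRegularPart p (χ : G → ℂ) (e h)
    simp only [pRegularPart, IsPRegular, MulEquiv.orderOf_eq]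
    congr 1
  rw [blockRank, blockRank, h, Submodule.span_image]
  exact L.finrank_map_eq _

namespace SmallTwo

variable {G : Type u} [Group G] [Finite G]

/-- A 2-element commuting with `x` lies with `x` in one Sylow subgroup. -/
theorem exists_sylow_pair {x y : G} (hx : IsPGroup 2 (Subgroup.zpowers x))
    (hy : IsPGroup 2 (Subgroup.zpowers y)) (hc : Commute x y) :
    ∃ T : Sylow 2 G, x ∈ (T : Subgroup G) ∧ y ∈ (T : Subgroup G) := by
  have hle : Subgroup.zpowers y ≤ Subgroup.normalizer ((Subgroup.zpowers x : Subgroup G) : Set G) := by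
    refine Subgroup.zpowers_le.2 (Subgroup.centralizer_le_normalizer _ ?_)
    refine Subgroup.mem_centralizer_iff.2 fun w hw => ?_
    obtain ⟨i, rfl⟩ := Subgroup.mem_zpowers_iff.1 hw
    exact hc.zpow_left i
  obtain ⟨T, hT⟩ := (hy.to_sup_of_normal_right' hx hle).exists_le_sylow
  exact ⟨T, hT (Subgroup.mem_sup_right (Subgroup.mem_zpowers x)),
    hT (Subgroup.mem_sup_left (Subgroup.mem_zpowers y))⟩

theorem exists_conj_mem (S : Sylow 2 G) {g : G} {k : ℕ} (hg : orderOf g = 2 ^ k) :
    ∃ c : G, c * g * c⁻¹ ∈ (S : Subgroup G) := by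
  haveI : Fact (Nat.Prime 2) := ⟨Nat.prime_two⟩
  obtain ⟨Q, hQ⟩ := (IsPGroup.of_card (n := k) (by rw [Nat.card_zpowers, hg]) :
    IsPGroup 2 (Subgroup.zpowers g)).exists_le_sylow
  obtain ⟨c, hc⟩ := MulAction.exists_smul_eq G Q S
  refine ⟨c, ?_⟩
  rw [← hc]
  exact ⟨g, hQ (Subgroup.mem_zpowers g), rfl⟩

/-- The regular elements of the centralizer of an element of order four form a subgroup. -/
theorem regular_centralizer_four (S : Sylow 2 G) (e : (S : Subgroup G) ≃* QuaternionGroup 2)
    {x : G} (hx : x ∈ (S : Subgroup G)) (hx2 : x * x ≠ 1) (g : Subgroup.centralizer ({x} : Set G)) :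
    g ∈ pPrimeCore 2 (Subgroup.centralizer ({x} : Set G)) ↔ ¬ 2 ∣ orderOf g := by
  haveI : Fact (Nat.Prime 2) := ⟨Nat.prime_two⟩
  refine regular_iff_mem_pPrimeCore (Solv.hasNormalPComplement_iff_index.mp ?_) g
  let P : Sylow 2 (Subgroup.centralizer ({x} : Set G)) := default
  refine Solv.hasNormalPComplement_of_burnside P fun n _ => ?_
  refine Subgroup.mem_centralizer_iff.2 fun q hq => Subtype.ext ?_
  obtain ⟨k, hk⟩ := IsPGroup.iff_orderOf.1 P.isPGroup' ⟨q, hq⟩
  rw [Subgroup.orderOf_mk, ← Subgroup.orderOf_coe] at hk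
  have hcomm : Commute x (q : G) := (Subgroup.mem_centralizer_singleton_iff.1 q.2).symm
  obtain ⟨T, hxT, hqT⟩ := exists_sylow_pair
    (IsPGroup.of_card (n := 2) (by rw [Nat.card_zpowers, orderOf_four e hx hx2]; norm_num))
    (IsPGroup.of_card (n := k) (by rw [Nat.card_zpowers, hk])) hcomm
  have hqx : (q : G) ∈ Subgroup.zpowers x :=
    q8_commute ((Sylow.equiv T S).trans e) x hxT hx2 q hqT hcomm.eq.symm
  obtain ⟨i, hi⟩ := Subgroup.mem_zpowers_iff.1 hqx
  have hn : Commute (x ^ i) (n : G) :=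
    Commute.zpow_left (Subgroup.mem_centralizer_singleton_iff.1 n.2).symm i
  show (q : G) * n = n * q
  rw [← hi]
  exact hn.eq

end SmallTwo

open SmallTwo

variable {G : Type u} [Group G] [Finite G] {M : Ideal AlgInt}

/-- With trivial odd core and a proper quaternion Sylow subgroup of order eight the principal block
has seven irreducible characters. -/
theorem card_principal_quaternion (hM : IsPModular 2 M) (S : Sylow 2 G)
    (e : (S : Subgroup G) ≃* QuaternionGroup 2)
    (hO : ∀ N : Subgroup G, N.Normal → Odd (Nat.card N) → N = ⊥) (hG : (S : Subgroup G) ≠ ⊤) :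
    Nat.card (principalBlock M G) = 7 := by
  classical
  haveI : Fact (Nat.Prime 2) := ⟨Nat.prime_two⟩
  haveI := prime_of_isPModular hM
  have hnc : ∀ N : Subgroup G, N.Normal → ¬ Subgroup.IsComplement' N (S : Subgroup G) := by
    intro N hN hc
    refine hG (Subgroup.isComplement'_bot_left.1 ?_)
    rwa [← hO N hN]
    rw [← hc.index_eq_card, Nat.odd_iff]
    have := S.not_dvd_index
    omega
  -- the involution and an element of order four
  set z : G := ((e.symm (QuaternionGroup.a 2) : (S : Subgroup G)) : G) with hzdef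
  set x : G := ((e.symm (QuaternionGroup.a 1) : (S : Subgroup G)) : G) with hxdef
  have hzS : z ∈ (S : Subgroup G) := SetLike.coe_mem _
  have hxS : x ∈ (S : Subgroup G) := SetLike.coe_mem _
  have hz2 : orderOf z = 2 := by
    rw [hzdef, Subgroup.orderOf_coe, MulEquiv.orderOf_eq]
    exact orderOf_eq_prime (by decide) (by decide)
  have hx2 : x * x ≠ 1 := by
    intro h
    have h' : (e.symm (QuaternionGroup.a 1) : (S : Subgroup G)) * e.symm (QuaternionGroup.a 1) = 1 :=
      Subtype.ext h
    rw [← map_mul, ← map_one e.symm] at h'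
    exact absurd (e.symm.injective h') (by decide)
  have hz1 : z ≠ 1 := fun h => by rw [h, orderOf_one] at hz2; norm_num at hz2
  have hzz : z * z = 1 := by rw [← sq, ← hz2, pow_orderOf_eq_one]
  have hx4 : orderOf x = 4 := orderOf_four e hxS hx2
  have hinv : ∀ g : G, g * g = 1 → g = 1 ∨ IsConj z g := by
    intro g hg
    by_cases hg1 : g = 1
    · exact Or.inl hg1
    obtain ⟨c, hc⟩ := exists_conj_mem S (k := 1)
      (by rw [pow_one]; exact orderOf_eq_prime (by rw [sq]; exact hg) hg1)
    have h : c * g * c⁻¹ = z := q8_unique e _ hc z hzS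
      (by rw [show c * g * c⁻¹ * (c * g * c⁻¹) = c * (g * g) * c⁻¹ by group, hg, mul_one, mul_inv_cancel])
      hzz (fun h => hg1 (conj_eq_one_iff.1 h)) hz1
    exact Or.inr ((isConj_iff.2 ⟨c, h⟩).symm)
  have hiso : IsIsolatedInvolution z := by
    refine ⟨hz2, fun g hc => ?_⟩
    have hw : orderOf (g * z * g⁻¹) = 2 :=
      (orderOf_injective (MulAut.conj g).toMonoidHom (MulAut.conj g).injective z).trans hz2
    obtain ⟨T, hzT, hwT⟩ := exists_sylow_pair
      (IsPGroup.of_card (n := 1) (by rw [Nat.card_zpowers, hz2, pow_one]))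
      (IsPGroup.of_card (n := 1) (by rw [Nat.card_zpowers, hw, pow_one])) hc
    exact q8_unique ((Sylow.equiv T S).trans e) _ hwT z hzT
      (by rw [← sq, ← hw, pow_orderOf_eq_one]) hzz (fun h => hz1 (conj_eq_one_iff.1 h)) hz1
  have hcore : oddCore G = ⊥ :=
    hO _ inferInstance (Nat.coprime_two_right.1 (Solv.card_pPrimeCore_coprime 2 G))
  have hzc : z ∈ Subgroup.center G := Inv.isolated_mem_center hcore hiso
  have huniq : ∀ g : G, g * g = 1 → g = 1 ∨ g = z := by
    intro g hg
    refine (hinv g hg).imp_right fun h => ?_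
    obtain ⟨c, hc⟩ := isConj_iff.1 h
    rw [← hc, Subgroup.mem_center_iff.1 hzc c, mul_inv_cancel_right]
  -- elements of order four are conjugate
  have hfour : ∀ g : G, g * g ≠ 1 → (∃ k : ℕ, orderOf g = 2 ^ k) → IsConj g x := by
    rintro g hg ⟨k, hk⟩
    obtain ⟨c, hc⟩ := exists_conj_mem S hk
    set y := c * g * c⁻¹ with hy
    have hy2 : y * y ≠ 1 := fun h => hg (conj_eq_one_iff.1 (show c * (g * g) * c⁻¹ = 1 by
      rw [← h, hy]; group))
    obtain ⟨n, hn, hnA⟩ := fourSet_transitive e hnc (card_zpowers_four e hc hy2)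
      (card_zpowers_four e hxS hx2)
    have hm : n * y * n⁻¹ ∈ Subgroup.zpowers x :=
      hnA ▸ (⟨y, Subgroup.mem_zpowers y, rfl⟩ : _ ∈ (Subgroup.zpowers y).map (MulAut.conj n).toMonoidHom)
    have hny2 : n * y * n⁻¹ * (n * y * n⁻¹) ≠ 1 := fun h => hy2 (conj_eq_one_iff.1
      (show n * (y * y) * n⁻¹ = 1 by rw [← h]; group))
    refine (isConj_iff.2 ⟨c, hy.symm⟩ : IsConj g y).trans
      ((isConj_iff.2 ⟨n, rfl⟩ : IsConj y (n * y * n⁻¹)).trans ?_)
    obtain ⟨i, hi⟩ := (Submonoid.mem_powers_iff _ _).1 (mem_powers_iff_mem_zpowers.2 hm)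
    rw [pow_eq_pow_mod i (q8_pow_four e x hxS)] at hi
    have h4 : x * x * (x * x) = 1 := by rw [← sq, ← sq, ← pow_mul]; exact q8_pow_four e x hxS
    have := Nat.mod_lt i (show 4 > 0 by norm_num)
    interval_cases hmod : i % 4
    · exact absurd (by rw [← hi]; simp) hny2
    · rw [← hi, pow_one]
    · exact absurd (by rw [← hi, sq]; exact h4) hny2
    · obtain ⟨s, _, hsx⟩ := q8_inverting e x hxS hx2
      rw [← hi, show x ^ 3 = x⁻¹ from
        eq_inv_of_mul_eq_one_left (by rw [← pow_succ]; exact q8_pow_four e x hxS)]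
      exact (isConj_iff.2 ⟨s, hsx⟩).symm
  have htwo : ∀ g : G, (∃ k : ℕ, orderOf g = 2 ^ k) → g = 1 ∨ g = z ∨ IsConj g x := by
    intro g hg
    by_cases h : g * g = 1
    · rcases huniq g h with h | h
      exacts [Or.inl h, Or.inr (Or.inl h)]
    · exact Or.inr (Or.inr (hfour g h hg))
  -- the quotient by the involution
  set N := Subgroup.zpowers z with hN
  haveI : N.Normal := ⟨fun n hn g => by
    obtain ⟨i, rfl⟩ := Subgroup.mem_zpowers_iff.1 hn
    rw [Subgroup.mem_center_iff.1 (zpow_mem hzc i) g, mul_inv_cancel_right]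
    exact hn⟩
  have hNcard : Nat.card N = 2 := by rw [hN, Nat.card_zpowers, hz2]
  have hNp : IsPGroup 2 N := IsPGroup.of_card (n := 1) (by rw [hNcard, pow_one])
  have hsup : N ⊔ Subgroup.centralizer (N : Set G) = ⊤ := by
    refine eq_top_iff.2 (le_sup_of_le_right fun g _ => Subgroup.mem_centralizer_iff.2 fun n hn => ?_)
    obtain ⟨i, rfl⟩ := Subgroup.mem_zpowers_iff.1 hn
    exact (Subgroup.mem_center_iff.1 (zpow_mem hzc i) g).symm
  have hmemN : ∀ g : G, g ∈ N → g = 1 ∨ g = z := by
    intro g hg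
    refine huniq g ?_
    have := pow_card_eq_one' (G := N) (x := ⟨g, hg⟩)
    rw [hNcard, sq] at this
    exact congrArg Subtype.val this
  have hmemN' : ∀ g : G, g * g = 1 → g ∈ N := fun g hg => by
    rcases huniq g hg with rfl | rfl
    exacts [one_mem _, Subgroup.mem_zpowers _]
  let P : Sylow 2 (G ⧸ N) := S.mapSurjective (f := QuotientGroup.mk' N) (QuotientGroup.mk'_surjective N)
  have hPmem : ∀ q ∈ (P : Subgroup (G ⧸ N)), ∃ s ∈ (S : Subgroup G), QuotientGroup.mk' N s = q :=
    fun q hq => hq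
  have hexp : ∀ q : P, q * q = 1 := by
    intro q
    obtain ⟨s, hs, hsq⟩ := hPmem q q.2
    apply Subtype.ext
    show (q : G ⧸ N) * q = 1
    rw [← hsq, ← map_mul, QuotientGroup.mk'_apply, QuotientGroup.eq_one_iff]
    refine hmemN' _ ?_
    rw [← sq, ← sq, ← pow_mul]
    exact q8_pow_four e s hs
  have hP : Nat.card P = 4 := by
    have h8 : 2 ^ (Nat.card G).factorization 2 = 2 ^ 3 := by
      rw [← S.card_eq_multiplicity, Nat.card_congr e.toEquiv, Nat.card_eq_fintype_card,
        QuaternionGroup.card]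
      norm_num
    have hv := Nat.pow_right_injective le_rfl h8
    rw [Subgroup.card_eq_card_quotient_mul_card_subgroup N, hNcard,
      Nat.factorization_mul Nat.card_pos.ne' two_ne_zero, Finsupp.add_apply,
      Nat.prime_two.factorization_self] at hv
    rw [P.card_eq_multiplicity, show (Nat.card (G ⧸ N)).factorization 2 = 2 by omega]
    norm_num
  have hlift : ∀ q : G ⧸ N, orderOf q = 2 → IsConj q (QuotientGroup.mk' N x) := by
    intro q hq
    obtain ⟨g, rfl⟩ := QuotientGroup.mk_surjective q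
    have hgN : g * g ∈ N := by
      rw [← QuotientGroup.eq_one_iff, QuotientGroup.mk_mul, ← sq, ← hq, pow_orderOf_eq_one]
    have hgg : g * g ≠ 1 := fun h => by
      rw [(QuotientGroup.eq_one_iff g).2 (hmemN' g h), orderOf_one] at hq
      norm_num at hq
    have hz' := (hmemN _ hgN).resolve_left hgg
    have hg4 : orderOf g = 2 ^ (1 + 1) :=
      orderOf_eq_prime_pow (by rw [pow_one, sq]; exact hgg)
        (by rw [pow_succ, pow_one, pow_mul, sq, sq, hz', hzz])
    exact MonoidHom.map_isConj (QuotientGroup.mk' N) (hfour g hgg ⟨_, hg4⟩)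
  have hxq : orderOf (QuotientGroup.mk' N x) = 2 := by
    refine orderOf_eq_prime ?_ fun h => ?_
    · rw [sq, ← map_mul]
      refine (QuotientGroup.eq_one_iff _).2 (hmemN' _ ?_)
      rw [← sq, ← sq, ← pow_mul]
      exact q8_pow_four e x hxS
    · rcases hmemN x ((QuotientGroup.eq_one_iff x).1 h) with h' | h'
      · exact hx2 (by rw [h', one_mul])
      · exact hx2 (by rw [h', hzz])
  have hl : blockRank 2 (principalBlock M G) = 3 := by
    rw [blockRank_principal_quotient N hM hNp hsup]
    exact (principal_klein hM hP hexp (fun s t hs ht => (hlift s hs).trans (hlift t ht).symm) hxq).2.1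
  -- the three sections
  have hB : IsPBlock M (principalBlock M G) := ⟨⟨fun _ => 1, isIrrCharacter_one⟩, rfl⟩
  have hxk : ∃ k : ℕ, orderOf x = 2 ^ k := ⟨2, by rw [hx4]; norm_num⟩
  have hzk : ∃ k : ℕ, orderOf z = 2 ^ k := ⟨1, by rw [hz2, pow_one]⟩
  have h1z : (1 : G) ≠ z := Ne.symm hz1
  have h1x : (1 : G) ≠ x := fun h => hx2 (by rw [← h, one_mul])
  have hzx : z ≠ x := fun h => hx2 (by rw [← h, hzz])
  have hzconj : ∀ g, IsConj g z → g = z := by
    intro g hg
    obtain ⟨c, hc⟩ := isConj_iff.1 hg.symm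
    rw [← hc, Subgroup.mem_center_iff.1 hzc c, mul_inv_cancel_right]
  have hsum := card_block_eq_sum hM hB {1, z, x} (by
    intro w hw
    simp only [Finset.mem_insert, Finset.mem_singleton] at hw
    rcases hw with rfl | rfl | rfl
    exacts [⟨0, by simp⟩, hzk, hxk]) (by
    intro g hg
    have hmem : ∀ y : G, y ∈ ({1, z, x} : Finset G) → y = 1 ∨ y = z ∨ y = x := fun y hy => by
      simpa using hy
    rcases htwo g hg with hg1 | hgz | h
    · refine ⟨1, ⟨by simp, hg1 ▸ IsConj.refl g⟩, fun y hy => ?_⟩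
      exact isConj_one_right.1 (hg1 ▸ hy.2)
    · refine ⟨z, ⟨by simp, hgz ▸ IsConj.refl g⟩, fun y hy => ?_⟩
      exact hzconj y ((hgz ▸ hy.2 : IsConj z y)).symm
    · refine ⟨x, ⟨by simp, h⟩, fun y hy => ?_⟩
      rcases hmem y hy.1 with hy1 | hyz | hyx
      · exact absurd (isConj_one_right.1 ((hy1 ▸ hy.2).symm.trans h)) h1x.symm
      · exact absurd (hzconj x (h.symm.trans (hyz ▸ hy.2))).symm hzx
      · exact hyx)
  rw [Finset.sum_insert (by simp [h1z, h1x]), Finset.sum_pair hzx, sum_localBlocks_one hM hB,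
    localBlocks_principal hM hzk, localBlocks_principal hM hxk, Finset.sum_singleton,
    Finset.sum_singleton,
    blockRank_principal_eq_one hM (regular_centralizer_four S e hxS hx2), hl] at hsum
  have hC : Subgroup.centralizer ({z} : Set G) = ⊤ := eq_top_iff.2 fun g _ =>
    Subgroup.mem_centralizer_singleton_iff.2 (Subgroup.mem_center_iff.1 hzc g)
  have hz3 : blockRank 2 (principalBlock M (Subgroup.centralizer ({z} : Set G))) = 3 := by
    rw [← trivial_mem_comp ((MulEquiv.subgroupCongr hC).trans Subgroup.topEquiv) rfl,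
      blockRank_compIrr, hl]
  rw [hz3] at hsum
  exact hsum

end Cfsg.Agent.Block
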