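import Cfsg.Agent.Lib.Block.CentralByP
import Cfsg.Agent.Lib.Block.DefectCore
import Cfsg.Agent.Lib.Block.SecondMain

/-!
# Blocks of a quotient group and their defect groups
-/

set_option autoImplicit false
set_option linter.style.haveILetI false

open Cfsg Cfsg.Agent.Char
open scoped ComplexConjugate

namespace Cfsg.Agent.Block

universe u

variable {G : Type u} [Group G] [Finite G] {M : Ideal AlgInt} {p : ℕ}

theorem centralizer_le_comap (N : Subgroup G) [N.Normal] (g : G) :
    Subgroup.centralizer ({g} : Set G) ≤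
      (Subgroup.centralizer ({(QuotientGroup.mk g : G ⧸ N)} : Set (G ⧸ N))).comap (QuotientGroup.mk' N) :=
  fun _ hx => mem_centralizer_singleton.2 ((mem_centralizer_singleton.1 hx).map (QuotientGroup.mk' N))

/-- The central character of an inflated character. -/
theorem centralChar_inflate (N : Subgroup G) [N.Normal] (φ : IrrCharacter (G ⧸ N)) (g : G) :
    centralChar (inflate N φ : G → ℂ) g =
      ((Subgroup.centralizer ({g} : Set G)).relIndex
        ((Subgroup.centralizer ({(QuotientGroup.mk g : G ⧸ N)} : Set (G ⧸ N))).comap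
          (QuotientGroup.mk' N)) : ℂ) * centralChar (φ : G ⧸ N → ℂ) (QuotientGroup.mk g) := by
  have h := Subgroup.relIndex_mul_index (centralizer_le_comap N g)
  rw [Subgroup.index_comap_of_surjective _ (QuotientGroup.mk'_surjective N)] at h
  simp only [centralChar, inflate_apply, QuotientGroup.mk_one]
  rw [← h, Nat.cast_mul]
  ring

/-- The inflation respects blocks. -/
theorem sameBlock_inflate [M.IsPrime] (N : Subgroup G) [N.Normal] {φ φ' : IrrCharacter (G ⧸ N)}
    (h : SameBlock M (φ : G ⧸ N → ℂ) (φ' : G ⧸ N → ℂ)) :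
    SameBlock M (inflate N φ : G → ℂ) (inflate N φ' : G → ℂ) := fun g => by
  rw [centralChar_inflate, centralChar_inflate, ← mul_sub]
  exact memLocalIdeal_mul_left (natCast_mem _ _) (h _)

variable [Fact p.Prime]

/-- A defect group of a block of `G ⧸ N` lies in the image of a defect group of the block above it. -/
theorem exists_defectGroup_quotient_le (hM : IsPModular p M) (N : Subgroup G) [N.Normal]
    {B : Set (IrrCharacter G)} (hB : IsPBlock M B) {Bbar : Set (IrrCharacter (G ⧸ N))}
    (hBbar : IsPBlock M Bbar) (hsub : ∀ φ ∈ Bbar, inflate N φ ∈ B) {Dbar : Subgroup (G ⧸ N)}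
    (hD : IsDefectGroup p M Bbar Dbar) :
    ∃ P : Subgroup G, IsDefectGroup p M B P ∧ Dbar ≤ P.map (QuotientGroup.mk' N) := by
  haveI := prime_of_isPModular hM
  obtain ⟨φ, hφ⟩ := isPBlock_nonempty hBbar
  obtain ⟨P, hP⟩ := exists_isDefectGroup (p := p) hB
  obtain ⟨g, hg, S, hPS⟩ := id hP
  set π := QuotientGroup.mk' N with hπ
  set gb : G ⧸ N := QuotientGroup.mk g with hgb
  set C := Subgroup.centralizer ({gb} : Set (G ⧸ N)) with hC
  have hu := hg.2.2 _ (hsub φ hφ)
  rw [centralChar_inflate] at hu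
  set k := (Subgroup.centralizer ({g} : Set G)).relIndex (C.comap π) with hk
  have hω : ¬ MemLocalIdeal M (centralChar (φ : G ⧸ N → ℂ) gb) := fun h =>
    hu (memLocalIdeal_mul_left (natCast_mem _ _) h)
  have hkp : ¬ p ∣ k := fun h => hu (memLocalIdeal_mul_right (centralChar_mem_locRing φ _)
    ((memLocalIdeal_natCast_iff hM.1 hM.2.2 k).2 h))
  have hPC : P ≤ Subgroup.centralizer ({g} : Set G) := hPS ▸ sylowImage_le S
  have hImC : P.map π ≤ C := Subgroup.map_le_iff_le_comap.2 (hPC.trans (centralizer_le_comap N g))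
  obtain ⟨T, hT⟩ := ((isPGroup_of_isDefectGroup hP).map π).comap_subtype (K := C) |>.exists_le_sylow
  have hPT : P.map π ≤ sylowImage T := fun x hx => ⟨⟨x, hImC hx⟩, hT hx, rfl⟩
  have hidx : ¬ p ∣ (P.map π).relIndex C := by
    have h1 : (P.map π).relIndex C = ((P.map π).comap π).relIndex (C.comap π) := by
      rw [Subgroup.relIndex_comap, Subgroup.map_comap_eq_self_of_surjective (QuotientGroup.mk'_surjective N)]
    have h2 : P.relIndex (C.comap π) = P.relIndex (Subgroup.centralizer ({g} : Set G)) * k :=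
      (Subgroup.relIndex_mul_relIndex _ _ _ hPC (centralizer_le_comap N g)).symm
    intro hd
    rw [h1] at hd
    have h3 := hd.trans (Subgroup.relIndex_dvd_of_le_left (C.comap π) (Subgroup.le_comap_map π P))
    rw [h2] at h3
    rcases (Fact.out : p.Prime).dvd_mul.1 h3 with h | h
    · refine S.not_dvd_index ?_
      rwa [hPS, Subgroup.relIndex, Subgroup.subgroupOf,
        Subgroup.comap_map_eq_self_of_injective (Subgroup.subtype_injective _)] at h
    · exact hkp h
  have hTeq : sylowImage T = P.map π := by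
    refine le_antisymm (fun x hx => ?_) hPT
    have hd := Subgroup.relIndex_dvd_of_le_left (sylowImage T) (le_refl (P.map π))
    have h4 : (P.map π).relIndex (sylowImage T) ∣ (P.map π).relIndex C := by
      rw [← Subgroup.relIndex_mul_relIndex _ _ _ hPT (sylowImage_le T)]
      exact dvd_mul_right _ _
    obtain ⟨j, -, hj⟩ : ∃ j ≤ Nat.card (sylowImage T), (P.map π).relIndex (sylowImage T) = p ^ j := by
      obtain ⟨n, hn⟩ := (IsPGroup.iff_card).1 (isPGroup_sylowImage T)
      obtain ⟨j, hjn, hj⟩ := (Nat.dvd_prime_pow (Fact.out : p.Prime)).1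
        (hn ▸ Subgroup.index_dvd_card ((P.map π).subgroupOf (sylowImage T)))
      exact ⟨j, hjn.trans ((Nat.lt_pow_self (Fact.out : p.Prime).one_lt).le.trans hn.ge), hj⟩
    rcases j with _ | j
    · exact Subgroup.relIndex_eq_one.1 (by simpa using hj) hx
    · exact absurd ((hj ▸ dvd_pow_self p j.succ_ne_zero).trans h4) hidx
  obtain ⟨x, hx⟩ := exists_conj_le_of_centralChar_unit hM hBbar hD ⟨φ, hφ, hω⟩ T
  obtain ⟨t, rfl⟩ := QuotientGroup.mk'_surjective N x
  refine ⟨P.map (MulAut.conj t⁻¹).toMonoidHom, isDefectGroup_map_conj hP t⁻¹, ?_⟩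
  rw [hTeq] at hx
  intro d hd
  obtain ⟨y, hy, hye⟩ := hx ⟨d, hd, rfl⟩
  refine ⟨_, ⟨y, hy, rfl⟩, ?_⟩
  have hye' : π y = π t * d * (π t)⁻¹ := hye
  show π (t⁻¹ * y * t⁻¹⁻¹) = d
  rw [map_mul, map_mul, map_inv, map_inv, map_inv, inv_inv, hye']
  group

/-- A normal `p`-subgroup: some block of the quotient has the image defect groups. -/
theorem exists_quotient_block_image_defect (hM : IsPModular p M) (N : Subgroup G) [N.Normal]
    (hN : IsPGroup p N) {B : Set (IrrCharacter G)} (hB : IsPBlock M B) :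
    ∃ Bbar : Set (IrrCharacter (G ⧸ N)), IsPBlock M Bbar ∧ (∀ φ ∈ Bbar, inflate N φ ∈ B) ∧
      ∀ Dbar : Subgroup (G ⧸ N), IsDefectGroup p M Bbar Dbar ↔
        ∃ P : Subgroup G, IsDefectGroup p M B P ∧ Dbar = P.map (QuotientGroup.mk' N) := by
  classical
  haveI := prime_of_isPModular hM
  haveI := Fintype.ofFinite G
  haveI := Fintype.ofFinite (G ⧸ N)
  obtain ⟨P, hP⟩ := exists_isDefectGroup (p := p) hB
  obtain ⟨g, hg, S, hPS⟩ := id hP
  set π := QuotientGroup.mk' N with hπ
  have hPC : P ≤ Subgroup.centralizer ({g} : Set G) := hPS ▸ sylowImage_le S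
  have hNP := pCore_le_defectGroup hM hB hP N hN
  -- the push-forward of the idempotent
  set F : MonoidAlgebra ℂ (G ⧸ N) :=
    mkA fun q => ∑ x ∈ Finset.univ.filter (fun x : G => (QuotientGroup.mk x : G ⧸ N) = q), blockCoeff B x
    with hF
  have hFc : IsCentralElt F := by
    intro q r
    obtain ⟨h, rfl⟩ := QuotientGroup.mk_surjective r
    simp only [hF, coeff_mkA]
    refine Finset.sum_bij' (fun x _ => h⁻¹ * x * h) (fun x _ => h * x * h⁻¹) ?_ ?_ ?_ ?_ ?_
    · intro x hx
      simp only [Finset.mem_filter, Finset.mem_univ, true_and] at hx ⊢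
      simp only [QuotientGroup.mk_mul, QuotientGroup.mk_inv, hx]
      group
    · intro x hx
      simp only [Finset.mem_filter, Finset.mem_univ, true_and] at hx ⊢
      simp only [QuotientGroup.mk_mul, QuotientGroup.mk_inv, hx]
    · intro x _; group
    · intro x _; group
    · intro x _
      have := isCentralElt_blockIdem B (h⁻¹ * x * h) h
      simp only [blockIdem, coeff_mkA] at this
      rw [← this]
      congr 1
      group
  set T := (pBlocks M (G ⧸ N)).filter (fun b => ∀ φ ∈ b, inflate N φ ∈ B) with hT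
  have hFT : F = ∑ b ∈ T, blockIdem b := by
    refine eq_of_omega_eq hFc (CL.sum _ _ fun b hb => CL.blockIdem (M := M)
      (mem_pBlocks.1 (Finset.mem_filter.1 hb).1)).1 fun φ => ?_
    have h1 : omega (φ : G ⧸ N → ℂ) F = omega (inflate N φ : G → ℂ) (blockIdem B) := by
      rw [omega_eq_sum, omega_eq_sum, inflate_apply, QuotientGroup.mk_one]
      congr 1
      simp only [hF, coeff_mkA, blockIdem, inflate_apply]
      rw [← Finset.sum_fiberwise_of_maps_to (t := (Finset.univ : Finset (G ⧸ N)))
        (g := fun x : G => (QuotientGroup.mk x : G ⧸ N)) (fun _ _ => Finset.mem_univ _)]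
      refine Finset.sum_congr rfl fun q _ => ?_
      rw [Finset.sum_mul]
      exact Finset.sum_congr rfl fun x hx => by rw [(Finset.mem_filter.1 hx).2]
    rw [h1, omega_blockIdem, omega_sum]
    by_cases hmem : inflate N φ ∈ B
    · rw [if_pos hmem, Finset.sum_eq_single (blockOf M (φ : G ⧸ N → ℂ)), omega_blockIdem,
        if_pos (self_mem_blockOf φ)]
      · intro b hb hne
        rw [omega_blockIdem, if_neg fun h => hne (isPBlock_eq_blockOf (mem_pBlocks.1 (Finset.mem_filter.1 hb).1) h)]
      · intro h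
        refine absurd (Finset.mem_filter.2 ⟨mem_pBlocks.2 (isPBlock_blockOf φ), fun ψ hψ => ?_⟩) h
        rw [isPBlock_eq_blockOf hB hmem]
        exact sameBlock_inflate N hψ
    · rw [if_neg hmem]
      refine (Finset.sum_eq_zero fun b hb => ?_).symm
      rw [omega_blockIdem, if_neg fun h => hmem ((Finset.mem_filter.1 hb).2 φ h)]
  have hval : F.coeff (QuotientGroup.mk g) = blockCoeff B g := by
    simp only [hF, coeff_mkA]
    refine Finset.sum_eq_single g ?_ (fun h => absurd ?_ h)
    swap
    · simp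
    intro x hx hne
    by_contra hne0
    have hgn : g⁻¹ * x ∈ N := QuotientGroup.eq.1 (Finset.mem_filter.1 hx).2.symm
    have hc : Commute g (g⁻¹ * x) := mem_centralizer_singleton.1 (hPC (hNP hgn))
    obtain ⟨j, hj⟩ := IsPGroup.iff_orderOf.1 hN ⟨_, hgn⟩
    rw [Subgroup.orderOf_mk] at hj
    have hgreg : ¬ p ∣ orderOf g := fun h => hg.2.1 (by
      rw [blockCoeff_eq_zero_of_dvd hM hB h]; exact memLocalIdeal_zero)
    have h1 : orderOf x = orderOf g * orderOf (g⁻¹ * x) := by
      rw [← hc.orderOf_mul_eq_mul_orderOf_of_coprime (by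
        rw [hj]; exact (((Fact.out : p.Prime).coprime_iff_not_dvd.2 hgreg).pow_left j).symm), mul_inv_cancel_left]
    rcases j with _ | j
    · exact hne (inv_mul_eq_one.1 (orderOf_eq_one_iff.1 (by simpa using hj))).symm
    · exact hne0 (blockCoeff_eq_zero_of_dvd hM hB
        (h1 ▸ (hj ▸ dvd_pow_self p j.succ_ne_zero).mul_left _))
  obtain ⟨b, hbT, hbu⟩ : ∃ b ∈ T, ¬ MemLocalIdeal M (blockCoeff b (QuotientGroup.mk g : G ⧸ N)) := by
    by_contra! hcon
    refine hg.2.1 ?_
    rw [← hval, hFT, MonoidAlgebra.coeff_sum, Finsupp.finsetSum_apply]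
    refine memLocalIdeal_sum _ _ fun b hb => ?_
    simpa [blockIdem] using hcon b hb
  have hbB := mem_pBlocks.1 (Finset.mem_filter.1 hbT).1
  have hsub := (Finset.mem_filter.1 hbT).2
  have hcard : ∀ P', IsDefectGroup p M B P' → Nat.card (P'.map π) = Nat.card (P.map π) := by
    intro P' hP'
    obtain ⟨x, rfl⟩ := isDefectGroup_conj hM hB hP hP'
    rw [Subgroup.map_map, show π.comp (MulAut.conj x).toMonoidHom = (MulAut.conj (π x)).toMonoidHom.comp π from
      MonoidHom.ext fun y => by simp, ← Subgroup.map_map, card_map_conj]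
  have hge : ∀ Db, IsDefectGroup p M b Db → Nat.card (P.map π) ≤ Nat.card Db := by
    intro Db hDb
    obtain ⟨x, hx⟩ := defectLE_of_coeff_unit hM hbB hDb hbu (P.map π) ((isPGroup_of_isDefectGroup hP).map π)
      (Subgroup.map_le_iff_le_comap.2 (hPC.trans (centralizer_le_comap N g)))
    exact (card_map_conj _ x).symm.le.trans (Subgroup.card_le_of_le hx)
  have hfwd : ∀ Db, IsDefectGroup p M b Db → ∃ P', IsDefectGroup p M B P' ∧ Db = P'.map π := by
    intro Db hDb
    obtain ⟨P', hP', hle⟩ := exists_defectGroup_quotient_le hM N hB hbB hsub hDb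
    exact ⟨P', hP', Subgroup.eq_of_le_of_card_ge hle (by rw [hcard P' hP']; exact hge Db hDb)⟩
  refine ⟨b, hbB, hsub, fun Db => ⟨hfwd Db, ?_⟩⟩
  rintro ⟨P', hP', rfl⟩
  obtain ⟨Db, hDb⟩ := exists_isDefectGroup (p := p) hbB
  obtain ⟨P'', hP'', rfl⟩ := hfwd Db hDb
  obtain ⟨x, rfl⟩ := isDefectGroup_conj hM hB hP'' hP'
  rw [Subgroup.map_map, show π.comp (MulAut.conj x).toMonoidHom = (MulAut.conj (π x)).toMonoidHom.comp π from
    MonoidHom.ext fun y => by simp, ← Subgroup.map_map]
  exact isDefectGroup_map_conj hDb _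

end Cfsg.Agent.Block
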