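import Cfsg.Agent.Lib.Char.Gallagher
import Cfsg.Agent.Lib.Char.Extension2

/-!
# No self centralizing cyclic subgroup in a fully ramified quotient
-/

set_option autoImplicit false
set_option linter.style.haveILetI false

open Cfsg Cfsg.Agent.Char
open scoped ComplexConjugate

namespace Cfsg.Agent.Block

universe u

variable {G : Type u} [Group G] [Fintype G]

/-- A fully ramified quotient has no self centralizing cyclic subgroup. -/
theorem centralizer_ne_of_fully_ramified (Z : Subgroup G) [Z.Normal] [Fintype Z] (χ : IrrCharacter G)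
    {θ : Z → ℂ} (hθ : IsIrrCharacter Z θ) {e : ℕ} (he : e ^ 2 = Z.index)
    (hres : (fun z : Z => (χ : G → ℂ) z) = (e : ℂ) • θ) (hZ : Z ≠ ⊤) (C : Subgroup (G ⧸ Z))
    (hC : IsCyclic C) : Subgroup.centralizer (C : Set (G ⧸ Z)) ≠ C := by
  classical
  intro hcent
  have he0 : e ≠ 0 := fun h => Subgroup.index_ne_zero_of_finite (by rw [← he, h]; rfl)
  have hcon : classInner (fun z : Z => (χ : G → ℂ) z) θ ≠ 0 := by
    rw [hres, classInner_smul_left, IsIrrCharacter.classInner_self hθ, mul_one]
    exact_mod_cast he0
  obtain ⟨h1, h2⟩ := fully_ramified_iff Z χ.2 hθ hcon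
  obtain ⟨hvan, hinv⟩ := h1.1 ⟨e, hres, he⟩
  have huniq := (h2.1 ⟨e, hres, he⟩).2
  obtain ⟨⟨q, hqC⟩, hq⟩ := IsCyclic.exists_generator (α := C)
  obtain ⟨x, rfl⟩ := QuotientGroup.mk'_surjective Z q
  have hxZ : x ∉ Z := by
    intro hx
    have hx1 : (QuotientGroup.mk' Z x) = 1 := (QuotientGroup.eq_one_iff x).2 hx
    have hbot : C = ⊥ := (Subgroup.eq_bot_iff_forall _).2 fun c hc => by
      obtain ⟨i, hi⟩ := Subgroup.mem_zpowers_iff.1 (hq ⟨c, hc⟩)
      have := congrArg Subtype.val hi
      simp only [Subgroup.coe_zpow] at this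
      rw [← this, hx1, one_zpow]
    refine hZ (top_unique fun g _ => ?_)
    have : QuotientGroup.mk' Z g ∈ Subgroup.centralizer (C : Set (G ⧸ Z)) :=
      Subgroup.mem_centralizer_iff.2 fun c hc => by
        rw [hbot] at hc
        rw [Subgroup.mem_bot.1 hc, one_mul, mul_one]
    rw [hcent, hbot, Subgroup.mem_bot] at this
    exact (QuotientGroup.eq_one_iff g).1 this
  let A : Subgroup G := C.comap (QuotientGroup.mk' Z)
  haveI := Fintype.ofFinite A
  have hZA : Z ≤ A := fun z hz => by
    show QuotientGroup.mk' Z z ∈ C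
    rw [show QuotientGroup.mk' Z z = 1 from (QuotientGroup.eq_one_iff z).2 hz]
    exact one_mem C
  let x₁ : A := ⟨x, hqC⟩
  let N : Subgroup A := Z.subgroupOf A
  haveI := Fintype.ofFinite N
  let em : N ≃* Z := Subgroup.subgroupOfEquivOfLe hZA
  have hcyc : IsCyclic (A ⧸ N) := by
    let f : A →* C :=
      { toFun := fun a => ⟨QuotientGroup.mk' Z a, a.2⟩
        map_one' := Subtype.ext (map_one _)
        map_mul' := fun a b => Subtype.ext (map_mul (QuotientGroup.mk' Z) (a : G) (b : G)) }
    have hk : f.ker = N := by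
      ext a
      rw [MonoidHom.mem_ker, Subgroup.mem_subgroupOf, Subtype.ext_iff]
      exact QuotientGroup.eq_one_iff (N := Z) (a : G)
    haveI : IsCyclic (A ⧸ f.ker) := isCyclic_of_injective _ (QuotientGroup.kerLift_injective f)
    exact isCyclic_of_surjective (QuotientGroup.quotientMulEquivOfEq hk).toMonoidHom
      (QuotientGroup.quotientMulEquivOfEq hk).surjective
  have hθe : IsIrrCharacter N (fun n => θ (em n)) := isIrrCharacter_comp_mulEquiv em hθ
  have hinvA : ∀ a : A, conjChar N a (fun n => θ (em n)) = fun n => θ (em n) := fun a => by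
    funext n
    exact congrFun (hinv (a : G)) (em n)
  obtain ⟨η, hη, hηN⟩ := exists_extension_of_cyclic hcyc hθe hinvA
  have hηN' : IsIrrCharacter N (fun n : N => η n) := by
    rw [show (fun n : N => η n) = fun n => θ (em n) from funext hηN]
    exact hθe
  -- some value of the extension on the coset does not vanish
  have hone := congrFun ((cosetAverage_spec N hη hηN' hη).2.2 rfl) x₁
  obtain ⟨n₀, hn₀⟩ : ∃ n : N, η ((n : A) * x₁) ≠ 0 := by
    by_contra! h
    simp [cosetAverage, h] at hone
  -- commutation modulo `N`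
  have hcomm : ∀ a b : A, a * b * a⁻¹ * b⁻¹ ∈ N := by
    haveI := hcyc
    intro a b
    rw [← QuotientGroup.eq_one_iff]
    simp only [QuotientGroup.mk_mul, QuotientGroup.mk_inv]
    rw [(IsCyclic.commGroup (α := A ⧸ N)).mul_comm (a : A ⧸ N) b]
    group
  let φ : A → ℂ := fun a => if a * x₁⁻¹ ∈ N then η a else 0
  have hφcf : IsClassFunction A φ := fun a b => by
    have e : b * a * b⁻¹ * x₁⁻¹ ∈ N ↔ a * x₁⁻¹ ∈ N := by
      rw [show b * a * b⁻¹ * x₁⁻¹ = (b * a * b⁻¹ * a⁻¹) * (a * x₁⁻¹) by group]
      exact Subgroup.mul_mem_cancel_left _ (hcomm b a)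
    simp only [φ, e, IsCharacter.isClassFunction (IsIrrCharacter.isCharacter hη) a b]
  have hsum : ∀ ψ : A → ℂ, classInner φ ψ =
      (Nat.card A : ℂ)⁻¹ * ∑ n : N, η ((n : A) * x₁) * conj (ψ ((n : A) * x₁)) := by
    intro ψ
    simp only [classInner, φ, ite_mul, zero_mul]
    congr 1
    rw [← Finset.sum_filter]
    refine Finset.sum_bij' (fun a ha => ⟨a * x₁⁻¹, (Finset.mem_filter.1 ha).2⟩)
      (fun n _ => (n : A) * x₁) (fun a _ => Finset.mem_univ _) (fun n _ => by simp)
      (fun a _ => by simp) (fun n _ => by simp) (fun a _ => by simp)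
  have hfzero : indFun A φ = 0 := by
    refine eq_zero_of_classInner_eq_zero (isClassFunction_indFun A φ) fun χ' hχ' => ?_
    rw [classInner_indFun A φ (IsCharacter.isClassFunction (IsIrrCharacter.isCharacter hχ')), hsum]
    by_cases hover : classInner (fun z : Z => χ' z) θ ≠ 0
    · have : χ' = (χ : G → ℂ) := huniq χ' hχ' (by
        rw [classInner_indFun Z θ (IsCharacter.isClassFunction (IsIrrCharacter.isCharacter hχ')),
          ← classInner_conj_symm]
        exact (map_ne_zero _).mpr hover)
      subst this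
      refine mul_eq_zero_of_right _ (Finset.sum_eq_zero fun n _ => ?_)
      have : ((((n : A) * x₁ : A)) : G) ∉ Z := by
        intro h
        exact hxZ (by simpa using (Subgroup.mul_mem_cancel_left Z (show ((n : A) : G) ∈ Z from n.2)).1 h)
      simp only [hvan _ this, map_zero, mul_zero]
    · rw [not_not] at hover
      haveI := Fintype.ofFinite (IrrCharacter A)
      have hr : IsCharacter A (fun a : A => χ' a) := IsCharacter.restrict (IsIrrCharacter.isCharacter hχ') A
      have hexp := IsClassFunction.eq_sum (IsCharacter.isClassFunction hr)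
      have hzero : ∀ ψ : IrrCharacter A, classInner (fun a : A => χ' a) (ψ : A → ℂ) = 0 ∨
          cosetAverage N η (ψ : A → ℂ) = 0 := by
        intro ψ
        by_cases hψ0 : classInner (fun a : A => χ' a) (ψ : A → ℂ) = 0
        · exact Or.inl hψ0
        refine Or.inr ((cosetAverage_spec N hη hηN' ψ.2).2.1 ?_)
        obtain ⟨r, hr', hsplit⟩ := exists_add_of_classInner_ne_zero hr ψ.2 hψ0
        rw [show (fun n : N => η n) = fun n => θ (em n) from funext hηN]
        have hz : classInner (fun n : N => χ' ((n : A) : G)) (fun n => θ (em n)) = 0 := by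
          rw [← hover, ← classInner_comp_mulEquiv em (fun z : Z => χ' z) θ]
          rfl
        rw [show (fun n : N => χ' ((n : A) : G)) = (fun n : N => (ψ : A → ℂ) n) + fun n : N => r n from
          funext fun n => congrFun hsplit n, classInner_add_left] at hz
        obtain ⟨u, hu⟩ := exists_classInner_nat
          (IsCharacter.restrict (IsIrrCharacter.isCharacter ψ.2) N) hθe
        obtain ⟨v, hv⟩ := exists_classInner_nat (IsCharacter.restrict hr' N) hθe
        rw [hu, hv] at hz
        rw [hu]
        norm_cast at hz ⊢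
        omega
      have key : (Nat.card N : ℂ)⁻¹ * ∑ n : N, χ' ((((n : A) * x₁ : A)) : G) * conj (η ((n : A) * x₁)) = 0 := by
        have e : ∀ a : A, χ' a = ∑ ψ : IrrCharacter A,
            classInner (fun a : A => χ' a) (ψ : A → ℂ) * (ψ : A → ℂ) a := fun a => by
          simpa using congrFun hexp a
        rw [Finset.sum_congr rfl fun n (_ : n ∈ Finset.univ) => by
          rw [e ((n : A) * x₁), Finset.sum_mul], Finset.sum_comm, Finset.mul_sum]
        simp only [mul_assoc]
        refine Finset.sum_eq_zero fun ψ _ => ?_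
        rw [← Finset.mul_sum, mul_left_comm]
        rcases hzero ψ with h | h
        · rw [h, zero_mul]
        · exact mul_eq_zero_of_right _ (congrFun h x₁)
      have key2 := congrArg conj key
      simp only [map_mul, map_inv₀, map_natCast, map_sum, Complex.conj_conj, map_zero] at key2
      refine mul_eq_zero_of_right _ ?_
      rw [← (mul_eq_zero.1 key2).resolve_left (inv_ne_zero (Nat.cast_ne_zero.2 Nat.card_pos.ne'))]
      exact Finset.sum_congr rfl fun n _ => mul_comm _ _
  -- the value of the induced function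
  let y : A := (n₀ : A) * x₁
  have hval : indFun A φ (y : G) = η y := by
    rw [indFun_apply]
    have hy : y * x₁⁻¹ ∈ N := by simp [y]
    have hterm : ∀ h : G, extendByZero A φ (h⁻¹ * (y : G) * h) = if h ∈ A then η y else 0 := by
      intro h
      split
      next hh =>
        have e : h⁻¹ * (y : G) * h = (((⟨h, hh⟩ : A)⁻¹ * y * ⟨h, hh⟩ : A) : G) := rfl
        rw [e, extendByZero, Subtype.val_injective.extend_apply]
        have := hφcf y (⟨h, hh⟩ : A)⁻¹
        rw [inv_inv] at this
        rw [this]
        simp [φ, hy]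
      next hh =>
        by_cases hm : h⁻¹ * (y : G) * h ∈ A
        · rw [extendByZero, show h⁻¹ * (y : G) * h = ((⟨_, hm⟩ : A) : G) from rfl,
            Subtype.val_injective.extend_apply]
          refine if_neg fun hc => hh ?_
          have hc' : h⁻¹ * (y : G) * h * x⁻¹ ∈ Z := hc
          have hyx : QuotientGroup.mk' Z (y : G) = QuotientGroup.mk' Z x := by
            rw [show (y : G) = ((n₀ : A) : G) * x from rfl, map_mul,
              show QuotientGroup.mk' Z ((n₀ : A) : G) = 1 from (QuotientGroup.eq_one_iff _).2 n₀.2, one_mul]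
          have hcomm' : Commute (QuotientGroup.mk' Z h) (QuotientGroup.mk' Z x) := by
            have h1 : QuotientGroup.mk' Z (h⁻¹ * (y : G) * h * x⁻¹) = 1 := (QuotientGroup.eq_one_iff _).2 hc'
            rw [map_mul, map_mul, map_mul, map_inv, map_inv, hyx, mul_inv_eq_one, mul_assoc, inv_mul_eq_iff_eq_mul] at h1
            exact h1.symm
          show QuotientGroup.mk' Z h ∈ C
          rw [← hcent, Subgroup.mem_centralizer_iff]
          intro c hc
          obtain ⟨i, hi⟩ := Subgroup.mem_zpowers_iff.1 (hq ⟨c, hc⟩)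
          have hi' := congrArg Subtype.val hi
          simp only [Subgroup.coe_zpow] at hi'
          rw [← hi']
          exact (hcomm'.zpow_right i).eq.symm
        · rw [extendByZero, Function.extend_apply' _ _ _ (by rintro ⟨a, ha⟩; exact hm (ha ▸ a.2))]
          rfl
    rw [Finset.sum_congr rfl fun h _ => hterm h, ← Finset.sum_filter, Finset.sum_const, nsmul_eq_mul,
      ← Fintype.card_subtype (fun h : G => h ∈ A), ← mul_assoc]
    rw [show Fintype.card {h : G // h ∈ A} = Nat.card A from (Nat.card_eq_fintype_card).symm,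
      inv_mul_cancel₀ (Nat.cast_ne_zero.2 Nat.card_pos.ne'), one_mul]
  rw [hfzero] at hval
  exact hn₀ hval.symm

end Cfsg.Agent.Block
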