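import Cfsg.Agent.Lib.Block.Height
import Cfsg.Agent.Lib.Block.Rank
import Cfsg.Agent.Lib.Block.RegInner

/-!
# The Cartan invariant of a block with one Brauer character
-/

set_option autoImplicit false
set_option linter.style.haveILetI false

open Cfsg Cfsg.Agent.Char
open scoped ComplexConjugate

namespace Cfsg.Agent.Block

universe u

theorem exists_bezout {ι : Type*} [DecidableEq ι] (s : Finset ι) (f : ι → ℕ) :
    ∃ n : ι → ℤ, ((s.gcd f : ℕ) : ℤ) = ∑ i ∈ s, n i * f i := by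
  induction s using Finset.induction_on with
  | empty => exact ⟨0, by simp⟩
  | insert a s ha ih =>
    obtain ⟨n, hn⟩ := ih
    rw [Finset.gcd_insert]
    refine ⟨fun i => if i = a then Nat.gcdA (f a) (s.gcd f) else Nat.gcdB (f a) (s.gcd f) * n i, ?_⟩
    dsimp only
    rw [Finset.sum_insert ha, if_pos rfl,
      Finset.sum_congr rfl (fun i hi => by rw [if_neg (fun e : i = a => ha (e ▸ hi)), mul_assoc]),
      ← Finset.mul_sum, ← hn]
    show ((Nat.gcd (f a) (s.gcd f) : ℕ) : ℤ) = _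
    rw [Nat.gcd_eq_gcd_ab]
    ring

variable {G : Type u} [Group G] [Fintype G] {M : Ideal AlgInt} {p : ℕ} [Fact p.Prime]

theorem exists_cartan_rank_one (hM : IsPModular p M) {B : Set (IrrCharacter G)} (hB : IsPBlock M B)
    (hl : blockRank p B = 1) :
    ∃ φ : G → ℂ, ∃ d : IrrCharacter G → ℕ,
      (∃ n : IrrCharacter G → ℤ, ∀ x : G, IsPRegular p x →
        φ x = ∑ᶠ ψ ∈ B, (n ψ : ℂ) * (ψ : G → ℂ) x) ∧
      (∀ χ ∈ B, ∀ x : G, IsPRegular p x → (χ : G → ℂ) x = (d χ : ℂ) * φ x) ∧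
      ∑ᶠ χ ∈ B, d χ ^ 2 = p ^ blockDefect p B := by
  classical
  haveI := prime_of_isPModular hM
  have hp := (Fact.out : p.Prime)
  obtain ⟨χ₀, hχ₀, hh0⟩ := exists_height_zero p (isPBlock_nonempty hB)
  set s := B.toFinite.toFinset with hs
  have hmem : ∀ {χ}, χ ∈ s ↔ χ ∈ B := fun {χ} => B.toFinite.mem_toFinset
  set dg : IrrCharacter G → ℕ := fun χ => charDegree (χ : G → ℂ) with hdg
  set g := s.gcd dg with hg
  have hgd : ∀ χ ∈ B, g ∣ dg χ := fun χ hχ => Finset.gcd_dvd (hmem.2 hχ)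
  have hg0 : 0 < g := Nat.pos_of_ne_zero fun h => (charDegree_pos χ₀.2).ne' (by
    have := hgd χ₀ hχ₀; rw [h] at this; exact zero_dvd_iff.1 this)
  set d : IrrCharacter G → ℕ := fun χ => dg χ / g with hd
  have hdg' : ∀ χ ∈ B, d χ * g = dg χ := fun χ hχ => Nat.div_mul_cancel (hgd χ hχ)
  have hone : ∀ χ : IrrCharacter G, (χ : G → ℂ) 1 = (dg χ : ℂ) := fun χ =>
    (charDegree_cast (IsIrrCharacter.isCharacter χ.2)).symm
  -- all regular parts are proportional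
  set W := Submodule.span ℂ ((fun χ : IrrCharacter G => pRegularPart p (χ : G → ℂ)) '' B) with hW
  have h1p : ¬ p ∣ orderOf (1 : G) := by rw [orderOf_one]; exact hp.not_dvd_one
  have hv0 : pRegularPart p (χ₀ : G → ℂ) ≠ 0 := fun h => by
    have := congrFun h 1
    rw [pRegularPart_apply, if_neg h1p, hone] at this
    simp only [Pi.zero_apply, Nat.cast_eq_zero] at this
    exact (charDegree_pos χ₀.2).ne' this
  have hprop : ∀ χ ∈ B, ∀ x : G, ¬ p ∣ orderOf x →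
      (χ : G → ℂ) x = ((dg χ : ℂ) / (dg χ₀ : ℂ)) * (χ₀ : G → ℂ) x := by
    intro χ hχ x hx
    have hW1 : Module.finrank ℂ W = 1 := hl
    obtain ⟨c, hc⟩ := (finrank_eq_one_iff_of_nonzero' (⟨_, Submodule.subset_span ⟨χ₀, hχ₀, rfl⟩⟩ : W)
      (fun h => hv0 (congrArg Subtype.val h))).1 hW1 ⟨_, Submodule.subset_span ⟨χ, hχ, rfl⟩⟩
    have hc' := congrArg Subtype.val hc
    have e1 := congrFun hc' 1
    have e2 := congrFun hc' x
    simp only [SetLike.val_smul, Pi.smul_apply, smul_eq_mul, pRegularPart_apply, if_neg h1p, if_neg hx,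
      hone] at e1 e2
    rw [← e2, ← e1, mul_div_assoc, div_self (Nat.cast_ne_zero.2 (charDegree_pos χ₀.2).ne'), mul_one]
  set φ : G → ℂ := fun x => (g : ℂ) / (dg χ₀ : ℂ) * (χ₀ : G → ℂ) x with hφ
  have hχφ : ∀ χ ∈ B, ∀ x : G, ¬ p ∣ orderOf x → (χ : G → ℂ) x = (d χ : ℂ) * φ x := by
    intro χ hχ x hx
    rw [hprop χ hχ x hx, hφ, ← hdg' χ hχ, Nat.cast_mul]
    ring
  obtain ⟨n, hn⟩ := exists_bezout s dg
  refine ⟨φ, d, ⟨n, fun x hx => ?_⟩, hχφ, ?_⟩
  · rw [finsum_mem_eq_finite_toFinset_sum _ B.toFinite, Finset.sum_congr rfl fun χ hχ => by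
      rw [hprop χ (hmem.1 hχ) x hx, ← mul_assoc, ← mul_div_assoc], ← Finset.sum_mul, ← Finset.sum_div]
    show (g : ℂ) / _ * _ = _
    congr 2
    have := congrArg (Int.cast : ℤ → ℂ) hn
    push_cast at this
    rw [← hg] at this
    exact this
  rw [finsum_mem_eq_finite_toFinset_sum _ B.toFinite]
  set S := ∑ χ ∈ s, d χ ^ 2 with hS
  have hS0 : 0 < S := Finset.sum_pos (fun χ hχ => pow_pos (Nat.div_pos
    (Nat.le_of_dvd (charDegree_pos χ.2) (hgd χ (hmem.1 hχ))) hg0) 2) ⟨χ₀, hmem.2 hχ₀⟩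
  set R : ℂ := ∑ x : G, if p ∣ orderOf x then 0 else φ x * conj (φ x) with hR
  have hSR : (Nat.card G : ℂ) = (S : ℂ) * R := by
    have h := card_mul_blockRank hM hB
    rw [hl, Nat.cast_one, mul_one] at h
    rw [h, hR, Finset.mul_sum]
    refine Finset.sum_congr rfl fun x _ => ?_
    split
    next => rw [mul_zero]
    next hx =>
      rw [blockKernel, finsum_mem_eq_finite_toFinset_sum _ B.toFinite, hS, Nat.cast_sum, Finset.sum_mul]
      refine Finset.sum_congr rfl fun χ hχ => ?_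
      rw [hχφ χ (hmem.1 hχ) x hx, map_mul, Complex.conj_natCast, Nat.cast_pow]
      ring
  have hreg : ∀ χ ∈ B, ∀ ψ ∈ B, regInner p (χ : G → ℂ) (ψ : G → ℂ) =
      (d χ : ℂ) * (d ψ : ℂ) * R := by
    intro χ hχ ψ hψ
    rw [regInner, hR, Finset.mul_sum]
    refine Finset.sum_congr rfl fun x _ => ?_
    split
    next => rw [mul_zero]
    next hx =>
      rw [hχφ χ hχ x hx, hχφ ψ hψ x hx, map_mul, Complex.conj_natCast]
      ring
  set D := blockDefect p B with hD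
  have hSne : (S : ℂ) ≠ 0 := Nat.cast_ne_zero.2 hS0.ne'
  have hR' : R = (Nat.card G : ℂ) / (S : ℂ) := by rw [hSR, mul_div_cancel_left₀ _ hSne]
  have hdiv : ∀ χ ∈ B, ∀ ψ ∈ B, S ∣ p ^ D * (d χ * d ψ) := by
    intro χ hχ ψ hψ
    obtain ⟨z, hz⟩ := exists_int_regInner hp χ ψ
    set e := (Nat.card G).factorization p - (charDegree (ψ : G → ℂ)).factorization p
    have he : e ≤ D := by
      rw [hD, blockDefect_eq]
      exact Nat.sub_le_sub_left (minVal_le hψ) _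
    rw [hreg χ hχ ψ hψ, hR'] at hz
    have h1 : (((p ^ e * (d χ * d ψ) : ℕ)) : ℂ) = ((z * S : ℤ) : ℂ) := by
      have hG : (Nat.card G : ℂ) ≠ 0 := Nat.cast_ne_zero.2 Nat.card_pos.ne'
      push_cast at hz ⊢
      field_simp at hz
      linear_combination hz
    have h2 : (((p ^ e * (d χ * d ψ) : ℕ)) : ℤ) = z * S := by exact_mod_cast h1
    exact (Int.natCast_dvd_natCast.1 ⟨z, by rw [h2, mul_comm]⟩).trans
      (Nat.mul_dvd_mul_right (pow_dvd_pow p he) _)
  have hgcd1 : s.gcd d = 1 := by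
    have := Finset.gcd_div_eq_one (hmem.2 hχ₀) (f := dg) (charDegree_pos χ₀.2).ne'
    simpa [hd, hg] using this
  have hSp : S ∣ p ^ D := by
    have h1 : ∀ χ ∈ B, S ∣ p ^ D * d χ := fun χ hχ => by
      have h : S ∣ s.gcd (fun ψ => (p ^ D * d χ) * d ψ) :=
        Finset.dvd_gcd fun ψ hψ => by rw [mul_assoc]; exact hdiv χ hχ ψ (hmem.1 hψ)
      rwa [Finset.gcd_mul_left, normalize_eq, hgcd1, mul_one] at h
    have h : S ∣ s.gcd (fun χ => p ^ D * d χ) := Finset.dvd_gcd fun χ hχ => h1 χ (hmem.1 hχ)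
    rwa [Finset.gcd_mul_left, normalize_eq, hgcd1, mul_one] at h
  obtain ⟨j, hj, hSj⟩ := (Nat.dvd_prime_pow hp).1 hSp
  rcases hj.eq_or_lt with e | hlt
  · rw [hSj, e]
  · exfalso
    have hnot := (regInner_div_memLocalIdeal_iff hM hB (χ := χ₀) hχ₀)
    refine hnot.1 ?_ ⟨hχ₀, hh0⟩
    have hv : (dg χ₀).factorization p = minVal p B := (blockHeight_eq_zero_iff hχ₀).1 hh0
    have hdvd : dg χ₀ * p ^ (j + 1) ∣ Nat.card G := by
      have h1 : dg χ₀ ∣ Nat.card G := charDegree_dvd_card χ₀.2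
      obtain ⟨k, hk⟩ := h1
      rw [hk]
      refine mul_dvd_mul_left _ ?_
      have hk0 : k ≠ 0 := fun h => Nat.card_pos.ne' (by rw [hk, h, mul_zero] : Nat.card G = 0)
      rw [hp.pow_dvd_iff_le_factorization hk0]
      have hf : (Nat.card G).factorization p = (dg χ₀).factorization p + k.factorization p := by
        rw [hk, Nat.factorization_mul (charDegree_pos χ₀.2).ne' hk0]; rfl
      rw [hD, blockDefect_eq] at hlt
      omega
    obtain ⟨k, hk⟩ := hdvd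
    rw [hreg χ₀ hχ₀ χ₀ hχ₀, hR', hSj, hone, hk]
    have e : (d χ₀ : ℂ) * (d χ₀ : ℂ) * (((dg χ₀ * p ^ (j + 1) * k : ℕ) : ℂ) / ((p ^ j : ℕ) : ℂ)) /
        (dg χ₀ : ℂ) = ((d χ₀ * d χ₀ * k : ℕ) : ℂ) * (p : ℂ) := by
      have a1 : (dg χ₀ : ℂ) ≠ 0 := Nat.cast_ne_zero.2 (charDegree_pos χ₀.2).ne'
      have a2 : (p : ℂ) ^ j ≠ 0 := pow_ne_zero _ (Nat.cast_ne_zero.2 hp.ne_zero)
      push_cast
      field_simp
      ring
    rw [e]
    exact memLocalIdeal_mul_left (natCast_mem _ _) ((memLocalIdeal_natCast_iff hM.1 hM.2.2 p).2 dvd_rfl)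

end Cfsg.Agent.Block
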