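import Cfsg.Agent.Lib.Block.Regular
import Cfsg.Agent.Lib.Block.Omega
import Cfsg.Agent.Lib.Char.Clifford

/-!
A parity test for membership in the principal 2-block: the sum of a character over the
elements of odd order, reduced by pairing each class with the class of inverses.
-/

namespace Cfsg.Agent.Block

open Cfsg Cfsg.Agent.Char
open scoped Classical ComplexConjugate

set_option linter.style.haveILetI false

universe u

variable {G : Type u} [Group G] [Finite G] {M : Ideal AlgInt}

/-- The class of inverses. -/
noncomputable def invClass (C : ConjClasses G) : ConjClasses G := ConjClasses.mk C.out⁻¹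

omit [Finite G] in
theorem mk_out (C : ConjClasses G) : ConjClasses.mk C.out = C := Quotient.out_eq C

omit [Finite G] in
theorem invClass_mk (g : G) : invClass (ConjClasses.mk g) = ConjClasses.mk g⁻¹ := by
  rw [invClass, ConjClasses.mk_eq_mk_iff_isConj]
  have h : IsConj (ConjClasses.mk g).out g :=
    ConjClasses.mk_eq_mk_iff_isConj.1 (mk_out _)
  obtain ⟨t, ht⟩ := isConj_iff.1 h
  exact isConj_iff.2 ⟨t, by rw [← conj_inv, ht]⟩

omit [Finite G] in
theorem invClass_invClass (C : ConjClasses G) : invClass (invClass C) = C := by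
  rw [← mk_out C, invClass_mk, invClass_mk, inv_inv]

theorem sum_conjClasses_centralChar [Fintype G] [Fintype (ConjClasses G)] (χ : IrrCharacter G)
    (s : Finset (ConjClasses G)) :
    ∑ C ∈ s, centralChar (χ : G → ℂ) C.out =
      ∑ g : G, (if ConjClasses.mk g ∈ s then (χ : G → ℂ) g / (χ : G → ℂ) 1 else 0) := by
  have h : ∀ C, centralChar (χ : G → ℂ) C.out =
      ∑ g : G, (if ConjClasses.mk g = C then (χ : G → ℂ) g / (χ : G → ℂ) 1 else 0) := by
    intro C
    rw [← omega_classSum χ C.out, omega_eq_sum, Finset.sum_div]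
    refine Finset.sum_congr rfl fun g _ => ?_
    have hiff : IsConj C.out g ↔ ConjClasses.mk g = C := by
      rw [← ConjClasses.mk_eq_mk_iff_isConj, mk_out]; exact eq_comm
    simp only [classSum, coeff_mkA]
    by_cases hc : IsConj C.out g
    · rw [if_pos hc, if_pos (hiff.1 hc), one_mul]
    · rw [if_neg hc, if_neg (mt hiff.2 hc), zero_mul, zero_div]
  simp_rw [h]
  rw [Finset.sum_comm]
  simp

/-- Pairing classes with classes of inverses, modulo a prime above 2. -/
theorem sum_congr_real [M.IsPrime] (h2 : (2 : AlgInt) ∈ M) (χ : IrrCharacter G)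
    (s : Finset (ConjClasses G)) (hs : ∀ C ∈ s, invClass C ∈ s)
    (hsym : ∀ C ∈ s, MemLocalIdeal M
      (centralChar (χ : G → ℂ) (invClass C).out - centralChar (χ : G → ℂ) C.out)) :
    MemLocalIdeal M (∑ C ∈ s, centralChar (χ : G → ℂ) C.out -
      ∑ C ∈ s.filter (fun C => invClass C = C), centralChar (χ : G → ℂ) C.out) := by
  let f : ConjClasses G → locRing M := fun C =>
    ⟨centralChar (χ : G → ℂ) C.out, isIntegral_mem_locRing (isIntegral_centralChar χ _)⟩
  let π := IsLocalRing.residue (locRing M)
  have h20 : π 2 = 0 := by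
    rw [IsLocalRing.residue_eq_zero_iff, mem_maximalIdeal_locRing]
    have h := (memLocalIdeal_algInt_iff (2 : AlgInt)).2 h2
    rw [show ((2 : locRing M) : ℂ) = 2 from rfl]
    rwa [show ((2 : AlgInt) : ℂ) = 2 from rfl] at h
  have key : ∑ C ∈ s.filter (fun C => ¬ invClass C = C), π (f C) = 0 := by
    refine Finset.sum_involution (fun C _ => invClass C) (fun C hC => ?_)
      (fun C hC _ => (Finset.mem_filter.1 hC).2) (fun C hC => ?_) fun C _ => invClass_invClass C
    · have hd : π (f (invClass C) - f C) = 0 := by
        rw [IsLocalRing.residue_eq_zero_iff, mem_maximalIdeal_locRing]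
        exact hsym C (Finset.mem_filter.1 hC).1
      rw [map_sub, sub_eq_zero] at hd
      rw [hd, ← two_mul, show (2 : IsLocalRing.ResidueField (locRing M)) = π 2 from (map_ofNat π 2).symm,
        h20, zero_mul]
    · obtain ⟨h1, h2'⟩ := Finset.mem_filter.1 hC
      refine Finset.mem_filter.2 ⟨hs C h1, fun h => h2' ?_⟩
      rw [invClass_invClass] at h
      exact h.symm
  have h0 : π (∑ C ∈ s, f C - ∑ C ∈ s.filter (fun C => invClass C = C), f C) = 0 := by
    rw [← Finset.sum_filter_add_sum_filter_not s (fun C => invClass C = C) f, add_sub_cancel_left,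
      map_sum]
    exact key
  rw [IsLocalRing.residue_eq_zero_iff, mem_maximalIdeal_locRing] at h0
  simpa [f] using h0

/-- The classes of odd order elements. -/
noncomputable def oddClasses (G : Type u) [Group G] [Finite G] : Finset (ConjClasses G) :=
  (Set.toFinite {C : ConjClasses G | ¬ 2 ∣ orderOf C.out}).toFinset

theorem mk_mem_oddClasses (g : G) : ConjClasses.mk g ∈ oddClasses G ↔ ¬ 2 ∣ orderOf g := by
  simp only [oddClasses, Set.Finite.mem_toFinset, Set.mem_setOf_eq]
  obtain ⟨t, ht⟩ := isConj_iff.1 (ConjClasses.mk_eq_mk_iff_isConj.1 (mk_out (ConjClasses.mk g)))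
  have : orderOf (ConjClasses.mk g).out = orderOf g := by
    conv_rhs => rw [← ht, ← MulAut.conj_apply]
    exact ((MulAut.conj t).orderOf_eq _).symm
  rw [this]

theorem invClass_mem_oddClasses {C : ConjClasses G} (h : C ∈ oddClasses G) :
    invClass C ∈ oddClasses G := by
  rw [← mk_out C, mk_mem_oddClasses] at h
  rw [← mk_out C, invClass_mk, mk_mem_oddClasses, orderOf_inv]
  exact h

theorem centralChar_out (χ : IrrCharacter G) (g : G) :
    centralChar (χ : G → ℂ) (ConjClasses.mk g).out = centralChar (χ : G → ℂ) g := by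
  have : IsConj g (ConjClasses.mk g).out :=
    ConjClasses.mk_eq_mk_iff_isConj.1 (mk_out (ConjClasses.mk g)).symm
  rw [← omega_classSum, ← omega_classSum]
  congr 1
  unfold classSum
  congr 1
  funext x
  exact if_congr ⟨fun h => this.trans h, fun h => this.symm.trans h⟩ rfl rfl

/-- Summing a character over the elements of odd order, as a sum of central characters. -/
theorem sum_odd_eq [Fintype G] (χ : IrrCharacter G) :
    ∑ C ∈ oddClasses G, centralChar (χ : G → ℂ) C.out =
      (∑ g : G, if 2 ∣ orderOf g then 0 else (χ : G → ℂ) g) / (χ : G → ℂ) 1 := by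
  haveI := Fintype.ofFinite (ConjClasses G)
  rw [sum_conjClasses_centralChar, Finset.sum_div]
  refine Finset.sum_congr rfl fun g _ => ?_
  by_cases h : 2 ∣ orderOf g
  · rw [if_pos h, if_neg (fun h' => (mk_mem_oddClasses g).1 h' h), zero_div]
  · rw [if_neg h, if_pos ((mk_mem_oddClasses g).2 h)]

/-- The class of a nontrivial element of odd order conjugate to its inverse has even size. -/
theorem two_dvd_index_of_real {g : G} (hg : ¬ 2 ∣ orderOf g) (h1 : g ≠ 1) (hreal : IsConj g g⁻¹) :
    2 ∣ (Subgroup.centralizer ({g} : Set G)).index := by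
  haveI := Fintype.ofFinite G
  set S : Finset G := Finset.univ.filter (fun x => IsConj g x) with hS
  have hcard : (Subgroup.centralizer ({g} : Set G)).index = S.card := by
    let one : IrrCharacter G := ⟨fun _ => 1, isIrrCharacter_one⟩
    have := omega_classSum one g
    rw [omega_eq_sum] at this
    simp only [classSum, coeff_mkA, centralChar, one, mul_one, div_one] at this
    have h2 : (S.card : ℂ) = ((Subgroup.centralizer ({g} : Set G)).index : ℂ) := by
      rw [hS, Finset.natCast_card_filter]
      refine Eq.trans (Finset.sum_congr rfl fun x _ => ?_) this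
      split <;> rfl
    exact_mod_cast h2.symm
  have hz : ∑ _x ∈ S, (1 : ZMod 2) = 0 := by
    refine Finset.sum_involution (fun x _ => x⁻¹) (fun x _ => by decide) (fun x hx _ he => ?_)
      (fun x hx => ?_) fun x _ => inv_inv x
    · obtain ⟨t, rfl⟩ := isConj_iff.1 (Finset.mem_filter.1 hx).2
      have hord : orderOf (t * g * t⁻¹) = orderOf g := (MulAut.conj t).orderOf_eq g
      have h2 : (t * g * t⁻¹) ^ 2 = 1 := by
        rw [pow_two]; nth_rewrite 1 [← he]; exact inv_mul_cancel _
      have h3 := orderOf_dvd_of_pow_eq_one h2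
      rw [hord] at h3
      rcases (Nat.dvd_prime Nat.prime_two).1 h3 with h | h
      · exact h1 (orderOf_eq_one_iff.1 h)
      · exact hg (h ▸ dvd_rfl)
    · obtain ⟨t, rfl⟩ := isConj_iff.1 (Finset.mem_filter.1 hx).2
      refine Finset.mem_filter.2 ⟨Finset.mem_univ _, hreal.trans (isConj_iff.2 ⟨t, ?_⟩)⟩
      rw [conj_inv]
  rw [Finset.sum_const, nsmul_one, ZMod.natCast_eq_zero_iff_even, even_iff_two_dvd] at hz
  rwa [hcard]

/-- If the degree is odd and the values at odd order classes are symmetric modulo M, the sum over the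
elements of odd order is congruent to the degree. -/
theorem sum_odd_congr_one (hM : IsPModular 2 M) (χ : IrrCharacter G)
    (hodd : ¬ 2 ∣ charDegree (χ : G → ℂ))
    (hsym : ∀ g : G, ¬ 2 ∣ orderOf g →
      MemLocalIdeal M (centralChar (χ : G → ℂ) g⁻¹ - centralChar (χ : G → ℂ) g)) :
    MemLocalIdeal M (∑ C ∈ oddClasses G, centralChar (χ : G → ℂ) C.out - 1) := by
  haveI := prime_of_isPModular hM
  have h2 : (2 : AlgInt) ∈ M := by simpa using hM.2.2
  have h := sum_congr_real h2 χ (oddClasses G) (fun C hC => invClass_mem_oddClasses hC) fun C hC => by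
    rw [← mk_out C, mk_mem_oddClasses] at hC
    have := hsym C.out hC
    rwa [← mk_out C, invClass_mk, centralChar_out, centralChar_out]
  have hrest : MemLocalIdeal M (∑ C ∈ (oddClasses G).filter (fun C => invClass C = C),
      centralChar (χ : G → ℂ) C.out - 1) := by
    have hone : ConjClasses.mk (1 : G) ∈ (oddClasses G).filter (fun C => invClass C = C) :=
      Finset.mem_filter.2 ⟨(mk_mem_oddClasses 1).2 (by simp), by rw [invClass_mk, inv_one]⟩
    rw [← Finset.add_sum_erase _ _ hone, centralChar_out]
    have h1 : centralChar (χ : G → ℂ) 1 = 1 := by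
      have hc : Subgroup.centralizer ({1} : Set G) = ⊤ := by
        ext; simp [Subgroup.mem_centralizer_singleton_iff]
      simp [centralChar, hc, IsIrrCharacter.apply_one_ne_zero χ.2]
    rw [h1, add_sub_cancel_left]
    refine memLocalIdeal_sum _ _ fun C hC => ?_
    obtain ⟨hne, hC⟩ := Finset.mem_erase.1 hC
    obtain ⟨hC, hinv⟩ := Finset.mem_filter.1 hC
    rw [← mk_out C, mk_mem_oddClasses] at hC
    rw [← mk_out C, invClass_mk, ConjClasses.mk_eq_mk_iff_isConj] at hinv
    have hidx := two_dvd_index_of_real hC (fun he => hne (by rw [← mk_out C, he])) hinv.symm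
    obtain ⟨m, hm⟩ := hidx
    have hdeg : ((charDegree (χ : G → ℂ) : ℕ) : AlgInt) ∉ M := by
      rwa [natCast_mem_iff Nat.prime_two hM.2.2]
    have hloc : (χ : G → ℂ) C.out / (χ : G → ℂ) 1 * (m : ℂ) ∈ locRing M := by
      refine mul_mem ?_ (natCast_mem_locRing m)
      rw [div_eq_mul_inv, ← charDegree_cast (IsIrrCharacter.isCharacter χ.2)]
      refine mul_mem (isIntegral_mem_locRing (isIntegral_character (IsIrrCharacter.isCharacter χ.2) _)) ?_
      exact inv_natCast_mem_locRing Nat.prime_two hM.2.2 hodd
    have : centralChar (χ : G → ℂ) C.out =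
        ((2 : AlgInt) : ℂ) * ((χ : G → ℂ) C.out / (χ : G → ℂ) 1 * (m : ℂ)) := by
      rw [centralChar, hm, show ((2 : AlgInt) : ℂ) = 2 from rfl]
      push_cast
      ring
    rw [this]
    exact memLocalIdeal_mul_right hloc ((memLocalIdeal_algInt_iff _).2 h2)
  have := memLocalIdeal_add h hrest
  convert this using 1
  ring

/-- A character outside the principal block sums to zero over the regular elements. -/
theorem sum_regular_eq_zero_of_not_principal [Fintype G] {p : ℕ} (hM : IsPModular p M)
    {χ : IrrCharacter G} (h : χ ∉ principalBlock M G) :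
    ∑ g : G, (if p ∣ orderOf g then 0 else (χ : G → ℂ) g) = 0 := by
  haveI := prime_of_isPModular hM
  let one : IrrCharacter G := ⟨fun _ => 1, isIrrCharacter_one⟩
  have := sum_regular_eq_zero hM (χ := χ) (ψ := one) fun hs => h fun g => by
    have h0 := memLocalIdeal_neg (hs g)
    rwa [neg_sub] at h0
  simpa [one] using this

theorem mem_principal_of_sum_odd_unit (hM : IsPModular 2 M) (χ : IrrCharacter G)
    (h : MemLocalIdeal M (∑ C ∈ oddClasses G, centralChar (χ : G → ℂ) C.out - 1)) :
    χ ∈ principalBlock M G := by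
  haveI := prime_of_isPModular hM
  haveI := Fintype.ofFinite G
  by_contra hn
  rw [sum_odd_eq, sum_regular_eq_zero_of_not_principal hM hn, zero_div, zero_sub] at h
  have h1 := memLocalIdeal_neg h
  rw [neg_neg] at h1
  have h2 : MemLocalIdeal M (((1 : AlgInt) : ℂ)) := by simpa using h1
  exact one_notMem ((memLocalIdeal_algInt_iff _).1 h2)

/-- Odd degree and symmetric values at the elements of odd order force the principal block. -/
theorem mem_principal_of_symm (hM : IsPModular 2 M) (χ : IrrCharacter G)
    (hodd : ¬ 2 ∣ charDegree (χ : G → ℂ))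
    (hsym : ∀ g : G, ¬ 2 ∣ orderOf g → (χ : G → ℂ) g⁻¹ = (χ : G → ℂ) g) :
    χ ∈ principalBlock M G := by
  haveI := prime_of_isPModular hM
  refine mem_principal_of_sum_odd_unit hM χ (sum_odd_congr_one hM χ hodd fun g hg => ?_)
  have hc : Subgroup.centralizer ({g⁻¹} : Set G) = Subgroup.centralizer ({g} : Set G) := by
    ext x; simp only [Subgroup.mem_centralizer_singleton_iff]
    exact ⟨fun h => by simpa using (Commute.inv_right (show Commute x g⁻¹ from h)).eq,
      fun h => (Commute.inv_right (show Commute x g from h)).eq⟩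
  rw [centralChar, centralChar, hsym g hg, hc, sub_self]
  exact memLocalIdeal_zero

end Cfsg.Agent.Block
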