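import Cfsg.Agent.Lib.Block.CoverSylow
import Cfsg.Agent.Lib.Block.CoverInduced
import Cfsg.Agent.Lib.Block.CentralExtDefect
import Cfsg.Agent.Lib.Block.Height
import Cfsg.Agent.Lib.Char.Degrees

/-!
# Blocks with a normal defect group: abelian iff all heights vanish
-/

set_option autoImplicit false
set_option linter.style.haveILetI false
set_option linter.unusedSectionVars false

open Cfsg.Agent.Char
open scoped ComplexConjugate Pointwise

namespace Cfsg.Agent.Block

universe u

variable {G : Type u} [Group G] [Fintype G] {M : Ideal AlgInt} [hMp : M.IsPrime] {p : ℕ} [Fact p.Prime]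
  {B : Set (IrrCharacter G)} {P : Subgroup G} [hPn : P.Normal]

theorem height_zero_of_abelian (hM : IsPModular p M) (hB : IsPBlock M B) (hP : IsDefectGroup p M B P)
    (hab : ∀ a ∈ P, ∀ c ∈ P, a * c = c * a) {χ : IrrCharacter G} (hχ : χ ∈ B) :
    blockHeight p B (χ : G → ℂ) = 0 := by
  have hp := (Fact.out : p.Prime)
  obtain ⟨d, hd, hdvd⟩ := exists_ito_degree P hab χ.2
  have hd' : charDegree (χ : G → ℂ) = d := Nat.cast_inj.1 ((charDegree_cast (IsIrrCharacter.isCharacter χ.2)).trans hd)
  rw [← hd'] at hdvd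
  have hle := (Nat.factorization_le_iff_dvd (charDegree_pos χ.2).ne' Subgroup.index_ne_zero_of_finite).2 hdvd p
  have hc := card_defectGroup hM hB hP
  have hsum : (Nat.card G).factorization p = blockDefect p B + P.index.factorization p := by
    rw [← P.card_mul_index, hc, Nat.factorization_mul (pow_ne_zero _ hp.ne_zero) Subgroup.index_ne_zero_of_finite,
      Finsupp.add_apply, hp.factorization_pow, Finsupp.single_eq_same]
  rw [blockDefect_eq] at hsum
  obtain ⟨χ₀, hχ₀, h0⟩ := exists_minVal p (isPBlock_nonempty hB)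
  have := degree_factorization_le p χ₀
  rw [blockHeight_eq]
  omega

theorem abelian_of_height_zero (hM : IsPModular p M) (hB : IsPBlock M B) (hP : IsDefectGroup p M B P)
    (hz : ∀ χ ∈ B, blockHeight p B (χ : G → ℂ) = 0) : ∀ a ∈ P, ∀ c ∈ P, a * c = c * a := by
  classical
  have hp := (Fact.out : p.Prime)
  have hPp := isPGroup_of_isDefectGroup hP
  haveI hCn : (Subgroup.centralizer (P : Set G)).Normal := centralizer_normal_of_normal
  let L : Subgroup G := P ⊔ Subgroup.centralizer (P : Set G)
  haveI : L.Normal := Subgroup.sup_normal _ _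
  haveI := Fintype.ofFinite L
  have hPL : P ≤ L := le_sup_left
  have hCL : Subgroup.centralizer (P : Set G) ≤ L := le_sup_right
  obtain ⟨χ₁, hχ₁⟩ := isPBlock_nonempty hB
  obtain ⟨η₁, hη₁⟩ := exists_constituent' (N := L) χ₁
  obtain ⟨g, -, hD0⟩ := exists_covered_defectGroup hM hB (isPBlock_blockOf η₁)
    ⟨χ₁, hχ₁, η₁, self_mem_blockOf η₁, hη₁⟩ hP
  set b := conjBlk (mem_normalizer_of_normal (N := L) g) (blockOf M (η₁ : L → ℂ)) with hbdef
  have hb : IsPBlock M b := isPBlock_conjBlk _ (isPBlock_blockOf η₁)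
  have hcov : Covers B b := covers_conjBlk ⟨χ₁, hχ₁, η₁, self_mem_blockOf η₁, hη₁⟩ g
  rw [inf_eq_left.2 hPL] at hD0
  -- uniqueness of the covering block
  obtain ⟨-, hind⟩ := induced_of_covers_core (G := G) hM P hPp hPL hCL hb
  have huniq : ∀ B' : Set (IrrCharacter G), IsPBlock M B' → Covers B' b → B' = B := by
    intro B' hB' hc'
    obtain ⟨χ', hχ'⟩ := isPBlock_nonempty hB'
    obtain ⟨ξ, hξ⟩ := isPBlock_nonempty hb
    refine isPBlock_eq_of_mem hB' hB hχ' ?_
    rw [isPBlock_mem_iff hB hχ₁]
    intro y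
    have h1 := memLocalIdeal_sub ((hind B' hB' hc').2.2 ξ hξ χ' hχ' y) ((hind B hB hcov).2.2 ξ hξ χ₁ hχ₁ y)
    rw [sub_sub_sub_cancel_left] at h1
    exact h1
  -- the stabiliser
  let T : Subgroup G :=
    { carrier := {y | conjBlk (mem_normalizer_of_normal (N := L) y) b = b}
      mul_mem' := fun {x y} hx hy => by
        show conjBlk _ b = b
        rw [conjBlk_mul (mem_normalizer_of_normal x) (mem_normalizer_of_normal y), hy, hx]
      one_mem' := conjBlk_one _ b
      inv_mem' := fun {x} hx => by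
        show conjBlk _ b = b
        conv_lhs => rw [← hx]
        rw [← conjBlk_mul]
        convert conjBlk_one (one_mem _) b
        exact inv_mul_cancel x }
  have hTp : ¬ p ∣ L.relIndex T := by
    intro hd
    obtain ⟨S⟩ : Nonempty (Sylow p T) := inferInstance
    have hSp : IsPGroup p ((S : Subgroup T).map T.subtype) := S.isPGroup'.map _
    obtain ⟨B', P', hB', hc', hP', hle⟩ := exists_covers_card_ge hM hSp hb fun t ht => by
      obtain ⟨y, hy, rfl⟩ := ht
      exact y.2
    obtain rfl := huniq B' hB' hc'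
    obtain ⟨z, hz'⟩ := isDefectGroup_conj hM hB hP hP'
    have hP'L : P' ≤ L := by
      rw [hz']
      rintro _ ⟨q, hq, rfl⟩
      exact hPL (hPn.conj_mem q hq z)
    rw [show P'.map (QuotientGroup.mk' L) = ⊥ by
      rw [eq_bot_iff]; rintro _ ⟨q, hq, rfl⟩
      exact Subgroup.mem_bot.2 ((QuotientGroup.eq_one_iff q).2 (hP'L hq)), Subgroup.card_bot] at hle
    have hbot := Subgroup.eq_bot_of_card_le _ hle
    have hSL : (S : Subgroup T) ≤ L.subgroupOf T := fun y hy => by
      have := Subgroup.mem_map_of_mem (QuotientGroup.mk' L) (Subgroup.mem_map_of_mem T.subtype hy)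
      rw [hbot, Subgroup.mem_bot] at this
      exact (QuotientGroup.eq_one_iff (y : G)).1 this
    exact S.not_dvd_index (hd.trans (Subgroup.index_dvd_of_le hSL))
  have hLT : L ≤ T := by
    intro y hy
    show conjBlk _ b = b
    obtain ⟨θ, hθ⟩ := isPBlock_nonempty hb
    refine isPBlock_eq_of_mem (isPBlock_conjBlk _ hb) hb ((mem_conjBlk_iff _ b θ).2 hθ) ?_
    have e : conjIrr (mem_normalizer_of_normal (N := L) y) θ = θ := by
      refine Subtype.ext (funext fun k => ?_)
      rw [conjIrr_apply]
      have h := IsCharacter.isClassFunction (IsIrrCharacter.isCharacter θ.2) k (⟨y, hy⟩ : L)⁻¹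
      rw [inv_inv] at h
      refine Eq.trans (congrArg (θ : L → ℂ) (Subtype.ext ?_)) h
      simp
    rwa [e]
  -- heights in `b` vanish
  have hcard := card_defectGroup hM hB hP
  have hcardb := card_defectGroup hM hb hD0
  rw [Nat.card_congr (Subgroup.subgroupOfEquivOfLe hPL).toEquiv, hcard] at hcardb
  have hdef := Nat.pow_right_injective hp.two_le hcardb
  rw [blockDefect_eq, blockDefect_eq] at hdef
  have hGL : (Nat.card G).factorization p = (Nat.card L).factorization p + L.index.factorization p := by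
    rw [← L.card_mul_index, Nat.factorization_mul Nat.card_pos.ne' Subgroup.index_ne_zero_of_finite]
    rfl
  have hzb : ∀ η ∈ b, (charDegree (η : L → ℂ)).factorization p = minVal p b := by
    intro η hη
    obtain ⟨χ, hχη⟩ := exists_above_char (G := G) η
    have hχ : χ ∈ B := by
      rw [← huniq _ (isPBlock_blockOf χ) ⟨χ, self_mem_blockOf χ, η, hη, hχη⟩]
      exact self_mem_blockOf χ
    have hmin := (blockHeight_eq_zero_iff hχ).1 (hz χ hχ)
    obtain ⟨e, he⟩ := classInner_natCast_of_isCharacter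
      (IsCharacter.restrict (IsIrrCharacter.isCharacter χ.2) L) (IsIrrCharacter.isCharacter η.2)
    have hdeg := restrict_degree_eq L χ.2 η.2 hχη
    rw [he, ← charDegree_cast (IsIrrCharacter.isCharacter χ.2), ← charDegree_cast (IsIrrCharacter.isCharacter η.2)] at hdeg
    have hdeg' : charDegree (χ : G → ℂ) = e * ((inertia L (η : L → ℂ)).index * charDegree (η : L → ℂ)) := by
      exact_mod_cast hdeg
    have hIT : inertia L (η : L → ℂ) ≤ T := by
      intro y hy
      have hy' : y⁻¹ ∈ inertia L (η : L → ℂ) := inv_mem hy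
      show conjBlk _ b = b
      refine isPBlock_eq_of_mem (isPBlock_conjBlk _ hb) hb ((mem_conjBlk_iff _ b η).2 hη) ?_
      have e : conjIrr (mem_normalizer_of_normal (N := L) y) η = η :=
        Subtype.ext ((conjIrr_eq_conjChar y η).trans hy')
      rwa [e]
    have he0 : e ≠ 0 := fun h0 => (charDegree_pos χ.2).ne' (by rw [hdeg', h0, zero_mul])
    have hI0 : (inertia L (η : L → ℂ)).index ≠ 0 := Subgroup.index_ne_zero_of_finite
    have hle : T.index.factorization p ≤ (inertia L (η : L → ℂ)).index.factorization p :=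
      (Nat.factorization_le_iff_dvd Subgroup.index_ne_zero_of_finite hI0).2 (Subgroup.index_dvd_of_le hIT) p
    have hTL : L.index.factorization p = T.index.factorization p := by
      rw [← Subgroup.relIndex_mul_index hLT, Nat.factorization_mul (fun h0 => hTp (by rw [h0]; exact dvd_zero p))
        Subgroup.index_ne_zero_of_finite, Finsupp.add_apply, Nat.factorization_eq_zero_of_not_dvd hTp, zero_add]
    rw [hdeg', Nat.factorization_mul he0 (mul_ne_zero hI0 (charDegree_pos η.2).ne'),
      Nat.factorization_mul hI0 (charDegree_pos η.2).ne', Finsupp.add_apply, Finsupp.add_apply] at hmin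
    have := minVal_le (p := p) hη
    have := degree_factorization_le p η
    obtain ⟨η₀, hη₀, he'⟩ := exists_minVal p (isPBlock_nonempty hb)
    have := degree_factorization_le p η₀
    obtain ⟨χ₀, hχ₀, he''⟩ := exists_minVal p (isPBlock_nonempty hB)
    have := degree_factorization_le p χ₀
    omega
  -- `b` is parametrised by the characters of `P`
  let P' : Subgroup L := P.subgroupOf L
  haveI : P'.Normal := inferInstance
  haveI := Fintype.ofFinite P'
  have hP'p : IsPGroup p P' := hPp.comap_subtype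
  have hG' : P' ⊔ Subgroup.centralizer (P' : Set L) = ⊤ := by
    rw [eq_top_iff]
    intro x _
    have hx : (x : G) ∈ P ⊔ Subgroup.centralizer (P : Set G) := x.2
    rw [← SetLike.mem_coe, Subgroup.mul_normal] at hx
    obtain ⟨a, ha, c, hc, hac⟩ := hx
    have e : x = (⟨a, hPL ha⟩ : L) * ⟨c, hCL hc⟩ := Subtype.ext hac.symm
    rw [e]
    refine mul_mem (Subgroup.mem_sup_left ha) (Subgroup.mem_sup_right ?_)
    exact Subgroup.mem_centralizer_iff.2 fun q hq => Subtype.ext (Subgroup.mem_centralizer_iff.1 hc (q : G) hq)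
  obtain ⟨-, θ, hθ, hker⟩ := exists_mem_ker_normal (P := P') hM hP'p hb
  obtain ⟨F, hFb, -, -, hF⟩ := exists_equiv_block_core hM hP'p hG' hb hD0 hθ hker
  obtain ⟨hcθ, h0θ⟩ := coreChar_of_defectGroup hM hP'p hG' hb hD0 hθ hker
  have hlin : ∀ φ : IrrCharacter P', (φ : P' → ℂ) 1 = 1 := by
    intro φ
    have h1 : (F φ : L → ℂ) 1 = (φ : P' → ℂ) 1 * (θ : L → ℂ) 1 := by
      rw [hF φ]
      have h := coreExt_apply hp hP'p hG' (φ : P' → ℂ) hcθ 1 (y := (1 : L))
        (by rw [orderOf_one]; exact hp.not_dvd_one)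
      rwa [Subgroup.coe_one, one_mul] at h
    rw [← charDegree_cast (IsIrrCharacter.isCharacter (F φ).2), ← charDegree_cast (IsIrrCharacter.isCharacter φ.2),
      ← charDegree_cast (IsIrrCharacter.isCharacter θ.2), ← Nat.cast_mul, Nat.cast_inj] at h1
    have h2 := hzb _ (hFb φ)
    rw [h1, Nat.factorization_mul (charDegree_pos φ.2).ne' (charDegree_pos θ.2).ne', Finsupp.add_apply,
      hzb θ hθ, add_eq_right] at h2
    obtain ⟨k, hk⟩ := IsPGroup.iff_card.1 hP'p
    obtain ⟨j, -, hj⟩ := (Nat.dvd_prime_pow hp).1 (hk ▸ charDegree_dvd_card φ.2)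
    rw [← charDegree_cast (IsIrrCharacter.isCharacter φ.2), hj]
    rw [hj, hp.factorization_pow, Finsupp.single_eq_same] at h2
    rw [h2, pow_zero, Nat.cast_one]
  intro a ha c hc
  exact congrArg (fun z : P' => ((z : L) : G)) (comm_of_degree_one hlin ⟨⟨a, hPL ha⟩, ha⟩ ⟨⟨c, hPL hc⟩, hc⟩)

end Cfsg.Agent.Block
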