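import Cfsg.Agent.Lib.Block.Regular
import Cfsg.Agent.Lib.Block.Defect

/-!
# Locally integral combinations of characters supported on a section
-/

set_option autoImplicit false

open Cfsg.Agent.Char
open scoped ComplexConjugate

namespace Cfsg.Agent.Block

universe u

variable {G : Type u} [Group G]

/-- The average of a character over a coset of a centralised subgroup is integral. -/
theorem isIntegral_avg_coset [Finite G] {χ : G → ℂ} (hχ : IsCharacter G χ) {g : G} {D : Subgroup G}
    [Fintype D] (hD : D ≤ Subgroup.centralizer ({g} : Set G)) :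
    IsIntegral ℤ ((Nat.card D : ℂ)⁻¹ * ∑ u : D, χ (g * u)) := by
  classical
  obtain ⟨n, ρ, rfl⟩ := hχ
  set P : Module.End ℂ (Fin n → ℂ) := (Nat.card D : ℂ)⁻¹ • ∑ u : D, ρ u with hP
  have hPu : ∀ v : D, P * ρ v = P := fun v => by
    rw [hP, smul_mul_assoc, Finset.sum_mul]
    congr 1
    exact Fintype.sum_equiv (Equiv.mulRight v) _ _ fun u => by simp [← map_mul]
  have hPP : P * P = P := by
    conv_lhs => arg 2; rw [hP]
    rw [mul_smul_comm, Finset.mul_sum, Finset.sum_congr rfl fun v _ => hPu v, Finset.sum_const,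
      Finset.card_univ, ← Nat.cast_smul_eq_nsmul ℂ, smul_smul, ← Nat.card_eq_fintype_card,
      inv_mul_cancel₀ (Nat.cast_ne_zero.2 Nat.card_pos.ne'), one_smul]
  have hgP : Commute (ρ g) P := by
    rw [hP]
    refine (Commute.sum_right _ _ _ fun u _ => ?_).smul_right _
    exact ((mem_centralizer_singleton.1 (hD u.2)).map ρ)
  set T := ρ g * P
  have hT : (Nat.card D : ℂ)⁻¹ * ∑ u : D, ρ.character (g * u) = LinearMap.trace ℂ _ T := by
    simp only [T, hP, Representation.character, map_mul, mul_smul_comm, Finset.mul_sum, map_smul,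
      map_sum, smul_eq_mul]
  rw [hT, LinearMap.trace_eq_matrix_trace ℂ (Pi.basisFun ℂ (Fin n)),
    Matrix.trace_eq_sum_roots_charpoly, LinearMap.charpoly_toMatrix]
  refine IsIntegral.multiset_sum fun μ hμ => ?_
  have hev : Module.End.HasEigenvalue T μ := by
    rw [Module.End.hasEigenvalue_iff_isRoot_charpoly]
    exact (Polynomial.mem_roots (LinearMap.charpoly_monic _).ne_zero).1 hμ
  obtain ⟨v, hv⟩ := hev.exists_hasEigenvector
  have h1 : T ^ (orderOf g + 1) = T := by
    have hP' : P ^ (orderOf g + 1) = P := (show IsIdempotentElem P from hPP).pow_succ_eq _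
    rw [hgP.mul_pow, hP', pow_succ, ← map_pow, pow_orderOf_eq_one, map_one, one_mul]
  have h2 : μ ^ (orderOf g + 1) = μ := by
    refine smul_left_injective ℂ hv.2 ?_
    show μ ^ (orderOf g + 1) • v = μ • v
    rw [← hv.pow_apply, h1, hv.apply_eq_smul]
  rcases eq_or_ne μ 0 with rfl | h0
  · exact isIntegral_zero
  · refine IsIntegral.of_pow (orderOf_pos g) ?_
    rw [pow_succ] at h2
    rw [mul_left_eq_self₀.1 h2 |>.resolve_right h0]
    exact isIntegral_one

/-- The class function counting the conjugates lying in a coset `g D`, divided by `|D|`. -/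
noncomputable def sectionFun (D : Subgroup G) (g x : G) : ℂ :=
  (Nat.card D : ℂ)⁻¹ * (Nat.card {h : G // g⁻¹ * (h * x * h⁻¹) ∈ D} : ℂ)

theorem isClassFunction_sectionFun [Finite G] (D : Subgroup G) (g : G) :
    IsClassFunction G (sectionFun D g) := by
  intro x t
  simp only [sectionFun]
  congr 2
  exact Nat.card_congr ((Equiv.mulRight t).subtypeEquiv fun h => by simp [mul_assoc])

theorem classInner_sectionFun [Fintype G] (D : Subgroup G) [Fintype D] (g : G) {χ : G → ℂ}
    (hχ : IsClassFunction G χ) :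
    classInner (sectionFun D g) χ = (Nat.card D : ℂ)⁻¹ * ∑ u : D, conj (χ (g * u)) := by
  classical
  have hG : (Nat.card G : ℂ) ≠ 0 := by simp [Nat.card_eq_fintype_card]
  simp only [classInner, sectionFun]
  rw [Finset.sum_congr rfl fun x _ => mul_assoc _ _ _, ← Finset.mul_sum, mul_left_comm]
  congr 1
  rw [inv_mul_eq_iff_eq_mul₀ hG]
  calc ∑ x, (Nat.card {h : G // g⁻¹ * (h * x * h⁻¹) ∈ D} : ℂ) * conj (χ x)
      = ∑ x, ∑ h : G, (if g⁻¹ * (h * x * h⁻¹) ∈ D then conj (χ x) else 0) := by
        refine Finset.sum_congr rfl fun x _ => ?_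
        rw [← Finset.sum_filter, Finset.sum_const, nsmul_eq_mul, Nat.card_eq_fintype_card,
          Fintype.card_subtype]
    _ = ∑ _h : G, ∑ u : D, conj (χ (g * u)) := by
        rw [Finset.sum_comm]
        refine Finset.sum_congr rfl fun h _ => ?_
        rw [← Finset.sum_filter]
        refine Finset.sum_bij (fun x hx => ⟨g⁻¹ * (h * x * h⁻¹), (Finset.mem_filter.1 hx).2⟩)
          (fun x hx => Finset.mem_univ _) (fun a _ b _ hab => ?_) (fun u _ => ?_) fun x _ => ?_
        · have := congrArg Subtype.val hab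
          simpa using this
        · refine ⟨h⁻¹ * (g * u) * h, Finset.mem_filter.2 ⟨Finset.mem_univ _, ?_⟩, Subtype.ext ?_⟩
          · simp [mul_assoc]
          · simp [mul_assoc]
        · simp only [mul_inv_cancel_left, hχ x h]
    _ = (Nat.card G : ℂ) * ∑ u : D, conj (χ (g * u)) := by
        rw [Finset.sum_const, Finset.card_univ, nsmul_eq_mul, Nat.card_eq_fintype_card]

theorem sectionFun_ne_zero {D : Subgroup G} {g x : G} (h : sectionFun D g x ≠ 0) :
    ∃ t : G, ∃ u ∈ D, t * x * t⁻¹ = g * u := by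
  simp only [sectionFun, ne_eq, mul_eq_zero, not_or, Nat.cast_eq_zero] at h
  obtain ⟨⟨t, ht⟩⟩ := (Nat.card_ne_zero.1 h.2).1
  exact ⟨t, _, ht, (mul_inv_cancel_left _ _).symm⟩

/-- The value at a regular `g` whose coset is taken. -/
theorem sectionFun_self [Finite G] {p : ℕ} (hp : p.Prime) {D : Subgroup G} {g : G}
    (hg : ¬ p ∣ orderOf g) (hDp : IsPGroup p D) (hD : D ≤ Subgroup.centralizer ({g} : Set G)) :
    sectionFun D g g = (Nat.card (Subgroup.centralizer ({g} : Set G)) : ℂ) / (Nat.card D : ℂ) := by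
  rw [sectionFun, inv_mul_eq_div]
  congr 2
  refine Nat.card_congr (Equiv.subtypeEquivRight fun h => ?_)
  rw [mem_centralizer_singleton]
  constructor
  · intro hh
    haveI := Fact.mk hp
    set u := g⁻¹ * (h * g * h⁻¹)
    obtain ⟨k, hk⟩ := IsPGroup.iff_orderOf.1 hDp ⟨u, hh⟩
    have hgu : Commute g u := mem_centralizer_singleton.1 (hD hh)
    have h1 : IsPPart p (h * g * h⁻¹) u :=
      ⟨g, by rw [← hgu.eq, mul_inv_cancel_left], hgu.symm, ⟨k, by rw [← hk, ← Subgroup.orderOf_coe]⟩, hg⟩
    have h2 : IsPPart p (h * g * h⁻¹) 1 := by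
      have := isPPart_conj ((isPPart_one_iff hp).2 hg) h
      simpa using this
    have := isPPart_unique hp h1 h2
    rw [inv_mul_eq_one, eq_mul_inv_iff_mul_eq] at this
    exact this
  · intro hh
    have : h * g * h⁻¹ = g := by rw [← hh.eq, mul_inv_cancel_right]
    rw [this, inv_mul_cancel]
    exact one_mem D

end Cfsg.Agent.Block
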