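import Cfsg.Agent.S4709
import Cfsg.Agent.Lib.Classical.SimpleOrder
import Cfsg.Agent.Lib.Block.RegInner
import Cfsg.Agent.Lib.Char.Congr
import Cfsg.Agent.Lib.Char.Integral
import Cfsg.Agent.Lib.Char.Linear
import Cfsg.Agent.Lib.Char.Orthogonality

/-!
# Degrees of principal block characters for a Sylow subgroup of prime order

For a simple group with a self-centralising Sylow subgroup of prime order `p` whose automiser has
small prime order `m`, the non-exceptional characters of the principal block have degrees congruent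
to integers with square sum `m`, and their signed sum is the exceptional degree.
-/

set_option autoImplicit false
set_option linter.style.haveILetI false

namespace Cfsg.Agent.Block.SelfCentDeg

open Cfsg Cfsg.Agent.Char
open scoped Classical

universe u

variable {G : Type u} [Group G] [Finite G]

/-- The degree data. -/
theorem degree_data [IsSimpleGroup G] (hG : ¬ IsMulCommutative G) {p : ℕ} [Fact p.Prime]
    (P : Sylow p G) (hP : Nat.card P = p) {m : ℕ} (hm : m.Prime)
    (hN : Nat.card (Subgroup.normalizer ((P : Subgroup G) : Set G)) = p * m)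
    (hr : m + 3 ≤ (p - 1) / m) :
    ∃ (X : Finset (IrrCharacter G)) (one : IrrCharacter G) (a : IrrCharacter G → ℤ)
      (deg : IrrCharacter G → ℕ),
      one ∈ X ∧ a one = 1 ∧ deg one = 1 ∧ (∑ χ ∈ X, a χ ^ 2 = (m : ℤ)) ∧
      (∀ χ ∈ X, χ ≠ one → 2 ≤ deg χ ∧ deg χ * deg χ < Nat.card G ∧ deg χ ∣ Nat.card G ∧
        a χ ≠ 0 ∧ (p : ℤ) ∣ (deg χ : ℤ) - a χ) ∧
      ∃ e : ℕ, 0 < e ∧ e * e ≤ Nat.card G ∧ e ∣ Nat.card G ∧
        (∑ χ ∈ X, a χ * (deg χ : ℤ) = e ∨ ∑ χ ∈ X, a χ * (deg χ : ℤ) = -(e : ℤ)) := by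
  haveI := Fintype.ofFinite G
  haveI := Fintype.ofFinite (IrrCharacter G)
  have hp : p.Prime := Fact.out
  obtain ⟨M, hM⟩ := exists_isPModular hp
  have hcomm : IsMulCommutative (P : Subgroup G) := by
    haveI : IsCyclic (P : Subgroup G) := isCyclic_of_prime_card hP
    infer_instance
  have hm2 := hm.two_le
  have hrm := Nat.div_mul_le_self (p - 1) m
  have hpm : m + 1 < p := by
    have := Nat.mul_le_mul_right m hr
    have := Nat.le_mul_of_pos_right (m + 3) hm.pos
    omega
  have hd : p ∣ Nat.card G := by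
    have := Subgroup.card_subgroup_dvd_card (P : Subgroup G)
    rwa [hP] at this
  set N := Subgroup.normalizer ((P : Subgroup G) : Set G) with hNdef
  set C := Subgroup.centralizer ((P : Subgroup G) : Set G) with hCdef
  have hPC := Classical.SimpleOrder.le_centralizer_of_card_prime P hP
  have hmul := Classical.SimpleOrder.card_centralizer_mul P
  rw [← hNdef, ← hCdef, hN] at hmul
  have hne := Classical.SimpleOrder.not_normalizer_le_centralizer hG hd P
  have hCN : C.relIndex N = m := by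
    obtain ⟨j, hj⟩ := Subgroup.card_dvd_of_le hPC
    rw [hP] at hj
    rw [hj, mul_left_comm] at hmul
    have h1 : C.relIndex N * j = m := Nat.eq_of_mul_eq_mul_left hp.pos hmul
    rcases (Nat.dvd_prime hm).1 (Dvd.intro j h1) with h | h
    · exact absurd (Subgroup.relIndex_eq_one.1 h) hne
    · exact h
  have hCle : C ≤ N := Subgroup.centralizer_le_normalizer _
  have hcyc : ∃ g : G, g ∈ N ∧ C ⊔ Subgroup.zpowers g = N := by
    obtain ⟨g, hgN, hgC⟩ := SetLike.not_le_iff_exists.1 hne
    refine ⟨g, hgN, ?_⟩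
    set K := C ⊔ Subgroup.zpowers g with hK
    have hKN : K ≤ N := sup_le hCle (Subgroup.zpowers_le.2 hgN)
    refine le_antisymm hKN ?_
    have hdvd : K.relIndex N ∣ m := hCN ▸ Dvd.intro_left _ (Subgroup.relIndex_mul_relIndex C K N le_sup_left hKN)
    rcases (Nat.dvd_prime hm).1 hdvd with h | h
    · exact Subgroup.relIndex_eq_one.1 h
    · exfalso
      have h2 := Subgroup.relIndex_mul_relIndex C K N le_sup_left hKN
      rw [h, hCN] at h2
      have h3 : C.relIndex K = 1 := Nat.eq_of_mul_eq_mul_right hm.pos (by rw [h2, one_mul])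
      exact hgC ((Subgroup.relIndex_eq_one.1 h3) (Subgroup.mem_sup_right (Subgroup.mem_zpowers g)))
  have hfrob : ∀ y : G, y ∈ (P : Subgroup G) → y ≠ 1 →
      Subgroup.centralizer ({y} : Set G) ⊓ N = C := by
    intro y hy hy1
    have hz : Subgroup.zpowers y = (P : Subgroup G) := by
      refine Subgroup.eq_of_le_of_card_ge (Subgroup.zpowers_le.2 hy) ?_
      rw [Nat.card_zpowers, hP]
      rcases (Nat.dvd_prime hp).1 (hP ▸ (P : Subgroup G).orderOf_dvd_natCard hy) with h | h
      · exact absurd (orderOf_eq_one_iff.1 h) hy1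
      · omega
    have e : Subgroup.centralizer ({y} : Set G) = C := by
      rw [hCdef, ← Subgroup.centralizer_closure {y}, ← Subgroup.zpowers_eq_closure, hz]
    rw [e, inf_eq_left]
    exact hCle
  obtain ⟨s, X, Y, -, -, -, -, hY, ⟨one, hone, hone1⟩, a, d, δ, ζ, hδ, hX, -, -, -, -, hsum, -, hrel⟩ :=
    Cfsg.Agent.S4709.result p M hM P hcomm (by rw [hP]; exact hp.ne_one) m (by omega)
      (by rw [hP]; omega) hCN hcyc hfrob
  rw [hP] at hY hsum hrel
  let deg : IrrCharacter G → ℕ := fun χ => charDegree (χ : G → ℂ)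
  have hdeg : ∀ χ : IrrCharacter G, (χ : G → ℂ) 1 = (deg χ : ℂ) := fun χ =>
    (charDegree_cast (IsIrrCharacter.isCharacter χ.2)).symm
  have hdegone : deg one = 1 := by
    have := hdeg one
    rw [hone1] at this
    simp only at this
    exact_mod_cast this.symm
  obtain ⟨y, hyP, hy1⟩ := (Subgroup.bot_or_exists_ne_one (P : Subgroup G)).resolve_left
    (Classical.SimpleOrder.sylow_ne_bot hd P)
  have hyp : y ^ p ^ 1 = 1 := by
    rw [pow_one]
    have h := (pow_card_eq_one' (G := (P : Subgroup G)) (x := ⟨y, hyP⟩))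
    rw [hP] at h
    exact congrArg Subtype.val h
  have hpp : IsPPart p y y := ⟨1, mul_one y, Commute.one_right y,
    (Nat.dvd_prime_pow hp).1 (orderOf_dvd_of_pow_eq_one hyp) |>.elim fun i hi => ⟨i, hi.2⟩,
    by rw [orderOf_one]; exact hp.not_dvd_one⟩
  have haone : a one = 1 := by
    have := (hX one hone).2 y y hpp hyP hy1
    rw [hone1] at this
    simp only at this
    exact_mod_cast this.symm
  set XF := X.toFinite.toFinset with hXF
  have hsX : ∑ᶠ χ ∈ X, a χ ^ 2 = ∑ χ ∈ XF, a χ ^ 2 := finsum_mem_eq_finite_toFinset_sum _ _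
  rw [hsX] at hsum
  have honeF : one ∈ XF := (Set.Finite.mem_toFinset _).2 hone
  have hge : 1 ≤ ∑ χ ∈ XF, a χ ^ 2 := by
    refine le_trans ?_ (Finset.single_le_sum (fun χ _ => sq_nonneg (a χ)) honeF)
    rw [haone]; norm_num
  have hr' : ((p : ℤ) - 1) / (m : ℤ) = (((p - 1) / m : ℕ) : ℤ) := by
    rw [Int.natCast_div, Nat.cast_sub hp.one_le, Nat.cast_one]
  have hd0 : d = 0 := by
    by_contra hd0
    have h1 : 1 ≤ d ^ 2 := by
      have : 0 < d ^ 2 := by positivity
      omega
    rw [hr'] at hsum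
    have h2 : (m : ℤ) + 2 ≤ ((((p - 1) / m : ℕ) : ℤ) - 1) := by
      have : ((m + 3 : ℕ) : ℤ) ≤ (((p - 1) / m : ℕ) : ℤ) := by exact_mod_cast hr
      simp only [Nat.cast_add, Nat.cast_ofNat] at this
      linarith
    nlinarith [sq_nonneg (d - δ), mul_le_mul_of_nonneg_right h2 (sq_nonneg d), mul_le_mul_of_nonneg_left h1 (show (0:ℤ) ≤ (m : ℤ) + 2 by positivity)]
  subst hd0
  have hδ2 : δ ^ 2 = 1 := by rcases hδ with e | e <;> rw [e] <;> norm_num
  have hsq : ∀ χ : IrrCharacter G, deg χ * deg χ + (if χ = one then 0 else 1) ≤ Nat.card G := by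
    intro χ
    have hs : ∑ ψ : IrrCharacter G, deg ψ * deg ψ = Nat.card G := by
      have h := sum_sq_degree (G := G)
      have : ∑ ψ : IrrCharacter G, ((deg ψ : ℂ) * (deg ψ : ℂ)) = (Nat.card G : ℂ) := by
        rw [← h]
        exact Finset.sum_congr rfl fun ψ _ => by rw [hdeg]; ring
      exact_mod_cast this
    by_cases e : χ = one
    · rw [if_pos e, add_zero, ← hs]
      exact Finset.single_le_sum (f := fun ψ => deg ψ * deg ψ) (fun ψ _ => Nat.zero_le _) (Finset.mem_univ χ)
    · rw [if_neg e, ← hs]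
      refine le_trans ?_ (Finset.sum_le_sum_of_subset (f := fun ψ => deg ψ * deg ψ) (Finset.subset_univ {χ, one}))
      rw [Finset.sum_pair e, hdegone]
  refine ⟨XF, one, a, deg, honeF, haone, hdegone, ?_, ?_, ?_⟩
  · simp only [zero_sub, neg_sq, hδ2, zero_pow two_ne_zero, mul_zero, add_zero] at hsum
    linarith
  · intro χ hχ hχ1
    have hχX := (Set.Finite.mem_toFinset _).1 hχ
    have hirr := χ.2
    have hdvd := degree_dvd_card hirr (deg χ) (hdeg χ)
    refine ⟨?_, ?_, hdvd, (hX χ hχX).1, ?_⟩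
    · have h0 : deg χ ≠ 0 := fun e => by
        have := IsIrrCharacter.apply_one_ne_zero hirr
        rw [hdeg, e, Nat.cast_zero] at this
        exact this rfl
      have h1 : deg χ ≠ 1 := fun e => by
        obtain ⟨l, hl⟩ := IsCharacter.exists_monoidHom (IsIrrCharacter.isCharacter hirr)
          (by rw [hdeg, e, Nat.cast_one])
        rcases l.normal_ker.eq_bot_or_eq_top with hk | hk
        · refine hG ⟨⟨fun b c => l.ker_eq_bot_iff.1 hk ?_⟩⟩
          rw [map_mul, map_mul, mul_comm]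
        · refine hχ1 (Subtype.ext ?_)
          rw [hl, hone1]
          funext g
          have hg : g ∈ l.ker := hk ▸ Subgroup.mem_top g
          rw [MonoidHom.mem_ker.1 hg, Units.val_one]
      omega
    · have := hsq χ
      rw [if_neg hχ1] at this
      omega
    · obtain ⟨u, v, hu, hv, huv⟩ := exists_apply_congr_degree hp hM.2.1 hM.2.2
        (IsIrrCharacter.isCharacter hirr) hyp
      have hu' : u = ((a χ : ℤ) : AlgInt) := by
        apply Subtype.ext
        rw [hu, (hX χ hχX).2 y y hpp hyP hy1]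
        simp
      have hv' : v = (((deg χ : ℤ)) : AlgInt) := by
        apply Subtype.ext
        rw [hv, hdeg]
        simp
      haveI := hM.2.1
      rw [hu', hv', ← Int.cast_sub, Cfsg.Agent.Block.intCast_mem_iff hp hM.2.2] at huv
      rwa [← dvd_neg, neg_sub] at huv
  · have hYne : Y.Nonempty := by
      rw [← Set.nonempty_coe_sort]
      refine (Nat.card_pos_iff.1 ?_).1
      rw [hY]; omega
    obtain ⟨η, hη⟩ := hYne
    have hrel1 := hrel η hη 1 (by rw [orderOf_one]; exact hp.not_dvd_one)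
    rw [finsum_mem_eq_finite_toFinset_sum _ X.toFinite, hdeg η] at hrel1
    simp only [Int.cast_zero, mul_zero, zero_sub, hdeg] at hrel1
    have e : ∑ χ ∈ XF, a χ * (deg χ : ℤ) = δ * (deg η : ℤ) := by
      have : ((∑ χ ∈ XF, a χ * (deg χ : ℤ) : ℤ) : ℂ) = ((δ * (deg η : ℤ) : ℤ) : ℂ) := by
        push_cast
        linear_combination hrel1
      exact_mod_cast this
    refine ⟨deg η, ?_, ?_, degree_dvd_card η.2 _ (hdeg η), ?_⟩
    · refine Nat.pos_of_ne_zero fun e0 => IsIrrCharacter.apply_one_ne_zero η.2 ?_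
      rw [hdeg, e0, Nat.cast_zero]
    · have := hsq η
      omega
    · rcases hδ with h | h <;> subst h
      · left; rw [e, one_mul]
      · right; rw [e, neg_one_mul]

/-- For an automiser of order two: a single further degree. -/
theorem degree_two [IsSimpleGroup G] (hG : ¬ IsMulCommutative G) {p : ℕ} [Fact p.Prime]
    (P : Sylow p G) (hP : Nat.card P = p)
    (hN : Nat.card (Subgroup.normalizer ((P : Subgroup G) : Set G)) = p * 2)
    (hr : 5 ≤ (p - 1) / 2) :
    ∃ f : ℕ, 2 ≤ f ∧ f * f < Nat.card G ∧ f ∣ Nat.card G ∧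
      ((f % p = 1 ∧ f + 1 ∣ Nat.card G) ∨ (f % p = p - 1 ∧ f - 1 ∣ Nat.card G)) := by
  classical
  obtain ⟨X, one, a, deg, h1, ha1, hd1, hsum, hX, e, -, -, hedvd, he⟩ :=
    degree_data hG P hP Nat.prime_two hN hr
  rw [← Finset.add_sum_erase _ _ h1] at hsum he
  rw [ha1, hd1] at he
  rw [ha1] at hsum
  have hrest : ∑ χ ∈ X.erase one, a χ ^ 2 = 1 := by push_cast at hsum; linarith
  obtain ⟨χ, hχ⟩ : (X.erase one).Nonempty := by
    rw [Finset.nonempty_iff_ne_empty]
    intro h; rw [h, Finset.sum_empty] at hrest; exact zero_ne_one hrest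
  have hsingle : X.erase one = {χ} := by
    refine Finset.eq_singleton_iff_unique_mem.2 ⟨hχ, fun ψ hψ => ?_⟩
    by_contra hne
    have hle := Finset.sum_le_sum_of_subset_of_nonneg (f := fun φ => a φ ^ 2)
      (show ({ψ, χ} : Finset _) ⊆ X.erase one from by
        intro φ hφ
        rcases Finset.mem_insert.1 hφ with rfl | hφ
        · exact hψ
        · exact Finset.mem_singleton.1 hφ ▸ hχ) (fun φ _ _ => sq_nonneg _)
    rw [Finset.sum_pair hne, hrest] at hle
    have h2 : 0 < a ψ ^ 2 := by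
      have := (hX ψ (Finset.mem_of_mem_erase hψ) (Finset.ne_of_mem_erase hψ)).2.2.2.1
      positivity
    have h3 : 0 < a χ ^ 2 := by
      have := (hX χ (Finset.mem_of_mem_erase hχ) (Finset.ne_of_mem_erase hχ)).2.2.2.1
      positivity
    omega
  rw [hsingle, Finset.sum_singleton] at hrest he
  obtain ⟨hf2, hflt, hfdvd, -, hcong⟩ := hX χ (Finset.mem_of_mem_erase hχ) (Finset.ne_of_mem_erase hχ)
  refine ⟨deg χ, hf2, hflt, hfdvd, ?_⟩
  have hp2 : 2 ≤ p := (Fact.out : p.Prime).two_le
  rcases sq_eq_one_iff.1 hrest with h | h <;> rw [h] at he hcong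
  · left
    refine ⟨?_, ?_⟩
    · obtain ⟨k, hk⟩ := hcong
      have h2 : ((deg χ % p : ℕ) : ℤ) = 1 := by
        rw [Int.natCast_emod, show (deg χ : ℤ) = 1 + (p : ℤ) * k by linarith, Int.add_mul_emod_self_left]
        exact Int.emod_eq_of_lt (by norm_num) (by omega)
      exact_mod_cast h2
    · have : deg χ + 1 = e := by rcases he with h' | h' <;> push_cast at h' <;> omega
      rw [this]; exact hedvd
  · right
    refine ⟨?_, ?_⟩
    · obtain ⟨k, hk⟩ := hcong
      have h2 : ((deg χ % p : ℕ) : ℤ) = (p : ℤ) - 1 := by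
        rw [Int.natCast_emod, show (deg χ : ℤ) = ((p : ℤ) - 1) + (p : ℤ) * (k - 1) by linarith,
          Int.add_mul_emod_self_left]
        exact Int.emod_eq_of_lt (by omega) (by omega)
      omega
    · have : deg χ - 1 = e := by rcases he with h' | h' <;> push_cast at h' <;> omega
      rw [this]; exact hedvd

/-- For an automiser of order three: two further degrees with signs. -/
theorem degree_three [IsSimpleGroup G] (hG : ¬ IsMulCommutative G) {p : ℕ} [Fact p.Prime]
    (P : Sylow p G) (hP : Nat.card P = p)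
    (hN : Nat.card (Subgroup.normalizer ((P : Subgroup G) : Set G)) = p * 3)
    (hr : 6 ≤ (p - 1) / 3) :
    ∃ (f g : ℕ) (x y : ℤ) (e : ℕ), 2 ≤ f ∧ f * f < Nat.card G ∧ f ∣ Nat.card G ∧
      2 ≤ g ∧ g * g < Nat.card G ∧ g ∣ Nat.card G ∧ e * e ≤ Nat.card G ∧ e ∣ Nat.card G ∧
      (x = 1 ∨ x = -1) ∧ (y = 1 ∨ y = -1) ∧ (p : ℤ) ∣ (f : ℤ) - x ∧ (p : ℤ) ∣ (g : ℤ) - y ∧
      (1 + x * f + y * g = e ∨ 1 + x * f + y * g = -(e : ℤ)) := by
  classical
  obtain ⟨X, one, a, deg, h1, ha1, hd1, hsum, hX, e, -, hesq, hedvd, he⟩ :=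
    degree_data hG P hP Nat.prime_three hN hr
  rw [← Finset.add_sum_erase _ _ h1] at hsum he
  rw [ha1, hd1] at he
  rw [ha1] at hsum
  have hrest : ∑ χ ∈ X.erase one, a χ ^ 2 = 2 := by push_cast at hsum; linarith
  have hsq : ∀ χ ∈ X.erase one, a χ = 1 ∨ a χ = -1 := by
    intro χ hχ
    have hle := Finset.single_le_sum (f := fun φ => a φ ^ 2) (fun φ _ => sq_nonneg _) hχ
    simp only [hrest] at hle
    have h0 := (hX χ (Finset.mem_of_mem_erase hχ) (Finset.ne_of_mem_erase hχ)).2.2.2.1
    have h1 : a χ ≤ 1 := by nlinarith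
    have h2 : -1 ≤ a χ := by nlinarith
    omega
  have hcard : (X.erase one).card = 2 := by
    have : ∑ χ ∈ X.erase one, a χ ^ 2 = ((X.erase one).card : ℤ) := by
      rw [Finset.sum_congr rfl (fun χ hχ => show a χ ^ 2 = 1 by rcases hsq χ hχ with h | h <;> rw [h] <;> norm_num)]
      simp
    omega
  obtain ⟨χ, ψ, hne, hpair⟩ := Finset.card_eq_two.1 hcard
  have hχ : χ ∈ X.erase one := by rw [hpair]; simp
  have hψ : ψ ∈ X.erase one := by rw [hpair]; simp
  rw [hpair, Finset.sum_pair hne] at he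
  obtain ⟨a1, b1, c1, -, d1⟩ := hX χ (Finset.mem_of_mem_erase hχ) (Finset.ne_of_mem_erase hχ)
  obtain ⟨a2, b2, c2, -, d2⟩ := hX ψ (Finset.mem_of_mem_erase hψ) (Finset.ne_of_mem_erase hψ)
  refine ⟨deg χ, deg ψ, a χ, a ψ, e, a1, b1, c1, a2, b2, c2, hesq, hedvd, hsq χ hχ, hsq ψ hψ, d1, d2, ?_⟩
  rcases he with h | h
  · left; push_cast at h; linarith
  · right; push_cast at h; linarith

end Cfsg.Agent.Block.SelfCentDeg
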