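import Cfsg.Agent.Lib.Block.NoDefectZero
import Cfsg.Agent.Lib.Block.DefectCount
import Cfsg.Agent.Lib.Block.NormalDefectCount

/-!
# Classes with defect group `D` separated by `p`-elements give blocks with defect group `D`
-/

set_option autoImplicit false

open Cfsg Cfsg.Agent.Char
open scoped ComplexConjugate

namespace Cfsg.Agent.Block

universe u

variable {G : Type u} [Group G] [Finite G] {M : Ideal AlgInt} [hMp : M.IsPrime] {p : ℕ}

omit hMp in
theorem exists_blocks_of_separated (hM : IsPModular p M) [Fact p.Prime] (D : Subgroup G) {r : ℕ}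
    (x : Fin r → G) (hx : ∀ i j : Fin r, IsConj (x i) (x j) → i = j)
    (hD : ∀ i : Fin r, ∃ S : Sylow p ↥(Subgroup.centralizer ({x i} : Set G)),
      (S : Subgroup ↥(Subgroup.centralizer ({x i} : Set G))).map
        (Subgroup.centralizer ({x i} : Set G)).subtype = D)
    (hsep : ∀ i j : Fin r, ∀ g h : G, IsConj (x i) g → IsConj (x j) h →
      ∀ k : ℕ, 0 < k → orderOf (g * h⁻¹) ≠ p ^ k) :
    ∃ B : Fin r → Set (IrrCharacter G), Function.Injective B ∧
      (∀ i : Fin r, IsPBlock M (B i) ∧ IsDefectGroup p M (B i) D) ∧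
      ∀ χ : Fin r → IrrCharacter G, (∀ i : Fin r, χ i ∈ B i ∧ blockHeight p (B i) (χ i : G → ℂ) = 0) →
        ¬ MemLocalIdeal M (Matrix.det (Matrix.of fun i j : Fin r => (χ i : G → ℂ) (x j))) := by
  classical
  haveI := prime_of_isPModular hM
  haveI := Fintype.ofFinite G
  haveI := Fintype.ofFinite (IrrCharacter G)
  obtain ⟨S⟩ : Nonempty (Sylow p G) := inferInstance
  haveI := Fintype.ofFinite (S : Subgroup G)
  set a := (Nat.card G).factorization p
  set d := (Nat.card D).factorization p
  have hxe : ∀ i, classExp p (x i) + d = a := fun i => by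
    obtain ⟨T, hT⟩ := hD i
    simp only [d]
    rw [← hT, Subgroup.card_map_of_injective (Subgroup.subtype_injective _), Sylow.card_eq_multiplicity,
      Nat.Prime.factorization_pow Fact.out, Finsupp.single_eq_same]
    exact classExp_add p (x i)
  set Blk := {B : Set (IrrCharacter G) // IsPBlock M B ∧ IsDefectGroup p M B D}
  haveI := Fintype.ofFinite Blk
  choose φ hφ using fun B : Blk => isPBlock_nonempty B.2.1
  set w : Blk → (Fin r → ResK M) :=
    fun B j => resC M (centralChar ((φ B : IrrCharacter G) : G → ℂ) (x j)) with hw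
  have hm : ∀ χ : IrrCharacter G, ∃ m : ℕ,
      ∑ s : (S : Subgroup G), conj ((χ : G → ℂ) (s : G)) = (Nat.card (S : Subgroup G) : ℂ) * (m : ℂ) := by
    intro χ
    have hch := isCharacter_comp (isCharacter_conj (IsIrrCharacter.isCharacter χ.2))
      (S : Subgroup G).subtype
    obtain ⟨m, hm⟩ := classInner_natCast_of_isCharacter hch (isCharacter_one (G := (S : Subgroup G)))
    refine ⟨m, ?_⟩
    rw [← hm, classInner]
    simp [Nat.card_eq_fintype_card]
  choose m hm using hm
  set e : IrrCharacter G → ℂ := fun χ => ((p ^ d : ℕ) : ℂ) * (Nat.card G : ℂ)⁻¹ * (χ : G → ℂ) 1 * (m χ : ℂ)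
  have hp0 : ∀ k, ((p ^ k : ℕ) : ℂ) ≠ 0 := fun k => Nat.cast_ne_zero.2 (pow_ne_zero _ hM.1.ne_zero)
  -- integrality
  have hTi : ∀ (χ : IrrCharacter G) (i : Fin r), e χ * centralChar (χ : G → ℂ) (x i)⁻¹ ∈ locRing M := by
    intro χ i
    have h2 := classExp_add p (x i)⁻¹
    rw [classExp_inv] at h2
    have hce := hxe i
    set C := Nat.card (Subgroup.centralizer ({(x i)⁻¹} : Set G))
    have hC : p ^ d * (C / p ^ C.factorization p) = C := by
      rw [show d = C.factorization p by omega]
      exact Nat.ordProj_mul_ordCompl_eq_self C p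
    have h4 : (Nat.card G : ℂ) = ((Subgroup.centralizer ({(x i)⁻¹} : Set G)).index : ℂ) * (C : ℂ) := by
      rw [← Nat.cast_mul, Subgroup.index_mul_card]
    have h5 : e χ * centralChar (χ : G → ℂ) (x i)⁻¹ =
        ((C / p ^ C.factorization p : ℕ) : ℂ)⁻¹ * ((χ : G → ℂ) (x i)⁻¹ * (m χ : ℂ)) := by
      have h1 : (χ : G → ℂ) 1 ≠ 0 := IsIrrCharacter.apply_one_ne_zero χ.2
      have hC0 : ((C / p ^ C.factorization p : ℕ) : ℂ) ≠ 0 := Nat.cast_ne_zero.2 fun h0 =>
        Nat.card_pos.ne' (show C = 0 by rw [← hC, h0, mul_zero])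
      have h3 : ((Subgroup.centralizer ({(x i)⁻¹} : Set G)).index : ℂ) ≠ 0 :=
        Nat.cast_ne_zero.2 Subgroup.index_ne_zero_of_finite
      simp only [e, centralChar]
      rw [h4, show (C : ℂ) = ((p ^ d * (C / p ^ C.factorization p) : ℕ) : ℂ) from congrArg Nat.cast hC.symm,
        Nat.cast_mul]
      field_simp [hp0 d]
      rw [div_eq_iff (hp0 d)]
      ring
    rw [h5]
    exact mul_mem (inv_natCast_mem_locRing hM.1 hM.2.2 (Nat.not_dvd_ordCompl hM.1 Nat.card_pos.ne'))
      (mul_mem (irr_mem_locRing χ _) (natCast_mem _ _))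
  -- vanishing outside the blocks with defect group `D`
  have hout : ∀ (χ : IrrCharacter G) (i j : Fin r), (¬ ∃ B : Blk, χ ∈ B.1) →
      MemLocalIdeal M (e χ * centralChar (χ : G → ℂ) (x i)⁻¹ * centralChar (χ : G → ℂ) (x j)) := by
    intro χ i j hχ
    by_cases hu : MemLocalIdeal M (centralChar (χ : G → ℂ) (x j))
    · exact memLocalIdeal_mul_left (hTi χ i) hu
    have hB := isPBlock_blockOf (M := M) χ
    have h1 := classExp_le_minVal hM hB (self_mem_blockOf χ) hu
    have hxj := hxe j
    have hd : minVal p (blockOf M (χ : G → ℂ)) + d ≠ a := by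
      intro heq
      obtain ⟨E, hE⟩ := exists_isDefectGroup (p := p) hB
      obtain ⟨T, hT⟩ := hD j
      obtain ⟨y, hy⟩ := exists_conj_le_of_centralChar_unit hM hB hE ⟨χ, self_mem_blockOf χ, hu⟩ T
      rw [show sylowImage T = D from hT] at hy
      have hcard : Nat.card D ≤ Nat.card (E.map (MulAut.conj y).toMonoidHom) := by
        rw [card_map_conj, card_defectGroup hM hB hE, blockDefect_eq,
          show (Nat.card G).factorization p - minVal p (blockOf M (χ : G → ℂ)) = d by omega, ← hT,
          Subgroup.card_map_of_injective (Subgroup.subtype_injective _), Sylow.card_eq_multiplicity]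
        simp only [d]
        rw [← hT, Subgroup.card_map_of_injective (Subgroup.subtype_injective _), Sylow.card_eq_multiplicity,
          Nat.Prime.factorization_pow Fact.out, Finsupp.single_eq_same]
      obtain ⟨g, hg, T', hT'⟩ := hE
      refine hχ ⟨⟨_, hB, ?_⟩, self_mem_blockOf χ⟩
      -- conjugate the defect class
      rw [← Subgroup.eq_of_le_of_card_ge hy hcard]
      exact isDefectGroup_map_conj ⟨g, hg, T', hT'⟩ y
    have hlt : d + (minVal p (blockOf M (χ : G → ℂ))) > a := by omega
    refine memLocalIdeal_mul_right (centralChar_mem_locRing χ _)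
      (memLocalIdeal_mul_right (centralChar_mem_locRing χ _) ?_)
    set n := charDegree (χ : G → ℂ)
    have hv : minVal p (blockOf M (χ : G → ℂ)) ≤ n.factorization p :=
      minVal_le (p := p) (self_mem_blockOf (M := M) χ)
    have hn' : p ^ n.factorization p * (n / p ^ n.factorization p) = n := Nat.ordProj_mul_ordCompl_eq_self n p
    set g' := Nat.card G / p ^ a
    have hg' : p ^ a * g' = Nat.card G := Nat.ordProj_mul_ordCompl_eq_self _ p
    have hee : e χ = ((p ^ (d + n.factorization p - a) : ℕ) : ℂ) *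
        ((g' : ℂ)⁻¹ * ((n / p ^ n.factorization p : ℕ) : ℂ) * (m χ : ℂ)) := by
      have hg0 : (g' : ℂ) ≠ 0 := Nat.cast_ne_zero.2 fun h0 =>
        Nat.not_dvd_ordCompl hM.1 (Nat.card_pos (α := G)).ne' (show p ∣ g' by rw [h0]; exact dvd_zero p)
      have hpp : ((p ^ d : ℕ) : ℂ) * ((p ^ n.factorization p : ℕ) : ℂ) =
          ((p ^ (d + n.factorization p - a) : ℕ) : ℂ) * ((p ^ a : ℕ) : ℂ) := by
        rw [← Nat.cast_mul, ← Nat.cast_mul, ← pow_add, ← pow_add, Nat.sub_add_cancel (by omega)]
      simp only [e]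
      rw [← charDegree_cast (IsIrrCharacter.isCharacter χ.2),
        show (Nat.card G : ℂ) = ((p ^ a * g' : ℕ) : ℂ) from congrArg Nat.cast hg'.symm,
        show (n : ℂ) = ((p ^ n.factorization p * (n / p ^ n.factorization p) : ℕ) : ℂ) from
          congrArg Nat.cast hn'.symm, Nat.cast_mul, Nat.cast_mul]
      have ha0 := hp0 a
      calc ((p ^ d : ℕ) : ℂ) * (((p ^ a : ℕ) : ℂ) * (g' : ℂ))⁻¹ *
            (((p ^ n.factorization p : ℕ) : ℂ) * ((n / p ^ n.factorization p : ℕ) : ℂ)) * (m χ : ℂ)
          = (((p ^ d : ℕ) : ℂ) * ((p ^ n.factorization p : ℕ) : ℂ)) * (((p ^ a : ℕ) : ℂ))⁻¹ *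
            ((g' : ℂ)⁻¹ * ((n / p ^ n.factorization p : ℕ) : ℂ) * (m χ : ℂ)) := by rw [mul_inv]; ring
        _ = _ := by rw [hpp, mul_inv_cancel_right₀ ha0]
    rw [hee]
    exact memLocalIdeal_mul_right (mul_mem (mul_mem
      (inv_natCast_mem_locRing hM.1 hM.2.2 (Nat.not_dvd_ordCompl hM.1 Nat.card_pos.ne')) (natCast_mem _ _))
      (natCast_mem _ _)) (memLocalIdeal_natCast_pow hM.1 hM.2.2 (by omega))
  -- the entries
  have hent : ∀ i j : Fin r, resC M (if i = j then (classCofactor p (x j) : ℂ) else 0) =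
      ∑ B : Blk, (∑ χ, if χ ∈ B.1 then resC M (e χ * centralChar (χ : G → ℂ) (x i)⁻¹) else 0) * w B j := by
    intro i j
    set z := classSum (x j) * classSum (x i)⁻¹ with hz
    have hzc : IsCentralElt z := (isCentralElt_classSum _).mul (isCentralElt_classSum _)
    have hsum : ∑ s : (S : Subgroup G), z.coeff (s : G) =
        if i = j then ((Subgroup.centralizer ({x j} : Set G)).index : ℂ) else 0 := by
      rw [Finset.sum_eq_single 1]
      · split_ifs with hij
        · subst hij; rw [hz, Subgroup.coe_one, classSum_mul_inv_coeff_one]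
        · rw [hz, Subgroup.coe_one, classSum_mul_coeff_eq_zero_iff]
          intro g hg hg'
          rw [mul_one] at hg'
          obtain ⟨c, hc⟩ := isConj_iff.1 hg'
          refine hij (hx i j (IsConj.trans (isConj_iff.2 ⟨c, ?_⟩) hg.symm))
          have := congrArg (·⁻¹) hc
          simpa [mul_assoc] using this
      · intro s _ hs
        rw [hz, classSum_mul_coeff_eq_zero_iff]
        intro g hg hg'
        obtain ⟨k, hk⟩ := IsPGroup.iff_orderOf.1 S.isPGroup' s
        obtain ⟨c, hc⟩ := isConj_iff.1 hg'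
        refine hsep i j ((s : G)⁻¹ * g) g (isConj_iff.2 ⟨c, ?_⟩) hg k (Nat.pos_of_ne_zero fun h0 => hs (by
          rwa [h0, pow_zero, orderOf_eq_one_iff] at hk)) ?_
        · have := congrArg (·⁻¹) hc
          simpa [mul_assoc] using this
        · rw [mul_inv_cancel_right, orderOf_inv, Subgroup.orderOf_coe, hk]
      · simp
    have hda : d ≤ a := by have := hxe i; omega
    have hS : (Nat.card (S : Subgroup G) : ℂ) = ((p ^ (a - d) : ℕ) : ℂ) * ((p ^ d : ℕ) : ℂ) := by
      rw [Sylow.card_eq_multiplicity, ← Nat.cast_mul, ← pow_add, Nat.sub_add_cancel hda]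
    have hT : (if i = j then (classCofactor p (x j) : ℂ) else 0) =
        ∑ χ, e χ * centralChar (χ : G → ℂ) (x i)⁻¹ * centralChar (χ : G → ℂ) (x j) := by
      have h1 : (if i = j then (classCofactor p (x j) : ℂ) else 0) =
          (∑ s : (S : Subgroup G), z.coeff (s : G)) / ((p ^ (a - d) : ℕ) : ℂ) := by
        rw [hsum]
        split_ifs
        · rw [index_eq_mul_classCofactor p, show classExp p (x j) = a - d by have := hxe j; omega,
            Nat.cast_mul, mul_div_cancel_left₀ _ (hp0 _)]
        · simp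
      rw [h1]
      simp only [coeff_eq_sum_omega hzc, Finset.mul_sum]
      rw [Finset.sum_comm, Finset.sum_div]
      refine Finset.sum_congr rfl fun χ _ => ?_
      rw [← Finset.mul_sum, ← Finset.mul_sum, ← Finset.mul_sum, hm χ, hz,
        omega_mul χ (isCentralElt_classSum _) (isCentralElt_classSum _), omega_classSum, omega_classSum, hS]
      simp only [e]
      field_simp [hp0 (a - d)]
      rw [div_eq_iff (hp0 (a - d))]
      ring
    rw [hT, resC_sum _ _ fun χ _ => mul_mem (hTi χ i) (centralChar_mem_locRing χ _)]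
    simp only [Finset.sum_mul, ite_mul, zero_mul]
    rw [Finset.sum_comm]
    refine Finset.sum_congr rfl fun χ _ => ?_
    by_cases h : ∃ B : Blk, χ ∈ B.1
    · obtain ⟨B, hB⟩ := h
      rw [Finset.sum_eq_single B, if_pos hB]
      · rw [resC_mul (hTi χ i) (centralChar_mem_locRing χ _), hw]
        congr 1
        exact (resC_eq_iff (centralChar_mem_locRing χ (x j)) (centralChar_mem_locRing (φ B) _)).2
          (isPBlock_sameBlock B.2.1 hB (hφ B) _)
      · intro B' _ hne
        exact if_neg fun h' => hne (Subtype.ext (isPBlock_eq_of_mem B'.2.1 B.2.1 h' hB))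
      · simp
    · rw [resC_eq_zero_of_memLocalIdeal (hout χ i j h), Finset.sum_eq_zero]
      exact fun B _ => if_neg fun hB => h ⟨B, hB⟩
  -- the rows span
  have hspan : Submodule.span (ResK M) (Set.range w) = ⊤ := by
    rw [eq_top_iff]
    intro v _
    have hsingle : ∀ i, Pi.single i (1 : ResK M) ∈ Submodule.span (ResK M) (Set.range w) := fun i => by
      have hu : resC M (classCofactor p (x i) : ℂ) ≠ 0 := fun h => not_dvd_classCofactor hM.1 (x i)
        ((memLocalIdeal_natCast_iff hM.1 hM.2.2 _).1 ((resC_eq_zero_iff (natCast_mem _ _)).1 h))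
      have e : Pi.single i (1 : ResK M) = (resC M (classCofactor p (x i) : ℂ))⁻¹ •
          ∑ B : Blk, (∑ χ, if χ ∈ B.1 then resC M (e χ * centralChar (χ : G → ℂ) (x i)⁻¹) else 0) • w B := by
        funext j
        simp only [Pi.smul_apply, Finset.sum_apply, smul_eq_mul, ← hent i j]
        by_cases hij : i = j
        · subst hij; simp [hu]
        · simp [hij, Pi.single_eq_of_ne (Ne.symm hij)]
      rw [e]
      exact Submodule.smul_mem _ _ (Submodule.sum_mem _ fun B _ =>
        Submodule.smul_mem _ _ (Submodule.subset_span ⟨B, rfl⟩))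
    rw [pi_eq_sum_univ' v]
    exact Submodule.sum_mem _ fun i _ => Submodule.smul_mem _ _ (hsingle i)
  obtain ⟨κ, a', -, hsp, hli⟩ := exists_linearIndependent' (ResK M) w
  haveI : Finite κ := hli.finite
  haveI := Fintype.ofFinite κ
  have hcard : Fintype.card κ = r := by
    have := linearIndependent_iff_card_eq_finrank_span.1 hli
    rw [this, Set.finrank, hsp, hspan, finrank_top, Module.finrank_pi, Fintype.card_fin]
  set em : Fin r ≃ κ := (Fintype.equivFinOfCardEq hcard).symm
  have hli' : LinearIndependent (ResK M) (fun i => w (a' (em i))) := hli.comp em em.injective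
  refine ⟨fun i => (a' (em i)).1, fun i j h => ?_, fun i => (a' (em i)).2, fun χ hχ => ?_⟩
  · exact hli'.injective (congrArg w (Subtype.ext h))
  -- the determinant
  set W : Matrix (Fin r) (Fin r) (ResK M) := Matrix.of fun i j => w (a' (em i)) j
  have hW : W.det ≠ 0 := by
    have : IsUnit W := Matrix.linearIndependent_rows_iff_isUnit.1 hli'
    exact ((Matrix.isUnit_iff_isUnit_det W).1 this).ne_zero
  have hmem : ∀ i j, (χ i : G → ℂ) (x j) ∈ locRing M := fun i j => irr_mem_locRing _ _
  set A : Matrix (Fin r) (Fin r) (locRing M) := Matrix.of fun i j => (⟨_, hmem i j⟩ : locRing M)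
  have hdet : (Matrix.of fun i j : Fin r => (χ i : G → ℂ) (x j)).det = ((A.det : locRing M) : ℂ) := by
    rw [← Subring.subtype_apply, RingHom.map_det]; rfl
  rw [hdet, ← mem_maximalIdeal_locRing, ← IsLocalRing.residue_eq_zero_iff, RingHom.map_det]
  have hA : (IsLocalRing.residue (locRing M)).mapMatrix A =
      Matrix.diagonal (fun i => resC M (redDegree p (a' (em i)).1 (χ i : G → ℂ) : ℂ)) * W *
        Matrix.diagonal (fun j => resC M ((classCofactor p (x j) : ℂ))⁻¹) := by
    ext i j
    rw [RingHom.mapMatrix_apply, Matrix.map_apply, Matrix.mul_diagonal, Matrix.diagonal_mul]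
    simp only [A, W, hw, Matrix.of_apply]
    rw [← resC_of_mem (hmem i j)]
    have hB := (a' (em i)).2.1
    have hmv : minVal p (a' (em i)).1 + d = (Nat.card G).factorization p := by
      have hc := card_defectGroup hM hB (a' (em i)).2.2
      simp only [d]
      rw [hc, Nat.Prime.factorization_pow Fact.out, Finsupp.single_eq_same, blockDefect_eq]
      have hmem' : χ i ∈ (a' (em i)).1 := (hχ i).1
      have := (minVal_le (p := p) hmem').trans (degree_factorization_le p (χ i))
      omega
    have h1 := apply_congr_of_classExp_eq hM hB (hχ i).1 (hφ (a' (em i))) (g := x j)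
      (by have := hxe j; omega)
    have hinv := inv_natCast_mem_locRing hM.1 hM.2.2 (M := M) (not_dvd_classCofactor hM.1 (x j))
    rw [(resC_eq_iff (hmem i j) (mul_mem (mul_mem (centralChar_mem_locRing _ _) (natCast_mem _ _)) hinv)).2 h1,
      resC_mul (mul_mem (centralChar_mem_locRing _ _) (natCast_mem _ _)) hinv,
      resC_mul (centralChar_mem_locRing _ _) (natCast_mem _ _)]
    ring
  rw [hA, Matrix.det_mul, Matrix.det_mul, Matrix.det_diagonal, Matrix.det_diagonal]
  refine mul_ne_zero (mul_ne_zero (Finset.prod_ne_zero_iff.2 fun i _ h => ?_) hW)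
    (Finset.prod_ne_zero_iff.2 fun j _ h => ?_)
  · exact (not_dvd_redDegree_iff hM.1 (hχ i).1).2 (hχ i).2
      ((memLocalIdeal_natCast_iff hM.1 hM.2.2 _).1 ((resC_eq_zero_iff (natCast_mem _ _)).1 h))
  · have hinv := inv_natCast_mem_locRing hM.1 hM.2.2 (M := M) (not_dvd_classCofactor hM.1 (x j))
    have h2 := memLocalIdeal_mul_left (natCast_mem (locRing M) (classCofactor p (x j)))
      ((resC_eq_zero_iff hinv).1 h)
    rw [mul_inv_cancel₀ (Nat.cast_ne_zero.2 fun h0 =>
      not_dvd_classCofactor hM.1 (x j) (by rw [h0]; exact dvd_zero p))] at h2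
    exact not_memLocalIdeal_one h2

end Cfsg.Agent.Block
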