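import Cfsg.Agent.Lib.Block.PPrimeDegrees
import Mathlib.GroupTheory.Solvable

/-!
# Derived length of a Sylow subgroup and the number of degrees divisible by `p`

In a `p`-soluble group the derived length of a Sylow `p`-subgroup is at most one more than the
number of irreducible characters of degree divisible by `p`.
-/

set_option autoImplicit false
set_option linter.style.haveILetI false
set_option linter.unusedSectionVars false
set_option linter.unusedVariables false

namespace Cfsg.Agent.Block.Sing

open Cfsg Cfsg.Agent.Char Cfsg.Agent.Block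
open scoped Classical

universe u

variable {p : ℕ} [hpf : Fact p.Prime] {G : Type u} [Group G] [Finite G]

/-- The number of irreducible characters of degree divisible by `p`. -/
noncomputable def num (p : ℕ) (G : Type u) [Group G] : ℕ :=
  Nat.card {χ : IrrCharacter G // p ∣ charDegree (χ : G → ℂ)}

/-- Inflation from a quotient. -/
noncomputable def infl (N : Subgroup G) [N.Normal] (φ : IrrCharacter (G ⧸ N)) : IrrCharacter G :=
  ⟨fun g => (φ : G ⧸ N → ℂ) (QuotientGroup.mk g),
    isIrrCharacter_comp_surjective (QuotientGroup.mk' N) (QuotientGroup.mk'_surjective N) φ.2⟩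

theorem infl_apply (N : Subgroup G) [N.Normal] (φ : IrrCharacter (G ⧸ N)) (g : G) :
    (infl N φ : G → ℂ) g = (φ : G ⧸ N → ℂ) (QuotientGroup.mk g) := rfl

theorem charDegree_infl (N : Subgroup G) [N.Normal] (φ : IrrCharacter (G ⧸ N)) :
    charDegree (infl N φ : G → ℂ) = charDegree (φ : G ⧸ N → ℂ) := by
  apply Nat.cast_injective (R := ℂ)
  rw [charDegree_cast (IsIrrCharacter.isCharacter φ.2),
    charDegree_cast (IsIrrCharacter.isCharacter (infl N φ).2)]
  rfl

theorem infl_injective (N : Subgroup G) [N.Normal] : Function.Injective (infl (G := G) N) :=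
  fun a b h => Subtype.ext (funext fun x => by
    obtain ⟨g, rfl⟩ := QuotientGroup.mk_surjective x
    exact congrFun (congrArg Subtype.val h) g)

theorem apply_mul_ker {χ : IrrCharacter G} {N : Subgroup G}
    (h : ∀ n ∈ N, (χ : G → ℂ) n = (χ : G → ℂ) 1) (g : G) {n : G} (hn : n ∈ N) :
    (χ : G → ℂ) (n * g) = (χ : G → ℂ) g :=
  (IsCharacter.apply_mul_of_eq_one (IsIrrCharacter.isCharacter χ.2) (h n hn) g).1

theorem infl_trivial (N : Subgroup G) [N.Normal] (φ : IrrCharacter (G ⧸ N)) {n : G} (hn : n ∈ N) :
    (infl N φ : G → ℂ) n = (infl N φ : G → ℂ) 1 := by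
  simp only [infl_apply, (QuotientGroup.eq_one_iff n).2 hn, QuotientGroup.mk_one]

theorem add_le_num (N : Subgroup G) [N.Normal] {ι : Type} [Fintype ι] (f : ι → IrrCharacter G)
    (hf : Function.Injective f) (hdeg : ∀ i, p ∣ charDegree (f i : G → ℂ))
    (hN : ∀ i, ∃ n ∈ N, (f i : G → ℂ) n ≠ (f i : G → ℂ) 1) :
    num p (G ⧸ N) + Fintype.card ι ≤ num p G := by
  rw [num, num, ← Nat.card_eq_fintype_card, ← Nat.card_sum]
  refine Nat.card_le_card_of_injective
    (Sum.elim (fun φ => ⟨infl N φ.1, (charDegree_infl N φ.1).symm ▸ φ.2⟩) fun i => ⟨f i, hdeg i⟩) ?_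
  refine Function.Injective.sumElim (fun a b h => Subtype.ext (infl_injective N (congrArg Subtype.val h)))
    (fun a b h => hf (congrArg Subtype.val h)) fun φ i h => ?_
  obtain ⟨n, hn, hne⟩ := hN i
  have e : infl N φ.1 = f i := congrArg Subtype.val h
  rw [← e] at hne
  exact hne (infl_trivial N φ.1 hn)

/-- A normal `p`-subgroup whose centre of derived series is detected by a singular character. -/
theorem exists_singular (R D : Subgroup G) [R.Normal] [D.Normal] (hRp : IsPGroup p R)
    (hDR : D ≤ ⁅R, R⁆) (hD : D ≠ ⊥) :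
    ∃ χ : IrrCharacter G, p ∣ charDegree (χ : G → ℂ) ∧ ∃ d ∈ D, (χ : G → ℂ) d ≠ (χ : G → ℂ) 1 := by
  haveI := Fintype.ofFinite G
  haveI := Fintype.ofFinite R
  have hp : p.Prime := Fact.out
  obtain ⟨d, hd, hd1⟩ := (Subgroup.ne_bot_iff_exists_ne_one.1 hD) |> fun ⟨x, hx⟩ =>
    (⟨(x : G), x.2, fun e => hx (Subtype.ext e)⟩ : ∃ d, d ∈ D ∧ d ≠ 1)
  have hcomm : ⁅R, R⁆ ≤ R := Subgroup.commutator_le_self R
  set d' : R := ⟨d, hcomm (hDR hd)⟩ with hd'
  obtain ⟨θ, hθ⟩ : ∃ θ : IrrCharacter R, (θ : R → ℂ) d' ≠ (θ : R → ℂ) 1 := by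
    by_contra hn
    push Not at hn
    exact hd1 (congrArg Subtype.val (isConj_one_left.mp ((isConj_iff_irr d' 1).mpr hn) : d' = 1))
  have hθdeg : p ∣ charDegree (θ : R → ℂ) := by
    obtain ⟨k, hk⟩ := IsPGroup.iff_card.1 hRp
    obtain ⟨i, -, hi⟩ := (Nat.dvd_prime_pow hp).1 (hk ▸ charDegree_dvd_card θ.2)
    rcases Nat.eq_zero_or_pos i with rfl | hpos
    · exfalso
      obtain ⟨l, hl⟩ := IsCharacter.exists_monoidHom (IsIrrCharacter.isCharacter θ.2)
        (by rw [← charDegree_cast (IsIrrCharacter.isCharacter θ.2), hi, pow_zero, Nat.cast_one])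
      apply hθ
      have hmem : d' ∈ commutator R := by
        have := hDR hd
        rw [← Subgroup.map_subtype_commutator] at this
        obtain ⟨x, hx, hxe⟩ := this
        rwa [show d' = x from Subtype.ext hxe.symm]
      have := Abelianization.commutator_subset_ker l hmem
      rw [MonoidHom.mem_ker] at this
      simp [hl, this]
    · exact hi ▸ dvd_pow_self p hpos.ne'
  obtain ⟨χ, hχ⟩ := exists_over_normal R θ
  have hres := IsCharacter.restrict (IsIrrCharacter.isCharacter χ.2) R
  obtain ⟨e, he⟩ := exists_classInner_nat hres θ.2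
  have hdeg := restrict_degree_eq R χ.2 θ.2 hχ
  rw [he, ← charDegree_cast (IsIrrCharacter.isCharacter χ.2),
    ← charDegree_cast (IsIrrCharacter.isCharacter θ.2), ← Nat.cast_mul, ← Nat.cast_mul, Nat.cast_inj] at hdeg
  refine ⟨χ, hdeg ▸ (hθdeg.mul_left _).mul_left _, d, hd, fun hk => hθ ?_⟩
  obtain ⟨r, hr, hdec⟩ := exists_add_of_classInner_ne_zero hres θ.2 hχ
  obtain ⟨a, ha⟩ := IsCharacter.exists_degree (IsIrrCharacter.isCharacter θ.2)
  obtain ⟨b, hb⟩ := IsCharacter.exists_degree hr
  have h1 := congrFun hdec d'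
  have h2 := congrFun hdec 1
  simp only [Pi.add_apply, OneMemClass.coe_one] at h1 h2
  change (χ : G → ℂ) d = _ at h1
  rw [hk, h2, ha, hb] at h1
  have n1 := IsCharacter.norm_le (IsIrrCharacter.isCharacter θ.2) d'
  have n2 := IsCharacter.norm_le hr d'
  rw [ha, Complex.norm_natCast] at n1
  rw [hb, Complex.norm_natCast] at n2
  have hre := congrArg Complex.re h1
  simp only [Complex.add_re, Complex.natCast_re] at hre
  have t1 := ((θ : R → ℂ) d').re_le_norm
  have t2 := (r d').re_le_norm
  have hre' : ((θ : R → ℂ) d').re = a := by linarith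
  have him : ((θ : R → ℂ) d').im = 0 := by
    have h3 := Complex.sq_norm ((θ : R → ℂ) d')
    rw [Complex.normSq_apply, hre'] at h3
    have h4 : ‖(θ : R → ℂ) d'‖ ^ 2 ≤ (a : ℝ) ^ 2 := pow_le_pow_left₀ (norm_nonneg _) n1 2
    nlinarith
  rw [ha]
  exact Complex.ext (by rw [hre', Complex.natCast_re]) (by rw [him, Complex.natCast_im])

/-- The derived length of a normal `p`-subgroup is bounded by the singular characters over it. -/
theorem derivedSeries_pGroup (R : Subgroup G) [R.Normal] (hRp : IsPGroup p R) :
    ∃ k, num p (G ⧸ R) + k ≤ num p G ∧ derivedSeries R (k + 1) = ⊥ := by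
  haveI : Group.IsNilpotent R := hRp.isNilpotent
  haveI : Group.IsSolvable R := inferInstance
  obtain ⟨m, hm⟩ := Group.IsSolvable.solvable (G := R)
  have hex : ∃ k, derivedSeries R (k + 1) = ⊥ :=
    ⟨m, le_bot_iff.1 ((derivedSeries_antitone R (Nat.le_succ m)).trans hm.le)⟩
  refine ⟨Nat.find hex, ?_, Nat.find_spec hex⟩
  set k := Nat.find hex
  set E : ℕ → Subgroup G := fun i => (derivedSeries R i).map R.subtype with hE
  haveI hEn : ∀ i, (E i).Normal := fun i => by
    haveI : (derivedSeries R i).Characteristic := by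
      induction i with
      | zero => rw [derivedSeries_zero]; infer_instance
      | succ i ih => rw [derivedSeries_succ]; haveI := ih; infer_instance
    exact ConjAct.normal_of_characteristic_of_normal
  have hstep : ∀ i : Fin k, ∃ χ : IrrCharacter G, p ∣ charDegree (χ : G → ℂ) ∧
      (∀ n ∈ E (i + 2), (χ : G → ℂ) n = (χ : G → ℂ) 1) ∧
      ∃ n ∈ E (i + 1), (χ : G → ℂ) n ≠ (χ : G → ℂ) 1 := by
    intro i
    haveI := hEn (i + 1)
    haveI := hEn (i + 2)
    set π := QuotientGroup.mk' (E (i + 2))
    haveI : (R.map π).Normal := Subgroup.Normal.map inferInstance π (QuotientGroup.mk'_surjective _)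
    haveI : ((E (i + 1)).map π).Normal := Subgroup.Normal.map inferInstance π (QuotientGroup.mk'_surjective _)
    have hle : (E (i + 1)).map π ≤ ⁅R.map π, R.map π⁆ := by
      rw [← Subgroup.map_commutator]
      refine Subgroup.map_mono ?_
      rw [← Subgroup.map_subtype_commutator, ← derivedSeries_one]
      exact Subgroup.map_mono (derivedSeries_antitone R (Nat.le_add_left 1 i))
    have hne : (E (i + 1)).map π ≠ ⊥ := by
      rw [ne_eq, Subgroup.map_eq_bot_iff, QuotientGroup.ker_mk']
      intro hh
      have h1 : derivedSeries R ((i : ℕ) + 1) ≠ ⊥ := Nat.find_min hex i.2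
      have h2 := Group.IsSolvable.commutator_lt_of_ne_bot h1
      rw [← derivedSeries_succ] at h2
      exact h2.not_ge ((Subgroup.map_le_map_iff_of_injective R.subtype_injective).1 hh)
    obtain ⟨φ, hφ, x, hx, hxne⟩ := exists_singular (p := p) _ _ (hRp.map π) hle hne
    obtain ⟨n, hn, rfl⟩ := hx
    exact ⟨infl _ φ, (charDegree_infl _ φ).symm ▸ hφ, fun n hn => infl_trivial _ φ hn, n, hn, hxne⟩
  choose f hf1 hf2 hf3 using hstep
  have hinj : Function.Injective f := by
    have key : ∀ i j : Fin k, i < j → f i ≠ f j := by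
      intro i j hij e
      obtain ⟨n, hn, hne⟩ := hf3 j
      rw [← e] at hne
      refine hne (hf2 i n (Subgroup.map_mono (derivedSeries_antitone R ?_) hn))
      have := Fin.lt_def.1 hij
      omega
    intro i j e
    rcases lt_trichotomy i j with h | h | h
    exacts [absurd e (key i j h), h, absurd e.symm (key j i h)]
  have hfin := add_le_num (p := p) R f hinj hf1 fun i => by
    obtain ⟨n, hn, hne⟩ := hf3 i
    exact ⟨n, Subgroup.map_subtype_le _ hn, hne⟩
  simpa using hfin

/-- Without a `p`-core the singular characters detect the `p'`-core. -/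
theorem exists_singular_core (hs : IsPSolvable p G) (hR : pCore p G = ⊥) (hp : p ∣ Nat.card G) :
    ∃ χ : IrrCharacter G, p ∣ charDegree (χ : G → ℂ) ∧
      ∃ k ∈ pPrimeCore p G, (χ : G → ℂ) k ≠ (χ : G → ℂ) 1 := by
  haveI := Fintype.ofFinite G
  have hpp : p.Prime := Fact.out
  by_contra hn
  push Not at hn
  haveI := Solv.pPrimeCore_characteristic p G
  set K := pPrimeCore p G with hKdef
  haveI := Fintype.ofFinite K
  have hKc : (Nat.card K).Coprime p := Solv.card_pPrimeCore_coprime p G
  set π := QuotientGroup.mk' K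
  haveI := Solv.pCore_characteristic p (G ⧸ K)
  set L := (pCore p (G ⧸ K)).comap π with hL
  haveI : L.Normal := Subgroup.Normal.comap inferInstance π
  haveI : Nontrivial (G ⧸ K) := by
    by_contra hn'
    rw [not_nontrivial_iff_subsingleton] at hn'
    have h1 := K.card_eq_card_quotient_mul_card_subgroup
    rw [Nat.card_of_subsingleton (1 : G ⧸ K), one_mul] at h1
    exact hpp.coprime_iff_not_dvd.1 hKc.symm (h1 ▸ hp)
  have hR' : pCore p (G ⧸ K) ≠ ⊥ :=
    (Solv.core_ne_bot_of_isPSolvable (Solv.isPSolvable_quotient hs K)).resolve_right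
      (not_not.2 (Solv.pPrimeCore_quotient_pPrimeCore p))
  have hfix : ∀ (θ : IrrCharacter K), ∀ x ∈ L, Char.conjChar K x (θ : K → ℂ) = θ := by
    intro θ x hx
    by_cases h1 : (θ : K → ℂ) = 1
    · funext n; simp [Char.conjChar, h1]
    obtain ⟨χ, hχ⟩ := exists_over_normal K θ
    have hres := IsCharacter.restrict (IsIrrCharacter.isCharacter χ.2) K
    have hdeg : ¬ p ∣ charDegree (χ : G → ℂ) := fun hd => h1 (by
      by_contra hne
      refine hχ ?_
      have e : (fun n : K => (χ : G → ℂ) n) = ((χ : G → ℂ) 1) • (1 : K → ℂ) :=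
        funext fun n => by simp [hn χ hd n n.2]
      rw [e, classInner_smul_left,
        IsIrrCharacter.classInner_eq_zero isIrrCharacter_one θ.2 (Ne.symm hne), mul_zero])
    obtain ⟨e, he⟩ := exists_classInner_nat hres θ.2
    have hd := restrict_degree_eq K χ.2 θ.2 hχ
    rw [he, ← charDegree_cast (IsIrrCharacter.isCharacter χ.2),
      ← charDegree_cast (IsIrrCharacter.isCharacter θ.2), ← Nat.cast_mul, ← Nat.cast_mul, Nat.cast_inj] at hd
    set T := inertia K (θ : K → ℂ) with hT
    have hTi : ¬ p ∣ T.index := fun hh => hdeg (hd ▸ (hh.mul_right _).mul_left _)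
    have hKT : K ≤ T := le_inertia K (IsCharacter.isClassFunction (IsIrrCharacter.isCharacter θ.2))
    have hTi' : ¬ p ∣ (T.map π).index := by
      rwa [Subgroup.index_map_eq _ (QuotientGroup.mk'_surjective K) (by rwa [QuotientGroup.ker_mk'])]
    obtain ⟨S⟩ := Sylow.nonempty (p := p) (G := T.map π)
    have hS : IsPGroup p ((S : Subgroup (T.map π)).map (T.map π).subtype) := S.isPGroup'.map _
    obtain ⟨S', hS'⟩ := hS.exists_le_sylow
    have hSS : (S : Subgroup (T.map π)).map (T.map π).subtype = S' := by
      refine Subgroup.eq_of_le_of_card_ge hS' ?_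
      rw [Subgroup.card_map_of_injective (T.map π).subtype_injective, S.card_eq_multiplicity,
        S'.card_eq_multiplicity, ← (T.map π).card_mul_index,
        Nat.factorization_mul Nat.card_pos.ne' Subgroup.index_ne_zero_of_finite,
        Finsupp.add_apply, Nat.factorization_eq_zero_of_not_dvd hTi', add_zero]
    have hle : pCore p (G ⧸ K) ≤ T.map π :=
      (Solv.pCore_le_sylow S').trans
        (hSS ▸ Subgroup.map_subtype_le _)
    obtain ⟨t, ht, htx⟩ := hle hx
    have hxT : x ∈ T := by
      have : t⁻¹ * x ∈ K := QuotientGroup.eq.1 htx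
      simpa using T.mul_mem ht (hKT this)
    exact hxT
  have hKL : K ≤ L := fun x hx => by
    rw [hL, Subgroup.mem_comap, show π x = 1 from (QuotientGroup.eq_one_iff x).2 hx]
    exact one_mem _
  set C := L ⊓ Subgroup.centralizer (K : Set G) with hC
  haveI : C.Normal := inferInstance
  have hdL : p ∣ Nat.card L := by
    have h1 : p ∣ Nat.card (pCore p (G ⧸ K)) := by
      obtain ⟨k, hk⟩ := IsPGroup.iff_card.1 (Solv.isPGroup_pCore p (G ⧸ K))
      rcases Nat.eq_zero_or_pos k with rfl | hpos
      · rw [pow_zero] at hk; exact absurd (Subgroup.eq_bot_of_card_eq _ hk) hR'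
      · exact hk ▸ dvd_pow_self p hpos.ne'
    rw [hL, Solv.card_comap_mk']
    exact h1.mul_left _
  obtain ⟨y, hy⟩ := exists_prime_orderOf_dvd_card' p hdL
  have hyC : (y : G) ∈ C := by
    refine ⟨y.2, Subgroup.mem_centralizer_iff.2 fun k hk => (commute_of_fixes_irr K ?_
      (fun θ => hfix θ y y.2) hk).symm⟩
    rw [Subgroup.orderOf_coe, hy]
    exact hKc.symm
  set φ := π.comp C.subtype
  have hker : φ.ker ≤ Subgroup.center C := fun z hz => Subgroup.mem_center_iff.2 fun w =>
    Subtype.ext (Subgroup.mem_centralizer_iff.1 w.2.2 (z : G) ((QuotientGroup.eq_one_iff (z : G)).1 hz)).symm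
  haveI : Group.IsNilpotent φ.range := by
    refine IsPGroup.isNilpotent (p := p) ((Solv.isPGroup_pCore p (G ⧸ K)).to_le ?_)
    rintro _ ⟨z, rfl⟩
    exact z.2.1
  haveI : Group.IsNilpotent C :=
    Subgroup.isNilpotent_of_ker_le_center φ.rangeRestrict (by rwa [MonoidHom.ker_rangeRestrict])
  obtain ⟨S⟩ := Sylow.nonempty (p := p) (G := C)
  haveI : (S : Subgroup C).Normal := Sylow.normal_of_all_max_subgroups_normal
    (fun {M} hM => Subgroup.NormalizerCondition.normal_of_coatom M Group.normalizerCondition_of_isNilpotent hM) S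
  haveI : (S : Subgroup C).Characteristic := S.characteristic_of_normal inferInstance
  haveI : ((S : Subgroup C).map C.subtype).Normal := ConjAct.normal_of_characteristic_of_normal
  have hSle : (S : Subgroup C).map C.subtype ≤ ⊥ := hR ▸ Solv.le_pCore (S.isPGroup'.map _)
  rw [le_bot_iff, Subgroup.map_eq_bot_iff_of_injective _ C.subtype_injective] at hSle
  have hdC : p ∣ Nat.card C := by
    have := Subgroup.orderOf_dvd_natCard C hyC
    rwa [Subgroup.orderOf_coe, hy] at this
  exact S.ne_bot_of_dvd_card hdC hSle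

theorem derivedSeries_le_of_map {H : Type*} [Group H] (f : G →* H) (P : Subgroup G) {n : ℕ}
    (h : derivedSeries (P.map f) n = ⊥) : (derivedSeries P n).map P.subtype ≤ f.ker := by
  rintro _ ⟨x, hx, rfl⟩
  have := map_derivedSeries_le_derivedSeries (f.subgroupMap P) n (Subgroup.mem_map_of_mem _ hx)
  rw [h, Subgroup.mem_bot] at this
  exact congrArg Subtype.val this

theorem derivedSeries_comp {P : Type*} [Group P] (S : Subgroup P) {a b : ℕ}
    (ha : derivedSeries P a ≤ S) (hb : derivedSeries S b = ⊥) : derivedSeries P (a + b) = ⊥ := by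
  have : ∀ j, derivedSeries P (a + j) ≤ (derivedSeries S j).map S.subtype := by
    intro j
    induction j with
    | zero => rw [derivedSeries_zero, ← MonoidHom.range_eq_map, Subgroup.range_subtype]; exact ha
    | succ j ih =>
      rw [← Nat.add_assoc, derivedSeries_succ, derivedSeries_succ, Subgroup.map_commutator]
      exact Subgroup.commutator_mono ih ih
  exact le_bot_iff.1 ((this b).trans (by rw [hb, Subgroup.map_bot]))

/-- The derived length of a Sylow subgroup of a `p`-soluble group. -/
theorem derived_length_le : ∀ (n : ℕ) (G : Type u) [Group G] [Finite G], Nat.card G = n →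
    IsPSolvable p G → ∀ P : Sylow p G, derivedSeries (P : Subgroup G) (num p G + 1) = ⊥ := by
  intro n
  induction n using Nat.strong_induction_on with
  | _ n ih =>
    intro G _ _ hn hs P
    have hp : p.Prime := Fact.out
    have core : ∀ (H : Type u) [Group H] [Finite H], Nat.card H ≤ n → IsPSolvable p H → pCore p H = ⊥ →
        ∀ Q : Sylow p H, derivedSeries (Q : Subgroup H) (num p H) = ⊥ := by
      intro H _ _ hH hsH hcH Q
      by_cases hd : p ∣ Nat.card H
      · obtain ⟨χ, hχ, hχK⟩ := exists_singular_core hsH hcH hd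
        haveI := Solv.pPrimeCore_characteristic p H
        set K := pPrimeCore p H
        have hK : K ≠ ⊥ := fun e => by
          obtain ⟨k, hk, hne⟩ := hχK
          rw [e, Subgroup.mem_bot] at hk
          exact hne (by rw [hk])
        have hlt : Nat.card (H ⧸ K) < n := lt_of_lt_of_le (by
          conv_rhs => rw [Subgroup.card_eq_card_quotient_mul_card_subgroup K]
          exact lt_mul_of_one_lt_right Nat.card_pos (K.one_lt_card_iff_ne_bot.mpr hK)) hH
        have hi := ih _ hlt (H ⧸ K) rfl (Solv.isPSolvable_quotient hsH K)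
          (Q.mapSurjective (QuotientGroup.mk'_surjective K))
        rw [Sylow.coe_mapSurjective] at hi
        have hnum : num p (H ⧸ K) + 1 ≤ num p H := by
          simpa using add_le_num (p := p) K (fun _ : Unit => χ) (fun _ _ _ => rfl) (fun _ => hχ) fun _ => hχK
        have hle := derivedSeries_le_of_map _ _ hi
        rw [QuotientGroup.ker_mk'] at hle
        have : derivedSeries (Q : Subgroup H) (num p (H ⧸ K) + 1) = ⊥ := by
          apply Subgroup.map_injective (Q : Subgroup H).subtype_injective
          rw [Subgroup.map_bot, eq_bot_iff]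
          exact (le_inf (Subgroup.map_subtype_le _) hle).trans
            (Solv.inf_eq_bot_of_isPGroup Q.isPGroup' (Solv.card_pPrimeCore_coprime p H)).le
        exact le_bot_iff.1 ((derivedSeries_antitone _ hnum).trans this.le)
      · have : (Q : Subgroup H) = ⊥ := Subgroup.eq_bot_of_card_eq _ (by
          rw [Q.card_eq_multiplicity, Nat.factorization_eq_zero_of_not_dvd hd, pow_zero])
        haveI : Subsingleton (Q : Subgroup H) := by rw [this]; infer_instance
        exact Subsingleton.elim _ _
    haveI := Solv.pCore_characteristic p G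
    set R := pCore p G with hRdef
    have hRp : IsPGroup p R := Solv.isPGroup_pCore p G
    obtain ⟨k, hk, hk'⟩ := derivedSeries_pGroup R hRp
    have hb := core (G ⧸ R) (hn ▸ Nat.le_of_dvd Nat.card_pos R.card_quotient_dvd_card)
      (Solv.isPSolvable_quotient hs R) (Solv.pCore_quotient_pCore p G)
      (P.mapSurjective (QuotientGroup.mk'_surjective R))
    rw [Sylow.coe_mapSurjective] at hb
    have ha := derivedSeries_le_of_map _ _ hb
    rw [QuotientGroup.ker_mk', Subgroup.map_le_iff_le_comap] at ha
    have hb' : derivedSeries (R.comap (P : Subgroup G).subtype) (k + 1) = ⊥ := by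
      let j : R.comap (P : Subgroup G).subtype →* R :=
        (((P : Subgroup G).subtype).comp (R.comap (P : Subgroup G).subtype).subtype).codRestrict R fun x => x.2
      have hj : Function.Injective j := fun x y e =>
        Subtype.ext (Subtype.ext (congrArg Subtype.val e :))
      refine (Subgroup.map_eq_bot_iff_of_injective _ hj).1 (le_bot_iff.1 ?_)
      exact (map_derivedSeries_le_derivedSeries j (k + 1)).trans hk'.le
    refine le_bot_iff.1 ((derivedSeries_antitone _ ?_).trans (derivedSeries_comp _ ha hb').le)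
    omega

end Cfsg.Agent.Block.Sing
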