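import Cfsg.Agent.Lib.Solv.NormalPComplement
import Mathlib.GroupTheory.SpecificGroups.Quaternion
import Mathlib.GroupTheory.Sylow
import Mathlib.Data.ZMod.Basic

/-!
# Fusion in abelian and quaternion Sylow 2-subgroups with three minimal directions

An automorphism of odd order of a three-element configuration is trivial or transitive.
-/

set_option autoImplicit false
set_option linter.style.haveILetI false

namespace Cfsg.Agent.Block.SmallTwo

open Cfsg

/-- A permutation of odd period of three points that fixes one of them is the identity. -/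
theorem three_fix {α : Type*} {I : Set α} (hI : I.ncard = 3) {f : α → α} (hf : ∀ x ∈ I, f x ∈ I)
    (hinj : Function.Injective f) {m : ℕ} (hm : Odd m) (hper : ∀ x ∈ I, f^[m] x = x) {t : α}
    (ht : t ∈ I) (hft : f t = t) : ∀ u ∈ I, f u = u := by
  intro u hu
  by_contra hne
  have hut : u ≠ t := fun h => hne (h ▸ hft)
  set v := f u with hv
  have hvt : v ≠ t := fun h => hut (hinj (h.trans hft.symm))
  have hfv : f v = u := by
    by_contra h
    have h1 : f v ≠ t := fun e => hvt (hinj (e.trans hft.symm))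
    have h2 : f v ≠ v := fun e => hne (hinj e)
    have hsub : ({t, u, v, f v} : Set α) ⊆ I := by
      intro x hx
      simp only [Set.mem_insert_iff, Set.mem_singleton_iff] at hx
      rcases hx with rfl | rfl | rfl | rfl
      · exact ht
      · exact hu
      · exact hf u hu
      · exact hf _ (hf u hu)
    have hfin : I.Finite := Set.finite_of_ncard_ne_zero (by omega)
    have h3 := Set.ncard_le_ncard hsub hfin
    rw [Set.ncard_insert_of_notMem (by simp [hut.symm, hvt.symm, Ne.symm h1]),
      Set.ncard_insert_of_notMem (by simp [Ne.symm hne, Ne.symm h]),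
      Set.ncard_pair (Ne.symm h2), hI] at h3
    omega
  obtain ⟨j, rfl⟩ := hm
  have h2 : ∀ i, f^[2 * i] u = u := by
    intro i
    induction i with
    | zero => rfl
    | succ i ih =>
      rw [show 2 * (i + 1) = 2 + 2 * i by ring, Function.iterate_add_apply, ih]
      exact hfv
  have := hper u hu
  rw [show 2 * j + 1 = 1 + 2 * j by ring, Function.iterate_add_apply, h2, Function.iterate_one] at this
  exact hne this

/-- A permutation of odd period of three points that moves one of them is transitive. -/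
theorem three_orbit {α : Type*} {I : Set α} (hI : I.ncard = 3) {f : α → α} (hf : ∀ x ∈ I, f x ∈ I)
    (hinj : Function.Injective f) {m : ℕ} (hm : Odd m) (hper : ∀ x ∈ I, f^[m] x = x) {t : α}
    (ht : t ∈ I) (hft : f t ≠ t) : ∀ u ∈ I, u = t ∨ u = f t ∨ u = f (f t) := by
  intro u hu
  by_contra hcon
  push Not at hcon
  obtain ⟨h1, h2, h3⟩ := hcon
  have h4 : f (f t) ≠ t := by
    intro e
    obtain ⟨j, rfl⟩ := hm
    have h5 : ∀ i, f^[2 * i] t = t := by
      intro i
      induction i with
      | zero => rfl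
      | succ i ih =>
        rw [show 2 * (i + 1) = 2 + 2 * i by ring, Function.iterate_add_apply, ih]
        exact e
    have := hper t ht
    rw [show 2 * j + 1 = 1 + 2 * j by ring, Function.iterate_add_apply, h5, Function.iterate_one] at this
    exact hft this
  have h6 : f (f t) ≠ f t := fun e => hft (hinj e)
  have hsub : ({t, f t, f (f t), u} : Set α) ⊆ I := by
    intro x hx
    simp only [Set.mem_insert_iff, Set.mem_singleton_iff] at hx
    rcases hx with rfl | rfl | rfl | rfl
    · exact ht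
    · exact hf t ht
    · exact hf _ (hf t ht)
    · exact hu
  have hfin : I.Finite := Set.finite_of_ncard_ne_zero (by omega)
  have h7 := Set.ncard_le_ncard hsub hfin
  rw [Set.ncard_insert_of_notMem (by simp [Ne.symm hft, Ne.symm h4, Ne.symm h1]),
    Set.ncard_insert_of_notMem (by simp [Ne.symm h6, Ne.symm h2]),
    Set.ncard_pair (Ne.symm h3), hI] at h7
  omega

universe u

variable {G : Type u} [Group G] [Finite G]

/-- A suitable odd power of an element normalizing a Sylow 2-subgroup lies in it. -/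
theorem exists_odd_pow_mem (P : Sylow 2 G) {g : G}
    (hg : g ∈ Subgroup.normalizer ((P : Subgroup G) : Set G)) :
    ∃ m : ℕ, Odd m ∧ g ^ m ∈ (P : Subgroup G) := by
  haveI : Fact (Nat.Prime 2) := ⟨Nat.prime_two⟩
  obtain ⟨i, m, hm, hgm⟩ := Nat.exists_eq_pow_mul_and_not_dvd (orderOf_pos g).ne' 2 (by norm_num)
  refine ⟨m, Nat.odd_iff.2 (by omega), ?_⟩
  have hle : Subgroup.zpowers (g ^ m) ≤ Subgroup.normalizer ((P : Subgroup G) : Set G) :=
    Subgroup.zpowers_le.2 (pow_mem hg m)
  have hp : IsPGroup 2 (Subgroup.zpowers (g ^ m)) := by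
    refine IsPGroup.of_card (n := i) ?_
    rw [Nat.card_zpowers, orderOf_pow, hgm, Nat.gcd_eq_right (dvd_mul_left _ _),
      Nat.mul_div_cancel _ (Nat.pos_of_ne_zero fun h0 => hm (by simp [h0]))]
  have h2 := hp.to_sup_of_normal_right' P.isPGroup' hle
  have h3 := P.is_maximal' h2 le_sup_right
  rw [← h3]
  exact Subgroup.mem_sup_left (Subgroup.mem_zpowers _)

theorem conj_iterate (g : G) (m : ℕ) (x : G) :
    (fun y => g * y * g⁻¹)^[m] x = g ^ m * x * (g ^ m)⁻¹ := by
  induction m with
  | zero => simp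
  | succ m ih => rw [Function.iterate_succ_apply', ih, pow_succ']; group

/-! ## Abelian Sylow subgroups with three involutions -/

section Abelian

variable (P : Sylow 2 G)

/-- The involutions of the Sylow subgroup. -/
def invSet : Set G := {x | x ∈ (P : Subgroup G) ∧ orderOf x = 2}

variable {P}

theorem conj_mem_invSet {g : G} (hg : g ∈ Subgroup.normalizer ((P : Subgroup G) : Set G)) {x : G}
    (hx : x ∈ invSet P) : g * x * g⁻¹ ∈ invSet P :=
  ⟨(Subgroup.mem_normalizer_iff.1 hg x).1 hx.1,
    (orderOf_injective (MulAut.conj g).toMonoidHom (MulAut.conj g).injective x).trans hx.2⟩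

variable (hab : ∀ x ∈ (P : Subgroup G), ∀ y ∈ (P : Subgroup G), x * y = y * x)
  (hI : (invSet P).ncard = 3)
include hab hI

/-- An element of the normalizer fixing an involution centralises the Sylow subgroup. -/
theorem mem_centralizer_of_fix {g : G} (hg : g ∈ Subgroup.normalizer ((P : Subgroup G) : Set G))
    {t : G} (ht : t ∈ invSet P) (hgt : g * t * g⁻¹ = t) :
    g ∈ Subgroup.centralizer ((P : Subgroup G) : Set G) := by
  obtain ⟨m, hm, hgm⟩ := exists_odd_pow_mem P hg
  have hper : ∀ x ∈ (P : Subgroup G), g ^ m * x * (g ^ m)⁻¹ = x := fun x hx => by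
    rw [hab _ hgm _ hx, mul_inv_cancel_right]
  have hfix := three_fix hI (f := fun y => g * y * g⁻¹) (fun x hx => conj_mem_invSet hg hx)
    (fun a b e => mul_left_cancel (mul_right_cancel e)) hm
    (fun x hx => by rw [conj_iterate]; exact hper x hx.1) ht hgt
  have key : ∀ (k : ℕ) (x : G), x ∈ (P : Subgroup G) → x ^ 2 ^ k = 1 → g * x * g⁻¹ = x := by
    intro k
    induction k with
    | zero =>
      intro x _ h
      rw [pow_zero, pow_one] at h
      rw [h]; group
    | succ k ih =>
      intro x hx h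
      have h2 : g * x ^ 2 * g⁻¹ = x ^ 2 :=
        ih _ (pow_mem hx 2) (by rw [← pow_mul, ← pow_succ']; exact h)
      set w := x⁻¹ * (g * x * g⁻¹) with hwdef
      have hwP : w ∈ (P : Subgroup G) :=
        mul_mem (inv_mem hx) ((Subgroup.mem_normalizer_iff.1 hg x).1 hx)
      have hw2 : w * w = 1 := by
        have hc : Commute x⁻¹ (g * x * g⁻¹) :=
          hab _ (inv_mem hx) _ ((Subgroup.mem_normalizer_iff.1 hg x).1 hx)
        rw [← sq, hwdef, hc.mul_pow, conj_pow, h2, inv_pow, inv_mul_cancel]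
      have hwfix : g * w * g⁻¹ = w := by
        by_cases hw1 : w = 1
        · rw [hw1]; group
        · exact hfix w ⟨hwP, orderOf_eq_prime (by rw [sq]; exact hw2) hw1⟩
      have hiter : ∀ i : ℕ, g ^ i * x * (g ^ i)⁻¹ = x * w ^ i := by
        intro i
        induction i with
        | zero => simp
        | succ i ihi =>
          calc g ^ (i + 1) * x * (g ^ (i + 1))⁻¹ = g * (g ^ i * x * (g ^ i)⁻¹) * g⁻¹ := by
                rw [pow_succ']; group
            _ = (g * x * g⁻¹) * (g * w ^ i * g⁻¹) := by rw [ihi]; group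
            _ = (x * w) * w ^ i := by rw [← conj_pow, hwfix, hwdef, mul_inv_cancel_left]
            _ = x * w ^ (i + 1) := by rw [pow_succ', mul_assoc]
      have h3 := hiter m
      rw [hper x hx] at h3
      have hwm : w ^ m = 1 := mul_left_cancel (h3.symm.trans (mul_one x).symm)
      obtain ⟨j, rfl⟩ := hm
      rw [pow_succ, pow_mul, sq, hw2, one_pow, one_mul] at hwm
      have h4 : x⁻¹ * (g * x * g⁻¹) = 1 := hwm
      exact (inv_mul_eq_one.1 h4).symm
  refine Subgroup.mem_centralizer_iff.2 fun x hx => ?_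
  obtain ⟨k, hk⟩ := P.isPGroup' ⟨x, hx⟩
  have := key k x hx (by simpa using congrArg Subtype.val hk)
  calc x * g = g * x * g⁻¹ * g := by rw [this]
    _ = g * x := by group

/-- Either there is no fusion, or the normalizer is transitive on the involutions. -/
theorem transitive_of_ne {g : G} (hg : g ∈ Subgroup.normalizer ((P : Subgroup G) : Set G))
    (hgC : g ∉ Subgroup.centralizer ((P : Subgroup G) : Set G)) {t u : G} (ht : t ∈ invSet P)
    (hu : u ∈ invSet P) : ∃ n ∈ Subgroup.normalizer ((P : Subgroup G) : Set G), n * t * n⁻¹ = u := by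
  obtain ⟨m, hm, hgm⟩ := exists_odd_pow_mem P hg
  have hft : g * t * g⁻¹ ≠ t := fun e => hgC (mem_centralizer_of_fix hab hI hg ht e)
  rcases three_orbit hI (f := fun y => g * y * g⁻¹) (fun x hx => conj_mem_invSet hg hx)
    (fun a b e => mul_left_cancel (mul_right_cancel e)) hm
    (fun x hx => by rw [conj_iterate, hab _ hgm _ hx.1, mul_inv_cancel_right]) ht hft u hu with
    h | h | h
  · exact ⟨1, one_mem _, by rw [h]; group⟩
  · exact ⟨g, hg, h.symm⟩
  · exact ⟨g * g, mul_mem hg hg, by rw [h]; group⟩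

/-- The automiser has order one or three. -/
theorem relIndex_eq :
    (Subgroup.centralizer ((P : Subgroup G) : Set G)).relIndex
        (Subgroup.normalizer ((P : Subgroup G) : Set G)) = 1 ∨
      (Subgroup.centralizer ((P : Subgroup G) : Set G)).relIndex
        (Subgroup.normalizer ((P : Subgroup G) : Set G)) = 3 := by
  set C := Subgroup.centralizer ((P : Subgroup G) : Set G) with hC
  set N := Subgroup.normalizer ((P : Subgroup G) : Set G) with hN
  by_cases h : N ≤ C
  · exact Or.inl (Subgroup.relIndex_eq_one.2 h)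
  obtain ⟨g, hg, hgC⟩ := Set.not_subset.1 h
  obtain ⟨t, ht⟩ : (invSet P).Nonempty := Set.nonempty_of_ncard_ne_zero (by omega)
  refine Or.inr ?_
  rw [Subgroup.relIndex, Subgroup.index, ← hI, ← Nat.card_coe_set_eq]
  refine Nat.card_congr (Equiv.ofBijective
    (fun q => (⟨(q.out : G) * t * (q.out : G)⁻¹, conj_mem_invSet q.out.2 ht⟩ : invSet P)) ⟨?_, ?_⟩)
  · intro a b e
    have e' : (a.out : G) * t * (a.out : G)⁻¹ = (b.out : G) * t * (b.out : G)⁻¹ := congrArg Subtype.val e
    rw [← QuotientGroup.out_eq' a, ← QuotientGroup.out_eq' b]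
    refine QuotientGroup.eq.2 (Subgroup.mem_subgroupOf.2 ?_)
    refine mem_centralizer_of_fix hab hI (a.out⁻¹ * b.out).2 ht ?_
    show ((a.out : G)⁻¹ * b.out) * t * ((a.out : G)⁻¹ * b.out)⁻¹ = t
    calc ((a.out : G)⁻¹ * b.out) * t * ((a.out : G)⁻¹ * b.out)⁻¹
        = (a.out : G)⁻¹ * ((b.out : G) * t * (b.out : G)⁻¹) * a.out := by group
      _ = t := by rw [← e']; group
  · rintro ⟨u, hu⟩
    obtain ⟨n, hn, hnu⟩ := transitive_of_ne hab hI hg hgC ht hu
    refine ⟨QuotientGroup.mk (⟨n, hn⟩ : N), Subtype.ext ?_⟩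
    obtain ⟨c, hc⟩ := QuotientGroup.mk_out_eq_mul (C.subgroupOf N) (⟨n, hn⟩ : N)
    show ((QuotientGroup.mk (⟨n, hn⟩ : N) : N ⧸ C.subgroupOf N).out : G) * t * _ = u
    rw [hc]
    show n * (c : N) * t * (n * (c : N))⁻¹ = u
    have hct : ((c : N) : G) * t = t * (c : N) :=
      (Subgroup.mem_centralizer_iff.1 (Subgroup.mem_subgroupOf.1 c.2) t ht.1).symm
    calc n * (c : N) * t * (n * (c : N))⁻¹ = n * (((c : N) : G) * t * ((c : N) : G)⁻¹) * n⁻¹ := by group
      _ = u := by rw [hct, mul_inv_cancel_right, hnu]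

/-- No fusion gives a normal complement; fusion makes the involutions conjugate. -/
theorem complement_or_conj :
    (∃ N : Subgroup G, N.Normal ∧ Subgroup.IsComplement' N (P : Subgroup G)) ∨
      ∀ s t : G, orderOf s = 2 → orderOf t = 2 → IsConj s t := by
  haveI : Fact (Nat.Prime 2) := ⟨Nat.prime_two⟩
  by_cases h : Subgroup.normalizer ((P : Subgroup G) : Set G) ≤
      Subgroup.centralizer ((P : Subgroup G) : Set G)
  · exact Or.inl ⟨pPrimeCore 2 G, inferInstance,
      Solv.isComplement'_pPrimeCore (Solv.hasNormalPComplement_of_burnside P h) P⟩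
  obtain ⟨g, hg, hgC⟩ := Set.not_subset.1 h
  refine Or.inr fun s t hs ht => ?_
  have into : ∀ s : G, orderOf s = 2 → ∃ c : G, c * s * c⁻¹ ∈ invSet P := by
    intro s hs
    have hp : IsPGroup 2 (Subgroup.zpowers s) :=
      IsPGroup.of_card (n := 1) (by rw [Nat.card_zpowers, hs, pow_one])
    obtain ⟨Q, hQ⟩ := hp.exists_le_sylow
    obtain ⟨c, hc⟩ := MulAction.exists_smul_eq G Q P
    refine ⟨c, ?_, (orderOf_injective (MulAut.conj c).toMonoidHom (MulAut.conj c).injective s).trans hs⟩
    rw [← hc]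
    exact ⟨s, hQ (Subgroup.mem_zpowers s), rfl⟩
  obtain ⟨c, hc⟩ := into s hs
  obtain ⟨d, hd⟩ := into t ht
  obtain ⟨n, -, hn⟩ := transitive_of_ne hab hI hg hgC hc hd
  refine isConj_iff.2 ⟨d⁻¹ * (n * c), ?_⟩
  calc d⁻¹ * (n * c) * s * (d⁻¹ * (n * c))⁻¹ = d⁻¹ * (n * (c * s * c⁻¹) * n⁻¹) * d := by group
    _ = t := by rw [hn]; group

end Abelian

/-- The homocyclic group of rank two has three involutions. -/
theorem ncard_invSet_homocyclic {m : ℕ} (hm : 1 ≤ m) (P : Sylow 2 G)
    (e : (P : Subgroup G) ≃* Multiplicative (ZMod (2 ^ m) × ZMod (2 ^ m))) :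
    (invSet P).ncard = 3 := by
  classical
  haveI : NeZero (2 ^ m) := ⟨by positivity⟩
  obtain ⟨m', rfl⟩ := Nat.exists_eq_add_of_le' hm
  set n := 2 ^ (m' + 1) with hn
  set k : ZMod n := ((2 ^ m' : ℕ) : ZMod n) with hk
  have hn2 : n = 2 * 2 ^ m' := by rw [hn, pow_succ, mul_comm]
  have hk0 : k ≠ 0 := by
    rw [hk, Ne, ZMod.natCast_eq_zero_iff]
    intro h
    have := Nat.le_of_dvd (by positivity) h
    have : 0 < 2 ^ m' := by positivity
    omega
  have hkk : k + k = 0 := by
    rw [hk, ← Nat.cast_add, ← two_mul, ← hn2, ZMod.natCast_self]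
  have hsol : ∀ a : ZMod n, a + a = 0 → a = 0 ∨ a = k := by
    intro a ha
    have h1 : n ∣ a.val + a.val := by
      rw [← ZMod.natCast_eq_zero_iff, Nat.cast_add, ZMod.natCast_zmod_val, ha]
    have h2 := ZMod.val_lt a
    obtain ⟨c, hc⟩ := h1
    have hpos : 0 < 2 ^ m' := by positivity
    rcases c with _ | _ | c
    · exact Or.inl (by rw [← ZMod.natCast_zmod_val a, show a.val = 0 by omega, Nat.cast_zero])
    · exact Or.inr (by rw [← ZMod.natCast_zmod_val a, hk, show a.val = 2 ^ m' by omega])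
    · exfalso
      rw [Nat.mul_succ, Nat.mul_succ] at hc
      omega
  let T : Finset (Multiplicative (ZMod n × ZMod n)) :=
    {Multiplicative.ofAdd (k, 0), Multiplicative.ofAdd (0, k), Multiplicative.ofAdd (k, k)}
  have hT : T.card = 3 := by
    simp [T, hk0, hk0.symm]
  have hset : invSet P = (fun x => ((e.symm x : (P : Subgroup G)) : G)) '' (T : Set _) := by
    ext g
    constructor
    · rintro ⟨hg, hg2⟩
      refine ⟨e ⟨g, hg⟩, ?_, by simp⟩
      have h1 : orderOf (e ⟨g, hg⟩) = 2 := by rw [MulEquiv.orderOf_eq, Subgroup.orderOf_mk]; exact hg2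
      generalize e ⟨g, hg⟩ = y at h1
      obtain ⟨h2, h3⟩ := (orderOf_eq_prime_iff (p := 2)).1 h1
      rw [sq] at h2
      obtain ⟨⟨a, b⟩, rfl⟩ := Multiplicative.ofAdd.surjective y
      have h4 : a + a = 0 ∧ b + b = 0 := by
        have := congrArg Multiplicative.toAdd h2
        simpa using this
      have h5 : ¬ (a = 0 ∧ b = 0) := fun h => h3 (by rw [h.1, h.2]; rfl)
      rcases hsol a h4.1 with rfl | rfl <;> rcases hsol b h4.2 with rfl | rfl <;> simp [T] at h5 ⊢
    · rintro ⟨y, hy, rfl⟩
      refine ⟨(e.symm y).2, ?_⟩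
      rw [Subgroup.orderOf_coe, MulEquiv.orderOf_eq]
      refine orderOf_eq_prime ?_ ?_
      · rw [sq]
        simp [T] at hy
        rcases hy with rfl | rfl | rfl <;>
          · apply Multiplicative.toAdd.injective
            simp [hkk]
      · simp [T] at hy
        rcases hy with rfl | rfl | rfl <;>
          · intro h
            have := congrArg Multiplicative.toAdd h
            simp [hk0] at this
  rw [hset]
  refine (Set.ncard_image_of_injective _ (Subtype.val_injective.comp e.symm.injective)).trans ?_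
  rw [Set.ncard_coe_finset, hT]

theorem comm_homocyclic {m : ℕ} (P : Sylow 2 G)
    (e : (P : Subgroup G) ≃* Multiplicative (ZMod (2 ^ m) × ZMod (2 ^ m))) :
    ∀ x ∈ (P : Subgroup G), ∀ y ∈ (P : Subgroup G), x * y = y * x := fun x hx y hy =>
  congrArg Subtype.val (e.injective (by rw [map_mul, map_mul, mul_comm]) :
    (⟨x, hx⟩ : (P : Subgroup G)) * ⟨y, hy⟩ = ⟨y, hy⟩ * ⟨x, hx⟩)

/-! ## Quaternion Sylow subgroups -/

section Quaternion

variable (S : Sylow 2 G)

/-- The subgroups of order four of the Sylow subgroup. -/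
def fourSet : Set (Subgroup G) := {A | A ≤ (S : Subgroup G) ∧ Nat.card A = 4}

variable {S} (e : (S : Subgroup G) ≃* QuaternionGroup 2)
include e

theorem q8_unique : ∀ s ∈ (S : Subgroup G), ∀ t ∈ (S : Subgroup G), s * s = 1 → t * t = 1 →
    s ≠ 1 → t ≠ 1 → s = t := by
  intro s hs t ht h1 h2 h3 h4
  have key : ∀ a b : QuaternionGroup 2, a * a = 1 → b * b = 1 → a ≠ 1 → b ≠ 1 → a = b := by decide
  have := key (e ⟨s, hs⟩) (e ⟨t, ht⟩)
    (by rw [← map_mul, ← map_one e]; exact congrArg e (Subtype.ext h1))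
    (by rw [← map_mul, ← map_one e]; exact congrArg e (Subtype.ext h2))
    (fun h => h3 (congrArg Subtype.val (e.injective (h.trans (map_one e).symm))))
    (fun h => h4 (congrArg Subtype.val (e.injective (h.trans (map_one e).symm))))
  exact congrArg Subtype.val (e.injective this)

theorem q8_pow_four : ∀ s ∈ (S : Subgroup G), s ^ 4 = 1 := by
  intro s hs
  have key : ∀ a : QuaternionGroup 2, a ^ 4 = 1 := by decide
  have h := key (e ⟨s, hs⟩)
  rw [← map_pow, ← map_one e] at h
  exact congrArg Subtype.val (e.injective h)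

theorem q8_conj : ∀ s ∈ (S : Subgroup G), ∀ x ∈ (S : Subgroup G),
    s * x * s⁻¹ = x ∨ s * x * s⁻¹ = x⁻¹ := by
  intro s hs x hx
  have key : ∀ a b : QuaternionGroup 2, a * b * a⁻¹ = b ∨ a * b * a⁻¹ = b⁻¹ := by decide
  rcases key (e ⟨s, hs⟩) (e ⟨x, hx⟩) with h | h
  · rw [← map_mul, ← map_inv, ← map_mul] at h
    exact Or.inl (congrArg Subtype.val (e.injective h))
  · rw [← map_mul, ← map_inv, ← map_mul, ← map_inv] at h
    exact Or.inr (congrArg Subtype.val (e.injective h))

theorem q8_inverting : ∀ x ∈ (S : Subgroup G), x * x ≠ 1 →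
    ∃ s ∈ (S : Subgroup G), s * x * s⁻¹ = x⁻¹ := by
  intro x hx h
  have key : ∀ b : QuaternionGroup 2, b * b ≠ 1 → ∃ a, a * b * a⁻¹ = b⁻¹ := by decide
  obtain ⟨a, ha⟩ := key (e ⟨x, hx⟩) (fun h' => h (congrArg Subtype.val
    (e.injective (show e (⟨x, hx⟩ * ⟨x, hx⟩) = e 1 by rw [map_mul, map_one]; exact h'))))
  refine ⟨(e.symm a).1, (e.symm a).2, ?_⟩
  have h2 : e (e.symm a * ⟨x, hx⟩ * (e.symm a)⁻¹) = e (⟨x, hx⟩⁻¹) := by
    rw [map_mul, map_mul, map_inv, map_inv, e.apply_symm_apply]; exact ha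
  exact congrArg Subtype.val (e.injective h2)

theorem q8_commute : ∀ x ∈ (S : Subgroup G), x * x ≠ 1 → ∀ s ∈ (S : Subgroup G), s * x = x * s →
    s ∈ Subgroup.zpowers x := by
  intro x hx h s hs hc
  have key : ∀ b : QuaternionGroup 2, b * b ≠ 1 → ∀ a, a * b = b * a →
      a = b ^ 0 ∨ a = b ^ 1 ∨ a = b ^ 2 ∨ a = b ^ 3 := by decide
  have := key (e ⟨x, hx⟩) (fun h' => h (congrArg Subtype.val
    (e.injective (show e (⟨x, hx⟩ * ⟨x, hx⟩) = e 1 by rw [map_mul, map_one]; exact h'))))
    (e ⟨s, hs⟩) (by rw [← map_mul, ← map_mul]; exact congrArg e (Subtype.ext hc))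
  rcases this with h | h | h | h <;>
    · rw [← map_pow] at h
      have h' := congrArg Subtype.val (e.injective h)
      simp only [SubgroupClass.coe_pow] at h'
      rw [h']
      exact Subgroup.npow_mem_zpowers x _

theorem orderOf_four {x : G} (hx : x ∈ (S : Subgroup G)) (h : x * x ≠ 1) : orderOf x = 4 := by
  haveI : Fact (Nat.Prime 2) := ⟨Nat.prime_two⟩
  exact orderOf_eq_prime_pow (p := 2) (n := 1) (by rw [pow_one, sq]; exact h) (q8_pow_four e x hx)

theorem card_zpowers_four {x : G} (hx : x ∈ (S : Subgroup G)) (h : x * x ≠ 1) :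
    Subgroup.zpowers x ∈ fourSet S :=
  ⟨Subgroup.zpowers_le.2 hx, by rw [Nat.card_zpowers, orderOf_four e hx h]⟩

theorem exists_zpowers_of_fourSet {A : Subgroup G} (hA : A ∈ fourSet S) :
    ∃ x ∈ (S : Subgroup G), x * x ≠ 1 ∧ A = Subgroup.zpowers x := by
  obtain ⟨x, hxA, hx⟩ : ∃ x ∈ A, x * x ≠ 1 := by
    by_contra hcon
    push Not at hcon
    haveI : Nontrivial A := Finite.one_lt_card_iff_nontrivial.1 (by rw [hA.2]; norm_num)
    obtain ⟨s, hs⟩ := exists_ne (1 : A)
    have hsub : (A : Set G) ⊆ {1, (s : G)} := fun a ha => by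
      by_cases h1 : a = 1
      · exact Or.inl h1
      · exact Or.inr (q8_unique e a (hA.1 ha) s (hA.1 s.2) (hcon a ha) (hcon s s.2) h1
          fun h => hs (Subtype.ext h))
    have h2 := Set.ncard_le_ncard hsub (Set.toFinite _)
    rw [← Nat.card_coe_set_eq, SetLike.coe_sort_coe, hA.2] at h2
    have h3 : ({1, (s : G)} : Set G).ncard ≤ 2 := (Set.ncard_insert_le _ _).trans (by simp)
    omega
  refine ⟨x, hA.1 hxA, hx, (Subgroup.eq_of_le_of_card_ge (Subgroup.zpowers_le.2 hxA) ?_).symm⟩
  rw [hA.2, Nat.card_zpowers, orderOf_four e (hA.1 hxA) hx]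

theorem ncard_fourSet : (fourSet S).ncard = 3 := by
  classical
  let F : QuaternionGroup 2 → Subgroup G := fun a => Subgroup.zpowers ((e.symm a : (S : Subgroup G)) : G)
  have hF : ∀ a b : QuaternionGroup 2, a * a ≠ 1 → F a = F b → b = a ^ 0 ∨ b = a ^ 1 ∨ b = a ^ 2 ∨ b = a ^ 3 := by
    intro a b ha h
    have hb : ((e.symm b : (S : Subgroup G)) : G) ∈ Subgroup.zpowers ((e.symm a : (S : Subgroup G)) : G) := by
      have h' : F b = F a := h.symm
      show _ ∈ F a
      rw [← h']
      exact Subgroup.mem_zpowers _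
    obtain ⟨i, hi⟩ := (Submonoid.mem_powers_iff _ _).1 (mem_powers_iff_mem_zpowers.2 hb)
    have h2 : a ^ i = b := by
      apply e.symm.injective
      rw [map_pow]
      exact Subtype.ext (by simpa using hi)
    have key : ∀ a : QuaternionGroup 2, a ^ 4 = 1 := by decide
    rw [← h2, pow_eq_pow_mod i (key a)]
    have := Nat.mod_lt i (show 4 > 0 by norm_num)
    interval_cases hmod : i % 4 <;> simp
  have key3 : ∀ b : QuaternionGroup 2, b * b ≠ 1 →
      b = QuaternionGroup.a 1 ∨ b = (QuaternionGroup.a 1)⁻¹ ∨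
      b = QuaternionGroup.xa 0 ∨ b = (QuaternionGroup.xa 0)⁻¹ ∨
      b = QuaternionGroup.xa 1 ∨ b = (QuaternionGroup.xa 1)⁻¹ := by decide
  have hinv : ∀ a, F a⁻¹ = F a := fun a => by
    show Subgroup.zpowers _ = Subgroup.zpowers _
    rw [map_inv, Subgroup.coe_inv, Subgroup.zpowers_inv]
  have hset : fourSet S = {F (QuaternionGroup.a 1), F (QuaternionGroup.xa 0), F (QuaternionGroup.xa 1)} := by
    ext A
    constructor
    · intro hA
      obtain ⟨x, hx, hx2, rfl⟩ := exists_zpowers_of_fourSet e hA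
      have hb : e ⟨x, hx⟩ * e ⟨x, hx⟩ ≠ 1 := fun h => hx2 (congrArg Subtype.val
        (e.injective (show e (⟨x, hx⟩ * ⟨x, hx⟩) = e 1 by rw [map_mul, map_one]; exact h)))
      have hx' : Subgroup.zpowers x = F (e ⟨x, hx⟩) := by simp [F]
      rw [hx']
      rcases key3 _ hb with h | h | h | h | h | h <;> simp [h, hinv]
    · have hmem : ∀ a : QuaternionGroup 2, a * a ≠ 1 → F a ∈ fourSet S := fun a ha => by
        refine card_zpowers_four e (e.symm a).2 fun h => ha ?_
        apply e.symm.injective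
        rw [map_mul, map_one]
        exact Subtype.ext h
      rintro (rfl | rfl | rfl) <;> exact hmem _ (by decide)
  have h12 : F (QuaternionGroup.a 1) ≠ F (QuaternionGroup.xa 0) := fun h =>
    absurd (hF _ _ (by decide) h) (by decide)
  have h13 : F (QuaternionGroup.a 1) ≠ F (QuaternionGroup.xa 1) := fun h =>
    absurd (hF _ _ (by decide) h) (by decide)
  have h23 : F (QuaternionGroup.xa 0) ≠ F (QuaternionGroup.xa 1) := fun h =>
    absurd (hF _ _ (by decide) h) (by decide)
  rw [hset, Set.ncard_insert_of_notMem (by simp [h12, h13]), Set.ncard_pair h23]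

/-- Without a normal complement the subgroups of order four are conjugate in the normalizer. -/
theorem fourSet_transitive
    (hnc : ∀ N : Subgroup G, N.Normal → ¬ Subgroup.IsComplement' N (S : Subgroup G))
    {A B : Subgroup G} (hA : A ∈ fourSet S) (hB : B ∈ fourSet S) :
    ∃ n ∈ Subgroup.normalizer ((S : Subgroup G) : Set G), B = A.map (MulAut.conj n).toMonoidHom := by
  haveI : Fact (Nat.Prime 2) := ⟨Nat.prime_two⟩
  have hconj : ∀ n ∈ Subgroup.normalizer ((S : Subgroup G) : Set G), ∀ A ∈ fourSet S,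
      A.map (MulAut.conj n).toMonoidHom ∈ fourSet S := by
    intro n hn A hA
    refine ⟨?_, ?_⟩
    · rintro _ ⟨a, ha, rfl⟩
      exact (Subgroup.mem_normalizer_iff.1 hn a).1 (hA.1 ha)
    · rw [Subgroup.card_map_of_injective (MulAut.conj n).injective]; exact hA.2
  have hmapmap : ∀ (a b : G) (A : Subgroup G),
      (A.map (MulAut.conj b).toMonoidHom).map (MulAut.conj a).toMonoidHom =
        A.map (MulAut.conj (a * b)).toMonoidHom := fun a b A => by
    rw [Subgroup.map_map]
    congr 1
    exact MonoidHom.ext fun x => by simp [mul_assoc]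
  have hmapone : ∀ A : Subgroup G, A.map (MulAut.conj (1 : G)).toMonoidHom = A := fun A => by
    rw [show (MulAut.conj (1 : G)).toMonoidHom = MonoidHom.id G from MonoidHom.ext fun x => by simp,
      Subgroup.map_id]
  by_cases hfix : ∀ n ∈ Subgroup.normalizer ((S : Subgroup G) : Set G), ∀ A ∈ fourSet S,
      A.map (MulAut.conj n).toMonoidHom = A
  · exfalso
    have hfus : ∀ x ∈ S, ∀ g : G, g * x * g⁻¹ ∈ S → ∃ z ∈ S, z * x * z⁻¹ = g * x * g⁻¹ := by
      intro x hx g hgx
      by_cases hx2 : x * x = 1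
      · by_cases hx1 : x = 1
        · exact ⟨1, one_mem _, by rw [hx1]; group⟩
        · refine ⟨1, one_mem _, ?_⟩
          rw [one_mul, inv_one, mul_one]
          refine q8_unique e x hx _ hgx hx2 ?_ hx1 fun h => hx1 (conj_eq_one_iff.1 h)
          calc g * x * g⁻¹ * (g * x * g⁻¹) = g * (x * x) * g⁻¹ := by group
            _ = 1 := by rw [hx2, mul_one, mul_inv_cancel]
      set y := g * x * g⁻¹ with hy
      have hy2 : y * y ≠ 1 := fun h => hx2 (conj_eq_one_iff.1 (show g * (x * x) * g⁻¹ = 1 by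
        rw [← h, hy]; group))
      set Y := Subgroup.zpowers y with hY
      have hnorm : ∀ (X : Subgroup G), X ∈ fourSet S → (S : Subgroup G) ≤ Subgroup.normalizer (X : Set G) := by
        intro X hX s hs
        obtain ⟨w, hw, hw2, rfl⟩ := exists_zpowers_of_fourSet e hX
        rw [Subgroup.mem_normalizer_iff]
        intro v
        have hmapw : (Subgroup.zpowers w).map (MulAut.conj s).toMonoidHom = Subgroup.zpowers w := by
          rw [MonoidHom.map_zpowers]
          rcases q8_conj e s hs w hw with h | h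
          · simp [h]
          · simp [h, Subgroup.zpowers_inv]
        conv_rhs => rw [← hmapw]
        constructor
        · intro hv; exact ⟨v, hv, rfl⟩
        · rintro ⟨u, hu, hue⟩
          rwa [show v = u from mul_left_cancel (mul_right_cancel hue.symm)]
      have hSY : (S : Subgroup G) ≤ Subgroup.normalizer (Y : Set G) :=
        hnorm Y (card_zpowers_four e hgx hy2)
      have hgSY : ((g • S : Sylow 2 G) : Subgroup G) ≤ Subgroup.normalizer (Y : Set G) := by
        rintro _ ⟨s, hs, rfl⟩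
        have hsX := hnorm _ (card_zpowers_four e hx hx2) hs
        rw [Subgroup.mem_normalizer_iff] at hsX ⊢
        intro v
        have hYX : ∀ v, v ∈ Y ↔ g⁻¹ * v * g ∈ Subgroup.zpowers x := fun v => by
          have hm : Y = (Subgroup.zpowers x).map (MulAut.conj g).toMonoidHom := by
            rw [MonoidHom.map_zpowers]; rfl
          rw [hm]
          constructor
          · rintro ⟨u, hu, rfl⟩; simpa [mul_assoc] using hu
          · exact fun h => ⟨_, h, by simp [mul_assoc]⟩
        rw [hYX, hYX, hsX (g⁻¹ * v * g)]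
        show s * (g⁻¹ * v * g) * s⁻¹ ∈ _ ↔ g⁻¹ * (g * s * g⁻¹ * v * (g * s * g⁻¹)⁻¹) * g ∈ _
        rw [show g⁻¹ * (g * s * g⁻¹ * v * (g * s * g⁻¹)⁻¹) * g = s * (g⁻¹ * v * g) * s⁻¹ by group]
      obtain ⟨h, hh⟩ := MulAction.exists_smul_eq (Subgroup.normalizer (Y : Set G))
        ((g • S : Sylow 2 G).subtype hgSY) (S.subtype hSY)
      have hN : (h : G) * g ∈ Subgroup.normalizer ((S : Subgroup G) : Set G) := by
        simp_rw [Sylow.smul_subtype, Subgroup.smul_def, smul_smul] at hh
        exact Sylow.smul_eq_iff_mem_normalizer.mp (Sylow.subtype_injective hh)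
      have h1 := hfix _ hN _ (card_zpowers_four e hx hx2)
      have h2 : y ∈ Subgroup.zpowers x := by
        rw [← h1, ← hmapmap, MonoidHom.map_zpowers]
        have : Subgroup.zpowers ((MulAut.conj g).toMonoidHom x) = Y := rfl
        rw [this]
        have hyh : (h : G)⁻¹ * y * h ∈ Y :=
          (Subgroup.mem_normalizer_iff''.1 h.2 y).1 (Subgroup.mem_zpowers y)
        exact ⟨_, hyh, by simp [mul_assoc]⟩
      obtain ⟨i, hi⟩ := (Submonoid.mem_powers_iff _ _).1 (mem_powers_iff_mem_zpowers.2 h2)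
      rw [pow_eq_pow_mod i (q8_pow_four e x hx)] at hi
      have := Nat.mod_lt i (show 4 > 0 by norm_num)
      interval_cases hmod : i % 4
      · exact absurd (by rw [← hi]; simp) hy2
      · exact ⟨1, one_mem _, by rw [← hi]; group⟩
      · exact absurd (by rw [← hi]; calc x ^ 2 * x ^ 2 = x ^ 4 := by group
          _ = 1 := q8_pow_four e x hx) hy2
      · obtain ⟨s, hs, hsx⟩ := q8_inverting e x hx hx2
        refine ⟨s, hs, ?_⟩
        rw [hsx, ← hi]
        exact inv_eq_of_mul_eq_one_right (by rw [← pow_succ', q8_pow_four e x hx])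
    have hc := Solv.isComplement'_pPrimeCore (Solv.hasNormalPComplement_of_fusion S hfus) S
    exact hnc _ inferInstance hc
  push Not at hfix
  obtain ⟨g, hg, A₀, hA₀, hgA₀⟩ := hfix
  obtain ⟨m, hm, hgm⟩ := exists_odd_pow_mem S hg
  set f : Subgroup G → Subgroup G := fun X => X.map (MulAut.conj g).toMonoidHom with hf
  have hiter : ∀ (i : ℕ) (X : Subgroup G), f^[i] X = X.map (MulAut.conj (g ^ i)).toMonoidHom := by
    intro i
    induction i with
    | zero => intro X; rw [pow_zero, hmapone]; rfl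
    | succ i ih => intro X; rw [Function.iterate_succ_apply', ih, hf]; simp only; rw [hmapmap, ← pow_succ']
  have hper : ∀ X ∈ fourSet S, f^[m] X = X := by
    intro X hX
    rw [hiter]
    obtain ⟨w, hw, hw2, rfl⟩ := exists_zpowers_of_fourSet e hX
    rw [MonoidHom.map_zpowers]
    rcases q8_conj e _ hgm w hw with h | h
    · simp only [MulEquiv.coe_toMonoidHom, MulAut.conj_apply, h]
    · simp only [MulEquiv.coe_toMonoidHom, MulAut.conj_apply, h, Subgroup.zpowers_inv]
  have hinj : Function.Injective f := Subgroup.map_injective (MulAut.conj g).injective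
  have hmove : f A ≠ A := fun h =>
    hgA₀ (three_fix (ncard_fourSet e) (fun X hX => hconj g hg X hX) hinj hm hper hA h A₀ hA₀)
  rcases three_orbit (ncard_fourSet e) (fun X hX => hconj g hg X hX) hinj hm hper hA hmove B hB with
    h | h | h
  · exact ⟨1, one_mem _, by rw [h, hmapone]⟩
  · exact ⟨g, hg, h⟩
  · exact ⟨g * g, mul_mem hg hg, by rw [h, ← hmapmap]⟩

end Quaternion

end Cfsg.Agent.Block.SmallTwo
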