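import Cfsg.Agent.S0915
import Cfsg.Agent.Lib.Block.PrincipalQuotient

/-!
# The principal block of a `p`-soluble group
-/

set_option autoImplicit false
set_option linter.style.haveILetI false
set_option linter.unusedVariables false

namespace Cfsg.Agent.Block

open Cfsg Cfsg.Agent.Char
open scoped Classical

universe u

variable {G : Type u} [Group G] [Finite G] {p : ℕ} {M : Ideal AlgInt}

/-- The principal block of a `p`-soluble group consists of the characters trivial on the `p'`-core. -/
theorem mem_principal_iff_of_isPSolvable [Fact p.Prime] (hM : IsPModular p M) (hs : IsPSolvable p G)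
    (χ : IrrCharacter G) :
    χ ∈ principalBlock M G ↔ ∀ n ∈ pPrimeCore p G, (χ : G → ℂ) n = (χ : G → ℂ) 1 := by
  haveI := prime_of_isPModular hM
  haveI := Fintype.ofFinite G
  haveI := Cfsg.Agent.Solv.pPrimeCore_characteristic p G
  set N := pPrimeCore p G with hNdef
  have hN : ¬ p ∣ Nat.card N :=
    (Fact.out : p.Prime).coprime_iff_not_dvd.1 (Cfsg.Agent.Solv.card_pPrimeCore_coprime p G).symm
  refine ⟨fun h n hn => apply_eq_one_of_mem_principal hM N hN h hn, fun h => ?_⟩
  obtain ⟨φ, hφ⟩ := exists_factor_quotient N χ fun g hg y =>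
    (IsCharacter.apply_mul_of_eq_one (IsIrrCharacter.isCharacter χ.2) (h g hg) y).1
  have e : inflate N φ = χ := Subtype.ext (funext hφ)
  rw [← e, inflate_mem_principal_iff' hM N hN φ]
  exact Cfsg.Agent.S0915.result p M hM (hcore := Cfsg.Agent.Solv.pPrimeCore_quotient_pPrimeCore p) (hsolv := Cfsg.Agent.Solv.isPSolvable_quotient hs N)
    ⟨fun _ => 1, isIrrCharacter_one⟩ φ

end Cfsg.Agent.Block
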