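import Cfsg.Agent.Lib.Block.BrauerFeit
import Cfsg.Agent.Lib.Block.SecondMain
import Cfsg.Agent.Lib.Block.Congr
import Cfsg.Agent.Lib.Block.Rank
import Cfsg.Agent.Lib.Block.AlgNorm

/-!
# Counting height zero characters by a subsection

For a `p`-element `y` and a block `b` of its centraliser inducing `B`, the number of height zero
characters of `B` squared is at most `p ^ (2 * defect b)` times the rank of `b`.
-/

set_option autoImplicit false

open Cfsg Cfsg.Agent.Char
open scoped ComplexConjugate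

namespace Cfsg.Agent.Block

universe u

local notation "CG(" y ")" => Subgroup.centralizer ({y} : Set _)

variable {G : Type u} [Group G] [Finite G] {M : Ideal AlgInt} {p : ℕ}

/-- The coefficients of the generalised decomposition of a character at `y`. -/
noncomputable def subCoeff (y : G) (χ : G → ℂ)
    (ξ : Subgroup.centralizer ({y} : Set G) → ℂ) : ℂ :=
  haveI := Fintype.ofFinite (Subgroup.centralizer ({y} : Set G))
  classInner (fun c : Subgroup.centralizer ({y} : Set G) => χ (y * (c : G))) ξ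

theorem exists_subCoeff_eq (hM : IsPModular p M) {y : G} (hy : ∃ k : ℕ, orderOf y = p ^ k)
    [Fintype (Subgroup.centralizer ({y} : Set G))]
    (χ : IrrCharacter G) (ξ : IrrCharacter (Subgroup.centralizer ({y} : Set G))) :
    ∃ (n : ℕ) (s : ℂ), classInner (fun c : Subgroup.centralizer ({y} : Set G) => (χ : G → ℂ) c)
        (ξ : Subgroup.centralizer ({y} : Set G) → ℂ) = n ∧
      subCoeff y (χ : G → ℂ) (ξ : Subgroup.centralizer ({y} : Set G) → ℂ) = s * n ∧
      IsIntegral ℤ s ∧ ∃ k : ℕ, s ^ p ^ k = 1 := by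
  obtain ⟨n, hn⟩ := exists_classInner_nat
    (IsCharacter.restrict (IsIrrCharacter.isCharacter χ.2) (Subgroup.centralizer ({y} : Set G))) ξ.2
  obtain ⟨m, ρ, hρ, hρξ⟩ := ξ.2
  set y' : Subgroup.centralizer ({y} : Set G) := ⟨y, mem_centralizer_singleton.2 (Commute.refl y)⟩
  have hy' : ∀ c, y'⁻¹ * c = c * y'⁻¹ := fun c => by
    have : Commute y' c := Subtype.ext (mem_centralizer_singleton.1 c.2).eq
    exact this.inv_left.eq
  obtain ⟨s, hs, hsc⟩ := exists_scalar_of_central ρ hρ hy'
  obtain ⟨k, hk⟩ := hy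
  have hs' : s ^ p ^ k = 1 := by
    rwa [orderOf_inv, ← Subgroup.orderOf_coe, hk] at hs
  have hint : IsIntegral ℤ s := IsIntegral.of_pow (pow_pos hM.1.pos k) (hs' ▸ isIntegral_one)
  have hnorm : ‖s‖ = 1 := Complex.norm_eq_one_of_pow_eq_one hs' (pow_ne_zero _ hM.1.ne_zero)
  have hsi : conj s = s⁻¹ := (Complex.inv_eq_conj hnorm).symm
  have hs2 : (s⁻¹) ^ p ^ k = 1 := by rw [inv_pow, hs', inv_one]
  refine ⟨n, s⁻¹, hn, ?_, IsIntegral.of_pow (pow_pos hM.1.pos k) (hs2 ▸ isIntegral_one),
    k, hs2⟩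
  rw [subCoeff, ← hn, ← hsi]
  simp only [classInner, Finset.mul_sum]
  refine Finset.sum_equiv (Equiv.mulLeft y') (fun _ => by simp) fun c _ => ?_
  have h1 : (ξ : Subgroup.centralizer ({y} : Set G) → ℂ) c =
      s * (ξ : Subgroup.centralizer ({y} : Set G) → ℂ) (y' * c) := by
    rw [← hρξ, ← hsc, inv_mul_cancel_left]
  show _ = conj s * ((_ : ℂ) * ((χ : G → ℂ) (y * (c : G)) *
    conj ((ξ : Subgroup.centralizer ({y} : Set G) → ℂ) (y' * c))))
  rw [h1, map_mul]
  ring

/-- The block part of a translated character. -/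
theorem blockPart_translate_eq_sum {y : G} [Fintype (Subgroup.centralizer ({y} : Set G))]
    (χ : G → ℂ) (b : Set (IrrCharacter (Subgroup.centralizer ({y} : Set G))))
    (c : Subgroup.centralizer ({y} : Set G)) :
    blockPart b (fun k : Subgroup.centralizer ({y} : Set G) => χ (y * (k : G))) c =
      ∑ ξ ∈ b.toFinite.toFinset, subCoeff y χ (ξ : Subgroup.centralizer ({y} : Set G) → ℂ) *
        (ξ : Subgroup.centralizer ({y} : Set G) → ℂ) c := by
  simp only [blockPart, subCoeff, finsum_mem_eq_finite_toFinset_sum _ b.toFinite]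

theorem isConj_translate_iff (hM : IsPModular p M) {y : G} (hy : ∃ k : ℕ, orderOf y = p ^ k)
    {k l : Subgroup.centralizer ({y} : Set G)} (hk : ¬ p ∣ orderOf k) (hl : ¬ p ∣ orderOf l) :
    IsConj (y * (k : G)) (y * (l : G)) ↔ IsConj k l := by
  have hpk : ∀ m : Subgroup.centralizer ({y} : Set G), ¬ p ∣ orderOf m → IsPPart p (y * (m : G)) y :=
    fun m hm => ⟨(m : G), rfl, mem_centralizer_singleton.1 m.2, hy, by rwa [Subgroup.orderOf_coe]⟩
  constructor
  · intro h
    obtain ⟨t, ht⟩ := isConj_iff.1 h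
    have h1 : t * (y * (k : G)) * t⁻¹ = t * y * t⁻¹ * (t * (k : G) * t⁻¹) := by group
    have h2 : IsPPart p (y * (l : G)) (t * y * t⁻¹) := by
      refine ⟨t * (k : G) * t⁻¹, by rw [← h1, ht],
        Commute.map (mem_centralizer_singleton.1 k.2) (MulAut.conj t).toMonoidHom, ?_, ?_⟩
      · obtain ⟨j, hj⟩ := hy
        exact ⟨j, by rw [orderOf_conj_eq, hj]⟩
      · rwa [orderOf_conj_eq, Subgroup.orderOf_coe]
    have h3 : t * y * t⁻¹ = y := isPPart_unique hM.1 h2 (hpk l hl)
    have htC : t ∈ Subgroup.centralizer ({y} : Set G) :=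
      mem_centralizer_singleton.2 (show y * t = t * y from (mul_inv_eq_iff_eq_mul.1 h3).symm)
    refine isConj_iff.2 ⟨⟨t, htC⟩, Subtype.ext (mul_left_cancel (a := y) ?_)⟩
    show y * (t * (k : G) * t⁻¹) = y * (l : G)
    rw [← ht, h1, h3]
  · intro h
    obtain ⟨t, ht⟩ := isConj_iff.1 h
    refine isConj_iff.2 ⟨(t : G), ?_⟩
    have hc : (t : G) * y * (t : G)⁻¹ = y := mul_inv_eq_iff_eq_mul.2 (mem_centralizer_singleton.1 t.2).eq.symm
    rw [show (t : G) * (y * (k : G)) * (t : G)⁻¹ = ((t : G) * y * (t : G)⁻¹) * ((t : G) * (k : G) * (t : G)⁻¹) by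
      group, hc, ← ht]
    rfl

theorem card_centralizer_translate {y : G} (hM : IsPModular p M) (hy : ∃ k : ℕ, orderOf y = p ^ k)
    {k : Subgroup.centralizer ({y} : Set G)} (hk : ¬ p ∣ orderOf k) :
    Nat.card (Subgroup.centralizer ({y * (k : G)} : Set G)) =
      Nat.card (Subgroup.centralizer ({k} : Set (Subgroup.centralizer ({y} : Set G)))) := by
  have hyk : Commute y (k : G) := mem_centralizer_singleton.1 k.2
  have hmem : ∀ t : G, t ∈ Subgroup.centralizer ({y * (k : G)} : Set G) →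
      t ∈ Subgroup.centralizer ({y} : Set G) ∧ Commute (k : G) t := fun t ht => by
    have ht' : t * (y * (k : G)) * t⁻¹ = y * (k : G) :=
      mul_inv_eq_iff_eq_mul.2 (mem_centralizer_singleton.1 ht).eq.symm
    have h1 : t * (y * (k : G)) * t⁻¹ = t * y * t⁻¹ * (t * (k : G) * t⁻¹) := by group
    have h2 : IsPPart p (y * (k : G)) (t * y * t⁻¹) := by
      refine ⟨t * (k : G) * t⁻¹, by rw [← h1, ht'], Commute.map hyk (MulAut.conj t).toMonoidHom, ?_, ?_⟩
      · obtain ⟨j, hj⟩ := hy
        exact ⟨j, by rw [orderOf_conj_eq, hj]⟩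
      · rwa [orderOf_conj_eq, Subgroup.orderOf_coe]
    have h3 : t * y * t⁻¹ = y :=
      isPPart_unique hM.1 h2 ⟨(k : G), rfl, hyk, hy, by rwa [Subgroup.orderOf_coe]⟩
    have hty : Commute y t := (mul_inv_eq_iff_eq_mul.1 h3).symm
    refine ⟨mem_centralizer_singleton.2 hty, ?_⟩
    rw [h1, h3] at ht'
    exact (mul_inv_eq_iff_eq_mul.1 (mul_left_cancel ht')).symm
  exact Nat.card_congr
    { toFun := fun t => ⟨⟨t.1, (hmem t.1 t.2).1⟩, mem_centralizer_singleton.2 (Subtype.ext (hmem t.1 t.2).2.eq)⟩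
      invFun := fun t => ⟨(t.1 : G), mem_centralizer_singleton.2
        ((mem_centralizer_singleton.1 t.1.2).mul_left
          (show Commute (k : G) (t.1 : G) from congrArg Subtype.val (mem_centralizer_singleton.1 t.2).eq))⟩
      left_inv := fun _ => rfl
      right_inv := fun _ => rfl }

/-- The columns of a subsection are orthogonal as the columns of its block. -/
theorem sum_subsection_mul_conj (hM : IsPModular p M) {B : Set (IrrCharacter G)} (hB : IsPBlock M B)
    {y : G} (hy : ∃ k : ℕ, orderOf y = p ^ k)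
    {b : Set (IrrCharacter (CG(y)))}
    (hind : IsInducedBlock M (CG(y)) b B)
    {c c' : CG(y)} (hc : ¬ p ∣ orderOf c) (hc' : ¬ p ∣ orderOf c') :
    ∑ χ ∈ B.toFinite.toFinset,
      blockPart b (fun k : CG(y) => (χ : G → ℂ) (y * (k : G))) c *
        conj (blockPart b (fun k : CG(y) => (χ : G → ℂ) (y * (k : G))) c') =
      blockKernel b c c' := by
  classical
  haveI := prime_of_isPModular hM
  haveI := Fintype.ofFinite CG(y)
  haveI := Fintype.ofFinite (IrrCharacter G)
  haveI := Fintype.ofFinite (IrrCharacter CG(y))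
  have hout : ∀ χ : IrrCharacter G, χ ∉ B →
      blockPart b (fun k : CG(y) => (χ : G → ℂ) (y * (k : G))) c = 0 := by
    intro χ hχ
    refine blockPart_translate_eq_zero hM hy (isPBlock_blockOf χ) (self_mem_blockOf χ) hind.1 ?_ hc
    intro h
    obtain ⟨ξ, hξ⟩ := isPBlock_nonempty hind.1
    obtain ⟨φ, hφ⟩ := isPBlock_nonempty hB
    apply hχ
    rw [isPBlock_mem_iff hB hφ]
    intro g
    simpa using memLocalIdeal_sub (h.2.2 ξ hξ χ (self_mem_blockOf χ) g) (hind.2.2 ξ hξ φ hφ g)
  rw [Finset.sum_subset (Finset.subset_univ _) (fun χ _ hχ => by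
    rw [hout χ (fun h => hχ (B.toFinite.mem_toFinset.2 h)), zero_mul])]
  have hlin : ∀ (θ : CG(y) → ℂ) (d : CG(y)), ¬ p ∣ orderOf d → blockPart b θ d =
      ∑ k : CG(y), (if p ∣ orderOf k then 0 else θ k) * ((Nat.card CG(y) : ℂ)⁻¹ * blockKernel b d k) := by
    intro θ d hd
    have h := blockPart_regular (p := p) hM hind.1 θ d
    rw [if_neg hd] at h
    rw [← h, blockPart_eq_sum, Finset.mul_sum]
    exact Finset.sum_congr rfl fun k _ => by ring
  have e : ∀ χ : IrrCharacter G,
      blockPart b (fun k : CG(y) => (χ : G → ℂ) (y * (k : G))) c *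
        conj (blockPart b (fun k : CG(y) => (χ : G → ℂ) (y * (k : G))) c') =
      ∑ k : CG(y), ∑ l : CG(y), (((Nat.card CG(y) : ℂ)⁻¹ * blockKernel b c k) * conj ((Nat.card CG(y) : ℂ)⁻¹ * blockKernel b c' l)) *
        if p ∣ orderOf k ∨ p ∣ orderOf l then 0 else (χ : G → ℂ) (y * (k : G)) * conj ((χ : G → ℂ) (y * (l : G))) := by
    intro χ
    rw [hlin _ c hc, hlin _ c' hc', map_sum, Finset.sum_mul_sum]
    refine Finset.sum_congr rfl fun k _ => Finset.sum_congr rfl fun l _ => ?_
    by_cases h1 : p ∣ orderOf k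
    · simp [h1]
    by_cases h2 : p ∣ orderOf l
    · simp [h2]
    simp only [h1, h2, or_self, if_false, map_mul]
    ring
  have e' : ∀ ξ : IrrCharacter CG(y),
      blockPart b (ξ : CG(y) → ℂ) c * conj (blockPart b (ξ : CG(y) → ℂ) c') =
      ∑ k : CG(y), ∑ l : CG(y), (((Nat.card CG(y) : ℂ)⁻¹ * blockKernel b c k) * conj ((Nat.card CG(y) : ℂ)⁻¹ * blockKernel b c' l)) *
        if p ∣ orderOf k ∨ p ∣ orderOf l then 0 else (ξ : CG(y) → ℂ) k * conj ((ξ : CG(y) → ℂ) l) := by
    intro ξ
    rw [hlin _ c hc, hlin _ c' hc', map_sum, Finset.sum_mul_sum]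
    refine Finset.sum_congr rfl fun k _ => Finset.sum_congr rfl fun l _ => ?_
    by_cases h1 : p ∣ orderOf k
    · simp [h1]
    by_cases h2 : p ∣ orderOf l
    · simp [h2]
    simp only [h1, h2, or_self, if_false, map_mul]
    ring
  have hkern : ∀ k l : CG(y), (∑ χ : IrrCharacter G,
      if p ∣ orderOf k ∨ p ∣ orderOf l then 0 else (χ : G → ℂ) (y * (k : G)) * conj ((χ : G → ℂ) (y * (l : G)))) =
      ∑ ξ : IrrCharacter CG(y),
        if p ∣ orderOf k ∨ p ∣ orderOf l then 0 else (ξ : CG(y) → ℂ) k * conj ((ξ : CG(y) → ℂ) l) := by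
    intro k l
    by_cases h : p ∣ orderOf k ∨ p ∣ orderOf l
    · simp [h]
    simp only [h, if_false]
    push Not at h
    rw [second_orthogonality, second_orthogonality]
    rw [card_centralizer_translate hM hy h.1]
    exact if_congr (isConj_translate_iff hM hy h.1 h.2) rfl rfl
  have hswap : (∑ χ : IrrCharacter G,
      blockPart b (fun k : CG(y) => (χ : G → ℂ) (y * (k : G))) c *
        conj (blockPart b (fun k : CG(y) => (χ : G → ℂ) (y * (k : G))) c')) =
      ∑ ξ : IrrCharacter CG(y), blockPart b (ξ : CG(y) → ℂ) c * conj (blockPart b (ξ : CG(y) → ℂ) c') := by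
    rw [Finset.sum_congr rfl fun χ _ => e χ, Finset.sum_congr rfl fun ξ _ => e' ξ,
      Finset.sum_comm (γ := IrrCharacter G), Finset.sum_comm (γ := IrrCharacter CG(y))]
    refine Finset.sum_congr rfl fun k _ => ?_
    rw [Finset.sum_comm (γ := IrrCharacter G), Finset.sum_comm (γ := IrrCharacter CG(y))]
    refine Finset.sum_congr rfl fun l _ => ?_
    rw [← Finset.mul_sum, ← Finset.mul_sum, hkern]
  rw [hswap]
  have hb' : ∀ (ξ : IrrCharacter CG(y)) (d : CG(y)), blockPart b (ξ : CG(y) → ℂ) d = if ξ ∈ b then (ξ : CG(y) → ℂ) d else 0 := by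
    intro ξ d
    simp only [blockPart, finsum_mem_eq_finite_toFinset_sum _ b.toFinite]
    by_cases h : ξ ∈ b
    · rw [if_pos h, Finset.sum_eq_single ξ]
      · convert one_mul _
        convert IsIrrCharacter.classInner_self ξ.2
      · intro η _ hne
        refine mul_eq_zero_of_left ?_ _
        convert IsIrrCharacter.classInner_eq_zero ξ.2 η.2 fun e => hne (Subtype.ext e.symm)
      · intro h'; exact absurd (b.toFinite.mem_toFinset.2 h) h'
    · rw [if_neg h]
      refine Finset.sum_eq_zero fun η hη => mul_eq_zero_of_left ?_ _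
      convert IsIrrCharacter.classInner_eq_zero ξ.2 η.2
        fun e => h (Subtype.ext e ▸ b.toFinite.mem_toFinset.1 hη)
  rw [blockKernel, finsum_mem_eq_finite_toFinset_sum _ b.toFinite]
  simp only [hb']
  rw [← Finset.sum_subset (Finset.subset_univ b.toFinite.toFinset) (fun ξ _ hξ => by
    rw [if_neg (fun h => hξ (b.toFinite.mem_toFinset.2 h)), zero_mul])]
  exact Finset.sum_congr rfl fun ξ hξ => by rw [if_pos (b.toFinite.mem_toFinset.1 hξ), if_pos (b.toFinite.mem_toFinset.1 hξ)]

/-- `k₀(B) ^ 2 ≤ p ^ (2 d(b)) l(b)` for a subsection `(y, b)`. -/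
theorem card_height_zero_sq_le (hM : IsPModular p M) {B : Set (IrrCharacter G)} (hB : IsPBlock M B)
    {y : G} (hy : ∃ k : ℕ, orderOf y = p ^ k)
    {b : Set (IrrCharacter (CG(y)))}
    (hind : IsInducedBlock M (CG(y)) b B) :
    Nat.card {χ : IrrCharacter G // χ ∈ B ∧ blockHeight p B (χ : G → ℂ) = 0} ^ 2 ≤
      p ^ (2 * blockDefect p b) * blockRank p b := by
  classical
  haveI := prime_of_isPModular hM
  haveI := Fintype.ofFinite G
  haveI := Fintype.ofFinite CG(y)
  haveI := Fintype.ofFinite (IrrCharacter CG(y))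
  haveI := Fintype.ofFinite (IrrCharacter G)
  haveI := Fintype.ofFinite (ConjClasses CG(y))
  obtain ⟨φ, hφ⟩ := isPBlock_nonempty hind.1
  set q : ℂ := ((p ^ blockDefect p b : ℕ) : ℂ) * (Nat.card CG(y) : ℂ)⁻¹ with hq
  set X : IrrCharacter G → CG(y) → ℂ :=
    fun χ => blockPart b (fun k : CG(y) => (χ : G → ℂ) (y * (k : G))) with hX
  set m : IrrCharacter G → IrrCharacter G → ℂ := fun χ ψ =>
    q * ∑ c : CG(y), if p ∣ orderOf c then 0 else X χ c * conj (X ψ c) with hm
  have hq0 : conj q = q := by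
    simp [hq, map_mul, map_inv₀]
  -- expansion in the characters of the block
  have hexp : ∀ χ ψ, m χ ψ = ∑ ξ ∈ b.toFinite.toFinset, ∑ η ∈ b.toFinite.toFinset,
      subCoeff y (χ : G → ℂ) (ξ : CG(y) → ℂ) * conj (subCoeff y (ψ : G → ℂ) (η : CG(y) → ℂ)) *
        (((p ^ blockDefect p b : ℕ) : ℂ) * regInner p (ξ : CG(y) → ℂ) (η : CG(y) → ℂ) / (Nat.card CG(y) : ℂ)) := by
    intro χ ψ
    simp only [hm, hX, blockPart_translate_eq_sum, regInner, Finset.mul_sum, Finset.sum_div]
    refine Eq.trans ?_ (Finset.sum_congr rfl fun ξ _ => Finset.sum_comm)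
    rw [Finset.sum_comm]
    refine Finset.sum_congr rfl fun c _ => ?_
    rw [Finset.sum_comm]
    by_cases h : p ∣ orderOf c
    · simp [h]
    · simp only [h, if_false, map_sum, map_mul, Finset.sum_mul, Finset.mul_sum, hq]
      refine Finset.sum_congr rfl fun ξ _ => Finset.sum_congr rfl fun η _ => ?_
      field_simp
  -- membership in the cyclotomic field, integrality
  have hN : Nat.card G ≠ 0 := Nat.card_pos.ne'
  have hval : ∀ (H : Subgroup G) (θ : IrrCharacter H) (h : H), (θ : H → ℂ) h ∈ cycF (Nat.card G) :=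
    fun H θ h => character_mem_cycF (IsIrrCharacter.isCharacter θ.2) (Subtype.ext (by simp))
  have hXK : ∀ χ c, X χ c ∈ cycF (Nat.card G) := by
    intro χ c
    simp only [hX, blockPart_translate_eq_sum, subCoeff, classInner]
    refine sum_mem fun ξ _ => mul_mem (mul_mem (inv_mem (natCast_mem _ _)) (sum_mem fun k _ => mul_mem
      (character_mem_cycF (IsIrrCharacter.isCharacter χ.2) pow_card_eq_one') (conj_mem_cycF (hval CG(y) ξ k))))
      (hval CG(y) ξ c)
  have hmK : ∀ χ ψ, m χ ψ ∈ cycF (Nat.card G) := fun χ ψ => by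
    simp only [hm, hq]
    refine mul_mem (mul_mem (natCast_mem _ _) (inv_mem (natCast_mem _ _))) (sum_mem fun c _ => ?_)
    split
    · exact zero_mem _
    · exact mul_mem (hXK χ c) (conj_mem_cycF (hXK ψ c))
  choose n s hn hs hsint ks hks using fun (χ : IrrCharacter G) (ξ : IrrCharacter CG(y)) =>
    exists_subCoeff_eq hM hy χ ξ
  choose! z hz using fun (ξ : IrrCharacter CG(y)) (hξ : ξ ∈ b) (η : IrrCharacter CG(y)) (hη : η ∈ b) =>
    exists_qInt hM hind.1 hξ hη
  have hmint : ∀ χ ψ, IsIntegral ℤ (m χ ψ) := fun χ ψ => by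
    rw [hexp]
    refine IsIntegral.sum _ fun ξ hξ => IsIntegral.sum _ fun η hη => ?_
    rw [← (hz ξ (b.toFinite.mem_toFinset.1 hξ) η (b.toFinite.mem_toFinset.1 hη)).1, hs, hs]
    refine ((((hsint χ ξ).mul (isIntegral_natCast _)).mul ?_).mul (isIntegral_intCast _))
    rw [map_mul, map_natCast]
    exact (IsIntegral.map (RingHom.toIntAlgHom (starRingEnd ℂ)) (hsint ψ η)).mul (isIntegral_natCast _)
  -- the entries of height zero characters are units
  set A : IrrCharacter G → ℂ :=
    fun χ => ∑ ξ ∈ b.toFinite.toFinset, (n χ ξ : ℂ) * (redDegree p b (ξ : CG(y) → ℂ) : ℂ) with hA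
  have hAm : ∀ χ, A χ ∈ locRing M := fun χ =>
    Subring.sum_mem _ fun ξ _ => mul_mem (natCast_mem _ _) (natCast_mem _ _)
  set S := defectSum p b (φ : CG(y) → ℂ) with hS
  have hA0 : ∀ χ, χ ∈ B → blockHeight p B (χ : G → ℂ) = 0 → ¬ MemLocalIdeal M (A χ) := by
    intro χ hχ hh hA0
    refine (regInner_restrict_memLocalIdeal_iff hM hind χ hφ).1 ?_ ⟨hχ, hh⟩
    have hf : IsCharacter CG(y) (fun h : CG(y) => (χ : G → ℂ) h) :=
      IsCharacter.restrict (IsIrrCharacter.isCharacter χ.2) CG(y)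
    have he := IsClassFunction.eq_sum (IsCharacter.isClassFunction hf)
    have e1 : regInner p (fun h : CG(y) => (χ : G → ℂ) h) (φ : CG(y) → ℂ) / (φ : CG(y) → ℂ) 1 =
        ∑ ξ : IrrCharacter CG(y), (n χ ξ : ℂ) * (regInner p (ξ : CG(y) → ℂ) (φ : CG(y) → ℂ) / (φ : CG(y) → ℂ) 1) := by
      simp only [← mul_div_assoc, ← Finset.sum_div, regInner, Finset.mul_sum]
      rw [Finset.sum_comm]
      congr 1
      refine Finset.sum_congr rfl fun x _ => ?_
      conv_lhs => rw [show (χ : G → ℂ) (x : G) = ∑ ξ : IrrCharacter CG(y), (n χ ξ : ℂ) * (ξ : CG(y) → ℂ) x by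
        have := congrFun he x
        simp only [Finset.sum_apply, Pi.smul_apply, smul_eq_mul, hn] at this
        exact this]
      split
      · simp
      · rw [Finset.sum_mul]
        exact Finset.sum_congr rfl fun ξ _ => by ring
    rw [e1]
    have h2 : MemLocalIdeal M
        ((∑ ξ : IrrCharacter CG(y), (n χ ξ : ℂ) * (regInner p (ξ : CG(y) → ℂ) (φ : CG(y) → ℂ) / (φ : CG(y) → ℂ) 1)) -
          A χ * S) := by
      rw [hA, Finset.sum_mul, ← Finset.sum_subset (Finset.subset_univ b.toFinite.toFinset) (fun ξ _ hξ => by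
        rw [regInner, sum_regular_eq_zero hM (fun h => hξ (b.toFinite.mem_toFinset.2
          ((isPBlock_mem_iff hind.1 hφ).2 (sameBlock_symm h)))), zero_div, mul_zero]),
        ← Finset.sum_sub_distrib]
      refine memLocalIdeal_sum _ _ fun ξ hξ => ?_
      rw [mul_assoc, ← mul_sub]
      exact memLocalIdeal_mul_left (natCast_mem _ _)
        (regInner_div_congr hM hind.1 (b.toFinite.mem_toFinset.1 hξ) hφ hφ)
    simpa [hS] using memLocalIdeal_add h2 (memLocalIdeal_mul_right (defectSum_mem hM b φ) hA0)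
  set nC := Nat.card CG(y) / p ^ (Nat.card CG(y)).factorization p with hnC
  have hnd : ¬ p ∣ nC := Nat.not_dvd_ordCompl hM.1 Nat.card_pos.ne'
  have hred : ∀ η ∈ b.toFinite.toFinset,
      ((p ^ blockDefect p b : ℕ) : ℂ) * (η : CG(y) → ℂ) 1 / (Nat.card CG(y) : ℂ) =
        (redDegree p b (η : CG(y) → ℂ) : ℂ) * (nC : ℂ)⁻¹ := by
    intro η hη
    have hη' := b.toFinite.mem_toFinset.1 hη
    have hv := minVal_le (p := p) hη'
    have hle := degree_factorization_le p η
    have hr : p ^ minVal p b * redDegree p b (η : CG(y) → ℂ) = charDegree (η : CG(y) → ℂ) := by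
      rw [redDegree]
      exact Nat.mul_div_cancel' ((pow_dvd_pow p hv).trans (Nat.ordProj_dvd _ _))
    have hC : p ^ (blockDefect p b + minVal p b) * nC = Nat.card CG(y) := by
      rw [show blockDefect p b + minVal p b = (Nat.card CG(y)).factorization p by rw [blockDefect_eq]; omega]
      exact Nat.ordProj_mul_ordCompl_eq_self _ p
    have hp0 : (p : ℂ) ≠ 0 := Nat.cast_ne_zero.2 hM.1.ne_zero
    have hn0 : (nC : ℂ) ≠ 0 := Nat.cast_ne_zero.2 fun h => hnd (by rw [h]; exact dvd_zero p)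
    rw [← charDegree_cast (IsIrrCharacter.isCharacter η.2), ← hr,
      show (Nat.card CG(y) : ℂ) = ((p ^ (blockDefect p b + minVal p b) * nC : ℕ) : ℂ) from congrArg Nat.cast hC.symm]
    push_cast
    rw [pow_add]
    field_simp
  have hm0 : ∀ χ ψ, χ ∈ B ∧ blockHeight p B (χ : G → ℂ) = 0 → ψ ∈ B ∧ blockHeight p B (ψ : G → ℂ) = 0 →
      m χ ψ ≠ 0 := by
    intro χ ψ hχ hψ h0
    have h2 : MemLocalIdeal M (m χ ψ - A χ * A ψ * (S * (nC : ℂ)⁻¹)) := by
      rw [hexp, hA, Finset.sum_mul_sum, Finset.sum_mul, ← Finset.sum_sub_distrib]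
      refine memLocalIdeal_sum _ _ fun ξ hξ => ?_
      rw [Finset.sum_mul, ← Finset.sum_sub_distrib]
      refine memLocalIdeal_sum _ _ fun η hη => ?_
      have hξ' := b.toFinite.mem_toFinset.1 hξ
      have hη' := b.toFinite.mem_toFinset.1 hη
      have h1 : (η : CG(y) → ℂ) 1 ≠ 0 := IsIrrCharacter.apply_one_ne_zero η.2
      set R := regInner p (ξ : CG(y) → ℂ) (η : CG(y) → ℂ) / (η : CG(y) → ℂ) 1
      have hR : ((p ^ blockDefect p b : ℕ) : ℂ) * regInner p (ξ : CG(y) → ℂ) (η : CG(y) → ℂ) / (Nat.card CG(y) : ℂ) =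
          R * ((redDegree p b (η : CG(y) → ℂ) : ℂ) * (nC : ℂ)⁻¹) := by
        rw [← hred η hη]
        simp only [R]
        field_simp
      rw [hR, hs, hs, map_mul, map_natCast]
      have hcs : MemLocalIdeal M (conj (s ψ η) - 1) ∧ conj (s ψ η) ∈ locRing M := by
        have hc := isIntegral_mem_locRing (M := M)
          (IsIntegral.map (RingHom.toIntAlgHom (starRingEnd ℂ)) (hsint ψ η))
        exact ⟨sub_one_memLocalIdeal_of_pow hM (k := ks ψ η) (by rw [← map_pow, hks, map_one]), hc⟩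
      have hs1 : MemLocalIdeal M (s χ ξ - 1) := sub_one_memLocalIdeal_of_pow hM (hks χ ξ)
      have hR' : MemLocalIdeal M (R - (redDegree p b (ξ : CG(y) → ℂ) : ℂ) * S) :=
        regInner_div_congr hM hind.1 hξ' hη' hφ
      have hRm : R ∈ locRing M := by
        have := add_mem (mem_locRing_of_memLocalIdeal hR')
          (mul_mem (natCast_mem (locRing M) (redDegree p b (ξ : CG(y) → ℂ))) (defectSum_mem hM b φ))
        simpa [hS] using this
      have hsm : s χ ξ ∈ locRing M := isIntegral_mem_locRing (hsint χ ξ)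
      have e : s χ ξ * (n χ ξ : ℂ) * (conj (s ψ η) * (n ψ η : ℂ)) *
            (R * ((redDegree p b (η : CG(y) → ℂ) : ℂ) * (nC : ℂ)⁻¹)) -
          (n χ ξ : ℂ) * (redDegree p b (ξ : CG(y) → ℂ) : ℂ) * ((n ψ η : ℂ) * (redDegree p b (η : CG(y) → ℂ) : ℂ)) *
            (S * (nC : ℂ)⁻¹) =
          ((n χ ξ : ℂ) * (n ψ η : ℂ) * (redDegree p b (η : CG(y) → ℂ) : ℂ) * (nC : ℂ)⁻¹) *
            ((s χ ξ - 1) * (conj (s ψ η) * R) + (conj (s ψ η) - 1) * R +
              (R - (redDegree p b (ξ : CG(y) → ℂ) : ℂ) * S)) := by ring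
      rw [e]
      exact memLocalIdeal_mul_left (mul_mem (mul_mem (mul_mem (natCast_mem _ _) (natCast_mem _ _)) (natCast_mem _ _))
        (inv_natCast_mem_locRing hM.1 hM.2.2 hnd))
        (memLocalIdeal_add (memLocalIdeal_add (memLocalIdeal_mul_right (mul_mem hcs.2 hRm) hs1)
          (memLocalIdeal_mul_right hRm hcs.1)) hR')
    rw [h0, zero_sub] at h2
    have h3 := memLocalIdeal_neg h2
    rw [neg_neg] at h3
    rcases memLocalIdeal_of_mul (mul_mem (hAm χ) (hAm ψ))
      (mul_mem (defectSum_mem hM b φ) (inv_natCast_mem_locRing hM.1 hM.2.2 hnd)) h3 with h4 | h4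
    · rcases memLocalIdeal_of_mul (hAm χ) (hAm ψ) h4 with h5 | h5
      · exact hA0 χ hχ.1 hχ.2 h5
      · exact hA0 ψ hψ.1 hψ.2 h5
    · rcases memLocalIdeal_of_mul (defectSum_mem hM b φ) (inv_natCast_mem_locRing hM.1 hM.2.2 hnd) h4 with h5 | h5
      · exact not_memLocalIdeal_defectSum hM hind.1 hφ h5
      · have h6 := memLocalIdeal_mul_left (natCast_mem (locRing M) nC) h5
        rw [mul_inv_cancel₀ (Nat.cast_ne_zero.2 fun h => hnd (by rw [h]; exact dvd_zero p))] at h6
        exact not_memLocalIdeal_one h6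
  -- the sum of the squares
  have hker : ∀ c : CG(y), ¬ p ∣ orderOf c →
      ∑ c' : CG(y), (if p ∣ orderOf c' then 0 else blockKernel b c c' * blockKernel b c' c) =
        (Nat.card CG(y) : ℂ) * blockKernel b c c := by
    intro c hc
    have h1 : ∀ c' : CG(y), blockKernel b c c' * blockKernel b c' c =
        ∑ ξ ∈ b.toFinite.toFinset, conj ((ξ : CG(y) → ℂ) c) * ((ξ : CG(y) → ℂ) c' * blockKernel b c c') := by
      intro c'
      rw [mul_comm]
      simp only [blockKernel, finsum_mem_eq_finite_toFinset_sum _ b.toFinite]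
      rw [Finset.sum_mul]
      exact Finset.sum_congr rfl fun ξ _ => by ring
    have h2 : ∀ c' : CG(y), (if p ∣ orderOf c' then 0 else blockKernel b c c' * blockKernel b c' c) =
        blockKernel b c c' * blockKernel b c' c := by
      intro c'
      split
      next h => rw [blockKernel_eq_zero hM hind.1 (g := c) (y := c') (fun e => hc (e.2 h)), zero_mul]
      · rfl
    rw [Finset.sum_congr rfl fun c' _ => (h2 c').trans (h1 c')]
    rw [Finset.sum_comm, blockKernel, finsum_mem_eq_finite_toFinset_sum _ b.toFinite, Finset.mul_sum]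
    refine Finset.sum_congr rfl fun ξ hξ => ?_
    rw [← Finset.mul_sum, sum_mul_blockKernel b ξ c, if_pos (b.toFinite.mem_toFinset.1 hξ)]
    ring
  have hsum : ∑ χ ∈ B.toFinite.toFinset, ∑ ψ ∈ B.toFinite.toFinset, m χ ψ * conj (m χ ψ) =
      (((p ^ (2 * blockDefect p b) * blockRank p b : ℕ) : ℚ) : ℂ) := by
    have e : ∀ χ ψ, m χ ψ * conj (m χ ψ) = ∑ c : CG(y), ∑ c' : CG(y),
        if p ∣ orderOf c ∨ p ∣ orderOf c' then 0 else
          q * q * ((X χ c * conj (X χ c')) * (X ψ c' * conj (X ψ c))) := by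
      intro χ ψ
      simp only [hm, map_mul, hq0, map_sum, Finset.mul_sum, Finset.sum_mul]
      rw [Finset.sum_comm]
      refine Finset.sum_congr rfl fun c _ => Finset.sum_congr rfl fun c' _ => ?_
      by_cases h1 : p ∣ orderOf c
      · simp [h1]
      by_cases h2 : p ∣ orderOf c'
      · simp [h2]
      simp only [h1, h2, or_self, if_false, map_mul, Complex.conj_conj]
      ring
    simp only [e]
    rw [Finset.sum_congr rfl fun χ _ => Finset.sum_comm, Finset.sum_comm,
      Finset.sum_congr rfl fun c _ => (Finset.sum_congr rfl fun χ _ => Finset.sum_comm).trans Finset.sum_comm]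
    have e2 : ∀ c c' : CG(y), (∑ χ ∈ B.toFinite.toFinset, ∑ ψ ∈ B.toFinite.toFinset,
        if p ∣ orderOf c ∨ p ∣ orderOf c' then 0 else
          q * q * ((X χ c * conj (X χ c')) * (X ψ c' * conj (X ψ c)))) =
        q * q * if p ∣ orderOf c then 0 else if p ∣ orderOf c' then 0 else blockKernel b c c' * blockKernel b c' c := by
      intro c c'
      by_cases h1 : p ∣ orderOf c
      · simp [h1]
      by_cases h2 : p ∣ orderOf c'
      · simp [h2]
      simp only [h1, h2, or_self, if_false, ← Finset.mul_sum]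
      rw [← Finset.sum_mul, sum_subsection_mul_conj hM hB hy hind h1 h2,
        sum_subsection_mul_conj hM hB hy hind h2 h1]
    simp only [e2]
    have e3 : ∀ c : CG(y), (∑ c' : CG(y),
        q * q * if p ∣ orderOf c then 0 else if p ∣ orderOf c' then 0 else blockKernel b c c' * blockKernel b c' c) =
        q * q * ((Nat.card CG(y) : ℂ) * if p ∣ orderOf c then 0 else blockKernel b c c) := by
      intro c
      by_cases h1 : p ∣ orderOf c
      · simp [h1]
      · simp only [h1, if_false, ← Finset.mul_sum]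
        rw [hker c h1]
    rw [Finset.sum_congr rfl fun c _ => e3 c, ← Finset.mul_sum, ← Finset.mul_sum,
      ← card_mul_blockRank hM hind.1, hq]
    have hC0 : (Nat.card CG(y) : ℂ) ≠ 0 := Nat.cast_ne_zero.2 Nat.card_pos.ne'
    push_cast
    field_simp
    ring
  set F := B.toFinite.toFinset.filter fun χ : IrrCharacter G => blockHeight p B (χ : G → ℂ) = 0
  have hcard : Nat.card {χ : IrrCharacter G // χ ∈ B ∧ blockHeight p B (χ : G → ℂ) = 0} = F.card := by
    rw [Nat.card_eq_fintype_card, Fintype.card_subtype]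
    congr 1
    ext χ; simp [F]
  set T := (B.toFinite.toFinset ×ˢ B.toFinite.toFinset).filter (fun w => m w.1 w.2 ≠ 0)
  have hsub : F ×ˢ F ⊆ T := by
    intro w hw
    simp only [F, Finset.mem_product, Finset.mem_filter, B.toFinite.mem_toFinset] at hw
    simp only [T, Finset.mem_filter, Finset.mem_product, B.toFinite.mem_toFinset]
    exact ⟨⟨hw.1.1, hw.2.1⟩, hm0 _ _ hw.1 hw.2⟩
  have key := card_le_of_sum_mul_conj hN T (fun w => m w.1 w.2) (fun w _ => hmK _ _)
    (fun w _ => hmint _ _) (fun w hw => (Finset.mem_filter.1 hw).2)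
    (T := ((p ^ (2 * blockDefect p b) * blockRank p b : ℕ) : ℚ)) (by
      rw [← hsum, ← Finset.sum_product' B.toFinite.toFinset B.toFinite.toFinset
        (fun χ ψ => m χ ψ * conj (m χ ψ))]
      refine Finset.sum_filter_of_ne fun w _ h hz => h ?_
      rw [hz, zero_mul])
  have h2 : (F.card : ℚ) * F.card ≤ T.card := by
    exact_mod_cast (Finset.card_product F F ▸ Finset.card_le_card hsub)
  rw [hcard, sq]
  have h3 := h2.trans key
  exact_mod_cast h3

end Cfsg.Agent.Block
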