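import Cfsg.Agent.Lib.Block.SubsectionCount

/-!
# The matrix of a subsection

For a `p`-element `y` and a block `b` of its centraliser inducing `B`, the contributions of the
subsection to the inner products of the characters of `B`, times `p` to the defect of `b`.
-/

set_option autoImplicit false

open Cfsg Cfsg.Agent.Char
open scoped ComplexConjugate

namespace Cfsg.Agent.Block

universe u

local notation "CG(" y ")" => Subgroup.centralizer ({y} : Set _)

variable {G : Type u} [Group G] [Finite G] {M : Ideal AlgInt} {p : ℕ}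

/-- The matrix of contributions of a subsection. -/
noncomputable def subMat (p : ℕ) (y : G) (b : Set (IrrCharacter (CG(y))))
    (χ ψ : IrrCharacter G) : ℂ :=
  haveI := Fintype.ofFinite (CG(y))
  ((p ^ blockDefect p b : ℕ) : ℂ) * (Nat.card CG(y) : ℂ)⁻¹ * ∑ c : CG(y), if p ∣ orderOf c then 0 else
    blockPart b (fun k : CG(y) => (χ : G → ℂ) (y * (k : G))) c *
      conj (blockPart b (fun k : CG(y) => (ψ : G → ℂ) (y * (k : G))) c)

theorem subMat_eq (p : ℕ) (y : G) [Fintype (CG(y))] (b : Set (IrrCharacter (CG(y))))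
    (χ ψ : IrrCharacter G) : subMat p y b χ ψ =
  ((p ^ blockDefect p b : ℕ) : ℂ) * (Nat.card CG(y) : ℂ)⁻¹ * ∑ c : CG(y), if p ∣ orderOf c then 0 else
    blockPart b (fun k : CG(y) => (χ : G → ℂ) (y * (k : G))) c *
      conj (blockPart b (fun k : CG(y) => (ψ : G → ℂ) (y * (k : G))) c) := by
  simp only [subMat]
  congr 1
  exact Finset.sum_congr (Finset.ext fun _ => by simp) fun _ _ => rfl

theorem conj_subMat (p : ℕ) (y : G) (b : Set (IrrCharacter (CG(y)))) (χ ψ : IrrCharacter G) :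
    conj (subMat p y b χ ψ) = subMat p y b ψ χ := by
  simp only [subMat, map_mul, map_inv₀, Complex.conj_natCast, map_sum]
  congr 1
  refine Finset.sum_congr rfl fun c _ => ?_
  split
  · exact map_zero _
  · rw [map_mul, Complex.conj_conj, mul_comm]

/-- Integrality, units, and the expansion of the matrix. -/
theorem subMat_props (hM : IsPModular p M) {B : Set (IrrCharacter G)}
    {y : G} (hy : ∃ k : ℕ, orderOf y = p ^ k)
    {b : Set (IrrCharacter (CG(y)))}
    (hind : IsInducedBlock M (CG(y)) b B) :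
    (∀ χ ψ, subMat p y b χ ψ ∈ cycF (Nat.card G)) ∧
    (∀ χ ψ, IsIntegral ℤ (subMat p y b χ ψ)) ∧
    (∀ χ ψ : IrrCharacter G, χ ∈ B ∧ blockHeight p B (χ : G → ℂ) = 0 →
      ψ ∈ B ∧ blockHeight p B (ψ : G → ℂ) = 0 → ¬ MemLocalIdeal M (subMat p y b χ ψ)) ∧
    (∀ χ : IrrCharacter G, ∃ (s : IrrCharacter (CG(y)) → ℂ)
        (w : IrrCharacter (CG(y)) → IrrCharacter (CG(y)) → ℤ),
      (∀ ξ, ∃ k : ℕ, s ξ ^ p ^ k = 1) ∧ (∀ ξ ∈ b, ∀ η ∈ b, w ξ η = w η ξ) ∧
      subMat p y b χ χ = ∑ ξ ∈ b.toFinite.toFinset, ∑ η ∈ b.toFinite.toFinset,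
        (w ξ η : ℂ) * (s ξ * conj (s η))) := by
  classical
  haveI := prime_of_isPModular hM
  haveI := Fintype.ofFinite G
  haveI := Fintype.ofFinite CG(y)
  haveI := Fintype.ofFinite (IrrCharacter CG(y))
  haveI := Fintype.ofFinite (IrrCharacter G)
  haveI := Fintype.ofFinite (ConjClasses CG(y))
  obtain ⟨φ, hφ⟩ := isPBlock_nonempty hind.1
  set q : ℂ := ((p ^ blockDefect p b : ℕ) : ℂ) * (Nat.card CG(y) : ℂ)⁻¹ with hq
  set X : IrrCharacter G → CG(y) → ℂ :=
    fun χ => blockPart b (fun k : CG(y) => (χ : G → ℂ) (y * (k : G))) with hX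
  set m : IrrCharacter G → IrrCharacter G → ℂ := fun χ ψ =>
    q * ∑ c : CG(y), if p ∣ orderOf c then 0 else X χ c * conj (X ψ c) with hm
  have hmdef : ∀ χ ψ, subMat p y b χ ψ = m χ ψ := fun χ ψ => by
    rw [subMat_eq]
  -- expansion in the characters of the block
  have hexp : ∀ χ ψ, m χ ψ = ∑ ξ ∈ b.toFinite.toFinset, ∑ η ∈ b.toFinite.toFinset,
      subCoeff y (χ : G → ℂ) (ξ : CG(y) → ℂ) * conj (subCoeff y (ψ : G → ℂ) (η : CG(y) → ℂ)) *
        (((p ^ blockDefect p b : ℕ) : ℂ) * regInner p (ξ : CG(y) → ℂ) (η : CG(y) → ℂ) / (Nat.card CG(y) : ℂ)) := by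
    intro χ ψ
    simp only [hm, hX, blockPart_translate_eq_sum, regInner, Finset.mul_sum, Finset.sum_div]
    refine Eq.trans ?_ (Finset.sum_congr rfl fun ξ _ => Finset.sum_comm)
    rw [Finset.sum_comm]
    refine Finset.sum_congr rfl fun c _ => ?_
    rw [Finset.sum_comm]
    by_cases h : p ∣ orderOf c
    · simp [h]
    · simp only [h, if_false, map_sum, map_mul, Finset.sum_mul, Finset.mul_sum, hq]
      refine Finset.sum_congr rfl fun ξ _ => Finset.sum_congr rfl fun η _ => ?_
      field_simp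
  -- membership in the cyclotomic field, integrality
  have hN : Nat.card G ≠ 0 := Nat.card_pos.ne'
  have hval : ∀ (H : Subgroup G) (θ : IrrCharacter H) (h : H), (θ : H → ℂ) h ∈ cycF (Nat.card G) :=
    fun H θ h => character_mem_cycF (IsIrrCharacter.isCharacter θ.2) (Subtype.ext (by simp))
  have hXK : ∀ χ c, X χ c ∈ cycF (Nat.card G) := by
    intro χ c
    simp only [hX, blockPart_translate_eq_sum, subCoeff, classInner]
    refine sum_mem fun ξ _ => mul_mem (mul_mem (inv_mem (natCast_mem _ _)) (sum_mem fun k _ => mul_mem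
      (character_mem_cycF (IsIrrCharacter.isCharacter χ.2) pow_card_eq_one') (conj_mem_cycF (hval CG(y) ξ k))))
      (hval CG(y) ξ c)
  have hmK : ∀ χ ψ, m χ ψ ∈ cycF (Nat.card G) := fun χ ψ => by
    simp only [hm, hq]
    refine mul_mem (mul_mem (natCast_mem _ _) (inv_mem (natCast_mem _ _))) (sum_mem fun c _ => ?_)
    split
    · exact zero_mem _
    · exact mul_mem (hXK χ c) (conj_mem_cycF (hXK ψ c))
  choose n s hn hs hsint ks hks using fun (χ : IrrCharacter G) (ξ : IrrCharacter CG(y)) =>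
    exists_subCoeff_eq hM hy χ ξ
  choose! z hz using fun (ξ : IrrCharacter CG(y)) (hξ : ξ ∈ b) (η : IrrCharacter CG(y)) (hη : η ∈ b) =>
    exists_qInt hM hind.1 hξ hη
  have hmint : ∀ χ ψ, IsIntegral ℤ (m χ ψ) := fun χ ψ => by
    rw [hexp]
    refine IsIntegral.sum _ fun ξ hξ => IsIntegral.sum _ fun η hη => ?_
    rw [← (hz ξ (b.toFinite.mem_toFinset.1 hξ) η (b.toFinite.mem_toFinset.1 hη)).1, hs, hs]
    refine ((((hsint χ ξ).mul (isIntegral_natCast _)).mul ?_).mul (isIntegral_intCast _))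
    rw [map_mul, map_natCast]
    exact (IsIntegral.map (RingHom.toIntAlgHom (starRingEnd ℂ)) (hsint ψ η)).mul (isIntegral_natCast _)
  -- the entries of height zero characters are units
  set A : IrrCharacter G → ℂ :=
    fun χ => ∑ ξ ∈ b.toFinite.toFinset, (n χ ξ : ℂ) * (redDegree p b (ξ : CG(y) → ℂ) : ℂ) with hA
  have hAm : ∀ χ, A χ ∈ locRing M := fun χ =>
    Subring.sum_mem _ fun ξ _ => mul_mem (natCast_mem _ _) (natCast_mem _ _)
  set S := defectSum p b (φ : CG(y) → ℂ) with hS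
  have hA0 : ∀ χ, χ ∈ B → blockHeight p B (χ : G → ℂ) = 0 → ¬ MemLocalIdeal M (A χ) := by
    intro χ hχ hh hA0
    refine (regInner_restrict_memLocalIdeal_iff hM hind χ hφ).1 ?_ ⟨hχ, hh⟩
    have hf : IsCharacter CG(y) (fun h : CG(y) => (χ : G → ℂ) h) :=
      IsCharacter.restrict (IsIrrCharacter.isCharacter χ.2) CG(y)
    have he := IsClassFunction.eq_sum (IsCharacter.isClassFunction hf)
    have e1 : regInner p (fun h : CG(y) => (χ : G → ℂ) h) (φ : CG(y) → ℂ) / (φ : CG(y) → ℂ) 1 =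
        ∑ ξ : IrrCharacter CG(y), (n χ ξ : ℂ) * (regInner p (ξ : CG(y) → ℂ) (φ : CG(y) → ℂ) / (φ : CG(y) → ℂ) 1) := by
      simp only [← mul_div_assoc, ← Finset.sum_div, regInner, Finset.mul_sum]
      rw [Finset.sum_comm]
      congr 1
      refine Finset.sum_congr rfl fun x _ => ?_
      conv_lhs => rw [show (χ : G → ℂ) (x : G) = ∑ ξ : IrrCharacter CG(y), (n χ ξ : ℂ) * (ξ : CG(y) → ℂ) x by
        have := congrFun he x
        simp only [Finset.sum_apply, Pi.smul_apply, smul_eq_mul, hn] at this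
        exact this]
      split
      · simp
      · rw [Finset.sum_mul]
        exact Finset.sum_congr rfl fun ξ _ => by ring
    rw [e1]
    have h2 : MemLocalIdeal M
        ((∑ ξ : IrrCharacter CG(y), (n χ ξ : ℂ) * (regInner p (ξ : CG(y) → ℂ) (φ : CG(y) → ℂ) / (φ : CG(y) → ℂ) 1)) -
          A χ * S) := by
      rw [hA, Finset.sum_mul, ← Finset.sum_subset (Finset.subset_univ b.toFinite.toFinset) (fun ξ _ hξ => by
        rw [regInner, sum_regular_eq_zero hM (fun h => hξ (b.toFinite.mem_toFinset.2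
          ((isPBlock_mem_iff hind.1 hφ).2 (sameBlock_symm h)))), zero_div, mul_zero]),
        ← Finset.sum_sub_distrib]
      refine memLocalIdeal_sum _ _ fun ξ hξ => ?_
      rw [mul_assoc, ← mul_sub]
      exact memLocalIdeal_mul_left (natCast_mem _ _)
        (regInner_div_congr hM hind.1 (b.toFinite.mem_toFinset.1 hξ) hφ hφ)
    simpa [hS] using memLocalIdeal_add h2 (memLocalIdeal_mul_right (defectSum_mem hM b φ) hA0)
  set nC := Nat.card CG(y) / p ^ (Nat.card CG(y)).factorization p with hnC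
  have hnd : ¬ p ∣ nC := Nat.not_dvd_ordCompl hM.1 Nat.card_pos.ne'
  have hred : ∀ η ∈ b.toFinite.toFinset,
      ((p ^ blockDefect p b : ℕ) : ℂ) * (η : CG(y) → ℂ) 1 / (Nat.card CG(y) : ℂ) =
        (redDegree p b (η : CG(y) → ℂ) : ℂ) * (nC : ℂ)⁻¹ := by
    intro η hη
    have hη' := b.toFinite.mem_toFinset.1 hη
    have hv := minVal_le (p := p) hη'
    have hle := degree_factorization_le p η
    have hr : p ^ minVal p b * redDegree p b (η : CG(y) → ℂ) = charDegree (η : CG(y) → ℂ) := by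
      rw [redDegree]
      exact Nat.mul_div_cancel' ((pow_dvd_pow p hv).trans (Nat.ordProj_dvd _ _))
    have hC : p ^ (blockDefect p b + minVal p b) * nC = Nat.card CG(y) := by
      rw [show blockDefect p b + minVal p b = (Nat.card CG(y)).factorization p by rw [blockDefect_eq]; omega]
      exact Nat.ordProj_mul_ordCompl_eq_self _ p
    have hp0 : (p : ℂ) ≠ 0 := Nat.cast_ne_zero.2 hM.1.ne_zero
    have hn0 : (nC : ℂ) ≠ 0 := Nat.cast_ne_zero.2 fun h => hnd (by rw [h]; exact dvd_zero p)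
    rw [← charDegree_cast (IsIrrCharacter.isCharacter η.2), ← hr,
      show (Nat.card CG(y) : ℂ) = ((p ^ (blockDefect p b + minVal p b) * nC : ℕ) : ℂ) from congrArg Nat.cast hC.symm]
    push_cast
    rw [pow_add]
    field_simp
  have hm0 : ∀ χ ψ, χ ∈ B ∧ blockHeight p B (χ : G → ℂ) = 0 → ψ ∈ B ∧ blockHeight p B (ψ : G → ℂ) = 0 →
      ¬ MemLocalIdeal M (m χ ψ) := by
    intro χ ψ hχ hψ h0
    have h2 : MemLocalIdeal M (m χ ψ - A χ * A ψ * (S * (nC : ℂ)⁻¹)) := by
      rw [hexp, hA, Finset.sum_mul_sum, Finset.sum_mul, ← Finset.sum_sub_distrib]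
      refine memLocalIdeal_sum _ _ fun ξ hξ => ?_
      rw [Finset.sum_mul, ← Finset.sum_sub_distrib]
      refine memLocalIdeal_sum _ _ fun η hη => ?_
      have hξ' := b.toFinite.mem_toFinset.1 hξ
      have hη' := b.toFinite.mem_toFinset.1 hη
      have h1 : (η : CG(y) → ℂ) 1 ≠ 0 := IsIrrCharacter.apply_one_ne_zero η.2
      set R := regInner p (ξ : CG(y) → ℂ) (η : CG(y) → ℂ) / (η : CG(y) → ℂ) 1
      have hR : ((p ^ blockDefect p b : ℕ) : ℂ) * regInner p (ξ : CG(y) → ℂ) (η : CG(y) → ℂ) / (Nat.card CG(y) : ℂ) =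
          R * ((redDegree p b (η : CG(y) → ℂ) : ℂ) * (nC : ℂ)⁻¹) := by
        rw [← hred η hη]
        simp only [R]
        field_simp
      rw [hR, hs, hs, map_mul, map_natCast]
      have hcs : MemLocalIdeal M (conj (s ψ η) - 1) ∧ conj (s ψ η) ∈ locRing M := by
        have hc := isIntegral_mem_locRing (M := M)
          (IsIntegral.map (RingHom.toIntAlgHom (starRingEnd ℂ)) (hsint ψ η))
        exact ⟨sub_one_memLocalIdeal_of_pow hM (k := ks ψ η) (by rw [← map_pow, hks, map_one]), hc⟩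
      have hs1 : MemLocalIdeal M (s χ ξ - 1) := sub_one_memLocalIdeal_of_pow hM (hks χ ξ)
      have hR' : MemLocalIdeal M (R - (redDegree p b (ξ : CG(y) → ℂ) : ℂ) * S) :=
        regInner_div_congr hM hind.1 hξ' hη' hφ
      have hRm : R ∈ locRing M := by
        have := add_mem (mem_locRing_of_memLocalIdeal hR')
          (mul_mem (natCast_mem (locRing M) (redDegree p b (ξ : CG(y) → ℂ))) (defectSum_mem hM b φ))
        simpa [hS] using this
      have hsm : s χ ξ ∈ locRing M := isIntegral_mem_locRing (hsint χ ξ)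
      have e : s χ ξ * (n χ ξ : ℂ) * (conj (s ψ η) * (n ψ η : ℂ)) *
            (R * ((redDegree p b (η : CG(y) → ℂ) : ℂ) * (nC : ℂ)⁻¹)) -
          (n χ ξ : ℂ) * (redDegree p b (ξ : CG(y) → ℂ) : ℂ) * ((n ψ η : ℂ) * (redDegree p b (η : CG(y) → ℂ) : ℂ)) *
            (S * (nC : ℂ)⁻¹) =
          ((n χ ξ : ℂ) * (n ψ η : ℂ) * (redDegree p b (η : CG(y) → ℂ) : ℂ) * (nC : ℂ)⁻¹) *
            ((s χ ξ - 1) * (conj (s ψ η) * R) + (conj (s ψ η) - 1) * R +
              (R - (redDegree p b (ξ : CG(y) → ℂ) : ℂ) * S)) := by ring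
      rw [e]
      exact memLocalIdeal_mul_left (mul_mem (mul_mem (mul_mem (natCast_mem _ _) (natCast_mem _ _)) (natCast_mem _ _))
        (inv_natCast_mem_locRing hM.1 hM.2.2 hnd))
        (memLocalIdeal_add (memLocalIdeal_add (memLocalIdeal_mul_right (mul_mem hcs.2 hRm) hs1)
          (memLocalIdeal_mul_right hRm hcs.1)) hR')
    have h3 := memLocalIdeal_sub h0 h2
    rw [sub_sub_cancel] at h3
    rcases memLocalIdeal_of_mul (mul_mem (hAm χ) (hAm ψ))
      (mul_mem (defectSum_mem hM b φ) (inv_natCast_mem_locRing hM.1 hM.2.2 hnd)) h3 with h4 | h4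
    · rcases memLocalIdeal_of_mul (hAm χ) (hAm ψ) h4 with h5 | h5
      · exact hA0 χ hχ.1 hχ.2 h5
      · exact hA0 ψ hψ.1 hψ.2 h5
    · rcases memLocalIdeal_of_mul (defectSum_mem hM b φ) (inv_natCast_mem_locRing hM.1 hM.2.2 hnd) h4 with h5 | h5
      · exact not_memLocalIdeal_defectSum hM hind.1 hφ h5
      · have h6 := memLocalIdeal_mul_left (natCast_mem (locRing M) nC) h5
        rw [mul_inv_cancel₀ (Nat.cast_ne_zero.2 fun h => hnd (by rw [h]; exact dvd_zero p))] at h6
        exact not_memLocalIdeal_one h6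
  refine ⟨fun χ ψ => hmdef χ ψ ▸ hmK χ ψ, fun χ ψ => hmdef χ ψ ▸ hmint χ ψ,
    fun χ ψ h h' => hmdef χ ψ ▸ hm0 χ ψ h h', fun χ => ?_⟩
  refine ⟨s χ, fun ξ η => (n χ ξ : ℤ) * (n χ η : ℤ) * z ξ η, fun ξ => ⟨ks χ ξ, hks χ ξ⟩,
    fun ξ hξ η hη => ?_, ?_⟩
  · have e : z ξ η = z η ξ := Int.cast_injective (α := ℂ) (by
      show (z ξ η : ℂ) = (z η ξ : ℂ)
      rw [(hz ξ hξ η hη).1, (hz η hη ξ hξ).1,
        regInner_comm p (IsIrrCharacter.isCharacter ξ.2) (IsIrrCharacter.isCharacter η.2)])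
    show (n χ ξ : ℤ) * (n χ η : ℤ) * z ξ η = (n χ η : ℤ) * (n χ ξ : ℤ) * z η ξ
    rw [e]; ring
  · rw [hmdef, hexp]
    refine Finset.sum_congr rfl fun ξ hξ => Finset.sum_congr rfl fun η hη => ?_
    rw [← (hz ξ (b.toFinite.mem_toFinset.1 hξ) η (b.toFinite.mem_toFinset.1 hη)).1, hs, hs, map_mul,
      map_natCast]
    push_cast
    ring

/-- The matrix is `p ^ d` times a projection of trace `l(b)`. -/
theorem subMat_row (hM : IsPModular p M) {B : Set (IrrCharacter G)} (hB : IsPBlock M B)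
    {y : G} (hy : ∃ k : ℕ, orderOf y = p ^ k)
    {b : Set (IrrCharacter (CG(y)))}
    (hind : IsInducedBlock M (CG(y)) b B) :
    (∀ χ φ : IrrCharacter G, ∑ ψ ∈ B.toFinite.toFinset, subMat p y b χ ψ * subMat p y b ψ φ =
      ((p ^ blockDefect p b : ℕ) : ℂ) * subMat p y b χ φ) ∧
    ∑ χ ∈ B.toFinite.toFinset, subMat p y b χ χ =
      ((p ^ blockDefect p b * blockRank p b : ℕ) : ℂ) := by
  classical
  haveI := prime_of_isPModular hM
  haveI := Fintype.ofFinite CG(y)
  haveI := Fintype.ofFinite (IrrCharacter CG(y))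
  have hC0 : (Nat.card CG(y) : ℂ) ≠ 0 := Nat.cast_ne_zero.2 Nat.card_pos.ne'
  set q : ℂ := ((p ^ blockDefect p b : ℕ) : ℂ) * (Nat.card CG(y) : ℂ)⁻¹ with hq
  set X : IrrCharacter G → CG(y) → ℂ :=
    fun χ => blockPart b (fun k : CG(y) => (χ : G → ℂ) (y * (k : G))) with hX
  have hproj : ∀ (χ : IrrCharacter G) (d : CG(y)), ¬ p ∣ orderOf d →
      ∑ c : CG(y), (if p ∣ orderOf c then 0 else X χ c * blockKernel b d c) =
        (Nat.card CG(y) : ℂ) * X χ d := by
    intro χ d hd
    have h2 : ∀ c : CG(y), (if p ∣ orderOf c then 0 else X χ c * blockKernel b d c) =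
        X χ c * blockKernel b d c := by
      intro c
      split
      next h => rw [blockKernel_eq_zero hM hind.1 (g := d) (y := c) (fun e => hd (e.2 h)), mul_zero]
      · rfl
    rw [Finset.sum_congr rfl fun c _ => h2 c]
    simp only [hX, blockPart_translate_eq_sum, Finset.sum_mul, Finset.mul_sum, mul_assoc]
    rw [Finset.sum_comm]
    refine Finset.sum_congr rfl fun ξ hξ => ?_
    rw [← Finset.mul_sum, sum_mul_blockKernel b ξ d, if_pos (b.toFinite.mem_toFinset.1 hξ)]
    ring
  constructor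
  · intro χ φ
    simp only [subMat_eq, Finset.mul_sum, Finset.sum_mul]
    rw [Finset.sum_comm, Finset.sum_congr rfl fun c _ => Finset.sum_comm]
    simp only [← hq]
    rw [Finset.sum_comm]
    calc ∑ c : CG(y), ∑ d : CG(y), ∑ ψ ∈ B.toFinite.toFinset,
          (q * if p ∣ orderOf c then 0 else X χ c * conj (X ψ c)) *
            (q * if p ∣ orderOf d then 0 else X ψ d * conj (X φ d))
        = ∑ d : CG(y), q * q * if p ∣ orderOf d then 0 else
            conj (X φ d) * ∑ c : CG(y), (if p ∣ orderOf c then 0 else X χ c * blockKernel b d c) := by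
          rw [Finset.sum_comm]
          refine Finset.sum_congr rfl fun d _ => ?_
          by_cases hd : p ∣ orderOf d
          · simp [hd]
          simp only [hd, if_false, Finset.mul_sum]
          refine Finset.sum_congr rfl fun c _ => ?_
          by_cases hc : p ∣ orderOf c
          · simp [hc]
          simp only [hc, if_false]
          rw [show blockKernel b d c = _ from (sum_subsection_mul_conj hM hB hy hind hd hc).symm]
          simp only [hX, Finset.mul_sum]
          exact Finset.sum_congr rfl fun ψ _ => by ring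
      _ = _ := by
          refine Finset.sum_congr rfl fun d _ => ?_
          by_cases hd : p ∣ orderOf d
          · simp [hd]
          simp only [hd, if_false]
          rw [hproj χ d hd, hq]
          simp only [hX]
          field_simp
  · simp only [subMat_eq, ← Finset.mul_sum]
    rw [Finset.sum_comm, Finset.sum_congr rfl (g := fun c : CG(y) =>
      if p ∣ orderOf c then 0 else blockKernel b c c) fun c _ => ?_, ← card_mul_blockRank hM hind.1]
    · push_cast
      field_simp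
    · by_cases hc : p ∣ orderOf c
      · simp [hc]
      · simp only [hc, if_false]
        exact sum_subsection_mul_conj hM hB hy hind hc hc

end Cfsg.Agent.Block
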