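import Cfsg.Agent.Lib.Block.SmallDefectForm
import Cfsg.Agent.Lib.Block.SubsectionMatrix

/-!
# Subsections of small defect bound the number of characters of height zero
-/

set_option autoImplicit false

open Cfsg Cfsg.Agent.Char
open scoped ComplexConjugate

namespace Cfsg.Agent.Block

universe u

local notation "CG(" y ")" => Subgroup.centralizer ({y} : Set _)

variable {G : Type u} [Group G] [Finite G] {M : Ideal AlgInt} {p : ℕ}

/-- `k₀(B) ≤ p ^ d(b)` for a subsection of defect at most two, a central element of order `p` being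
given when the defect is two. -/
theorem card_height_zero_le_of_small (hM : IsPModular p M) {B : Set (IrrCharacter G)} (hB : IsPBlock M B)
    {y : G} (hy : ∃ k : ℕ, orderOf y = p ^ k)
    {b : Set (IrrCharacter (CG(y)))} (hind : IsInducedBlock M (CG(y)) b B)
    (hd : blockDefect p b ≤ 2)
    (hc : blockDefect p b = 2 → ∃ x : CG(y), (∀ c, x * c = c * x) ∧ orderOf x = p) :
    Nat.card {χ : IrrCharacter G // χ ∈ B ∧ blockHeight p B (χ : G → ℂ) = 0} ≤ p ^ blockDefect p b := by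
  classical
  haveI := prime_of_isPModular hM
  haveI : Fact p.Prime := ⟨hM.1⟩
  haveI := Fintype.ofFinite G
  haveI := Fintype.ofFinite CG(y)
  haveI := Fintype.ofFinite (IrrCharacter CG(y))
  haveI := Fintype.ofFinite (IrrCharacter G)
  haveI : Fintype b := Fintype.ofFinite _
  obtain ⟨zf, hzf, hzsymm, hQ⟩ := exists_form_small hM hind.1 hd hc
  obtain ⟨hK, hint, hunit, -⟩ := subMat_props hM hy hind
  obtain ⟨hrow, htr⟩ := subMat_row hM hB hy hind
  choose n s hn hs hsint ks hks using fun (χ : IrrCharacter G) (ξ : IrrCharacter CG(y)) =>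
    exists_subCoeff_eq hM hy χ ξ
  set K := ∑ χ : IrrCharacter G, ∑ ξ : IrrCharacter CG(y), ks χ ξ with hKdef
  set N := Nat.card G * p ^ (K + 1) with hNdef
  haveI : NeZero N := ⟨Nat.mul_ne_zero Nat.card_pos.ne' (pow_ne_zero _ hM.1.ne_zero)⟩
  have hle : cycF (Nat.card G) ≤ cycF N := cycF_mono (dvd_mul_right _ _)
  have hsmem : ∀ χ ξ, s χ ξ ∈ cycF N := fun χ ξ => by
    have h1 : ks χ ξ ≤ K + 1 := le_trans (le_trans
      (Finset.single_le_sum (f := ks χ) (fun _ _ => Nat.zero_le _) (Finset.mem_univ ξ))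
      (Finset.single_le_sum (f := fun χ => ∑ ξ, ks χ ξ) (fun _ _ => Nat.zero_le _) (Finset.mem_univ χ)))
      (Nat.le_succ K)
    refine cycF_mono (dvd_mul_left _ _) (root_mem_cycF ?_)
    obtain ⟨c, hc⟩ := Nat.exists_eq_add_of_le h1
    rw [hc, pow_add, pow_mul, hks, one_pow]
  set D : ℕ := p ^ blockDefect p b with hD
  have hDpos : 0 < D := pow_pos hM.1.pos _
  have hdeg : (0 : ℚ) < (Module.finrank ℚ (cycF N) : ℚ) := by exact_mod_cast Module.finrank_pos
  set F := (Module.finrank ℚ (cycF N) : ℚ)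
  set α : IrrCharacter G → cycF N := fun χ => ⟨subMat p y b χ χ, hle (hK χ χ)⟩
  set T : IrrCharacter G → ℚ := fun χ => Algebra.trace ℚ (cycF N) (α χ) with hT
  set S := B.toFinite.toFinset with hS
  have hrow' : ∀ χ, ∑ ψ ∈ S, subMat p y b χ ψ * conj (subMat p y b χ ψ) = (((D : ℚ) • α χ : cycF N) : ℂ) := by
    intro χ
    simp only [conj_subMat]
    rw [hrow χ χ]
    simp [α, Algebra.smul_def, hD]
  have hTge : ∀ χ, ∀ R ⊆ S, (∀ ψ ∈ R, subMat p y b χ ψ ≠ 0) → (R.card : ℚ) * F ≤ (D : ℚ) * T χ := by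
    intro χ R hR hne
    have hS' : ∀ ψ ∈ S.filter (fun ψ => subMat p y b χ ψ ≠ 0), subMat p y b χ ψ ≠ 0 := fun ψ h => (Finset.mem_filter.1 h).2
    have h := card_mul_finrank_le_trace (S.filter fun ψ => subMat p y b χ ψ ≠ 0) (fun ψ => subMat p y b χ ψ)
      (fun ψ _ => hle (hK χ ψ)) (fun ψ _ => hint χ ψ) hS' ((D : ℚ) • α χ) (by
        rw [Finset.sum_filter_of_ne (p := fun ψ => subMat p y b χ ψ ≠ 0) fun ψ _ h e => h (by rw [e, zero_mul])]
        exact hrow' χ)
    rw [map_smul, smul_eq_mul] at h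
    refine le_trans (mul_le_mul_of_nonneg_right ?_ hdeg.le) h
    exact_mod_cast Finset.card_le_card fun ψ hψ => Finset.mem_filter.2 ⟨hR hψ, hne ψ hψ⟩
  have hTnn : ∀ χ, 0 ≤ T χ := fun χ => by
    have h := hTge χ ∅ (Finset.empty_subset _) (fun _ h => absurd h (Finset.notMem_empty _))
    simp only [Finset.card_empty, Nat.cast_zero, zero_mul] at h
    exact nonneg_of_mul_nonneg_right h (Nat.cast_pos.2 hDpos)
  -- coordinates
  have hexp : ∀ χ : IrrCharacter G, subMat p y b χ χ = ∑ ξ : b, ∑ η : b,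
      ((n χ ξ.1 * n χ η.1 : ℕ) : ℂ) * (zf ξ η : ℂ) * (s χ ξ.1 * conj (s χ η.1)) := by
    intro χ
    have hsubt : ∀ f : IrrCharacter CG(y) → ℂ, ∑ i : b, f i.1 = ∑ ξ ∈ b.toFinite.toFinset, f ξ := fun f =>
      (Finset.sum_subtype b.toFinite.toFinset (fun ξ => b.toFinite.mem_toFinset) f).symm
    simp only [hzf]
    rw [subMat_eq, hsubt (fun ξ => ∑ j : b, ((n χ ξ * n χ j.1 : ℕ) : ℂ) *
      (((p ^ blockDefect p b : ℕ) : ℂ) * regInner p (ξ : CG(y) → ℂ) (j.1 : CG(y) → ℂ) / (Nat.card CG(y) : ℂ)) *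
      (s χ ξ * conj (s χ j.1)))]
    refine Eq.trans ?_ (Finset.sum_congr rfl fun ξ _ => (hsubt (fun η => ((n χ ξ * n χ η : ℕ) : ℂ) *
      (((p ^ blockDefect p b : ℕ) : ℂ) * regInner p (ξ : CG(y) → ℂ) (η : CG(y) → ℂ) / (Nat.card CG(y) : ℂ)) *
      (s χ ξ * conj (s χ η)))).symm)
    simp only [blockPart_translate_eq_sum, regInner, Finset.mul_sum, Finset.sum_div, hs, Finset.sum_mul]
    refine Eq.trans ?_ (Finset.sum_congr rfl fun ξ _ => Finset.sum_comm)
    rw [Finset.sum_comm]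
    refine Finset.sum_congr rfl fun k _ => ?_
    rw [Finset.sum_comm]
    by_cases h : p ∣ orderOf k
    · simp [h]
    · simp only [h, if_false, map_sum, map_mul, Complex.conj_natCast, Finset.sum_mul, Finset.mul_sum]
      conv_rhs => rw [Finset.sum_comm]
      refine Finset.sum_congr rfl fun ξ _ => Finset.sum_congr rfl fun η _ => ?_
      push_cast
      field_simp
  have hlow : ∀ χ ∈ B, blockHeight p B (χ : G → ℂ) = 0 → (blockRank p b : ℚ) * F ≤ T χ := by
    intro χ hχ h0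
    have hne : subMat p y b χ χ ≠ 0 := fun h =>
      hunit χ χ ⟨hχ, h0⟩ ⟨hχ, h0⟩ (by rw [h]; exact memLocalIdeal_zero)
    have hpos : 0 < T χ := by
      have h := hTge χ {χ} (Finset.singleton_subset_iff.2 (B.toFinite.mem_toFinset.2 hχ))
        (fun ψ hψ => by rw [Finset.mem_singleton.1 hψ]; exact hne)
      rw [Finset.card_singleton, Nat.cast_one, one_mul] at h
      exact pos_of_mul_pos_right (hdeg.trans_le h) (Nat.cast_nonneg D)
    refine trace_root_form_ge hM.1 (Dvd.dvd.mul_left (dvd_pow_self p (Nat.succ_ne_zero K)) _) zf hzsymm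
      (blockRank p b) hQ (fun ξ : b => (n χ ξ.1 : ℤ)) (fun ξ : b => ⟨s χ ξ.1, hsmem χ ξ.1⟩)
      (fun ξ => ⟨ks χ ξ.1, Subtype.ext (by simpa using hks χ ξ.1)⟩) (α χ) ?_ hpos
    refine Subtype.ext ?_
    show subMat p y b χ χ = _
    rw [hexp χ]
    simp only [AddSubmonoidClass.coe_finsetSum, IntermediateField.coe_smul, MulMemClass.coe_mul,
      IntermediateField.coe_inv, Algebra.smul_def, eq_ratCast]
    refine Finset.sum_congr rfl fun ξ _ => Finset.sum_congr rfl fun η _ => ?_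
    have hinv : conj (s χ η.1) = (s χ η.1)⁻¹ := by
      obtain hk := hks χ η.1
      rw [Complex.inv_eq_conj (Complex.norm_eq_one_of_pow_eq_one hk (pow_ne_zero _ hM.1.ne_zero))]
    rw [hinv]
    push_cast
    ring
  have hsum : ∑ χ ∈ S, T χ = ((D * blockRank p b : ℕ) : ℚ) * F := by
    simp only [hT]
    rw [← map_sum]
    have e : ∑ χ ∈ S, α χ = algebraMap ℚ (cycF N) ((D * blockRank p b : ℕ) : ℚ) := by
      refine Subtype.ext ?_
      rw [show ((∑ χ ∈ S, α χ : cycF N) : ℂ) = ∑ χ ∈ S, (α χ : ℂ) from map_sum (cycF N).val _ _]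
      rw [map_natCast]
      simpa [α, hD, hS] using htr
    rw [e, Algebra.trace_algebraMap, nsmul_eq_mul, mul_comm]
  have hl : 0 < blockRank p b := blockRank_pos hM.1 (isPBlock_nonempty hind.1)
  rw [Nat.card_eq_fintype_card, Fintype.card_subtype]
  set S0 := Finset.univ.filter fun χ : IrrCharacter G => χ ∈ B ∧ blockHeight p B (χ : G → ℂ) = 0 with hS0
  have h1 : (S0.card : ℚ) * ((blockRank p b : ℚ) * F) ≤ ∑ χ ∈ S, T χ := by
    have h := Finset.card_nsmul_le_sum S0 T ((blockRank p b : ℚ) * F) fun χ hχ => by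
      obtain ⟨-, h1, h2⟩ := Finset.mem_filter.1 hχ
      exact hlow χ h1 h2
    rw [nsmul_eq_mul] at h
    exact h.trans (Finset.sum_le_sum_of_subset_of_nonneg
      (fun χ hχ => B.toFinite.mem_toFinset.2 (Finset.mem_filter.1 hχ).2.1) fun χ _ _ => hTnn χ)
  rw [hsum, ← mul_assoc] at h1
  have h2 : S0.card * blockRank p b ≤ D * blockRank p b := by exact_mod_cast le_of_mul_le_mul_right h1 hdeg
  exact Nat.le_of_mul_le_mul_right h2 hl

/-- A block of defect at most two has at most `p ^ d` characters given such a major subsection. -/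
theorem card_block_le_of_small (hM : IsPModular p M) {B : Set (IrrCharacter G)} (hB : IsPBlock M B)
    {y : G} (hy : ∃ k : ℕ, orderOf y = p ^ k)
    {b : Set (IrrCharacter (CG(y)))} (hind : IsInducedBlock M (CG(y)) b B)
    (hdB : blockDefect p B ≤ 2) (hd : blockDefect p b ≤ blockDefect p B)
    (hc : blockDefect p b = 2 → ∃ x : CG(y), (∀ c, x * c = c * x) ∧ orderOf x = p) :
    Nat.card B ≤ p ^ blockDefect p B := by
  have h := card_height_zero_le_of_small hM hB hy hind (hd.trans hdB) hc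
  have e : Nat.card {χ : IrrCharacter G // χ ∈ B ∧ blockHeight p B (χ : G → ℂ) = 0} = Nat.card B :=
    Nat.card_congr (Equiv.subtypeEquivRight fun χ =>
      ⟨And.left, fun hχ => ⟨hχ, height_eq_zero_of_defect_le_two hM hB hdB hχ⟩⟩)
  exact e ▸ h.trans (Nat.pow_le_pow_right hM.1.pos hd)

end Cfsg.Agent.Block
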