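import Cfsg.Agent.Lib.Block.FirstMain
import Mathlib.LinearAlgebra.Trace
import Mathlib.RingTheory.Nilpotent.Lemmas
import Mathlib.LinearAlgebra.Eigenspace.Zero

/-!
# The number of blocks of a group with a normal Sylow `p`-subgroup
-/

set_option autoImplicit false

open Cfsg.Agent.Char
open scoped ComplexConjugate

namespace Cfsg.Agent.Block

universe u

variable {M : Ideal AlgInt} [hMp : M.IsPrime] {p : ℕ}

/-- A central nilpotent element of a group algebra of `p'`-order is zero. -/
theorem eq_zero_of_central_nilpotent {k : Type*} [Field k] {Q : Type*} [Group Q] [Finite Q]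
    (hQ : (Nat.card Q : k) ≠ 0) {b : MonoidAlgebra k Q} (hb : IsNilpotent b)
    (hc : ∀ g : Q, Commute b (MonoidAlgebra.single g 1)) : b = 0 := by
  classical
  haveI := Fintype.ofFinite Q
  refine MonoidAlgebra.ext (Finsupp.ext fun x => ?_)
  have hn : IsNilpotent (b * MonoidAlgebra.single x⁻¹ (1 : k)) := (hc x⁻¹).isNilpotent_mul_right hb
  haveI : Module.Finite k (MonoidAlgebra k Q) := Module.Finite.of_basis (groupBasis (R := k) (G := Q))
  have htr : LinearMap.trace k (MonoidAlgebra k Q)
      (LinearMap.mulLeft k (b * MonoidAlgebra.single x⁻¹ (1 : k))) = 0 := by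
    refine (LinearMap.isNilpotent_trace_of_isNilpotent ?_).eq_zero
    obtain ⟨n, hn⟩ := hn
    exact ⟨n, by rw [LinearMap.pow_mulLeft, hn, LinearMap.mulLeft_zero_eq_zero]⟩
  rw [LinearMap.trace_eq_matrix_trace k (groupBasis (R := k) (G := Q)), Matrix.trace] at htr
  have hd : ∀ g : Q, (LinearMap.toMatrix (groupBasis (R := k) (G := Q)) (groupBasis (R := k) (G := Q))
      (LinearMap.mulLeft k (b * MonoidAlgebra.single x⁻¹ (1 : k)))).diag g = b.coeff x := fun g => by
    simp [Matrix.diag, LinearMap.toMatrix_apply, groupBasis, MonoidAlgebra.coeff_mul_single_apply]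
  rw [Finset.sum_congr rfl fun g _ => hd g, Finset.sum_const, Finset.card_univ, nsmul_eq_mul,
    ← Nat.card_eq_fintype_card, mul_eq_zero, or_iff_right hQ] at htr
  simpa using htr

variable {G : Type u} [Group G] [Finite G]

/-- Distinct `p`-regular elements centralising a `p`-subgroup lie in distinct cosets of it. -/
theorem eq_of_regular_coset [Fact p.Prime] {P : Subgroup G} (hP : IsPGroup p P) {y y' : G}
    (hy : ¬ p ∣ orderOf y) (hy' : ¬ p ∣ orderOf y') (hyC : y ∈ Subgroup.centralizer (P : Set G))
    (h : y⁻¹ * y' ∈ P) : y = y' := by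
  have hcomm : Commute y (y⁻¹ * y') :=
    (Subgroup.mem_centralizer_iff.1 hyC _ h).symm
  obtain ⟨k, hk⟩ := IsPGroup.iff_orderOf.1 hP ⟨_, h⟩
  rw [Subgroup.orderOf_mk] at hk
  have hcomm' : Commute y⁻¹ y' := by
    have h1 := hcomm.inv_left.eq
    show y⁻¹ * y' = y' * y⁻¹
    calc y⁻¹ * y' = y * (y⁻¹ * (y⁻¹ * y')) := (mul_inv_cancel_left _ _).symm
      _ = y * (y⁻¹ * y' * y⁻¹) := by rw [h1]
      _ = y' * y⁻¹ := by group
  have h2 : (y⁻¹ * y') ^ (orderOf y * orderOf y') = 1 := by
    rw [hcomm'.mul_pow, pow_mul, inv_pow, pow_orderOf_eq_one, inv_one, one_pow, one_mul, mul_comm,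
      pow_mul, pow_orderOf_eq_one, one_pow]
  have h3 : orderOf (y⁻¹ * y') = 1 := by
    refine Nat.eq_one_of_dvd_one ?_
    have hp : p.Prime := Fact.out
    rw [← (hp.coprime_iff_not_dvd.2 (fun h => (hp.dvd_mul.1 h).elim hy hy')).pow_left k]
    exact Nat.dvd_gcd (hk ▸ dvd_rfl) (orderOf_dvd_of_pow_eq_one h2)
  rw [orderOf_eq_one_iff, inv_mul_eq_one] at h3
  exact h3

/-- The classes of `p`-regular elements centralising `Q`. -/
def regClasses (p : ℕ) (Q : Subgroup G) : Set (ConjClasses G) :=
  {C | ∀ n : G, ConjClasses.mk n = C → ¬ p ∣ orderOf n ∧ n ∈ Subgroup.centralizer (Q : Set G)}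

theorem mem_regClasses_iff (p : ℕ) (Q : Subgroup G) [Q.Normal] (x : G) :
    ConjClasses.mk x ∈ regClasses p Q ↔ ¬ p ∣ orderOf x ∧ x ∈ Subgroup.centralizer (Q : Set G) := by
  refine ⟨fun h => h x rfl, fun h n hn => ?_⟩
  obtain ⟨t, rfl⟩ := isConj_iff.1 (ConjClasses.mk_eq_mk_iff_isConj.1 hn.symm)
  refine ⟨?_, ?_⟩
  · rw [show t * x * t⁻¹ = MulAut.conj t x from rfl, MulEquiv.orderOf_eq]
    exact h.1
  · exact (inferInstance : (Subgroup.centralizer (Q : Set G)).Normal).conj_mem x h.2 t

/-- With a normal Sylow subgroup the blocks correspond in number to the classes of `p`-regular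
elements centralising it. -/
theorem card_pBlocks_of_normal [Fact p.Prime] (hM : IsPModular p M) (Q : Subgroup G) [Q.Normal]
    (hQ : IsPGroup p Q) (hidx : ¬ p ∣ Q.index) :
    (pBlocks M G).card = Nat.card (regClasses p Q) := by
  classical
  haveI := Fintype.ofFinite (ConjClasses G)
  haveI := Fintype.ofFinite (regClasses p Q)
  haveI : CharP (ResK M) p := locRing_charP hM.1 hM.2.2
  let k := ResK M
  let sec : k → ℂ := fun r => ((Function.surjInv IsLocalRing.residue_surjective r : locRing M) : ℂ)
  have hsecm : ∀ r, sec r ∈ locRing M := fun r => SetLike.coe_mem _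
  have hsec : ∀ r, resC M (sec r) = r := fun r => by
    rw [resC_of_mem (SetLike.coe_mem _)]
    exact Function.surjInv_eq IsLocalRing.residue_surjective r
  choose rep hrep using fun c : {c // c ∈ pBlocks M G} => isPBlock_nonempty (mem_pBlocks.1 c.2)
  -- the evaluation map
  let Ψ : (regClasses p Q → k) →ₗ[k] ({c // c ∈ pBlocks M G} → k) :=
    { toFun := fun f c => ∑ C : regClasses p Q, f C * ro M (rep c) (classSum (classRep C.1))
      map_add' := fun f g => funext fun c => by
        simp [add_mul, Finset.sum_add_distrib]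
      map_smul' := fun r f => funext fun c => by
        simp only [RingHom.id_apply, Pi.smul_apply, smul_eq_mul, mul_assoc, ← Finset.mul_sum] }
  let lift : (regClasses p Q → k) → MonoidAlgebra ℂ G := fun f =>
    ∑ C : regClasses p Q, sec (f C) • classSum (classRep C.1)
  have hlift : ∀ f, CL M (lift f) := fun f => CL.sum _ _ fun C _ => (CL.classSum _).smul (hsecm _)
  have hΨ : ∀ f c, Ψ f c = ro M (rep c) (lift f) := fun f c => by
    rw [ro_sum _ _ _ fun C _ => (CL.classSum _).smul (hsecm _)]
    refine Finset.sum_congr rfl fun C _ => ?_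
    rw [ro_smul _ (hsecm _) (CL.classSum _), hsec]
  have hcoeff : ∀ f (x : G), resC M ((lift f).coeff x) =
      if h : ConjClasses.mk x ∈ regClasses p Q then f ⟨_, h⟩ else 0 := by
    intro f x
    have he : (lift f).coeff x = ∑ C : regClasses p Q,
        if C.1 = ConjClasses.mk x then sec (f C) else 0 := by
      simp only [lift, MonoidAlgebra.coeff_sum, Finsupp.finsetSum_apply, MonoidAlgebra.coeff_smul,
        Finsupp.smul_apply, classSum, coeff_mkA, smul_eq_mul, mul_ite, mul_one, mul_zero]
      refine Finset.sum_congr rfl fun C _ => if_congr ?_ rfl rfl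
      rw [← ConjClasses.mk_eq_mk_iff_isConj, mk_classRep]
    rw [he]
    split
    next h =>
      rw [Finset.sum_eq_single ⟨_, h⟩, if_pos rfl, hsec]
      · intro C _ hne
        rw [if_neg fun h' => hne (Subtype.ext h')]
      · exact fun h' => absurd (Finset.mem_univ _) h'
    next h =>
      rw [Finset.sum_eq_zero fun (C : regClasses p Q) _ => if_neg fun (h' : C.1 = ConjClasses.mk x) => h (h' ▸ C.2), resC_zero]
  -- injective
  have hinj : Function.Injective Ψ := by
    rw [injective_iff_map_eq_zero]
    intro f hf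
    have h0 : ∀ χ : IrrCharacter G, ro M χ (lift f) = 0 := fun χ => by
      set c : {c // c ∈ pBlocks M G} := ⟨_, mem_pBlocks.2 (isPBlock_blockOf χ)⟩
      rw [ro_congr (isPBlock_blockOf χ) (self_mem_blockOf χ) (hrep c) (hlift f), ← hΨ, hf]
      rfl
    obtain ⟨n, hn⟩ := exists_pow_memLocalIdeal hM (hlift f) h0
    have hbot : IsPGroup p (⊥ : Subgroup G) := IsPGroup.of_bot
    set b := brFun M (⊥ : Subgroup G) (lift f) with hbdef
    have hbnil : IsNilpotent b := ⟨n, by
      rw [hbdef, ← (brFun_pow hM hbot ((hlift f).ps _) n).1]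
      exact (brFun_bot_eq_zero_iff ((hlift f).pow n).2).2 hn⟩
    have hbco : ∀ x : G, b.coeff x = if h : ConjClasses.mk x ∈ regClasses p Q then f ⟨_, h⟩ else 0 :=
      fun x => by
        rw [hbdef, coeff_brFun_of_mem _ (by rw [centralizer_bot]; trivial), hcoeff]
    have hbcl : ∀ g : G, Commute b (MonoidAlgebra.single g 1) := fun g => by
      refine MonoidAlgebra.ext (Finsupp.ext fun x => ?_)
      rw [MonoidAlgebra.coeff_mul_single_apply, MonoidAlgebra.coeff_single_mul_apply, mul_one, one_mul,
        hbdef, coeff_brFun_of_mem _ (by rw [centralizer_bot]; trivial),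
        coeff_brFun_of_mem _ (by rw [centralizer_bot]; trivial)]
      congr 1
      have := (hlift f).1 (g⁻¹ * x) g
      simp only [mul_inv_cancel_left] at this
      exact this
    -- the image modulo `Q`
    let π := MonoidAlgebra.mapDomainRingHom k (QuotientGroup.mk' Q)
    have hz : π b = 0 := by
      refine eq_zero_of_central_nilpotent ?_ (hbnil.map π) fun q => ?_
      · rw [← Subgroup.index_eq_card, Ne, CharP.cast_eq_zero_iff k p]
        exact hidx
      · obtain ⟨g, rfl⟩ := QuotientGroup.mk'_surjective Q q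
        simpa [π] using (hbcl g).map π
    refine funext fun C => ?_
    obtain ⟨C, hC⟩ := C
    have hx := hC (classRep C) (mk_classRep C)
    have hS : Set.InjOn (QuotientGroup.mk' Q)
        {x : G | ¬ p ∣ orderOf x ∧ x ∈ Subgroup.centralizer (Q : Set G)} := fun y hy y' hy' h =>
      eq_of_regular_coset hQ hy.1 hy'.1 hy.2 ((QuotientGroup.eq).1 h)
    have hsupp : (b.coeff.support : Set G) ⊆
        {x : G | ¬ p ∣ orderOf x ∧ x ∈ Subgroup.centralizer (Q : Set G)} := fun x hxs => by
      rw [Finset.mem_coe, Finsupp.mem_support_iff, hbco] at hxs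
      by_contra h'
      rw [dif_neg fun h => h' ((mem_regClasses_iff p Q x).1 h)] at hxs
      exact hxs rfl
    have hval : (π b).coeff (QuotientGroup.mk' Q (classRep C)) = b.coeff (classRep C) := by
      simp only [π, MonoidAlgebra.mapDomainRingHom_apply, MonoidAlgebra.coeff_mapDomain]
      exact Finsupp.mapDomain_apply' _ _ hsupp hS hx
    rw [hz, hbco, dif_pos (show ConjClasses.mk (classRep C) ∈ regClasses p Q by
      rw [mk_classRep]; exact hC)] at hval
    simp only [mk_classRep, MonoidAlgebra.coeff_zero, Finsupp.zero_apply] at hval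
    exact hval.symm
  -- surjective
  have hsurj : Function.Surjective Ψ := by
    rw [← LinearMap.range_eq_top, eq_top_iff, ← (Pi.basisFun k {c // c ∈ pBlocks M G}).span_eq,
      Submodule.span_le]
    rintro _ ⟨c, rfl⟩
    have hc := mem_pBlocks.1 c.2
    refine ⟨fun C => resC M ((blockIdem c.1).coeff (classRep C.1)), funext fun d => ?_⟩
    rw [hΨ]
    have hbr : brFun M Q (lift fun C => resC M ((blockIdem c.1).coeff (classRep C.1))) =
        brFun M Q (blockIdem c.1) := by
      refine brFun_congr fun x hx => ?_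
      rw [hcoeff]
      split
      next h =>
        show resC M ((blockIdem c.1).coeff (classRep (ConjClasses.mk x))) = _
        rw [IsClassFunction.apply_isConj (isCentralElt_blockIdem c.1) (isConj_classRep_mk x)]
      next h =>
        have hdvd : p ∣ orderOf x := by_contra fun hd => h ((mem_regClasses_iff p Q x).2 ⟨hd, hx⟩)
        have h0 : blockCoeff c.1 x = 0 := blockCoeff_eq_zero_of_dvd hM hc hdvd
        simp [blockIdem, h0]
    obtain ⟨D, hD⟩ := exists_isDefectGroup (p := p) (mem_pBlocks.1 d.2)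
    have hDQ : D = Q := by
      have hle := pCore_le_defectGroup hM (mem_pBlocks.1 d.2) hD Q hQ
      have hDp := isPGroup_of_isDefectGroup hD
      refine (Subgroup.eq_of_le_of_card_ge hle ?_).symm
      obtain ⟨S, hS⟩ := hDp.exists_le_sylow
      obtain ⟨m, hm⟩ := IsPGroup.iff_card.1 hQ
      have hcard : Nat.card (S : Subgroup G) ≤ Nat.card Q := by
        have h1 := Subgroup.card_mul_index Q
        obtain ⟨j, hj⟩ := IsPGroup.iff_card.1 S.2
        have h2 : p ^ j ∣ Nat.card Q * Q.index := by
          rw [h1, ← hj]; exact Subgroup.card_subgroup_dvd_card _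
        have h3 : p ^ j ∣ Nat.card Q :=
          ((((Nat.Prime.coprime_iff_not_dvd Fact.out).2 hidx).pow_left j)).dvd_of_dvd_mul_right h2
        rw [hj]
        exact Nat.le_of_dvd Nat.card_pos h3
      exact (Subgroup.card_le_of_le hS).trans hcard
    subst hDQ
    have h1 : ro M (rep d) (lift fun C => resC M ((blockIdem c.1).coeff (classRep C.1))) =
        ro M (rep d) (blockIdem c.1) := by
      rw [← sub_eq_zero, ← ro_sub _ (hlift _) (CL.blockIdem hc)]
      refine ro_eq_zero_of_brFun hM (mem_pBlocks.1 d.2) hD (hrep d) ((hlift _).sub (CL.blockIdem hc)) ?_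
      rw [brFun_sub (hlift _).2 (isLocElt_blockIdem hc), hbr, sub_self]
    rw [h1, Pi.basisFun_apply, Pi.single_apply]
    by_cases hdc : d = c
    · rw [if_pos hdc, hdc, ro_blockIdem_mem (hrep c)]
    · rw [if_neg hdc, ro_blockIdem_notMem fun h =>
        hdc (Subtype.ext (isPBlock_eq_of_mem (mem_pBlocks.1 d.2) hc (hrep d) h))]
  have := (LinearEquiv.ofBijective Ψ ⟨hinj, hsurj⟩).finrank_eq
  rw [Module.finrank_fintype_fun_eq_card, Module.finrank_fintype_fun_eq_card, Fintype.card_coe] at this
  rw [← this, Nat.card_eq_fintype_card]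

end Cfsg.Agent.Block
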