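import Cfsg.Agent.Lib.Solv.Basic
import Mathlib.GroupTheory.Sylow
import Mathlib.GroupTheory.PGroup

/-!
# Trivial intersection Sylow subgroups in groups with trivial cores
-/

set_option autoImplicit false
set_option linter.style.haveILetI false
set_option linter.unusedSectionVars false
set_option linter.unusedVariables false

namespace Cfsg.Agent.Block.TICores

open Cfsg Subgroup
open scoped Pointwise

universe u

variable {H : Type u} [Group H] [Finite H] {p : ℕ} [hpf : Fact p.Prime]

theorem mem_smul_iff (S : Subgroup H) (g x : H) :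
    x ∈ MulAut.conj g • S ↔ g⁻¹ * x * g ∈ S := by
  rw [Subgroup.mem_pointwise_smul_iff_inv_smul_mem, ← map_inv, MulAut.smul_def, MulAut.conj_apply,
    inv_inv]

theorem inf_ne_bot (N : Subgroup H) [N.Normal] (hp : p ∣ Nat.card N) (P : Sylow p H) :
    (P : Subgroup H) ⊓ N ≠ ⊥ := by
  obtain ⟨y, hy⟩ := exists_prime_orderOf_dvd_card' p hp
  have hyp : IsPGroup p (zpowers (y : H)) :=
    IsPGroup.of_card (n := 1) (by rw [Nat.card_zpowers, orderOf_coe, hy, pow_one])
  obtain ⟨S, hS⟩ := hyp.exists_le_sylow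
  obtain ⟨c, hc⟩ := MulAction.exists_smul_eq H P S
  have hm : (y : H) ∈ (S : Subgroup H) := hS (mem_zpowers _)
  rw [← hc, Sylow.coe_subgroup_smul, mem_smul_iff] at hm
  intro hb
  have h1 : c⁻¹ * (y : H) * c ∈ (P : Subgroup H) ⊓ N :=
    ⟨hm, by simpa using (inferInstance : N.Normal).conj_mem _ y.2 c⁻¹⟩
  rw [hb, mem_bot] at h1
  have : (y : H) = 1 := by
    have := congrArg (fun z => c * z * c⁻¹) h1
    simpa [mul_assoc] using this
  rw [← orderOf_eq_one_iff, orderOf_coe, hy] at this
  exact hpf.out.one_lt.ne' this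

/-- The centraliser of a nontrivial element of a trivial intersection Sylow subgroup. -/
theorem centralizer_le (P : Sylow p H)
    (hTI : ∀ g : H, g ∉ normalizer ((P : Subgroup H) : Set H) →
      (P : Subgroup H) ⊓ (MulAut.conj g • (P : Subgroup H)) = ⊥)
    {x : H} (hx : x ∈ (P : Subgroup H)) (hx1 : x ≠ 1) :
    centralizer ({x} : Set H) ≤ normalizer ((P : Subgroup H) : Set H) := by
  intro g hg
  by_contra hn
  refine hx1 (mem_bot.1 (hTI g hn ▸ (⟨hx, ?_⟩ : x ∈ (P : Subgroup H) ⊓ (MulAut.conj g • (P : Subgroup H)))))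
  show x ∈ MulAut.conj g • (P : Subgroup H)
  rw [mem_smul_iff, mul_assoc, ← mem_centralizer_singleton_iff.1 hg, inv_mul_cancel_left]
  exact hx

/-- A normal subgroup inside the normaliser of a Sylow subgroup has `p'`-order if its core is trivial. -/
theorem not_dvd_of_le_normalizer (P : Sylow p H) (M : Subgroup H) [M.Normal]
    (hM : pCore p M = ⊥) (hle : M ≤ normalizer ((P : Subgroup H) : Set H)) : ¬ p ∣ Nat.card M := by
  intro hd
  refine inf_ne_bot M hd P ?_
  set R := (P : Subgroup H).subgroupOf M with hR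
  haveI : R.Normal := ⟨fun a ha g => by
    rw [hR, mem_subgroupOf] at ha ⊢
    simpa using ((mem_normalizer_iff.1 (hle g.2)) (a : H)).1 ha⟩
  have h1 : R ≤ pCore p M := Solv.le_pCore P.isPGroup'.comap_subtype
  rw [hM] at h1
  rw [eq_bot_iff]
  intro y hy
  have := h1 (show (⟨y, hy.2⟩ : M) ∈ R from hy.1)
  rw [mem_bot] at this ⊢
  exact congrArg Subtype.val this

theorem pCore_eq_bot_of_normal (h : pCore p H = ⊥) (N : Subgroup H) [N.Normal] : pCore p N = ⊥ := by
  apply map_injective N.subtype_injective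
  rw [Subgroup.map_bot, Solv.pCore_map_subtype, h, bot_inf_eq]

theorem pPrimeCore_eq_bot_of_normal (h : pPrimeCore p H = ⊥) (N : Subgroup H) [N.Normal] :
    pPrimeCore p N = ⊥ := by
  apply map_injective N.subtype_injective
  rw [Subgroup.map_bot, Solv.pPrimeCore_map_subtype, h, bot_inf_eq]

theorem dvd_card_of_normal (h : pPrimeCore p H = ⊥) {N : Subgroup H} [N.Normal] (hN : N ≠ ⊥) :
    p ∣ Nat.card N := by
  by_contra hd
  exact hN (le_bot_iff.1 (h ▸ Solv.le_pPrimeCore (hpf.out.coprime_iff_not_dvd.2 hd).symm))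

/-- Disjoint normal subgroups centralise each other. -/
theorem le_centralizer_of_inf {M N : Subgroup H} [M.Normal] [N.Normal] (h : M ⊓ N = ⊥) :
    M ≤ centralizer (N : Set H) := by
  rw [← commutator_eq_bot_iff_le_centralizer, ← le_bot_iff, ← h]
  exact commutator_le_inf _ _

/-- Nontrivial normal subgroups cannot centralise one another. -/
theorem centralizer_eq_bot (hOp : pCore p H = ⊥) (hOp' : pPrimeCore p H = ⊥) (P : Sylow p H)
    (hTI : ∀ g : H, g ∉ normalizer ((P : Subgroup H) : Set H) →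
      (P : Subgroup H) ⊓ (MulAut.conj g • (P : Subgroup H)) = ⊥)
    {M : Subgroup H} [M.Normal] (hM : M ≠ ⊥) : centralizer (M : Set H) = ⊥ := by
  by_contra hC
  obtain ⟨x, hx, hx1⟩ := (Subgroup.ne_bot_iff_exists_ne_one.1
    (inf_ne_bot (centralizer (M : Set H)) (dvd_card_of_normal hOp' hC) P)) |> fun ⟨x, hx⟩ =>
    (⟨(x : H), x.2, fun e => hx (Subtype.ext e)⟩ : ∃ x, x ∈ (P : Subgroup H) ⊓ centralizer (M : Set H) ∧ x ≠ 1)
  refine not_dvd_of_le_normalizer P M (pCore_eq_bot_of_normal hOp M) ?_ (dvd_card_of_normal hOp' hM)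
  intro m hm
  refine centralizer_le P hTI hx.1 hx1 ?_
  rw [mem_centralizer_singleton_iff]
  exact mem_centralizer_iff.1 hx.2 m hm

theorem structure_of_TI (hOp : pCore p H = ⊥) (hOp' : pPrimeCore p H = ⊥) (P : Sylow p H)
    (hP1 : (P : Subgroup H) ≠ ⊥)
    (hTI : ∀ g : H, g ∉ normalizer ((P : Subgroup H) : Set H) →
      (P : Subgroup H) ⊓ (MulAut.conj g • (P : Subgroup H)) = ⊥) :
    ∃ N : Subgroup H, N.Normal ∧ N ≠ ⊥ ∧ (∀ K : Subgroup H, K.Normal → K ≠ ⊥ → N ≤ K) ∧
      IsSimpleGroup N ∧ ¬ IsMulCommutative N ∧ centralizer (N : Set H) = ⊥ ∧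
      ∀ Q : Sylow p N, (Q : Subgroup N) ≠ ⊥ ∧
        ∀ n : N, n ∉ normalizer ((Q : Subgroup N) : Set N) →
          (Q : Subgroup N) ⊓ (MulAut.conj n • (Q : Subgroup N)) = ⊥ := by
  haveI : Nontrivial H := by
    by_contra hn
    rw [not_nontrivial_iff_subsingleton] at hn
    exact hP1 (Subsingleton.elim _ _)
  obtain ⟨N, hN, -, hN1, hmin⟩ := Solv.exists_minimal_normal_le (N := (⊤ : Subgroup H)) top_ne_bot
  haveI := hN
  have hC := centralizer_eq_bot hOp hOp' P hTI hN1
  have hTI' : ∀ P' : Sylow p H, ∀ g : H, g ∉ normalizer ((P' : Subgroup H) : Set H) →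
      (P' : Subgroup H) ⊓ (MulAut.conj g • (P' : Subgroup H)) = ⊥ := by
    intro P' g hg
    obtain ⟨c, hc⟩ := MulAction.exists_smul_eq H P P'
    have hgn : c⁻¹ * g * c ∉ normalizer ((P : Subgroup H) : Set H) := by
      intro h
      refine hg (mem_normalizer_iff.2 fun x => ?_)
      rw [← hc, Sylow.coe_subgroup_smul, mem_smul_iff, mem_smul_iff]
      have := (mem_normalizer_iff.1 h) (c⁻¹ * x * c)
      simpa [mul_assoc] using this
    rw [eq_bot_iff]
    intro x hx
    obtain ⟨h1, h2⟩ := hx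
    change x ∈ (P' : Subgroup H) at h1
    change x ∈ MulAut.conj g • (P' : Subgroup H) at h2
    rw [← hc, Sylow.coe_subgroup_smul] at h1 h2
    rw [mem_smul_iff] at h1
    rw [mem_smul_iff, mem_smul_iff] at h2
    have h3 : c⁻¹ * x * c ∈ (P : Subgroup H) ⊓ (MulAut.conj (c⁻¹ * g * c) • (P : Subgroup H)) := by
      refine ⟨h1, ?_⟩
      show c⁻¹ * x * c ∈ MulAut.conj (c⁻¹ * g * c) • (P : Subgroup H)
      rw [mem_smul_iff]
      simpa [mul_assoc] using h2
    rw [hTI _ hgn, mem_bot] at h3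
    rw [mem_bot]
    have := congrArg (fun z => c * z * c⁻¹) h3
    simpa [mul_assoc] using this
  have hNp := pCore_eq_bot_of_normal hOp N
  have hNp' := pPrimeCore_eq_bot_of_normal hOp' N
  haveI : Nontrivial N := (Subgroup.nontrivial_iff_ne_bot N).2 hN1
  refine ⟨N, hN, hN1, fun K hK hK1 => ?_, ?_, ?_, hC, fun Q => ?_⟩
  · haveI := hK
    rcases hmin (N ⊓ K) inferInstance inf_le_left with h | h
    · exfalso
      have := le_centralizer_of_inf (M := K) (N := N) (by rwa [inf_comm])
      rw [hC, le_bot_iff] at this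
      exact hK1 this
    · exact h ▸ inf_le_right
  · refine ⟨fun K hK => ?_⟩
    haveI := hK
    by_contra hcon
    rw [not_or] at hcon
    obtain ⟨M, hMn, hMK, hM1, hMmin⟩ := Solv.exists_minimal_normal_le hcon.1
    haveI := hMn
    have hMtop : M ≠ ⊤ := fun e => hcon.2 (top_le_iff.1 (e ▸ hMK))
    obtain ⟨x, hx, hx1⟩ : ∃ x, x ∈ centralizer (M : Set N) ∧ x ≠ 1 := by
      by_contra hn
      push Not at hn
      have hbot : centralizer (M : Set N) = ⊥ := (Subgroup.eq_bot_iff_forall _).2 hn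
      -- all conjugates of `M` coincide
      have hfix : ∀ h : H, ∀ m : N, m ∈ M → ∀ m' : N, (m' : H) = h * m * h⁻¹ → m' ∈ M := by
        intro h
        let e : N ≃* N := MulAut.conjNormal h
        haveI : (M.map e.toMonoidHom).Normal := hMn.map _ e.surjective
        have hle : M ≤ M.map e.toMonoidHom := by
          rcases hMmin (M ⊓ M.map e.toMonoidHom) inferInstance inf_le_left with h0 | h0
          · exfalso
            have h2 := le_centralizer_of_inf (M := M.map e.toMonoidHom) (N := M) (by rwa [inf_comm])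
            rw [hbot, le_bot_iff] at h2
            exact hM1 ((map_eq_bot_iff_of_injective (f := e.toMonoidHom) M e.injective).1 h2)
          · exact inf_eq_left.1 h0
        have heq : M = M.map e.toMonoidHom := eq_of_le_of_card_ge hle
          (by rw [card_map_of_injective (f := e.toMonoidHom) e.injective])
        intro m hm m' hm'
        rw [heq]
        exact ⟨m, hm, Subtype.ext (by rw [hm']; exact MulAut.conjNormal_apply h m)⟩
      have hMH : (M.map N.subtype).Normal := ⟨by
        rintro _ ⟨m, hm, rfl⟩ h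
        exact ⟨⟨h * m * h⁻¹, hN.conj_mem _ m.2 h⟩, hfix h m hm _ rfl, rfl⟩⟩
      rcases hmin _ hMH (map_subtype_le M) with h0 | h0
      · exact hM1 ((map_eq_bot_iff_of_injective _ N.subtype_injective).1 h0)
      · refine hMtop (map_injective N.subtype_injective ?_)
        rw [h0, ← MonoidHom.range_eq_map, range_subtype]
    have hCM : centralizer (M : Set N) ≠ ⊥ := fun e => hx1 (mem_bot.1 (e ▸ hx))
    obtain ⟨Q⟩ := Sylow.nonempty (p := p) (G := N)
    obtain ⟨⟨y, hy⟩, hy1⟩ := Subgroup.ne_bot_iff_exists_ne_one.1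
      (inf_ne_bot (centralizer (M : Set N)) (dvd_card_of_normal hNp' hCM) Q)
    have hQp : IsPGroup p ((Q : Subgroup N).map N.subtype) := Q.isPGroup'.map _
    obtain ⟨P', hP'⟩ := hQp.exists_le_sylow
    have hyP : (y : H) ∈ (P' : Subgroup H) := hP' ⟨y, hy.1, rfl⟩
    have hy1' : (y : H) ≠ 1 := fun e => hy1 (Subtype.ext (Subtype.ext e))
    have hM' : pCore p M = ⊥ := pCore_eq_bot_of_normal hNp M
    refine not_dvd_of_le_normalizer Q M hM' ?_ (dvd_card_of_normal hNp' hM1)
    intro m hm
    have hmn : (m : H) ∈ normalizer ((P' : Subgroup H) : Set H) := by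
      refine centralizer_le P' (hTI' P') hyP hy1' ?_
      rw [mem_centralizer_singleton_iff]
      exact congrArg Subtype.val (mem_centralizer_iff.1 hy.2 m hm)
    have hQeq : (Q : Subgroup N) = (P' : Subgroup H).comap N.subtype :=
      (Q.3 P'.isPGroup'.comap_subtype (fun z hz => hP' ⟨z, hz, rfl⟩)).symm
    rw [hQeq, mem_normalizer_iff]
    intro z
    exact (mem_normalizer_iff.1 hmn) (z : H)
  · intro hc
    haveI := hc
    have : N ≤ centralizer (N : Set H) := le_centralizer N
    rw [hC, le_bot_iff] at this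
    exact hN1 this
  · have hd : p ∣ Nat.card N := dvd_card_of_normal hOp' hN1
    refine ⟨Q.ne_bot_of_dvd_card hd, fun n hn => ?_⟩
    have hQp : IsPGroup p ((Q : Subgroup N).map N.subtype) := Q.isPGroup'.map _
    obtain ⟨P', hP'⟩ := hQp.exists_le_sylow
    have hQeq : (Q : Subgroup N) = (P' : Subgroup H).comap N.subtype :=
      (Q.3 P'.isPGroup'.comap_subtype (fun z hz => hP' ⟨z, hz, rfl⟩)).symm
    have hn' : (n : H) ∉ normalizer ((P' : Subgroup H) : Set H) := fun h => hn (by
      rw [hQeq, mem_normalizer_iff]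
      intro z
      exact (mem_normalizer_iff.1 h) (z : H))
    rw [eq_bot_iff]
    rintro x ⟨hx1, hx2⟩
    change x ∈ MulAut.conj n • (Q : Subgroup N) at hx2
    rw [mem_smul_iff] at hx2
    have h3 : (x : H) ∈ (P' : Subgroup H) ⊓ (MulAut.conj (n : H) • (P' : Subgroup H)) := by
      refine ⟨hP' ⟨x, hx1, rfl⟩, ?_⟩
      show (x : H) ∈ MulAut.conj (n : H) • (P' : Subgroup H)
      rw [mem_smul_iff]
      exact hP' ⟨_, hx2, rfl⟩
    rw [hTI' P' _ hn', mem_bot] at h3
    exact mem_bot.2 (Subtype.ext h3)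

end Cfsg.Agent.Block.TICores
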