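import Cfsg.Agent.Lib.Block.Basic
import Cfsg.Agent.Lib.Block.PPrimeDegrees
import Cfsg.Agent.Lib.Char.Clifford
import Mathlib.RingTheory.Valuation.LocalSubring
import Mathlib.GroupTheory.Sylow

/-!
# Characters of small degree of groups with a trivial intersection Sylow subgroup

A representation of dimension less than `|P|` without fixed vectors has no fixed vectors under a
subgroup containing the normaliser of `P`: modulo a valuation over `p` the sum over `P` kills it,
and `P` permutes freely the cosets other than the base one.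
-/

set_option autoImplicit false
set_option linter.style.haveILetI false
set_option linter.unusedSectionVars false
set_option linter.unusedVariables false

namespace Cfsg.Agent.Block.TISmall

open Cfsg Cfsg.Agent.Char Cfsg.Agent.Block
open scoped Classical ComplexConjugate Pointwise

universe u

variable {G : Type u} [Group G] [Finite G] {n : ℕ}

/-- The vectors all of whose translates are integral at `V`. -/
def IsInt (V : ValuationSubring ℂ) (ρ : Representation ℂ G (Fin n → ℂ)) (w : Fin n → ℂ) : Prop :=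
  ∀ g i, ρ g w i ∈ V

/-- The vectors all of whose translates are small at `V`. -/
def IsSmall (V : ValuationSubring ℂ) (ρ : Representation ℂ G (Fin n → ℂ)) (w : Fin n → ℂ) : Prop :=
  ∀ g i, ρ g w i ∈ V.nonunits

variable {V : ValuationSubring ℂ} {ρ : Representation ℂ G (Fin n → ℂ)}

theorem IsInt.rho {w : Fin n → ℂ} (h : IsInt V ρ w) (x : G) : IsInt V ρ (ρ x w) := fun g i => by
  rw [← Module.End.mul_apply, ← map_mul]
  exact h (g * x) i

theorem IsSmall.rho {w : Fin n → ℂ} (h : IsSmall V ρ w) (x : G) : IsSmall V ρ (ρ x w) := fun g i => by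
  rw [← Module.End.mul_apply, ← map_mul]
  exact h (g * x) i

theorem val_lt {z : ℂ} : z ∈ V.nonunits ↔ V.valuation z < 1 := Iff.rfl

theorem isSmall_zero : IsSmall V ρ 0 := fun g i => by
  rw [map_zero, val_lt]; simp

theorem IsSmall.add {v w : Fin n → ℂ} (hv : IsSmall V ρ v) (hw : IsSmall V ρ w) :
    IsSmall V ρ (v + w) := fun g i => by
  rw [map_add, val_lt]
  exact (V.valuation).map_add_lt (val_lt.1 (hv g i)) (val_lt.1 (hw g i))

theorem IsSmall.neg {v : Fin n → ℂ} (hv : IsSmall V ρ v) : IsSmall V ρ (-v) := fun g i => by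
  rw [map_neg, val_lt, Pi.neg_apply, Valuation.map_neg]
  exact val_lt.1 (hv g i)

theorem isSmall_sum {ι : Type*} (s : Finset ι) (f : ι → Fin n → ℂ) (h : ∀ i ∈ s, IsSmall V ρ (f i)) :
    IsSmall V ρ (∑ i ∈ s, f i) := Finset.sum_induction f (IsSmall V ρ) (fun _ _ => IsSmall.add) isSmall_zero h

theorem IsSmall.smul {v : Fin n → ℂ} (hv : IsSmall V ρ v) {c : ℂ} (hc : c ∈ V) :
    IsSmall V ρ (c • v) := fun g i => by
  rw [map_smul, val_lt, Pi.smul_apply, smul_eq_mul, map_mul]
  exact mul_lt_one_of_nonneg_of_lt_one_right ((V.valuation_le_one_iff c).2 hc) zero_le (val_lt.1 (hv g i))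

theorem IsInt.smul_small {v : Fin n → ℂ} (hv : IsInt V ρ v) {c : ℂ} (hc : c ∈ V.nonunits) :
    IsSmall V ρ (c • v) := fun g i => by
  rw [map_smul, val_lt, Pi.smul_apply, smul_eq_mul, map_mul]
  exact mul_lt_one_of_nonneg_of_lt_one_left zero_le (val_lt.1 hc) ((V.valuation_le_one_iff _).2 (hv g i))

variable {p : ℕ} [hp : Fact p.Prime]

/-- In a representation of dimension below `|P|` the sum over `P` maps integral vectors to small ones. -/
theorem small_normSum (hpV : (p : ℂ) ∈ V.nonunits) (P : Subgroup G) [Fintype P] (hP : IsPGroup p P)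
    (hn : n < Fintype.card P) {u : Fin n → ℂ} (hu : IsInt V ρ u) :
    IsSmall V ρ (∑ x : P, ρ (x : G) u) := by
  let w : P → (Fin n → ℂ) := fun x => ρ (x : G) u
  have hdep : ¬ LinearIndependent ℂ w := fun h => by
    have := h.fintype_card_le_finrank
    rw [Module.finrank_fin_fun] at this
    omega
  obtain ⟨a, ha, x₀, hx₀⟩ := Fintype.not_linearIndependent_iff.1 hdep
  obtain ⟨x₁, -, hx₁⟩ := Finset.exists_max_image Finset.univ (fun x => V.valuation (a x))
    ⟨x₀, Finset.mem_univ _⟩
  have hne : a x₁ ≠ 0 := fun e => hx₀ (V.valuation.zero_iff.1 (le_zero_iff.1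
    ((hx₁ x₀ (Finset.mem_univ _)).trans (by rw [e, map_zero]))))
  let b : P → V := fun x => ⟨(a x₁)⁻¹ * a x, by
    rw [← V.valuation_le_one_iff, map_mul, map_inv₀]
    refine inv_mul_le_one_of_le₀ (hx₁ x (Finset.mem_univ _)) zero_le⟩
  have hb1 : b x₁ = 1 := Subtype.ext (inv_mul_cancel₀ hne)
  have hb : ∑ x, (b x : ℂ) • w x = 0 := by
    simp only [b, ← smul_smul, ← Finset.smul_sum, ha, smul_zero]
  -- annihilators of `u` modulo small vectors
  let K := IsLocalRing.ResidueField V
  let r : V →+* K := IsLocalRing.residue V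
  haveI : CharP K p := by
    have hpV' : (p : V) ∈ IsLocalRing.maximalIdeal V := by
      rw [IsLocalRing.mem_maximalIdeal, mem_nonunits_iff]
      exact V.coe_mem_nonunits_iff.1 (by simpa using hpV)
    refine CharP.charP_iff_prime_eq_zero hp.out |>.2 ?_
    rw [← map_natCast r p]
    exact Ideal.Quotient.eq_zero_iff_mem.2 hpV'
  let act : (P → ZMod p) →+ (P → K) :=
    { toFun := fun c y => ∑ z : P, (ZMod.castHom dvd_rfl K (c z)) * r (b (z⁻¹ * y))
      map_zero' := by funext y; simp
      map_add' := fun c d => by funext y; simp [add_mul, Finset.sum_add_distrib] }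
  have hmem : ∀ f ∈ act.range, ∃ a' : P → V, (∀ y, r (a' y) = f y) ∧ IsSmall V ρ (∑ y, (a' y : ℂ) • w y) := by
    rintro _ ⟨c, rfl⟩
    obtain ⟨N, hN⟩ : ∃ N : P → ℕ, ∀ z, (N z : ZMod p) = c z :=
      ⟨fun z => (c z).val, fun z => ZMod.natCast_zmod_val (c z)⟩
    refine ⟨fun y => ∑ z : P, (N z : V) * b (z⁻¹ * y), fun y => ?_, ?_⟩
    · show r _ = ∑ z : P, _
      rw [map_sum]
      refine Finset.sum_congr rfl fun z _ => ?_
      rw [map_mul, map_natCast]
      congr 1
      rw [← hN z, map_natCast]
    · have e : ∑ y, ((∑ z : P, (N z : V) * b (z⁻¹ * y) : V) : ℂ) • w y =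
          ∑ z : P, (N z : ℂ) • ρ (z : G) (∑ y, (b y : ℂ) • w y) := by
        simp only [map_sum, map_smul, Finset.smul_sum, AddSubmonoidClass.coe_finsetSum, MulMemClass.coe_mul,
          Finset.sum_smul]
        rw [Finset.sum_comm]
        refine Finset.sum_congr rfl fun z _ => ?_
        refine Fintype.sum_equiv (Equiv.mulLeft z⁻¹) _ _ fun y => ?_
        simp only [Equiv.coe_mulLeft, w, smul_smul, Subgroup.coe_mul, Subgroup.coe_inv, map_mul, Module.End.mul_apply]
        rw [← Module.End.mul_apply, ← map_mul, ← Module.End.mul_apply, ← map_mul]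
        simp
      rw [e]
      simp only [hb, map_zero, smul_zero, Finset.sum_const_zero]
      exact isSmall_zero
  let S := act.range
  haveI : Finite S := Finite.of_surjective act.rangeRestrict act.rangeRestrict_surjective
  have hstable : ∀ (g : P) (f : P → K), f ∈ S → (fun y => f (g⁻¹ * y)) ∈ S := by
    rintro g _ ⟨c, rfl⟩
    refine ⟨fun z => c (g⁻¹ * z), funext fun y => ?_⟩
    show ∑ z : P, _ = ∑ z : P, _
    refine Fintype.sum_equiv (Equiv.mulLeft g⁻¹) _ _ fun z => ?_
    simp [mul_assoc]
  letI : MulAction P S :=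
    { smul := fun g f => ⟨fun y => (f : P → K) (g⁻¹ * y), hstable g f f.2⟩
      one_smul := fun f => Subtype.ext (funext fun y => show (f : P → K) (1⁻¹ * y) = _ by simp)
      mul_smul := fun g h f => Subtype.ext (funext fun y =>
        show (f : P → K) ((g * h)⁻¹ * y) = (f : P → K) (h⁻¹ * (g⁻¹ * y)) by simp [mul_assoc]) }
  have hbS : (fun y => r (b y)) ∈ S := by
    refine ⟨fun z => if z = 1 then 1 else 0, funext fun y => ?_⟩
    show ∑ z : P, _ = _
    rw [Finset.sum_eq_single 1 (fun z _ hz => by simp [hz])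
      (fun h => absurd (Finset.mem_univ _) h)]
    simp
  have hS2 : p ∣ Nat.card S := by
    let s : S := ⟨_, hbS⟩
    have hs : addOrderOf s = p := by
      refine addOrderOf_eq_prime (Subtype.ext (funext fun y => ?_)) (fun e => ?_)
      · show p • r (b y) = 0
        rw [nsmul_eq_mul, CharP.cast_eq_zero, zero_mul]
      · have := congrFun (congrArg Subtype.val e) x₁
        change r (b x₁) = 0 at this
        rw [hb1, map_one] at this
        exact one_ne_zero this
    exact hs ▸ addOrderOf_dvd_natCard s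
  have hzero : (0 : S) ∈ MulAction.fixedPoints P S := fun g => Subtype.ext (funext fun y => rfl)
  obtain ⟨f, hf, hf0⟩ := hP.exists_fixed_point_of_prime_dvd_card_of_fixed_point S hS2 hzero
  obtain ⟨a', ha', hsm⟩ := hmem f f.2
  have hconst : ∀ y, (f : P → K) y = (f : P → K) 1 := fun y => by
    have := congrFun (congrArg Subtype.val (hf y)) y
    change (f : P → K) (y⁻¹ * y) = (f : P → K) y at this
    rw [inv_mul_cancel] at this
    exact this.symm
  have hunit : IsUnit (a' 1) := by
    by_contra hu'
    have h0 : r (a' 1) = 0 := Ideal.Quotient.eq_zero_iff_mem.2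
      ((IsLocalRing.mem_maximalIdeal _).2 hu')
    exact hf0 (Subtype.ext (funext fun y => by
      show (0 : K) = (f : P → K) y
      rw [hconst y, ← ha' 1, h0]))
  obtain ⟨e, he⟩ := hunit.exists_left_inv
  have hdiff : ∀ y, ((a' y : ℂ) - (a' 1 : ℂ)) ∈ V.nonunits := fun y => by
    rw [← AddSubgroupClass.coe_sub, V.coe_mem_nonunits_iff]
    refine Ideal.Quotient.eq_zero_iff_mem.1 ?_
    show r (a' y - a' 1) = 0
    rw [map_sub, ha', ha', hconst y, sub_self]
  have h1 : IsSmall V ρ ((a' 1 : ℂ) • ∑ y, w y) := by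
    have e' : (a' 1 : ℂ) • ∑ y, w y =
        ∑ y, (a' y : ℂ) • w y + -∑ y, ((a' y : ℂ) - a' 1) • w y := by
      rw [Finset.smul_sum, ← sub_eq_add_neg, ← Finset.sum_sub_distrib]
      simp [sub_smul]
    rw [e']
    exact hsm.add (isSmall_sum _ _ fun (y : P) _ => IsInt.smul_small (hu.rho (y : G)) (hdiff y)).neg
  have h2 := h1.smul e.2
  rwa [smul_smul, ← MulMemClass.coe_mul, he, OneMemClass.coe_one, one_smul] at h2

/-- A sum over a set of free orbits is small. -/
theorem small_free_sum (hpV : (p : ℂ) ∈ V.nonunits) (P : Subgroup G) [Fintype P] (hP : IsPGroup p P)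
    (hn : n < Fintype.card P) {X : Type u} [MulAction G X] (F : X → (Fin n → ℂ))
    (hF : ∀ (x : P) z, F ((x : G) • z) = ρ (x : G) (F z)) (hint : ∀ z, IsInt V ρ (F z)) :
    ∀ s : Finset X, (∀ z ∈ s, ∀ x : P, (x : G) • z ∈ s) →
      (∀ z ∈ s, ∀ x : P, (x : G) • z = z → x = 1) → IsSmall V ρ (∑ z ∈ s, F z) := by
  intro s
  induction s using Finset.strongInduction with
  | _ s ih =>
    intro hinv hfree
    rcases s.eq_empty_or_nonempty with rfl | ⟨z, hz⟩
    · simpa using isSmall_zero
    set o : Finset X := Finset.univ.image fun x : P => (x : G) • z with ho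
    have hos : o ⊆ s := fun y hy => by
      obtain ⟨x, -, rfl⟩ := Finset.mem_image.1 hy
      exact hinv z hz x
    rw [← Finset.sum_sdiff hos]
    refine (ih (s \ o) ?_ ?_ fun y hy => hfree y (Finset.mem_sdiff.1 hy).1).add ?_
    · exact Finset.sdiff_ssubset hos ⟨_, Finset.mem_image_of_mem _ (Finset.mem_univ 1)⟩
    · intro y hy x
      obtain ⟨hys, hyo⟩ := Finset.mem_sdiff.1 hy
      refine Finset.mem_sdiff.2 ⟨hinv y hys x, fun h => hyo ?_⟩
      obtain ⟨x', -, hx'⟩ := Finset.mem_image.1 h
      refine Finset.mem_image.2 ⟨x⁻¹ * x', Finset.mem_univ _, ?_⟩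
      rw [Subgroup.coe_mul, mul_smul, hx', Subgroup.coe_inv, inv_smul_smul]
    · rw [ho, Finset.sum_image fun x _ y _ e => ?_]
      · simp only [hF]
        exact small_normSum hpV P hP hn (hint z)
      · have := hfree z hz (x⁻¹ * y) (by
          rw [Subgroup.coe_mul, mul_smul, ← e, Subgroup.coe_inv, inv_smul_smul])
        exact inv_mul_eq_one.1 this

/-- No fixed vectors below a subgroup containing the normaliser. -/
theorem no_fixed (P : Sylow p G)
    (hTI : ∀ g : G, g ∉ Subgroup.normalizer ((P : Subgroup G) : Set G) →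
      (P : Subgroup G) ⊓ (MulAut.conj g • (P : Subgroup G)) = ⊥)
    (H : Subgroup G) (hH : Subgroup.normalizer ((P : Subgroup G) : Set G) ≤ H)
    (ρ : Representation ℂ G (Fin n → ℂ)) (hn : n < Nat.card (P : Subgroup G))
    (hG : ∀ v, (∀ g, ρ g v = v) → v = 0) (v : Fin n → ℂ) (hv : ∀ h ∈ H, ρ h v = v) : v = 0 := by
  by_contra hv0
  haveI := Fintype.ofFinite G
  haveI := Fintype.ofFinite (P : Subgroup G)
  obtain ⟨M, hM⟩ := exists_isPModular hp.out
  obtain ⟨V, -, hMV⟩ := Ideal.image_subset_nonunits_valuationSubring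
    (A := AlgInt.toSubring) M hM.2.1.ne_top
  have hpV : (p : ℂ) ∈ V.nonunits := hMV ⟨(p : AlgInt), hM.2.2, by simp⟩
  obtain ⟨i₀, hi₀⟩ := Function.ne_iff.1 hv0
  obtain ⟨⟨g₁, i₁⟩, -, hmax⟩ := Finset.exists_max_image Finset.univ
    (fun q : G × Fin n => V.valuation (ρ q.1 v q.2)) ⟨(1, i₀), Finset.mem_univ _⟩
  set c := ρ g₁ v i₁ with hc
  have hc0 : c ≠ 0 := fun e => hi₀ (by
    have := hmax (1, i₀) (Finset.mem_univ _)
    simp only [← hc, e, map_zero, le_zero_iff, map_one, Module.End.one_apply] at this
    simpa using this)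
  set w := c⁻¹ • v with hw
  have hwi : IsInt V ρ w := fun g i => by
    rw [hw, map_smul, Pi.smul_apply, smul_eq_mul, ← V.valuation_le_one_iff, map_mul, map_inv₀]
    exact inv_mul_le_one_of_le₀ (hmax (g, i) (Finset.mem_univ _)) zero_le
  have hwH : ∀ h ∈ H, ρ h w = w := fun h hh => by rw [hw, map_smul, hv h hh]
  let F : G ⧸ H → (Fin n → ℂ) := Quotient.lift (fun g => ρ g w) fun a b hab => by
    have hab' : a⁻¹ * b ∈ H := QuotientGroup.leftRel_apply.1 hab
    show ρ a w = ρ b w
    rw [show b = a * (a⁻¹ * b) by group, map_mul, Module.End.mul_apply, hwH _ hab']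
  have hFg : ∀ (g : G) (z : G ⧸ H), F (g • z) = ρ g (F z) := fun g z => by
    induction z using QuotientGroup.induction_on with
    | _ a =>
      rw [MulAction.Quotient.smul_mk, smul_eq_mul]
      show ρ (g * a) w = ρ g (ρ a w)
      rw [map_mul, Module.End.mul_apply]
  haveI := Fintype.ofFinite (G ⧸ H)
  have hsum : ∑ z, F z = 0 := hG _ fun g => by
    rw [map_sum]
    refine Fintype.sum_equiv (MulAction.toPerm g) _ _ fun z => ?_
    exact (hFg g z).symm
  set base : G ⧸ H := ((1 : G) : G ⧸ H) with hbase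
  have hfix : ∀ x : (P : Subgroup G), (x : G) • base = base := fun x => by
    rw [hbase, MulAction.Quotient.smul_mk, smul_eq_mul, mul_one, QuotientGroup.eq, mul_one]
    exact H.inv_mem (hH (Subgroup.le_normalizer x.2))
  have hfree : ∀ z, z ≠ base → ∀ x : (P : Subgroup G), (x : G) • z = z → x = 1 := by
    intro z
    induction z using QuotientGroup.induction_on with
    | _ a =>
      intro hz x hx
      by_contra hx1
      rw [MulAction.Quotient.smul_mk, smul_eq_mul, QuotientGroup.eq] at hx
      have hy : a⁻¹ * (x : G) * a ∈ H := by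
        have := H.inv_mem hx
        simpa [mul_assoc] using this
      -- move the conjugate into `P` inside `H`
      have hPH : (P : Subgroup G) ≤ H := Subgroup.le_normalizer.trans hH
      have hyp : IsPGroup p (Subgroup.zpowers (⟨_, hy⟩ : H)) := by
        obtain ⟨k, hk⟩ := P.isPGroup' x
        obtain ⟨j, -, hj⟩ := (Nat.dvd_prime_pow hp.out).1 (orderOf_dvd_of_pow_eq_one (show (⟨_, hy⟩ : H) ^ p ^ k = 1 from
          Subtype.ext (by
            have e : (a⁻¹ * (x : G) * a⁻¹⁻¹) ^ p ^ k = a⁻¹ * ((x : G) ^ p ^ k) * a⁻¹⁻¹ := conj_pow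
            rw [inv_inv] at e
            rw [SubgroupClass.coe_pow, e, show ((x : G) ^ p ^ k) = 1 from congrArg Subtype.val hk]
            simp)))
        exact IsPGroup.of_card (n := j) (by rw [Nat.card_zpowers, hj])
      obtain ⟨S, hS⟩ := hyp.exists_le_sylow
      obtain ⟨h, hh⟩ := MulAction.exists_smul_eq H (P.subtype hPH) S
      have hm : (⟨_, hy⟩ : H) ∈ (S : Subgroup H) := hS (Subgroup.mem_zpowers _)
      rw [← hh, Sylow.coe_subgroup_smul, Subgroup.mem_pointwise_smul_iff_inv_smul_mem] at hm
      have hm' : (h : G)⁻¹ * (a⁻¹ * (x : G) * a) * h ∈ (P : Subgroup G) := by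
        simpa [Subgroup.mem_subgroupOf, MulAut.smul_def, mul_assoc] using hm
      have hah : a * (h : G) ∈ Subgroup.normalizer ((P : Subgroup G) : Set G) := by
        by_contra hn'
        have hbot := hTI _ hn'
        have hxm : (x : G) ∈ (P : Subgroup G) ⊓ (MulAut.conj (a * (h : G)) • (P : Subgroup G)) := by
          refine ⟨x.2, ?_⟩
          show (x : G) ∈ MulAut.conj (a * (h : G)) • (P : Subgroup G)
          rw [Subgroup.mem_pointwise_smul_iff_inv_smul_mem, ← map_inv, MulAut.smul_def, MulAut.conj_apply]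
          simpa [mul_assoc] using hm'
        rw [hbot, Subgroup.mem_bot] at hxm
        exact hx1 (Subtype.ext hxm)
      refine hz ?_
      rw [hbase, QuotientGroup.eq, mul_one]
      have := H.mul_mem (hH hah) (H.inv_mem h.2)
      exact H.inv_mem (by simpa [mul_assoc] using this)
  have hsmall : IsSmall V ρ (∑ z ∈ Finset.univ.erase base, F z) := by
    refine small_free_sum hpV (P : Subgroup G) P.isPGroup' (by rwa [← Nat.card_eq_fintype_card]) F
      (fun x z => hFg x z) (fun z => ?_) _ (fun z hz x => ?_) fun z hz => hfree z (Finset.ne_of_mem_erase hz)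
    · induction z using QuotientGroup.induction_on with
      | _ a => exact hwi.rho a
    · refine Finset.mem_erase.2 ⟨fun e => Finset.ne_of_mem_erase hz ?_, Finset.mem_univ _⟩
      rw [← inv_smul_smul (x : G) z, e, ← Subgroup.coe_inv, hfix]
  rw [← Finset.add_sum_erase _ _ (Finset.mem_univ base)] at hsum
  have hFb : F base = w := by
    show ρ 1 w = w
    simp
  rw [hFb] at hsum
  have hws : IsSmall V ρ w := by
    rw [eq_neg_of_add_eq_zero_left hsum]
    exact hsmall.neg
  have := val_lt.1 (hws g₁ i₁)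
  rw [hw, map_smul, Pi.smul_apply, smul_eq_mul, ← hc, inv_mul_cancel₀ hc0, map_one] at this
  exact lt_irrefl _ this

/-- The norm of a character of degree at most `√|P|` is unchanged by restriction. -/
theorem classInner_restrict (P : Sylow p G)
    (hTI : ∀ g : G, g ∉ Subgroup.normalizer ((P : Subgroup G) : Set G) →
      (P : Subgroup G) ⊓ (MulAut.conj g • (P : Subgroup G)) = ⊥)
    (H : Subgroup G) (hH : Subgroup.normalizer ((P : Subgroup G) : Set G) ≤ H) [Fintype G] [Fintype H]
    {χ : G → ℂ} (hχ : IsCharacter G χ) (hdeg : charDegree χ ^ 2 ≤ Nat.card (P : Subgroup G)) :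
    classInner χ χ = classInner (fun h : H => χ h) (fun h : H => χ h) := by
  haveI := Fintype.ofFinite (IrrCharacter G)
  by_cases hχ0 : χ = 0
  · subst hχ0
    simp [classInner]
  set f : G → ℂ := χ * fun g => conj (χ g) with hf
  have hfc : IsCharacter G f := isCharacter_mul hχ (isCharacter_conj hχ)
  have e1 : classInner χ χ = classInner f 1 := by simp [classInner, hf]
  have e2 : classInner (fun h : H => χ h) (fun h : H => χ h) = classInner (fun h : H => f h) 1 := by
    simp [classInner, hf]
  have hf1 : classInner f 1 ≠ 0 := e1 ▸ fun h => hχ0 (classInner_self_eq_zero h)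
  have hd : f 1 = ((charDegree χ ^ 2 : ℕ) : ℂ) := by
    show χ 1 * conj (χ 1) = _
    rw [← charDegree_cast hχ, Complex.conj_natCast]
    push_cast; ring
  rw [e1, e2]
  have hdec := IsClassFunction.eq_sum (IsCharacter.isClassFunction hfc)
  have e3 : (fun h : H => f h) = ∑ ψ : IrrCharacter G, classInner f (ψ : G → ℂ) • fun h : H => (ψ : G → ℂ) h := by
    funext h
    simpa using congrFun hdec h
  rw [e3, classInner_sum_left, Finset.sum_eq_single ⟨1, isIrrCharacter_one⟩]
  · rw [classInner_smul_left]
    have : classInner (fun h : H => ((⟨1, isIrrCharacter_one⟩ : IrrCharacter G) : G → ℂ) h) (1 : H → ℂ) = 1 :=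
      IsIrrCharacter.classInner_self (isIrrCharacter_one (G := H))
    rw [this, mul_one]
  · intro ψ _ hψ
    rw [classInner_smul_left]
    by_cases hc : classInner f (ψ : G → ℂ) = 0
    · rw [hc, zero_mul]
    have hψ1 : (ψ : G → ℂ) ≠ 1 := fun e => hψ (Subtype.ext e)
    obtain ⟨r, hr, hfr⟩ := exists_add_of_classInner_ne_zero hfc ψ.2 hc
    have hr1 : classInner r 1 ≠ 0 := by
      rw [hfr, classInner_add_left, IsIrrCharacter.classInner_eq_zero ψ.2 isIrrCharacter_one hψ1, zero_add] at hf1
      exact hf1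
    obtain ⟨m, ρ, hρ, hψc⟩ := ψ.2
    haveI := hρ
    obtain ⟨l, hl⟩ := IsCharacter.exists_degree hr
    have hl0 : l ≠ 0 := by
      rintro rfl
      apply hr1
      obtain ⟨k, σ, rfl⟩ := hr
      have hk : Module.finrank ℂ (Fin k → ℂ) = 0 := by
        rw [σ.char_one] at hl; exact_mod_cast hl
      haveI := (Module.finrank_zero_iff (R := ℂ) (M := Fin k → ℂ)).mp hk
      have : σ.character = 0 := by
        funext g
        simp [Representation.character, Subsingleton.elim (σ g) 0]
      rw [this, classInner_zero_left]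
    have hm : m < Nat.card (P : Subgroup G) := by
      have := congrFun hfr 1
      rw [hd, Pi.add_apply, hl, ← hψc, ρ.char_one, Module.finrank_fin_fun, ← Nat.cast_add, Nat.cast_inj] at this
      omega
    have hG : ∀ v, (∀ g, ρ g v = v) → v = 0 := by
      intro v hv
      let W : Subrepresentation ρ := ⟨
        { carrier := {v | ∀ g, ρ g v = v}
          add_mem' := fun ha hb g => by rw [map_add, ha g, hb g]
          zero_mem' := fun g => map_zero _
          smul_mem' := fun c x hx g => by rw [map_smul, hx g] },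
        fun g x hx => by rw [hx g]; exact hx⟩
      rcases IsSimpleOrder.eq_bot_or_eq_top W with e | e
      · exact (Submodule.mem_bot ℂ).1 (((congrArg Subrepresentation.toSubmodule e).trans rfl : W.toSubmodule = (⊥ : Submodule ℂ (Fin m → ℂ))).le (show v ∈ W.toSubmodule from hv))
      · exfalso
        have hid : ∀ g, ρ g = 1 := fun g => LinearMap.ext fun x =>
          (((congrArg Subrepresentation.toSubmodule e).trans rfl : W.toSubmodule = (⊤ : Submodule ℂ (Fin m → ℂ))).ge Submodule.mem_top : x ∈ W.toSubmodule) g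
        have hconst : (ψ : G → ℂ) = (m : ℂ) • (1 : G → ℂ) := by
          rw [← hψc]
          funext g
          simp [Representation.character, hid g, LinearMap.trace_one]
        have := IsIrrCharacter.classInner_eq_zero ψ.2 isIrrCharacter_one hψ1
        rw [hconst, classInner_smul_left, IsIrrCharacter.classInner_self isIrrCharacter_one, mul_one] at this
        have h0 := IsIrrCharacter.apply_one_ne_zero ψ.2
        rw [hconst] at h0
        simp [this] at h0
    have hzero : (∑ h : H, ρ (h : G)) = 0 := LinearMap.ext fun v => by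
      refine no_fixed P hTI H hH ρ hm hG _ fun x hx => ?_
      simp only [LinearMap.sum_apply, map_sum]
      refine Fintype.sum_equiv (Equiv.mulLeft (⟨x, hx⟩ : H)) _ _ fun h => ?_
      simp [map_mul]
    have hs : ∑ h : H, (ψ : G → ℂ) h = 0 := by
      rw [← hψc]
      simp only [Representation.character]
      rw [← map_sum, hzero, map_zero]
    have : classInner (fun h : H => (ψ : G → ℂ) h) 1 = 0 := by
      simp [classInner, hs]
    rw [this, mul_zero]
  · exact fun h => absurd (Finset.mem_univ _) h

end Cfsg.Agent.Block.TISmall
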