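import Cfsg.Agent.Lib.Block.Vanish
import Cfsg.Agent.Lib.Char.Linear

/-!
The reductions of the linear characters of an abelian group of order prime to `p`.
-/

set_option autoImplicit false
set_option linter.style.haveILetI false

namespace Cfsg.Agent.Block

open Cfsg.Agent.Char

/-- The linear characters modulo `p` with their orthogonality. -/
theorem exists_reduced_chars {M : Ideal AlgInt} [M.IsPrime] {T : Type*} [Group T] [Fintype T]
    (hcomm : ∀ x y : T, x * y = y * x) [Fintype (IrrCharacter T)] [DecidableEq T] :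
    ∃ ℓs : IrrCharacter T → T →* IsLocalRing.ResidueField (locRing M),
      ∀ t₀ t : T, ∑ φ, ℓs φ t₀ * ℓs φ t⁻¹ =
        if t₀ = t then (Nat.card T : IsLocalRing.ResidueField (locRing M)) else 0 := by
  classical
  set π := IsLocalRing.residue (locRing M)
  have hlam : ∀ φ : IrrCharacter T, ∃ ℓ : T →* IsLocalRing.ResidueField (locRing M), ∀ t,
      ℓ t = π ⟨(φ : T → ℂ) t, irr_mem_locRing φ t⟩ := by
    intro φ
    obtain ⟨l, hl⟩ := IsCharacter.exists_monoidHom (IsIrrCharacter.isCharacter φ.2)
      (IsIrrCharacter.degree_one_of_comm φ.2 hcomm)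
    refine ⟨{ toFun := fun t => π ⟨(φ : T → ℂ) t, irr_mem_locRing φ t⟩
              map_one' := ?_
              map_mul' := fun x y => ?_ }, fun t => rfl⟩
    · rw [← map_one π]
      exact congrArg π (Subtype.ext (by
        show (φ : T → ℂ) 1 = ((1 : locRing M) : ℂ)
        rw [hl]; simp))
    · rw [← map_mul]
      exact congrArg π (Subtype.ext (by
        show (φ : T → ℂ) (x * y) = _
        rw [Subring.coe_mul]
        simp only [hl, map_mul, Units.val_mul]))
  choose ℓs hℓs using hlam
  refine ⟨ℓs, fun t₀ t => ?_⟩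
  have h := second_orthogonality (G := T) t₀ t
  simp only [hℓs, ← map_mul, ← map_sum]
  have hcent : Nat.card ↥(Subgroup.centralizer ({t₀} : Set T)) = Nat.card T := by
    rw [show Subgroup.centralizer ({t₀} : Set T) = ⊤ from eq_top_iff.mpr fun x _ =>
      Subgroup.mem_centralizer_iff.mpr fun y _ => hcomm y x, Subgroup.card_top]
  rw [hcent] at h
  have hconj : IsConj t₀ t → t₀ = t := fun hc => by
    obtain ⟨c, hc⟩ := isConj_iff.mp hc
    rw [← hc, hcomm c, mul_inv_cancel_right]
  split_ifs with ht
  · rw [← map_natCast π]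
    refine congrArg π (Subtype.ext ?_)
    rw [AddSubmonoidClass.coe_finsetSum]
    simp only [Subring.coe_mul, IsCharacter.map_inv (IsIrrCharacter.isCharacter (Subtype.prop _))]
    rw [h, if_pos (ht ▸ IsConj.refl t₀)]
    simp
  · rw [← map_zero π]
    refine congrArg π (Subtype.ext ?_)
    rw [AddSubmonoidClass.coe_finsetSum]
    simp only [Subring.coe_mul, IsCharacter.map_inv (IsIrrCharacter.isCharacter (Subtype.prop _))]
    rw [h, if_neg (fun hc => ht (hconj hc))]
    simp

end Cfsg.Agent.Block
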