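import Cfsg.Agent.Lib.Block.Regular
import Cfsg.Agent.Lib.Char.Zero
import Cfsg.Agent.Lib.Char.Integral
import Cfsg.Agent.Lib.Char.Orthogonality
import Cfsg.Agent.Lib.Char.Linear

/-!
# Characters which are nonzero on exactly two classes
-/

set_option autoImplicit false

open Cfsg.Agent.Char
open scoped ComplexConjugate

namespace Cfsg.Agent.Block

universe u

variable {G : Type u} [Group G] [Finite G]

/-- The data of a character nonzero on exactly two classes. -/
structure TwoClassData (χ : IrrCharacter G) where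
  x : G
  k : ℕ
  m : ℕ
  x_ne : x ≠ 1
  k_pos : 0 < k
  m_pos : 0 < m
  card_class : Nat.card {g : G // IsConj x g} = k
  degree : charDegree (χ : G → ℂ) = k * m
  value : ∀ g, IsConj x g → (χ : G → ℂ) g = -(m : ℂ)
  vanish : ∀ g, g ≠ 1 → ¬ IsConj x g → (χ : G → ℂ) g = 0
  card_eq : Nat.card G = k * m ^ 2 * (k + 1)
  other : ∀ ψ : IrrCharacter G, ψ ≠ χ → ∀ g, IsConj x g → (ψ : G → ℂ) g = (ψ : G → ℂ) 1

theorem exists_twoClassData (hG : 2 < Nat.card G) (χ : IrrCharacter G)
    (h : Nat.card {C : ConjClasses G // ∃ g ∈ C.carrier, (χ : G → ℂ) g ≠ 0} = 2) :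
    Nonempty (TwoClassData χ) := by
  classical
  haveI := Fintype.ofFinite G
  haveI := Fintype.ofFinite (IrrCharacter G)
  have hχ1 := IsIrrCharacter.apply_one_ne_zero χ.2
  have hone : ∃ g ∈ (ConjClasses.mk (1 : G)).carrier, (χ : G → ℂ) g ≠ 0 :=
    ⟨1, ConjClasses.mem_carrier_mk, hχ1⟩
  obtain ⟨⟨C, g0, hg0, hg0χ⟩, hne, huniq⟩ := (Nat.card_eq_two_iff'
    (⟨ConjClasses.mk 1, hone⟩ : {C : ConjClasses G // ∃ g ∈ C.carrier, (χ : G → ℂ) g ≠ 0})).1 h
  rw [ConjClasses.mem_carrier_iff_mk_eq] at hg0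
  have hx1 : g0 ≠ 1 := fun e => hne (Subtype.ext (hg0.symm.trans (congrArg ConjClasses.mk e)))
  have hvan : ∀ g, g ≠ 1 → ¬ IsConj g0 g → (χ : G → ℂ) g = 0 := by
    intro g hg1 hgc
    by_contra hgχ
    rcases eq_or_ne (ConjClasses.mk g) (ConjClasses.mk 1) with e | e
    · exact hg1 (isConj_one_left.1 (ConjClasses.mk_eq_mk_iff_isConj.1 e))
    · have := congrArg Subtype.val (huniq ⟨ConjClasses.mk g, g, ConjClasses.mem_carrier_mk, hgχ⟩
        (fun e' => e (congrArg Subtype.val e')))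
      exact hgc (ConjClasses.mk_eq_mk_iff_isConj.1 (hg0.trans this.symm))
  set K := Finset.univ.filter (fun g : G => IsConj g0 g) with hK
  have hk : Nat.card {g : G // IsConj g0 g} = K.card := by
    rw [Nat.card_eq_fintype_card, Fintype.card_subtype]
  have hkpos : 0 < K.card := Finset.card_pos.2 ⟨g0, Finset.mem_filter.2 ⟨Finset.mem_univ _, IsConj.refl _⟩⟩
  have h1K : (1 : G) ∉ K := by
    simp only [hK, Finset.mem_filter, Finset.mem_univ, true_and]
    exact fun e => hx1 (isConj_one_left.1 e)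
  have hconst : ∀ g ∈ K, (χ : G → ℂ) g = (χ : G → ℂ) g0 := fun g hg =>
    (IsIrrCharacter.apply_isConj χ.2 (Finset.mem_filter.1 hg).2).symm
  have hrow : ∀ ψ : IrrCharacter G, (Nat.card G : ℂ) * classInner (χ : G → ℂ) (ψ : G → ℂ) =
      (χ : G → ℂ) 1 * conj ((ψ : G → ℂ) 1) +
        (K.card : ℂ) * ((χ : G → ℂ) g0 * conj ((ψ : G → ℂ) g0)) := by
    intro ψ
    rw [classInner, ← mul_assoc, mul_inv_cancel₀ (Nat.cast_ne_zero.2 Nat.card_pos.ne'), one_mul,
      ← Finset.sum_subset (Finset.subset_univ (insert 1 K)) (fun g _ hg => by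
        rw [Finset.mem_insert, not_or, hK, Finset.mem_filter] at hg
        rw [hvan g hg.1 (fun e => hg.2 ⟨Finset.mem_univ _, e⟩), zero_mul]),
      Finset.sum_insert h1K]
    congr 1
    rw [Finset.sum_congr rfl (g := fun _ => (χ : G → ℂ) g0 * conj ((ψ : G → ℂ) g0)) fun g hg => by
      rw [hconst g hg, ← IsIrrCharacter.apply_isConj ψ.2 (Finset.mem_filter.1 hg).2],
      Finset.sum_const, nsmul_eq_mul]
  set one : IrrCharacter G := ⟨fun _ => 1, isIrrCharacter_one⟩ with hone'
  have hnt : χ ≠ one := by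
    intro e
    have hall : ∀ D : ConjClasses G, ∃ g ∈ D.carrier, (χ : G → ℂ) g ≠ 0 := by
      intro D
      obtain ⟨g, rfl⟩ := ConjClasses.exists_rep D
      exact ⟨g, ConjClasses.mem_carrier_mk, by rw [e]; exact one_ne_zero⟩
    rw [Nat.card_congr (Equiv.subtypeUnivEquiv hall), ← card_irrCharacter] at h
    obtain ⟨ψ, hψ, hψu⟩ := (Nat.card_eq_two_iff' one).1 h
    have hu : (Finset.univ : Finset (IrrCharacter G)) = {one, ψ} := by
      ext φ
      simp only [Finset.mem_univ, Finset.mem_insert, Finset.mem_singleton, true_iff]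
      exact or_iff_not_imp_left.2 fun hφ => hψu φ hφ
    have hs : Nat.card G = 1 + charDegree (ψ : G → ℂ) ^ 2 := by
      apply Nat.cast_injective (R := ℂ)
      rw [← sum_sq_degree (G := G), hu, Finset.sum_pair (Ne.symm hψ), Nat.cast_add, Nat.cast_one,
        Nat.cast_pow, charDegree_cast (IsIrrCharacter.isCharacter ψ.2)]
      congr 1
      exact one_pow 2
    have hd := charDegree_dvd_card ψ.2
    rw [hs, add_comm, Nat.dvd_add_right (dvd_pow_self _ two_ne_zero), Nat.dvd_one] at hd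
    rw [hd] at hs
    omega
  set d := charDegree (χ : G → ℂ) with hd
  have hd1 : (χ : G → ℂ) 1 = (d : ℂ) := (charDegree_cast (IsIrrCharacter.isCharacter χ.2)).symm
  have h0 := hrow one
  rw [IsIrrCharacter.classInner_eq_zero χ.2 one.2 (fun e => hnt (Subtype.ext e)), mul_zero, hd1] at h0
  simp only [hone', map_one, mul_one] at h0
  have hk0 : (K.card : ℂ) ≠ 0 := Nat.cast_ne_zero.2 hkpos.ne'
  have hc : (χ : G → ℂ) g0 = -((d : ℂ) / (K.card : ℂ)) := by
    field_simp
    linear_combination -h0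
  have hint : IsIntegral ℤ ((d : ℂ) / (K.card : ℂ)) := by
    have := (IsCharacter.isIntegral (IsIrrCharacter.isCharacter χ.2) g0).neg
    rwa [hc, neg_neg] at this
  obtain ⟨m, hm⟩ := nat_dvd_of_isIntegral_div hkpos.ne' hint
  have hval : (χ : G → ℂ) g0 = -(m : ℂ) := by
    rw [hc, hm, Nat.cast_mul, mul_div_cancel_left₀ _ hk0]
  have hm0 : 0 < m := Nat.pos_of_ne_zero fun e => hg0χ (by rw [hval, e, Nat.cast_zero, neg_zero])
  refine ⟨⟨g0, K.card, m, hx1, hkpos, hm0, hk, hm, fun g hg => ?_, hvan, ?_, fun ψ hψ g hg => ?_⟩⟩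
  · rw [hconst g (Finset.mem_filter.2 ⟨Finset.mem_univ _, hg⟩), hval]
  · have h2 := hrow χ
    rw [IsIrrCharacter.classInner_self χ.2, mul_one, hd1, hval, hm] at h2
    push_cast at h2
    simp only [map_mul, map_neg, Complex.conj_natCast] at h2
    apply Nat.cast_injective (R := ℂ)
    push_cast
    linear_combination h2
  · have h2 := hrow ψ
    rw [IsIrrCharacter.classInner_eq_zero χ.2 ψ.2 (fun e => hψ (Subtype.ext e).symm), mul_zero,
      hd1, hval, hm, conj_irr_one] at h2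
    push_cast at h2
    have hmk : (K.card : ℂ) * (m : ℂ) ≠ 0 := mul_ne_zero hk0 (Nat.cast_ne_zero.2 hm0.ne')
    have h3 : conj ((ψ : G → ℂ) g0) = (ψ : G → ℂ) 1 :=
      mul_left_cancel₀ hmk (by linear_combination h2)
    rw [← IsIrrCharacter.apply_isConj ψ.2 hg, ← Complex.conj_conj ((ψ : G → ℂ) g0), h3, conj_irr_one]

namespace TwoClassData

variable {χ : IrrCharacter G}

theorem ne_zero_iff (D : TwoClassData χ) (g : G) :
    (χ : G → ℂ) g ≠ 0 ↔ g = 1 ∨ IsConj D.x g := by
  refine ⟨fun h => ?_, ?_⟩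
  · by_contra hn
    rw [not_or] at hn
    exact h (D.vanish g hn.1 hn.2)
  · rintro (rfl | h)
    · exact IsIrrCharacter.apply_one_ne_zero χ.2
    · rw [D.value g h, neg_ne_zero, Nat.cast_ne_zero]; exact D.m_pos.ne'

theorem faithful (D : TwoClassData χ) (g : G) (hg : (χ : G → ℂ) g = (χ : G → ℂ) 1) : g = 1 := by
  by_contra h1
  by_cases hc : IsConj D.x g
  · rw [D.value g hc, ← charDegree_cast (IsIrrCharacter.isCharacter χ.2), D.degree] at hg
    have : ((D.k * D.m + D.m : ℕ) : ℂ) = 0 := by push_cast at hg ⊢; linear_combination -hg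
    rw [Nat.cast_eq_zero] at this
    have := D.m_pos
    omega
  · rw [D.vanish g h1 hc] at hg
    exact IsIrrCharacter.apply_one_ne_zero χ.2 hg.symm

theorem eq_of_faithful (D : TwoClassData χ) (ψ : IrrCharacter G)
    (hψ : ∀ g : G, (ψ : G → ℂ) g = (ψ : G → ℂ) 1 → g = 1) : ψ = χ := by
  by_contra hne
  exact D.x_ne (hψ _ (D.other ψ hne _ (IsConj.refl _)))

theorem mem_iff_others (D : TwoClassData χ) (g : G) :
    (χ : G → ℂ) g ≠ 0 ↔ ∀ ψ : IrrCharacter G, ψ ≠ χ → (ψ : G → ℂ) g = (ψ : G → ℂ) 1 := by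
  classical
  haveI := Fintype.ofFinite (IrrCharacter G)
  constructor
  · intro h ψ hψ
    rcases (D.ne_zero_iff g).1 h with rfl | hc
    · rfl
    · exact D.other ψ hψ g hc
  · intro h hg
    have h1 := regular_eq g
    have hne : g ≠ 1 := fun e => IsIrrCharacter.apply_one_ne_zero χ.2 (e ▸ hg)
    rw [if_neg hne, ← Finset.add_sum_erase _ _ (Finset.mem_univ χ), hg, mul_zero, zero_add,
      Finset.sum_congr rfl (g := fun ψ : IrrCharacter G => ((charDegree (ψ : G → ℂ) ^ 2 : ℕ) : ℂ))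
        (fun ψ hψ => by
          rw [h ψ (Finset.ne_of_mem_erase hψ), Nat.cast_pow,
            charDegree_cast (IsIrrCharacter.isCharacter ψ.2), sq]),
      ← Nat.cast_sum, Nat.cast_eq_zero, Finset.sum_eq_zero_iff] at h1
    by_cases he : (⟨fun _ => 1, isIrrCharacter_one⟩ : IrrCharacter G) = χ
    · rw [← he] at hg
      exact one_ne_zero hg
    · have := h1 _ (Finset.mem_erase.2 ⟨he, Finset.mem_univ _⟩)
      rw [pow_eq_zero_iff two_ne_zero] at this
      have h2 := charDegree_cast (IsIrrCharacter.isCharacter (isIrrCharacter_one (G := G)))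
      rw [show (1 : G → ℂ) = fun _ => 1 from rfl, this, Nat.cast_zero] at h2
      exact zero_ne_one h2

/-- The support, a normal subgroup. -/
def support (D : TwoClassData χ) : Subgroup G where
  carrier := {g | ∀ ψ : IrrCharacter G, ψ ≠ χ → (ψ : G → ℂ) g = (ψ : G → ℂ) 1}
  one_mem' := fun ψ _ => rfl
  mul_mem' {a b} ha hb := fun ψ hψ => by
    rw [(IsCharacter.apply_mul_of_eq_one (IsIrrCharacter.isCharacter ψ.2) (ha ψ hψ) b).left]
    exact hb ψ hψ
  inv_mem' {a} ha := fun ψ hψ => by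
    rw [IsCharacter.map_inv (IsIrrCharacter.isCharacter ψ.2), ha ψ hψ, conj_irr_one]

theorem mem_support (D : TwoClassData χ) (g : G) : g ∈ D.support ↔ (χ : G → ℂ) g ≠ 0 :=
  (D.mem_iff_others g).symm

theorem support_normal (D : TwoClassData χ) : D.support.Normal :=
  ⟨fun g hg a => by
    rw [D.mem_support] at hg ⊢
    rwa [IsIrrCharacter.apply_isConj χ.2 (show IsConj g (a * g * a⁻¹) from isConj_iff.2 ⟨a, rfl⟩)] at hg⟩

theorem isConj_of_mem (D : TwoClassData χ) {a b : G} (ha : a ∈ D.support) (hb : b ∈ D.support)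
    (ha1 : a ≠ 1) (hb1 : b ≠ 1) : IsConj a b :=
  (((D.ne_zero_iff a).1 ((D.mem_support a).1 ha)).resolve_left ha1).symm.trans
    (((D.ne_zero_iff b).1 ((D.mem_support b).1 hb)).resolve_left hb1)

theorem x_mem_support (D : TwoClassData χ) : D.x ∈ D.support :=
  (D.mem_support _).2 ((D.ne_zero_iff _).2 (Or.inr (IsConj.refl _)))

theorem support_le (D : TwoClassData χ) (K : Subgroup G) [K.Normal] (hK : K ≠ ⊥) :
    D.support ≤ K := by
  by_cases hx : D.x ∈ K
  · intro g hg
    rcases (D.ne_zero_iff g).1 ((D.mem_support g).1 hg) with rfl | hc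
    · exact one_mem K
    · obtain ⟨a, ha⟩ := isConj_iff.1 hc
      exact ha ▸ (inferInstance : K.Normal).conj_mem _ hx a
  · exfalso
    have hv : ∀ g ∈ K, g ≠ 1 → (χ : G → ℂ) g = 0 := fun g hg hg1 => D.vanish g hg1 fun hc => by
      obtain ⟨a, ha⟩ := isConj_iff.1 hc.symm
      exact hx (ha ▸ (inferInstance : K.Normal).conj_mem _ hg a)
    obtain ⟨n, ρ, hρ, hρχ⟩ := χ.2
    haveI := hρ
    haveI := Fintype.ofFinite K
    obtain ⟨g, hgK, hg1⟩ := (Subgroup.ne_bot_iff_exists_ne_one.1 hK).elim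
      fun g hg => (⟨g.1, g.2, fun e => hg (Subtype.ext e)⟩ : ∃ g ∈ K, g ≠ 1)
    have hker : ∃ h ∈ K, ρ h ≠ LinearMap.id := ⟨g, hgK, fun e => hg1 (D.faithful g (by
      rw [← hρχ, ρ.char_one]
      exact (character_eq_finrank_iff ρ g).2 e))⟩
    have hsum := congrArg (LinearMap.trace ℂ (Fin n → ℂ)) (sum_rep_eq_zero ρ K hker)
    rw [map_sum, map_zero, Finset.sum_eq_single (1 : K)] at hsum
    · rw [show LinearMap.trace ℂ (Fin n → ℂ) (ρ ((1 : K) : G)) = (χ : G → ℂ) 1 from by
        rw [← hρχ]; rfl] at hsum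
      exact IsIrrCharacter.apply_one_ne_zero χ.2 hsum
    · intro a _ ha
      rw [show LinearMap.trace ℂ (Fin n → ℂ) (ρ (a : G)) = (χ : G → ℂ) (a : G) from by rw [← hρχ]; rfl,
        hv a a.2 fun e => ha (Subtype.ext e)]
    · simp

theorem card_support (D : TwoClassData χ) : Nat.card D.support = D.k + 1 := by
  classical
  haveI := Fintype.ofFinite G
  rw [show Nat.card D.support = (insert (1 : G) (Finset.univ.filter fun g => IsConj D.x g)).card from ?_,
    
    Finset.card_insert_of_notMem, ← D.card_class, Nat.card_eq_fintype_card, Fintype.card_subtype]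
  · simp only [Finset.mem_filter, Finset.mem_univ, true_and]
    exact fun e => D.x_ne (isConj_one_left.1 e)
  · rw [← Nat.card_eq_finsetCard]
    refine Nat.card_congr (Equiv.subtypeEquivRight fun g => ?_)
    rw [Finset.mem_insert, Finset.mem_filter, D.mem_support, D.ne_zero_iff, and_iff_right (Finset.mem_univ g)]

end TwoClassData

end Cfsg.Agent.Block
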