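import Cfsg.Agent.Lib.Char.Orthogonality
import Cfsg.Agent.Lib.Struct.RealOdd
import Cfsg.Agent.Lib.Local.PGroup
import Cfsg.Prelude.Def_Solvable
import Mathlib.GroupTheory.SchurZassenhaus

/-!
# A normal `p`-subgroup with one nontrivial class and small centralizers outside
-/

set_option autoImplicit false

open scoped Pointwise

namespace Cfsg.Agent.Block.TwoClassFrob

universe u

variable {G : Type u} [Group G] [Finite G] {p : ℕ} [Fact p.Prime] {N : Subgroup G} [hN : N.Normal]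

theorem ppower_part (g : G) : ∃ a : ℕ, ¬ p ∣ orderOf (g ^ p ^ a) := by
  refine ⟨(orderOf g).factorization p, ?_⟩
  rw [orderOf_pow, Nat.gcd_eq_right (Nat.ordProj_dvd _ _)]
  exact Nat.not_dvd_ordCompl (Fact.out) (orderOf_pos g).ne'

theorem isConj_mul_mem (hcent : ∀ x : G, x ∉ N → Nat.card (Subgroup.centralizer ({x} : Set G)) =
      Nat.card (Subgroup.centralizer ({(x : G ⧸ N)} : Set (G ⧸ N))))
    {x : G} (hx : x ∉ N) {n : G} (hn : n ∈ N) : IsConj x (x * n) := by
  have hsub : {g : G | IsConj x g} ⊆ (QuotientGroup.mk : G → G ⧸ N) ⁻¹' {q | IsConj (x : G ⧸ N) q} :=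
    fun g hg => (QuotientGroup.mk' N).map_isConj hg
  have hc : ((QuotientGroup.mk : G → G ⧸ N) ⁻¹' {q | IsConj (x : G ⧸ N) q}).ncard ≤
      {g : G | IsConj x g}.ncard := by
    rw [← Nat.card_coe_set_eq, ← Nat.card_coe_set_eq,
      Nat.card_congr (QuotientGroup.preimageMkEquivSubgroupProdSet N _), Nat.card_prod]
    show Nat.card N * Nat.card {q : G ⧸ N // IsConj (x : G ⧸ N) q} ≤ Nat.card {g : G // IsConj x g}
    refine le_of_eq (Nat.eq_of_mul_eq_mul_right (Nat.card_pos (α := Subgroup.centralizer ({x} : Set G))) ?_)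
    rw [Cfsg.Agent.Char.card_isConj_eq_index x, Subgroup.index_mul_card, hcent x hx, mul_assoc,
      Cfsg.Agent.Char.card_isConj_eq_index, Subgroup.index_mul_card, ← Subgroup.index_eq_card,
      N.card_mul_index]
  have heq := Set.eq_of_subset_of_ncard_le hsub hc
  have : x * n ∈ (QuotientGroup.mk : G → G ⧸ N) ⁻¹' {q | IsConj (x : G ⧸ N) q} := by
    simp only [Set.mem_preimage, Set.mem_setOf_eq, QuotientGroup.mk_mul, (QuotientGroup.eq_one_iff n).2 hn,
      mul_one]
    exact IsConj.refl _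
  rwa [← heq] at this

theorem eq_one_of_commute (hNp : IsPGroup p N) (hconj : ∀ x : G, x ∉ N → ∀ n ∈ N, IsConj x (x * n))
    {y : G} (hy : ¬ p ∣ orderOf y) (hy1 : y ≠ 1) {n : G} (hn : n ∈ N) (hc : Commute y n) : n = 1 := by
  have hcop : (orderOf y).Coprime (orderOf n) := by
    obtain ⟨k, hk⟩ := IsPGroup.iff_orderOf.1 hNp ⟨n, hn⟩
    rw [Subgroup.orderOf_mk] at hk
    rw [hk]
    exact (((Fact.out : p.Prime).coprime_iff_not_dvd.2 hy).symm.pow_right k)
  have hyN : y ∉ N := fun h => by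
    obtain ⟨k, hk⟩ := IsPGroup.iff_orderOf.1 hNp ⟨y, h⟩
    rw [Subgroup.orderOf_mk] at hk
    rcases Nat.eq_zero_or_pos k with rfl | hk0
    · exact hy1 (orderOf_eq_one_iff.1 (by rw [hk, pow_zero]))
    · exact hy (hk ▸ dvd_pow_self p hk0.ne')
  obtain ⟨g, hg⟩ := isConj_iff.1 (hconj y hyN n hn)
  have h : orderOf y * orderOf n = orderOf y := by
    rw [← hc.orderOf_mul_eq_mul_orderOf_of_coprime hcop, ← hg, ← MulAut.conj_apply,
      MulEquiv.orderOf_eq]
  exact orderOf_eq_one_iff.1 (by simpa [(orderOf_pos y).ne'] using h)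

section

variable (hNp : IsPGroup p N) (hN1 : N ≠ ⊥)
  (hconj : ∀ x : G, x ∉ N → ∀ n ∈ N, IsConj x (x * n))
  (htrans : ∀ a ∈ N, ∀ b ∈ N, a ≠ 1 → b ≠ 1 → IsConj a b)

include hNp hN1 htrans in
theorem commute_of_mem {a b : G} (ha : a ∈ N) (hb : b ∈ N) : a * b = b * a := by
  haveI := (N.nontrivial_iff_ne_bot).2 hN1
  haveI := hNp.center_nontrivial
  obtain ⟨⟨c, hc⟩, hc1⟩ := exists_ne (1 : Subgroup.center N)
  have hc1' : (c : G) ≠ 1 := fun h => hc1 (Subtype.ext (Subtype.ext h))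
  have hall : ∀ n : N, n ∈ Subgroup.center N := fun n => by
    by_cases hn : (n : G) = 1
    · rw [show n = 1 from Subtype.ext hn]; exact one_mem _
    obtain ⟨g, hg⟩ := isConj_iff.1 (htrans c c.2 n n.2 hc1' hn)
    rw [Subgroup.mem_center_iff] at hc ⊢
    intro m
    have h1 := congrArg Subtype.val (hc ⟨g⁻¹ * m * g, by simpa using hN.conj_mem _ m.2 g⁻¹⟩)
    simp only [Subgroup.coe_mul] at h1
    refine Subtype.ext ?_
    rw [Subgroup.coe_mul, Subgroup.coe_mul, ← hg]
    calc (m : G) * (g * (c : G) * g⁻¹) = g * ((g⁻¹ * m * g) * c) * g⁻¹ := by group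
      _ = g * ((c : G) * (g⁻¹ * m * g)) * g⁻¹ := by rw [h1]
      _ = g * (c : G) * g⁻¹ * m := by group
  exact congrArg Subtype.val (Subgroup.mem_center_iff.1 (hall ⟨b, hb⟩) ⟨a, ha⟩)

include hNp hN1 hconj htrans in
theorem centralizer_eq (hcore : N = Cfsg.pCore p G) : Subgroup.centralizer (N : Set G) = N := by
  have hle : N ≤ Subgroup.centralizer (N : Set G) := fun a ha => Subgroup.mem_centralizer_iff.2
    fun b hb => commute_of_mem hNp hN1 htrans hb ha
  refine le_antisymm ?_ hle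
  conv_rhs => rw [hcore]
  refine le_sSup ⟨inferInstance, fun ⟨g, hg⟩ => ?_⟩
  obtain ⟨a, ha⟩ := ppower_part (p := p) g
  have hy : g ^ p ^ a = 1 := by
    by_contra hy1
    obtain ⟨n, hn, hn1⟩ := (Subgroup.bot_or_exists_ne_one N).resolve_left hN1
    exact hn1 (eq_one_of_commute hNp hconj ha hy1 hn
      ((Subgroup.mem_centralizer_iff.1 (pow_mem hg _) n hn).symm))
  exact ⟨a, Subtype.ext hy⟩

include hNp hN1 hconj htrans in
theorem inverts {z : G} (hzp : ¬ p ∣ 2) (hz : z * z = 1) (hz1 : z ≠ 1) {n : G} (hn : n ∈ N) :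
    z * n * z = n⁻¹ := by
  have hz' : z⁻¹ = z := inv_eq_of_mul_eq_one_right hz
  have hm : n * (z * n * z) ∈ N := mul_mem hn (by have h := hN.conj_mem n hn z; rwa [hz'] at h)
  have hord : ¬ p ∣ orderOf z := fun h => hzp (h.trans (orderOf_dvd_of_pow_eq_one (by rw [sq, hz])))
  have h1 : n * (z * n * z) = 1 := eq_one_of_commute hNp hconj hord hz1 hm (by
    show z * (n * (z * n * z)) = n * (z * n * z) * z
    have hzn : z * n * z ∈ N := by have h := hN.conj_mem n hn z; rwa [hz'] at h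
    rw [show n * (z * n * z) * z = n * (z * n) * (z * z) by group, hz, mul_one,
      show z * (n * (z * n * z)) = (z * n * z) * n * (z * 1) * 1 from ?_, mul_one, mul_one,
      commute_of_mem hNp hN1 htrans hzn hn]
    · rw [show n * (z * n * z) * z = n * (z * n) * (z * z) by group, hz, mul_one]
    · have hzz : z * (n * (z * n * z)) = z * n * z * (n * z) := by group
      rw [hzz, mul_one, mul_one]; group)
  exact (inv_eq_of_mul_eq_one_right h1).symm

include hNp hN1 hconj htrans in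
theorem odd_case (hcore : N = Cfsg.pCore p G) (hp2 : p ≠ 2) {z : G} (hz : z * z = 1) (hz1 : z ≠ 1)
    {y : G} (hyN : y ∉ N) (hyp : y ^ p ∈ N) : False := by
  have hp : p.Prime := Fact.out
  have h2 : ¬ p ∣ 2 := fun h => hp2 ((Nat.prime_dvd_prime_iff_eq hp Nat.prime_two).1 h)
  have hinv := fun {n : G} (hn : n ∈ N) => inverts hNp hN1 hconj htrans h2 hz hz1 hn
  have hz' : z⁻¹ = z := inv_eq_of_mul_eq_one_right hz
  have hord : ¬ p ∣ orderOf z := fun h => h2 (h.trans (orderOf_dvd_of_pow_eq_one (by rw [sq, hz])))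
  -- `G` is `N` times the centralizer of `z`
  have hG : ∀ g : G, ∃ m ∈ N, Commute (m⁻¹ * g) z := by
    intro g
    have hu : z * (g * z * g⁻¹) ∈ N := by
      have hCN := centralizer_eq hNp hN1 hconj htrans hcore
      rw [← hCN, Subgroup.mem_centralizer_iff]
      intro n hn
      have hn' : g⁻¹ * n * g ∈ N := by simpa using hN.conj_mem n hn g⁻¹
      have h1 := hinv hn'
      have h3 : (g * z * g⁻¹) * n * (g * z * g⁻¹) = n⁻¹ := by
        calc (g * z * g⁻¹) * n * (g * z * g⁻¹) = g * (z * (g⁻¹ * n * g) * z) * g⁻¹ := by group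
          _ = g * (g⁻¹ * n * g)⁻¹ * g⁻¹ := by rw [h1]
          _ = n⁻¹ := by group
      have hgz : (g * z * g⁻¹) * (g * z * g⁻¹) = 1 := by
        rw [show (g * z * g⁻¹) * (g * z * g⁻¹) = g * (z * z) * g⁻¹ by group, hz, mul_one, mul_inv_cancel]
      set w := g * z * g⁻¹
      calc n * (z * w) = z * ((z * n * z) * w) := by
            rw [show z * ((z * n * z) * w) = (z * z) * (n * (z * w)) by group, hz, one_mul]
        _ = z * (n⁻¹ * w) := by rw [hinv hn]
        _ = z * ((w * n * w) * w) := by rw [h3]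
        _ = z * (w * n * (w * w)) := by group
        _ = z * w * n := by rw [hgz]; group
    obtain ⟨u, huN, hu'⟩ : ∃ u ∈ N, g * z * g⁻¹ = z * u := ⟨_, hu, by rw [← mul_assoc, hz, one_mul]⟩
    have hodd : (Nat.card N).Coprime 2 := by
      obtain ⟨k, hk⟩ := IsPGroup.iff_card.1 hNp
      rw [hk]
      exact ((Nat.coprime_primes hp Nat.prime_two).2 hp2).pow_left k
    obtain ⟨⟨m, hm⟩, hm2⟩ := (powCoprime hodd).surjective ⟨u⁻¹, inv_mem huN⟩
    have hm2' : m * m = u⁻¹ := by
      have := congrArg Subtype.val hm2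
      simpa [sq] using this
    refine ⟨m, hm, ?_⟩
    have hmz : m * z * m⁻¹ = z * u := by
      calc m * z * m⁻¹ = (z * z) * m * z * m⁻¹ := by rw [hz, one_mul]
        _ = z * ((z * m * z) * m⁻¹) := by group
        _ = z * (m⁻¹ * m⁻¹) := by rw [hinv hm]
        _ = z * u := by rw [← mul_inv_rev, hm2', inv_inv]
    show m⁻¹ * g * z = z * (m⁻¹ * g)
    calc m⁻¹ * g * z = m⁻¹ * (g * z * g⁻¹) * g := by group
      _ = m⁻¹ * (m * z * m⁻¹) * g := by rw [hu', hmz]
      _ = z * (m⁻¹ * g) := by group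
  obtain ⟨m, hm, hmc⟩ := hG y
  set y0 := m⁻¹ * y with hy0
  have hy0N : y0 ∉ N := fun h => hyN (by simpa [y0] using mul_mem hm h)
  have hy0p : y0 ^ p = 1 := by
    refine eq_one_of_commute hNp hconj hord hz1 ?_ ((hmc.symm).pow_right p)
    have h1 : ((y0 : G) : G ⧸ N) = (y : G ⧸ N) := by
      rw [hy0, QuotientGroup.mk_mul, QuotientGroup.mk_inv, (QuotientGroup.eq_one_iff m).2 hm, inv_one, one_mul]
    rw [← QuotientGroup.eq_one_iff, QuotientGroup.mk_pow, h1, ← QuotientGroup.mk_pow,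
      QuotientGroup.eq_one_iff]
    exact hyp
  -- commutation with `y0` is onto `N`
  let f : N → N := fun m => ⟨y0⁻¹ * (m : G) * y0 * (m : G)⁻¹,
    mul_mem (by simpa using hN.conj_mem (m : G) m.2 y0⁻¹) (inv_mem m.2)⟩
  have hsurj : Function.Surjective f := by
    rintro ⟨n, hn⟩
    obtain ⟨g, hg⟩ := isConj_iff.1 (hconj y0 hy0N n hn)
    obtain ⟨m', hm', hc⟩ := hG g
    refine ⟨⟨m', hm'⟩, Subtype.ext ?_⟩
    set c := m'⁻¹ * g with hcdef
    have hgc : g = m' * c := by rw [hcdef, mul_inv_cancel_left]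
    have hw : y0⁻¹ * (m'⁻¹ * (y0 * n) * m') = y0⁻¹ * (c * y0 * c⁻¹) := by
      rw [← hg, hgc]; group
    have hwN : y0⁻¹ * (m'⁻¹ * (y0 * n) * m') ∈ N := by
      rw [show y0⁻¹ * (m'⁻¹ * (y0 * n) * m') = (y0⁻¹ * m'⁻¹ * y0) * (n * m') by group]
      exact mul_mem (by simpa using hN.conj_mem _ (inv_mem hm') y0⁻¹) (mul_mem hn hm')
    have hwz : Commute z (y0⁻¹ * (c * y0 * c⁻¹)) :=
      hmc.symm.inv_right.mul_right ((hc.symm.mul_right hmc.symm).mul_right hc.symm.inv_right)
    have h1 := eq_one_of_commute hNp hconj hord hz1 hwN (hw ▸ hwz)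
    show y0⁻¹ * m' * y0 * m'⁻¹ = n
    calc y0⁻¹ * m' * y0 * m'⁻¹
        = (y0⁻¹ * m' * y0) * (y0⁻¹ * (m'⁻¹ * (y0 * n) * m')) * m'⁻¹ := by rw [h1, mul_one]
      _ = n := by group
  have hinj : Function.Injective f := Finite.injective_iff_surjective.2 hsurj
  -- but `y0` fixes something
  have hyP : IsPGroup p (Subgroup.zpowers y0) := by
    refine IsPGroup.of_card (n := 1) ?_
    rw [Nat.card_zpowers, pow_one]
    exact orderOf_eq_prime hy0p fun h => hy0N (h ▸ one_mem N)
  have hP : IsPGroup p (N ⊔ Subgroup.zpowers y0 : Subgroup G) := hNp.to_sup_of_normal_left hyP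
  have hN' : (N.subgroupOf (N ⊔ Subgroup.zpowers y0)) ≠ ⊥ := fun h => hN1 (by
    rwa [Subgroup.subgroupOf_eq_bot, disjoint_iff, inf_eq_left.2 le_sup_left] at h)
  obtain ⟨⟨b, hbP⟩, ⟨hbN, hbc⟩, hb1⟩ := (Subgroup.bot_or_exists_ne_one _).resolve_left
    (Cfsg.Agent.Local.inf_center_ne_bot hP _ hN')
  have hby : y0 * b = b * y0 := congrArg Subtype.val (Subgroup.mem_center_iff.1 hbc
    ⟨y0, Subgroup.mem_sup_right (Subgroup.mem_zpowers y0)⟩)
  have hfb : f ⟨b, hbN⟩ = f 1 := Subtype.ext (by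
    show y0⁻¹ * b * y0 * b⁻¹ = y0⁻¹ * ((1 : N) : G) * y0 * ((1 : N) : G)⁻¹
    rw [mul_assoc y0⁻¹ b y0, ← hby]
    simp)
  exact hb1 (Subtype.ext (show b = 1 from congrArg Subtype.val (hinj hfb)))

include hNp hN1 hconj htrans in
theorem not_dvd_index (hcore : N = Cfsg.pCore p G) (heven : p ≠ 2 → 2 ∣ Nat.card G) : ¬ p ∣ N.index := by
  intro hdvd
  have hp : p.Prime := Fact.out
  rw [Subgroup.index_eq_card] at hdvd
  haveI := Fact.mk hp
  obtain ⟨q, hq⟩ := exists_prime_orderOf_dvd_card' p hdvd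
  obtain ⟨y, rfl⟩ := QuotientGroup.mk_surjective q
  have hyN : y ∉ N := fun h => hp.one_lt.ne' (hq ▸ orderOf_eq_one_iff.2 ((QuotientGroup.eq_one_iff y).2 h))
  have hyp : y ^ p ∈ N := by
    rw [← QuotientGroup.eq_one_iff, QuotientGroup.mk_pow, ← hq, pow_orderOf_eq_one]
  by_cases hp2 : p = 2
  · subst hp2
    -- no involution outside `N`
    have hno : ∀ w : G, w * w = 1 → w ∈ N := by
      intro w hw
      by_contra hwN
      refine hwN ?_
      rw [← centralizer_eq hNp hN1 hconj htrans hcore, Subgroup.mem_centralizer_iff]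
      intro n hn
      have hw' : w⁻¹ = w := inv_eq_of_mul_eq_one_right hw
      have hsq : n * n = 1 := by
        obtain ⟨i, hi, hi1⟩ : ∃ i ∈ N, orderOf i = 2 := by
          obtain ⟨k, hk⟩ := IsPGroup.iff_card.1 hNp
          have hk0 : k ≠ 0 := fun h => hN1 (Subgroup.card_eq_one.1 (by rw [hk, h, pow_zero]))
          obtain ⟨⟨i, hi⟩, hio⟩ := exists_prime_orderOf_dvd_card' (G := N) 2 (hk ▸ dvd_pow_self _ hk0)
          exact ⟨i, hi, by rwa [Subgroup.orderOf_mk] at hio⟩
        by_cases hn1 : n = 1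
        · rw [hn1, mul_one]
        obtain ⟨g, rfl⟩ := isConj_iff.1 (htrans i hi n hn (fun h => by rw [h, orderOf_one] at hi1; omega) hn1)
        rw [show g * i * g⁻¹ * (g * i * g⁻¹) = g * (i ^ 2) * g⁻¹ by rw [sq]; group, ← hi1, pow_orderOf_eq_one,
          mul_one, mul_inv_cancel]
      obtain ⟨g, hg⟩ := isConj_iff.1 (hconj w hwN n hn)
      have h1 : (w * n) * (w * n) = 1 := by
        rw [← hg, show g * w * g⁻¹ * (g * w * g⁻¹) = g * (w * w) * g⁻¹ by group, hw, mul_one, mul_inv_cancel]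
      calc n * w = (w * w) * (n * w) * (n * n) := by rw [hw, hsq]; simp
        _ = w * ((w * n) * (w * n)) * n := by group
        _ = w * n := by rw [h1, mul_one]
    -- there is a real element of odd order
    by_cases hreal : ∀ x : G ⧸ N, x ≠ 1 → Odd (orderOf x) → ¬ IsConj x x⁻¹
    · have ht : (y : G ⧸ N) * (y : G ⧸ N) = 1 := by rw [← sq, ← hq, pow_orderOf_eq_one]
      have hmem := Cfsg.Agent.Struct.involution_mem_pCore_of_noReal hreal ht
      have hbot : Cfsg.pCore 2 (G ⧸ N) = ⊥ := by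
        refine (sSup_le fun K hK => ?_ : Cfsg.pCore 2 (G ⧸ N) ≤ ⊥).antisymm bot_le
        haveI := hK.1
        intro x hx
        obtain ⟨g, rfl⟩ := QuotientGroup.mk_surjective x
        rw [Subgroup.mem_bot, QuotientGroup.eq_one_iff, hcore]
        exact (le_sSup ⟨hK.1.comap _, hK.2.comap_of_ker_isPGroup (QuotientGroup.mk' N)
          (by rwa [QuotientGroup.ker_mk'])⟩ : K.comap (QuotientGroup.mk' N) ≤ Cfsg.pCore 2 G) hx
      rw [hbot, Subgroup.mem_bot, QuotientGroup.eq_one_iff] at hmem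
      exact hyN hmem
    · obtain ⟨x, hx1, hxo, hxr⟩ : ∃ x : G, x ≠ 1 ∧ Odd (orderOf x) ∧ IsConj x x⁻¹ := by
        by_contra hcon
        push Not at hcon
        exact hreal (Cfsg.Agent.Struct.noReal_quotient N hNp hcon)
      obtain ⟨g, hg⟩ := isConj_iff.1 hxr
      have h2x : ¬ 2 ∣ orderOf x := fun h => (Nat.not_even_iff_odd.2 hxo) (even_iff_two_dvd.2 h)
      have hn2 : ¬ Commute g x := fun h => by
        rw [h.eq, mul_inv_cancel_right] at hg
        have h1 : orderOf x ∣ 2 := orderOf_dvd_of_pow_eq_one (by rw [sq]; nth_rewrite 2 [hg]; exact mul_inv_cancel x)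
        rcases (Nat.dvd_prime Nat.prime_two).1 h1 with h | h
        · exact hx1 (orderOf_eq_one_iff.1 h)
        · exact h2x (h ▸ dvd_rfl)
      -- the first power of `g` whose square commutes with `x`
      have hstep : ∀ a : ℕ, ∀ k : G, k * x * k⁻¹ = x⁻¹ → orderOf k ∣ 2 ^ a →
          ∃ w : G, w * w = 1 ∧ w ≠ 1 ∧ (Commute w x ∨ w * x * w⁻¹ = x⁻¹) := by
        intro a k hk ha
        obtain ⟨j, -, hj⟩ := (Nat.dvd_prime_pow Nat.prime_two).1 ha
        cases j with
        | zero =>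
          rw [pow_zero, orderOf_eq_one_iff] at hj
          subst hj
          exact absurd (by simpa using hk : x = x⁻¹) fun h => hn2 (by
            rw [← h] at hg; exact mul_inv_eq_iff_eq_mul.1 hg)
        | succ j =>
          have hw : orderOf (k ^ 2 ^ j) = 2 := by
            rw [orderOf_pow, hj, Nat.gcd_eq_right (pow_dvd_pow 2 j.le_succ), pow_succ,
              Nat.mul_div_cancel_left _ (pow_pos two_pos j)]
          refine ⟨k ^ 2 ^ j, by rw [← sq]; have := pow_orderOf_eq_one (k ^ 2 ^ j); rwa [hw] at this,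
            fun h => by rw [h, orderOf_one] at hw; omega, ?_⟩
          cases j with
          | zero => right; simpa using hk
          | succ j =>
            left
            have hk2 : Commute (k * k) x := by
              show k * k * x = x * (k * k)
              calc k * k * x = k * (k * x * k⁻¹) * k := by group
                _ = k * x⁻¹ * k := by rw [hk]
                _ = (k * x * k⁻¹)⁻¹ * (k * k) := by group
                _ = x * (k * k) := by rw [hk, inv_inv]
            rw [pow_succ' 2 j, pow_mul, sq]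
            exact hk2.pow_left _
      -- take the `2`-part of `g`
      obtain ⟨k, hk, a, ha⟩ : ∃ k : G, k * x * k⁻¹ = x⁻¹ ∧ ∃ a : ℕ, orderOf k ∣ 2 ^ a := by
        obtain ⟨a, m, hm, hgm⟩ := Nat.exists_eq_pow_mul_and_not_dvd (orderOf_pos g).ne' 2 (by norm_num)
        obtain ⟨r, hr⟩ : ∃ r, m = 2 * r + 1 := ⟨m / 2, by omega⟩
        refine ⟨g ^ m, ?_, a, orderOf_dvd_of_pow_eq_one (by
          rw [← pow_mul, mul_comm, ← hgm, pow_orderOf_eq_one])⟩
        have hg2 : Commute (g * g) x := by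
          show g * g * x = x * (g * g)
          calc g * g * x = g * (g * x * g⁻¹) * g := by group
            _ = g * x⁻¹ * g := by rw [hg]
            _ = (g * x * g⁻¹)⁻¹ * (g * g) := by group
            _ = x * (g * g) := by rw [hg, inv_inv]
        rw [hr, pow_succ, pow_mul, sq]
        have h3 := (hg2.pow_left r).eq
        calc (g * g) ^ r * g * x * ((g * g) ^ r * g)⁻¹
            = (g * g) ^ r * (g * x * g⁻¹) * ((g * g) ^ r)⁻¹ := by group
          _ = x⁻¹ := by rw [hg, ((hg2.pow_left r).inv_right).eq, mul_inv_cancel_right]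
      obtain ⟨w, hw, hw1, hwx⟩ := hstep a k hk ha
      have hwN := hno w hw
      rcases hwx with hwx | hwx
      · exact hw1 (eq_one_of_commute hNp hconj h2x hx1 hwN hwx.symm)
      · -- then `x ^ 2` would lie in `N`
        have h1 : x⁻¹ * x⁻¹ ∈ N := by
          have : w * (x * w⁻¹ * x⁻¹) ∈ N := mul_mem hwN (hN.conj_mem _ (inv_mem hwN) x)
          rwa [show w * (x * w⁻¹ * x⁻¹) = (w * x * w⁻¹) * x⁻¹ by group, hwx] at this
        have h2 : x ^ 2 ∈ N := by
          rw [sq]; simpa [mul_inv_rev] using inv_mem h1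
        obtain ⟨j, hj⟩ := IsPGroup.iff_orderOf.1 hNp ⟨x ^ 2, h2⟩
        rw [Subgroup.orderOf_mk] at hj
        rcases Nat.eq_zero_or_pos j with rfl | hj0
        · rw [pow_zero, orderOf_eq_one_iff] at hj
          rcases (Nat.dvd_prime Nat.prime_two).1 (orderOf_dvd_of_pow_eq_one hj) with h | h
          · exact hx1 (orderOf_eq_one_iff.1 h)
          · exact h2x (h ▸ dvd_rfl)
        · exact h2x ((hj ▸ dvd_pow_self 2 hj0.ne').trans (orderOf_pow_dvd 2))
  · obtain ⟨z, hz⟩ := exists_prime_orderOf_dvd_card' 2 (heven hp2)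
    exact odd_case hNp hN1 hconj htrans hcore hp2 (z := z)
      (by rw [← sq, ← hz, pow_orderOf_eq_one]) (fun h => by rw [h, orderOf_one] at hz; omega) hyN hyp

end

end Cfsg.Agent.Block.TwoClassFrob
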