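import Cfsg.Agent.S4591
import Cfsg.Agent.Lib.Block.SolvablePrincipal
import Cfsg.Agent.Lib.Solv.PSolvable

/-!
# Principal blocks for two primes
-/

set_option autoImplicit false
set_option linter.style.haveILetI false
set_option linter.unusedSectionVars false
set_option linter.unusedVariables false

namespace Cfsg.Agent.Block.TwoPrime

open Cfsg Cfsg.Agent.Char
open scoped Classical Pointwise

universe u

variable {p : ℕ} [hpf : Fact p.Prime]

/-- In a group without `p'`-core the kernel of the characters of degree prime to `p` lies in `P'`. -/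
theorem kerSubgroup_le {H : Type u} [Group H] [Finite H] (h1 : pPrimeCore p H = ⊥) (P : Sylow p H) :
    PPrime.kerSubgroup H p ≤ ⁅(P : Subgroup H), (P : Subgroup H)⁆ := by
  have h := Cfsg.Agent.S4591.kerSubgroup_le P ⊥ (bot_inf_eq _) fun L hL hLC => by
    haveI := hL
    have hd := Cfsg.Agent.S4591.not_dvd_card P L (Cfsg.Agent.S4591.inf_sylow_eq_bot P L hLC)
    exact (Solv.le_pPrimeCore (hpf.out.coprime_iff_not_dvd.2 hd).symm).trans h1.le
  simpa using h

theorem kerSubgroup_props {H : Type u} [Group H] [Finite H] (h1 : pPrimeCore p H = ⊥)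
    (L : Subgroup H) [L.Normal] (hL : L ≤ PPrime.kerSubgroup H p) :
    pPrimeCore p (H ⧸ L) = ⊥ ∧ (L = ⊤ → Subsingleton H) := by
  obtain ⟨P⟩ := Sylow.nonempty (p := p) (G := H)
  haveI : Group.IsNilpotent (P : Subgroup H) := P.isPGroup'.isNilpotent
  have hLd := hL.trans (kerSubgroup_le h1 P)
  have hdle : ⁅(P : Subgroup H), (P : Subgroup H)⁆ ≤ (P : Subgroup H) := Subgroup.commutator_le_self _
  have hLP : L ≤ (P : Subgroup H) := hLd.trans hdle
  have hfr : ⁅(P : Subgroup H), (P : Subgroup H)⁆ ≤ (frattini (P : Subgroup H)).map (P : Subgroup H).subtype := by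
    rw [← Subgroup.map_subtype_commutator]
    exact Subgroup.map_mono Solv.commutator_le_frattini
  constructor
  · haveI := Solv.pPrimeCore_characteristic p (H ⧸ L)
    set π := QuotientGroup.mk' L
    set R := (pPrimeCore p (H ⧸ L)).comap π with hR
    haveI : R.Normal := Subgroup.Normal.comap inferInstance π
    have hLR : L ≤ R := fun x hx => by
      rw [hR, Subgroup.mem_comap, show π x = 1 from (QuotientGroup.eq_one_iff x).2 hx]
      exact one_mem _
    have hRP : R ⊓ (P : Subgroup H) ≤ L := by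
      rintro x ⟨hx1, hx2⟩
      obtain ⟨k, hk⟩ := P.isPGroup' ⟨x, hx2⟩
      have hk' : π x ^ p ^ k = 1 := by
        rw [← map_pow, show x ^ p ^ k = 1 from congrArg Subtype.val hk, map_one]
      exact (QuotientGroup.eq_one_iff x).1 (orderOf_eq_one_iff.1 (Nat.eq_one_of_dvd_coprimes
        ((Solv.card_pPrimeCore_coprime p (H ⧸ L)).symm.pow_left k) (orderOf_dvd_of_pow_eq_one hk')
        (Subgroup.orderOf_dvd_natCard _ hx1)))
    have hnpc := Solv.hasNormalPComplement_of_le_frattini P R (hRP.trans (hLd.trans hfr))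
    obtain ⟨Q, hQ⟩ := Cfsg.Agent.S4591.exists_sylow_eq P R
    have hcompl := Solv.isComplement'_pPrimeCore hnpc Q
    haveI := Solv.pPrimeCore_characteristic p R
    have hc : (pPrimeCore p R).map R.subtype = ⊥ := by
      rw [Solv.pPrimeCore_map_subtype, h1, bot_inf_eq]
    rw [Subgroup.map_eq_bot_iff_of_injective _ R.subtype_injective] at hc
    have hQtop : (Q : Subgroup R) = ⊤ := by
      rw [hc] at hcompl
      exact (Subgroup.isComplement'_bot_left).1 hcompl
    have hRL : R ≤ L := fun x hx => hRP ⟨hx, hQ (show (⟨x, hx⟩ : R) ∈ (Q : Subgroup R) by rw [hQtop]; trivial)⟩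
    rw [eq_bot_iff]
    intro q hq
    obtain ⟨g, rfl⟩ := QuotientGroup.mk_surjective q
    exact Subgroup.mem_bot.2 ((QuotientGroup.eq_one_iff g).2 (hRL hq))
  · intro hT
    by_contra hns
    rw [not_subsingleton_iff_nontrivial] at hns
    have hPtop : (P : Subgroup H) = ⊤ := top_le_iff.1 (hT ▸ hLP)
    have hfull : commutator (P : Subgroup H) = ⊤ := by
      apply Subgroup.map_injective (P : Subgroup H).subtype_injective
      rw [Subgroup.map_subtype_commutator, ← MonoidHom.range_eq_map, Subgroup.range_subtype]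
      exact le_antisymm hdle (by rw [hPtop]; rw [hPtop] at hLd; exact hT ▸ hLd)
    haveI : Nontrivial (P : Subgroup H) := by
      rw [Subgroup.nontrivial_iff_ne_bot, hPtop]
      exact top_ne_bot
    exact (Group.IsSolvable.commutator_lt_top_of_nontrivial (P : Subgroup H)).ne hfull

theorem eq_of_principal_eq {G : Type u} [Group G] [Finite G] {q : ℕ} [hqf : Fact q.Prime]
    (hp : p ∣ Nat.card G) (hps : IsPSolvable p G) (hqs : IsPSolvable q G)
    (Mp Mq : Ideal AlgInt) (hMp : IsPModular p Mp) (hMq : IsPModular q Mq)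
    (h : ∀ χ : IrrCharacter G, (χ ∈ principalBlock Mp G ∧ ¬ p ∣ charDegree (χ : G → ℂ)) ↔
      (χ ∈ principalBlock Mq G ∧ ¬ q ∣ charDegree (χ : G → ℂ))) : p = q := by
  by_contra hpq
  haveI : ∀ r : ℕ, (pPrimeCore r G).Normal := fun r => by
    haveI := Solv.pPrimeCore_characteristic r G
    infer_instance
  -- the image of one core lies in the kernel for the other prime
  have key : ∀ (J : Subgroup G) [J.Normal] (r s : ℕ) [Fact r.Prime] [Fact s.Prime] (Mr Ms : Ideal AlgInt),
      J = pPrimeCore r G ⊔ pPrimeCore s G → IsPModular r Mr →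
      IsPModular s Ms → IsPSolvable r G → IsPSolvable s G →
      (∀ χ : IrrCharacter G, χ ∈ principalBlock Mr G ∧ ¬ r ∣ charDegree (χ : G → ℂ) → χ ∈ principalBlock Ms G) →
      pPrimeCore r (G ⧸ J) = ⊥ ∧ (J = ⊤ → ¬ r ∣ Nat.card G) := by
    intro J _ r s _ _ Mr Ms hJdef hMr hMs hrs hss h'
    set K := pPrimeCore r G with hKdef
    set L := pPrimeCore s G with hLdef
    set π := QuotientGroup.mk' K
    haveI : (L.map π).Normal := Subgroup.Normal.map inferInstance π (QuotientGroup.mk'_surjective K)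
    have hker : L.map π ≤ PPrime.kerSubgroup (G ⧸ K) r := by
      rintro _ ⟨l, hl, rfl⟩ φ hφ
      have hd : charDegree (inflate K φ : G → ℂ) = charDegree (φ : G ⧸ K → ℂ) := by
        apply Nat.cast_injective (R := ℂ)
        rw [charDegree_cast (IsIrrCharacter.isCharacter (inflate K φ).2),
          charDegree_cast (IsIrrCharacter.isCharacter φ.2), inflate_apply, QuotientGroup.mk_one]
      have hmem : inflate K φ ∈ principalBlock Mr G :=
        (mem_principal_iff_of_isPSolvable hMr hrs _).2 fun n hn => by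
          simp only [inflate_apply, (QuotientGroup.eq_one_iff (N := K) n).2 hn, QuotientGroup.mk_one]
      exact (mem_principal_iff_of_isPSolvable hMs hss _).1 (h' _ ⟨hmem, by rw [hd]; exact hφ⟩) l hl
    have hprops := kerSubgroup_props (p := r) (Solv.pPrimeCore_quotient_pPrimeCore r) (L.map π) hker
    have hKJ : K ≤ J := hJdef ▸ le_sup_left
    have hJ : J.map π = L.map π := by
      have hK0 : K.map π = ⊥ := by rw [Subgroup.map_eq_bot_iff, QuotientGroup.ker_mk']
      rw [hJdef, Subgroup.map_sup, hK0, bot_sup_eq]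
    refine ⟨?_, fun htop hd => ?_⟩
    · let e : (G ⧸ K) ⧸ L.map π ≃* G ⧸ J :=
        (QuotientGroup.quotientMulEquivOfEq hJ.symm).trans (QuotientGroup.quotientQuotientEquivQuotient K J hKJ)
      rw [← Solv.pPrimeCore_map_equiv r e, hprops.1, Subgroup.map_bot]
    · have h2 := hprops.2 (by rw [← hJ, htop, Subgroup.map_top_of_surjective π (QuotientGroup.mk'_surjective K)])
      have h1 := K.card_eq_card_quotient_mul_card_subgroup
      rw [Nat.card_of_subsingleton (1 : G ⧸ K), one_mul] at h1
      exact (Fact.out : r.Prime).coprime_iff_not_dvd.1 (Solv.card_pPrimeCore_coprime r G).symm (h1 ▸ hd)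
  set J := pPrimeCore p G ⊔ pPrimeCore q G with hJ
  obtain ⟨hp1, hp2⟩ := key J p q Mp Mq hJ hMp hMq hps hqs fun χ hχ => ((h χ).1 hχ).1
  obtain ⟨hq1, -⟩ := key J q p Mq Mp (hJ.trans (sup_comm _ _)) hMq hMp hqs hps fun χ hχ => ((h χ).2 hχ).1
  have hne : J ≠ ⊤ := fun e => hp2 e hp
  haveI : Nontrivial (G ⧸ J) := by
    by_contra hn'
    rw [not_nontrivial_iff_subsingleton] at hn'
    refine hne ?_
    rw [← QuotientGroup.ker_mk' J, MonoidHom.ker_eq_top_iff]
    exact MonoidHom.ext fun x => Subsingleton.elim _ _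
  refine (Solv.core_ne_bot_of_isPSolvable (Solv.isPSolvable_quotient hps J)).resolve_right (not_not.2 hp1) ?_
  haveI := Solv.pCore_characteristic p (G ⧸ J)
  rw [eq_bot_iff, ← hq1]
  refine Solv.le_pPrimeCore ?_
  obtain ⟨k, hk⟩ := IsPGroup.iff_card.1 (Solv.isPGroup_pCore p (G ⧸ J))
  rw [hk]
  exact ((Nat.coprime_primes hpf.out hqf.out).2 hpq).pow_left k

end Cfsg.Agent.Block.TwoPrime
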