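import Cfsg.Agent.Lib.Block.QuotientBlocks
import Cfsg.Agent.Lib.Block.CentralProduct
import Cfsg.Agent.Lib.Block.StabPair
import Cfsg.Agent.Lib.Block.CentralExtDefect

/-!
# Brauer pairs carrying a weight
-/

set_option autoImplicit false
set_option linter.style.haveILetI false

open Cfsg Cfsg.Agent.Char
open scoped ComplexConjugate

namespace Cfsg.Agent.Block

universe u

variable {G : Type u} [Group G] [Finite G] {M : Ideal AlgInt} [hMp : M.IsPrime] {p : ℕ} [Fact p.Prime]

/-- Blocks modulo a central `p`-subgroup are reflected. -/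
theorem sameBlock_of_inflate_central (hM : IsPModular p M) (N : Subgroup G) [N.Normal]
    (hN : IsPGroup p N) (hZ : ∀ n ∈ N, ∀ g : G, n * g = g * n) {φ ψ : IrrCharacter (G ⧸ N)}
    (h : SameBlock M (inflate N φ : G → ℂ) (inflate N ψ : G → ℂ)) :
    SameBlock M (φ : G ⧸ N → ℂ) (ψ : G ⧸ N → ℂ) := by
  have hsup : N ⊔ Subgroup.centralizer (N : Set G) = ⊤ := eq_top_iff.2 fun g _ =>
    Subgroup.mem_sup_right (Subgroup.mem_centralizer_iff.2 fun n hn => hZ n hn g)
  obtain ⟨hinj, hsurj⟩ := regular_bijective N hN hsup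
  suffices hm : ψ ∈ blockOf M (φ : G ⧸ N → ℂ) from hm
  refine mem_blockOf_of_regular hM fun q hq => ?_
  obtain ⟨w, hw, rfl⟩ := hsurj q hq
  have hk1 : (Subgroup.centralizer ({w} : Set G)).relIndex
      ((Subgroup.centralizer ({(QuotientGroup.mk w : G ⧸ N)} : Set (G ⧸ N))).comap (QuotientGroup.mk' N)) = 1 := by
    rw [Subgroup.relIndex_eq_one]
    intro x hx
    have hcx : Commute (QuotientGroup.mk w : G ⧸ N) (QuotientGroup.mk x) := mem_centralizer_singleton.1 hx
    have hreg : ¬ p ∣ orderOf (x * w * x⁻¹) := by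
      rw [show orderOf (x * w * x⁻¹) = orderOf w from
        orderOf_injective (MulAut.conj x).toMonoidHom (MulAut.conj x).injective w]
      exact hw
    have e : x * w * x⁻¹ = w := hinj _ _ hreg hw (by
      simp only [QuotientGroup.mk_mul, QuotientGroup.mk_inv]
      rw [← hcx.eq, mul_inv_cancel_right])
    rw [mul_inv_eq_iff_eq_mul] at e
    exact mem_centralizer_singleton.2 e.symm
  have h0 := h w
  rw [centralChar_inflate, centralChar_inflate, hk1, Nat.cast_one, one_mul, one_mul] at h0
  simpa using memLocalIdeal_neg h0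

/-- A block with a defect zero character modulo a central `p`-subgroup has that as defect group. -/
theorem isDefectGroup_of_defectZero_quotient (hM : IsPModular p M) (N : Subgroup G) [N.Normal]
    (hN : IsPGroup p N) (hZ : ∀ n ∈ N, ∀ g : G, n * g = g * n) {e : Set (IrrCharacter G)}
    (he : IsPBlock M e) {φ : IrrCharacter (G ⧸ N)} (hφ : inflate N φ ∈ e)
    (hdz : ¬ p ∣ Nat.card (G ⧸ N) / charDegree (φ : G ⧸ N → ℂ)) : IsDefectGroup p M e N := by
  obtain ⟨b, hb, hsub, hiff⟩ := exists_quotient_block_image_defect hM N hN he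
  obtain ⟨D, hD⟩ := exists_isDefectGroup (p := p) he
  obtain ⟨ψ, hψ⟩ := isPBlock_nonempty hb
  have hs : φ ∈ blockOf M (ψ : G ⧸ N → ℂ) := sameBlock_of_inflate_central hM N hN hZ (by
    have h1 := hsub ψ hψ
    rw [isPBlock_eq_blockOf he h1] at hφ
    exact hφ)
  rw [← isPBlock_eq_blockOf hb hψ] at hs
  have hb1 : b = {φ} := (isPBlock_eq_blockOf hb hs).trans (blockOf_eq_singleton hM φ hdz)
  have hDb := (hiff (D.map (QuotientGroup.mk' N))).2 ⟨D, hD, rfl⟩
  have hcard := card_defectGroup hM hb hDb
  have h0 : blockDefect p b = 0 := by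
    rw [hb1, blockDefect_eq]
    have hv : minVal p ({φ} : Set (IrrCharacter (G ⧸ N))) = (charDegree (φ : G ⧸ N → ℂ)).factorization p := by
      simp [minVal]
    rw [hv]
    obtain ⟨k, hk⟩ := charDegree_dvd_card φ.2
    rw [hk, Nat.mul_div_cancel_left _ (charDegree_pos φ.2)] at hdz
    have hk0 : k ≠ 0 := fun h => Nat.card_pos.ne' (by rw [hk, h, mul_zero] : Nat.card (G ⧸ N) = 0)
    rw [hk, Nat.factorization_mul (charDegree_pos φ.2).ne' hk0, Finsupp.add_apply,
      Nat.factorization_eq_zero_of_not_dvd hdz]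
    simp
  rw [h0, pow_zero, Subgroup.card_eq_one] at hcard
  have hle : D ≤ N := fun x hx => (QuotientGroup.eq_one_iff x).1 (Subgroup.mem_bot.1 (hcard ▸ ⟨x, hx, rfl⟩))
  rwa [le_antisymm hle (pCore_le_defectGroup hM he hD N hN)] at hD

variable {Q T : Subgroup G} {e : Set (IrrCharacter (Subgroup.centralizer (Q : Set G)))}

/-- A weight forces centric and radical. -/
theorem weight_centric_radical (hM : IsPModular p M) (he : IsBrauerPair p M Q e) (hT : IsStab Q T e)
    {F' : Set (IrrCharacter T)} (hF' : IsBlockOfStab M Q T e F') {χ : IrrCharacter T} (hχ : χ ∈ F')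
    (hχQ : ∀ q : G, q ∈ Q → ∀ t t' : T, (t' : G) = q * (t : G) → (χ : T → ℂ) t' = (χ : T → ℂ) t)
    (hdeg : (charDegree (χ : T → ℂ)).factorization p + (Nat.card Q).factorization p =
      (Nat.card T).factorization p) :
    IsDefectGroup p M e ((Q ⊓ Subgroup.centralizer (Q : Set G)).subgroupOf (Subgroup.centralizer (Q : Set G))) ∧
      ∀ R : Subgroup G, R ≤ T → IsPGroup p R → (∀ t ∈ T, t ∈ Subgroup.normalizer (R : Set G)) → R ≤ Q := by
  classical
  have hp := (Fact.out : p.Prime)
  have hQT : Q ≤ T := le_sup_left.trans (hT.sup_le he.2)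
  have hCT : (Subgroup.centralizer (Q : Set G)) ≤ T := le_sup_right.trans (hT.sup_le he.2)
  haveI hQn : (Q.subgroupOf T).Normal :=
    (Subgroup.normal_subgroupOf_iff_le_normalizer hQT).2 hT.le_normalizer
  haveI := Fintype.ofFinite T
  haveI := Fintype.ofFinite (T ⧸ Q.subgroupOf T)
  set π := QuotientGroup.mk' (Q.subgroupOf T) with hπ
  obtain ⟨χb, hχb⟩ := exists_factor_quotient (Q.subgroupOf T) χ fun g hg y =>
    hχQ (g : G) hg y (g * y) rfl
  have hdzχ : ¬ p ∣ Nat.card (T ⧸ Q.subgroupOf T) / charDegree (χb : T ⧸ Q.subgroupOf T → ℂ) := by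
    have hd : charDegree (χb : T ⧸ Q.subgroupOf T → ℂ) = charDegree (χ : T → ℂ) := by
      simp only [charDegree]
      rw [← hχb 1, QuotientGroup.mk_one]
    obtain ⟨k, hk⟩ := charDegree_dvd_card χb.2
    have hk0 : k ≠ 0 := fun h => Nat.card_pos.ne' (by rw [hk, h, mul_zero] : Nat.card (T ⧸ Q.subgroupOf T) = 0)
    rw [hk, Nat.mul_div_cancel_left _ (charDegree_pos χb.2)]
    intro hpk
    have h1 := Nat.Prime.factorization_pos_of_dvd hp hk0 hpk
    have h2 : (Nat.card T).factorization p =
        (charDegree (χ : T → ℂ)).factorization p + k.factorization p + (Nat.card Q).factorization p := by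
      rw [Subgroup.card_eq_card_quotient_mul_card_subgroup (Q.subgroupOf T), hk, hd,
        Nat.card_congr (Subgroup.subgroupOfEquivOfLe hQT).toEquiv,
        Nat.factorization_mul (mul_ne_zero (charDegree_pos χ.2).ne' hk0) Nat.card_pos.ne',
        Nat.factorization_mul (charDegree_pos χ.2).ne' hk0]
      rfl
    omega
  constructor
  swap
  · intro R hRT hR hRn
    haveI : (R.subgroupOf T).Normal :=
      (Subgroup.normal_subgroupOf_iff_le_normalizer hRT).2 fun t ht => hRn t ht
    haveI : ((R.subgroupOf T).map π).Normal :=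
      Subgroup.Normal.map inferInstance _ (QuotientGroup.mk'_surjective _)
    have hb := blockOf_eq_singleton hM χb hdzχ
    have hB := isPBlock_blockOf (M := M) χb
    obtain ⟨D, hD⟩ := exists_isDefectGroup (p := p) hB
    have hle := pCore_le_defectGroup hM hB hD ((R.subgroupOf T).map π) (hR.comap_subtype.map π)
    have hc := card_defectGroup hM hB hD
    have h0 : blockDefect p (blockOf M (χb : T ⧸ Q.subgroupOf T → ℂ)) = 0 := by
      rw [hb, blockDefect_eq]
      have hv : minVal p ({χb} : Set (IrrCharacter (T ⧸ Q.subgroupOf T))) =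
          (charDegree (χb : T ⧸ Q.subgroupOf T → ℂ)).factorization p := by
        simp [minVal]
      rw [hv]
      obtain ⟨k, hk⟩ := charDegree_dvd_card χb.2
      have hk0 : k ≠ 0 := fun h => Nat.card_pos.ne' (by rw [hk, h, mul_zero] : Nat.card (T ⧸ Q.subgroupOf T) = 0)
      have hd' := hdzχ
      rw [hk, Nat.mul_div_cancel_left _ (charDegree_pos χb.2)] at hd'
      rw [hk, Nat.factorization_mul (charDegree_pos χb.2).ne' hk0, Finsupp.add_apply,
        Nat.factorization_eq_zero_of_not_dvd hd']
      simp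
    rw [h0, pow_zero, Subgroup.card_eq_one] at hc
    intro r hr
    have h1 : π ⟨r, hRT hr⟩ = 1 := Subgroup.mem_bot.1 (hc ▸ hle ⟨⟨r, hRT hr⟩, hr, rfl⟩)
    exact Subgroup.mem_subgroupOf.1 ((QuotientGroup.eq_one_iff _).1 h1)
  -- the image of the centraliser in the quotient
  let inc : (Subgroup.centralizer (Q : Set G)) →* T := Subgroup.inclusion hCT
  let L : Subgroup (T ⧸ Q.subgroupOf T) := ((Subgroup.centralizer (Q : Set G)).subgroupOf T).map π
  haveI : ((Subgroup.centralizer (Q : Set G)).subgroupOf T).Normal := (Subgroup.normal_subgroupOf_iff_le_normalizer hCT).2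
    fun t ht => by obtain ⟨hx, -⟩ := hT.fixed he.2 t ht; exact hx
  haveI hLn : L.Normal := Subgroup.Normal.map inferInstance _ (QuotientGroup.mk'_surjective _)
  haveI := Fintype.ofFinite L
  haveI := Fintype.ofFinite (Subgroup.centralizer (Q : Set G))
  let ν : (Subgroup.centralizer (Q : Set G)) →* L := (π.comp inc).codRestrict L fun c => ⟨inc c, c.2, rfl⟩
  have hν : Function.Surjective ν := by
    rintro ⟨x, t, ht, rfl⟩
    exact ⟨⟨(t : G), ht⟩, Subtype.ext rfl⟩
  have hker : ν.ker = (Q ⊓ (Subgroup.centralizer (Q : Set G))).subgroupOf (Subgroup.centralizer (Q : Set G)) := by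
    ext c
    rw [MonoidHom.mem_ker, Subgroup.mem_subgroupOf, Subgroup.mem_inf]
    constructor
    · intro h
      exact ⟨(QuotientGroup.eq_one_iff (inc c)).1 (congrArg Subtype.val h), c.2⟩
    · rintro ⟨h, -⟩
      exact Subtype.ext ((QuotientGroup.eq_one_iff (inc c)).2 h)
  -- a constituent
  obtain ⟨θb, hθb⟩ := exists_constituent' (N := L) χb
  let θ : IrrCharacter (Subgroup.centralizer (Q : Set G)) := ⟨fun c => (θb : L → ℂ) (ν c), isIrrCharacter_comp_surjective ν hν θb.2⟩
  have hθe : θ ∈ e := by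
    by_contra hn
    set F : MonoidAlgebra ℂ (T ⧸ Q.subgroupOf T) :=
      mkA fun q => ∑ t ∈ Finset.univ.filter (fun t : T => (QuotientGroup.mk t : T ⧸ Q.subgroupOf T) = q), blockCoeff F' t
      with hF
    have hFc : IsCentralElt F := by
      intro q r
      obtain ⟨h, rfl⟩ := QuotientGroup.mk_surjective r
      simp only [hF, coeff_mkA]
      refine Finset.sum_bij' (fun x _ => h⁻¹ * x * h) (fun x _ => h * x * h⁻¹) ?_ ?_ ?_ ?_ ?_
      · intro x hx
        simp only [Finset.mem_filter, Finset.mem_univ, true_and] at hx ⊢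
        simp only [QuotientGroup.mk_mul, QuotientGroup.mk_inv, hx]
        group
      · intro x hx
        simp only [Finset.mem_filter, Finset.mem_univ, true_and] at hx ⊢
        simp only [QuotientGroup.mk_mul, QuotientGroup.mk_inv, hx]
      · intro x _; group
      · intro x _; group
      · intro x _
        have := isCentralElt_blockIdem F' (h⁻¹ * x * h) h
        simp only [blockIdem, coeff_mkA] at this
        rw [← this]
        congr 1
        group
    have hs : InCoset L 1 F := by
      intro q hq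
      simp only [hF, coeff_mkA]
      refine Finset.sum_eq_zero fun t ht => ?_
      rw [hF'.2, coe_subgroupBlockCoeff]
      refine coeff_embH_of_notMem _ _ fun hc => hq ((QuotientGroup.eq_one_iff q).2 ?_)
      exact ⟨t, hc, (Finset.mem_filter.1 ht).2⟩
    have h1 := omega_eq_of_constituent χb θb hθb hFc hs
    have hω : omega (χb : T ⧸ Q.subgroupOf T → ℂ) F = omega (χ : T → ℂ) (blockIdem F') := by
      rw [omega_eq_sum, omega_eq_sum, ← hχb 1, QuotientGroup.mk_one]
      congr 1
      simp only [hF, coeff_mkA, blockIdem]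
      rw [← Finset.sum_fiberwise_of_maps_to (t := (Finset.univ : Finset (T ⧸ Q.subgroupOf T)))
        (g := fun x : T => (QuotientGroup.mk x : T ⧸ Q.subgroupOf T)) (fun _ _ => Finset.mem_univ _)]
      refine Finset.sum_congr rfl fun q _ => ?_
      rw [Finset.sum_mul]
      exact Finset.sum_congr rfl fun x hx => by rw [← hχb x, (Finset.mem_filter.1 hx).2]
    have hθω : omega (θb : L → ℂ) (resH L F) = omega (θ : (Subgroup.centralizer (Q : Set G)) → ℂ) (blockIdem e) := by
      rw [omega_eq_sum, omega_eq_sum, show (θ : (Subgroup.centralizer (Q : Set G)) → ℂ) 1 = (θb : L → ℂ) 1 from congrArg (θb : L → ℂ) (map_one ν)]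
      congr 1
      simp only [hF, coeff_resH, coeff_mkA, blockIdem]
      rw [← Finset.sum_fiberwise_of_maps_to (t := (Finset.univ : Finset L)) (g := fun c : (Subgroup.centralizer (Q : Set G)) => ν c)
        (fun _ _ => Finset.mem_univ _)]
      refine Finset.sum_congr rfl fun l _ => ?_
      rw [show ∑ c ∈ Finset.univ.filter (fun c : (Subgroup.centralizer (Q : Set G)) => ν c = l), blockCoeff e c * (θ : (Subgroup.centralizer (Q : Set G)) → ℂ) c =
          (∑ c ∈ Finset.univ.filter (fun c : (Subgroup.centralizer (Q : Set G)) => ν c = l), blockCoeff e c) * (θb : L → ℂ) l by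
        rw [Finset.sum_mul]
        refine Finset.sum_congr rfl fun c hc => ?_
        show blockCoeff e c * (θb : L → ℂ) (ν c) = _
        rw [(Finset.mem_filter.1 hc).2]]
      congr 1
      refine Finset.sum_bij_ne_zero (fun t ht h0 => (⟨(t : G), ?_⟩ : (Subgroup.centralizer (Q : Set G)))) ?_ ?_ ?_ ?_
      · by_contra hc
        exact h0 (by rw [hF'.2, coe_subgroupBlockCoeff, coeff_embH_of_notMem _ _ hc])
      · intro t ht h0
        refine Finset.mem_filter.2 ⟨Finset.mem_univ _, Subtype.ext ?_⟩
        show π (inc _) = (l : T ⧸ Q.subgroupOf T)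
        rw [← (Finset.mem_filter.1 ht).2]
        rfl
      · intro a _ _ b _ _ h
        exact Subtype.ext (congrArg (fun z : (Subgroup.centralizer (Q : Set G)) => (z : G)) h)
      · intro c hc h0
        have hval : blockCoeff F' (inc c) = blockCoeff e c := by
          rw [hF'.2, coe_subgroupBlockCoeff, show ((inc c : T) : G) = (c : G) from rfl, coeff_embH,
            ← coeff_blockIdem]
        exact ⟨inc c, Finset.mem_filter.2 ⟨Finset.mem_univ _, congrArg Subtype.val (Finset.mem_filter.1 hc).2⟩,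
          by rwa [hval], rfl⟩
      · intro t ht h0
        refine (hF'.2 t).trans ?_
        exact dif_pos _
    rw [hω, hθω, omega_blockIdem, omega_blockIdem, if_pos hχ, if_neg hn] at h1
    exact one_ne_zero h1
  -- degree
  have hdzθ : ¬ p ∣ Nat.card L / charDegree (θb : L → ℂ) := by
    obtain ⟨hdvd, hidx⟩ := degree_ratio_dvd_index (N := L) χb.2 θb.2 hθb
      (charDegree_cast (IsIrrCharacter.isCharacter χb.2)).symm (charDegree_cast (IsIrrCharacter.isCharacter θb.2)).symm
    obtain ⟨r, hr⟩ := hdvd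
    rw [hr, Nat.mul_div_cancel_left _ (charDegree_pos θb.2)] at hidx
    obtain ⟨m, hm⟩ := hidx
    obtain ⟨k, hk⟩ := charDegree_dvd_card θb.2
    rw [hk, Nat.mul_div_cancel_left _ (charDegree_pos θb.2)]
    intro hpk
    refine hdzχ ?_
    have hcard : Nat.card (T ⧸ Q.subgroupOf T) = charDegree (χb : T ⧸ Q.subgroupOf T → ℂ) * (k * m) := by
      rw [← Subgroup.card_mul_index L, hk, hm, hr]; ring
    rw [hcard, Nat.mul_div_cancel_left _ (charDegree_pos χb.2)]
    exact hpk.mul_right _
  -- conclude
  haveI hNn : ((Q ⊓ (Subgroup.centralizer (Q : Set G))).subgroupOf (Subgroup.centralizer (Q : Set G))).Normal := hker ▸ inferInstance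
  have hNp : IsPGroup p ((Q ⊓ (Subgroup.centralizer (Q : Set G))).subgroupOf (Subgroup.centralizer (Q : Set G))) := (he.1.to_le inf_le_left).comap_subtype
  have hNZ : ∀ n ∈ (Q ⊓ (Subgroup.centralizer (Q : Set G))).subgroupOf (Subgroup.centralizer (Q : Set G)), ∀ c : (Subgroup.centralizer (Q : Set G)), n * c = c * n := fun n hn c =>
    Subtype.ext (Subgroup.mem_centralizer_iff.1 c.2 n hn.1)
  let ι : (Subgroup.centralizer (Q : Set G)) ⧸ (Q ⊓ (Subgroup.centralizer (Q : Set G))).subgroupOf (Subgroup.centralizer (Q : Set G)) ≃* L :=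
    (QuotientGroup.quotientMulEquivOfEq hker.symm).trans (QuotientGroup.quotientKerEquivOfSurjective ν hν)
  let φ : IrrCharacter ((Subgroup.centralizer (Q : Set G)) ⧸ (Q ⊓ (Subgroup.centralizer (Q : Set G))).subgroupOf (Subgroup.centralizer (Q : Set G))) := compIrr ι θb
  refine isDefectGroup_of_defectZero_quotient hM _ hNp hNZ he.2 (φ := φ) ?_ ?_
  · rwa [show inflate _ φ = θ from Subtype.ext (funext fun c => rfl)]
  · rw [Nat.card_congr ι.toEquiv, show charDegree (φ : (Subgroup.centralizer (Q : Set G)) ⧸ (Q ⊓ (Subgroup.centralizer (Q : Set G))).subgroupOf (Subgroup.centralizer (Q : Set G)) → ℂ) = charDegree (θb : L → ℂ) by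
      simp [charDegree, φ, compIrr_apply]]
    exact hdzθ

end Cfsg.Agent.Block
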